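import Cfsg.Agent.Lib.JFour.Basic

/-!
# Groups of Janko-four type: the frame determined by hexad data
-/

set_option autoImplicit false

open Cfsg

namespace CfsgLib.JFour

variable {G : Type*} [Group G]

/-- Hexad data for the inner automorphisms give a frame at any point of Janko-four type. -/
theorem exists_frame_of_with {z : G} {P : Subgroup G} (h : IsOfJankoFourTypeWith z P)
    (hM : ∃ I M B : Subgroup (MulAut ↥Spor.M22), HexadData I M B) :
    ∃ (N : Subgroup G) (π : ↥(Subgroup.centralizer ({z} : Set G)) →* MulAut ↥Spor.M22)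
      (M B : Subgroup (MulAut ↥Spor.M22)), Frame (P := P) (N := N) π M B := by
  obtain ⟨I, M, B, hH⟩ := hM
  obtain rfl := eq_inn_of_index_two hH.I_index
  obtain ⟨N, S⟩ := exists_setting h
  obtain ⟨π, hπ, hker⟩ := S.quot
  exact ⟨N, π, M, B, ⟨S, hπ, hker, hH⟩⟩

end CfsgLib.JFour
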