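import Cfsg.Prelude.Def_Spor_Mathieu
import Cfsg.Prelude.Def_KGroupFacts
import Cfsg.Agent.Lib.Golay.Simple
import Cfsg.Agent.Lib.OutMathieu.Outer
import Cfsg.Agent.S2062

/-!
# M22 and its automorphism group
-/

set_option autoImplicit false

open Cfsg CfsgLib.Golay

namespace CfsgLib.JFour

theorem card_mTwentyTwo : Nat.card ↥Spor.M22 = 443520 := by
  rw [CfsgLib.OutMathieu.M22_eq_stabK, card_stabK_two]

/-- M22 is simple. -/
theorem isSimpleGroup_mTwentyTwo : IsSimpleGroup ↥Spor.M22 := by
  haveI h := isSimpleGroup_two (p := pt 23) (q := pt 0) (by decide)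
  rw [stabilizer_stdTwo] at h
  let e := (Subgroup.subgroupOfEquivOfLe (stabK_le_M24 [1, 8388608])).symm
  rw [CfsgLib.OutMathieu.M22_eq_stabK]
  haveI : Nontrivial ↥(stabK [1, 8388608]) := e.surjective.nontrivial
  exact IsSimpleGroup.isSimpleGroup_of_surjective e.symm.toMonoidHom e.symm.surjective

theorem center_mTwentyTwo : Subgroup.center ↥Spor.M22 = ⊥ := by
  haveI := isSimpleGroup_mTwentyTwo
  rcases IsSimpleGroup.eq_bot_or_eq_top_of_normal (Subgroup.center ↥Spor.M22) inferInstance with h | h
  · exact h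
  · exfalso
    haveI := Finite.of_injective _ (Subtype.val_injective : Function.Injective
      (Subtype.val : ↥Spor.M22 → _))
    let _ : CommGroup ↥Spor.M22 :=
      { (inferInstance : Group ↥Spor.M22) with
        mul_comm := fun a b => (Subgroup.mem_center_iff.1 (h ▸ Subgroup.mem_top b)) a }
    have hp := IsSimpleGroup.prime_card (α := ↥Spor.M22)
    rw [card_mTwentyTwo] at hp
    norm_num at hp

/-- The automorphism group of M22 has order `887040`. -/
theorem card_mulAut_mTwentyTwo : Nat.card (MulAut ↥Spor.M22) = 887040 := by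
  have hinn : Nat.card ↥(Inn ↥Spor.M22) = 443520 := by
    rw [← card_mTwentyTwo]
    refine (Nat.card_congr (MonoidHom.ofInjective ?_).toEquiv).symm
    rw [← MonoidHom.ker_eq_bot_iff, eq_bot_iff]
    intro g hg
    rw [← center_mTwentyTwo, Subgroup.mem_center_iff]
    intro x
    have := congrArg (fun f : MulAut ↥Spor.M22 => f x) (MonoidHom.mem_ker.1 hg)
    simp only [MulAut.conj_apply, MulAut.one_apply] at this
    conv_lhs => rw [← this]
    group
  have hout : Nat.card (MulAut ↥Spor.M22 ⧸ Inn ↥Spor.M22) = 2 := Cfsg.Agent.S2062.result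
  rw [Subgroup.card_eq_card_quotient_mul_card_subgroup (Inn ↥Spor.M22), hinn, hout]

/-- Any subgroup of index two of the automorphism group of M22 is the inner one. -/
theorem eq_inn_of_index_two {X : Subgroup (MulAut ↥Spor.M22)} (hX : X.index = 2) :
    X = Inn ↥Spor.M22 := by
  haveI := isSimpleGroup_mTwentyTwo
  haveI := Finite.of_injective _ (Subtype.val_injective : Function.Injective
    (Subtype.val : ↥Spor.M22 → _))
  haveI : Finite (MulAut ↥Spor.M22) :=
    Nat.finite_of_card_ne_zero (by rw [card_mulAut_mTwentyTwo]; norm_num)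
  haveI := Subgroup.normal_of_index_eq_two hX
  have hle : Inn ↥Spor.M22 ≤ X := by
    rcases IsSimpleGroup.eq_bot_or_eq_top_of_normal (X.comap MulAut.conj) inferInstance with h | h
    · exfalso
      have hdvd : (X.comap MulAut.conj).index ∣ 2 := by
        rw [Subgroup.index_comap, ← hX]
        exact Subgroup.relIndex_dvd_index_of_normal X _
      rw [h, Subgroup.index_bot, card_mTwentyTwo] at hdvd
      exact absurd (Nat.le_of_dvd two_pos hdvd) (by norm_num)
    · rintro _ ⟨g, rfl⟩
      exact Subgroup.mem_comap.1 (h ▸ Subgroup.mem_top g)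
  refine (Subgroup.eq_of_le_of_card_ge hle ?_).symm
  have h1 := X.card_mul_index
  have h2 := (Inn ↥Spor.M22).card_mul_index
  have h3 : (Inn ↥Spor.M22).index = 2 := Cfsg.Agent.S2062.result
  rw [hX] at h1; rw [h3] at h2
  omega

end CfsgLib.JFour
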