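import Cfsg.Prelude.Def_JankoFourType
import Cfsg.Agent.Lib.JFour.MTwentyTwo
import Cfsg.Agent.Lib.JFour.HexadData
import Cfsg.Agent.Lib.Cores.PCore
import Cfsg.Agent.Lib.PGroups.Extraspecial

/-!
# Groups of Janko-four type: the centraliser of the involution and the normaliser of `P`
-/

set_option autoImplicit false
set_option linter.style.haveILetI false
set_option linter.unusedSectionVars false

open Cfsg
open scoped Pointwise

namespace CfsgLib.JFour

variable {G : Type*} [Group G]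

/-- The Janko-four-type hypotheses with the normal subgroup `N` named. -/
structure Setting (z : G) (P N : Subgroup G) : Prop where
  orderZ : orderOf z = 2
  extra : IsExtraspecial 2 ↥(twoCoreOfCentralizer z)
  cardE : Nat.card ↥(twoCoreOfCentralizer z) = 2 ^ 13
  centE : Subgroup.centralizer ({z} : Set G) ⊓ Subgroup.centralizer (twoCoreOfCentralizer z : Set G)
    ≤ twoCoreOfCentralizer z
  E_le_N : twoCoreOfCentralizer z ≤ N
  N_le : N ≤ Subgroup.centralizer ({z} : Set G)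
  normN : Subgroup.centralizer ({z} : Set G) ≤ Subgroup.normalizer (N : Set G)
  cardN : Nat.card ↥N = 3 * Nat.card ↥(twoCoreOfCentralizer z)
  quot : ∃ π : ↥(Subgroup.centralizer ({z} : Set G)) →* MulAut ↥Spor.M22,
    Function.Surjective π ∧ π.ker = N.subgroupOf (Subgroup.centralizer ({z} : Set G))
  P_le : P ≤ N
  cardP : Nat.card ↥P = 3
  fixP : twoCoreOfCentralizer z ⊓ Subgroup.centralizer (P : Set G) = Subgroup.zpowers z
  ne_cent : Subgroup.centralizer ({z} : Set G) ⊓ Subgroup.normalizer (P : Set G) ≠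
    Subgroup.centralizer ({z} : Set G) ⊓ Subgroup.centralizer (P : Set G)
  P_le_derived : P ≤ ⁅Subgroup.centralizer ({z} : Set G) ⊓ Subgroup.centralizer (P : Set G),
       Subgroup.centralizer ({z} : Set G) ⊓ Subgroup.centralizer (P : Set G)⁆

theorem exists_setting {z : G} {P : Subgroup G} (h : IsOfJankoFourTypeWith z P) :
    ∃ N : Subgroup G, Setting z P N := by
  obtain ⟨hz, hE, hcE, hC, ⟨N, h1, h2, h3, h4, ⟨hN, ⟨e⟩⟩, h6⟩, hP, hfix, hne, hder⟩ := h
  refine ⟨N, hz, hE, hcE, hC, h1, h2, h3, h4, ?_, h6, hP, hfix, hne, hder⟩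
  haveI := hN
  refine ⟨e.toMonoidHom.comp (QuotientGroup.mk' _), e.surjective.comp (QuotientGroup.mk'_surjective _), ?_⟩
  ext x
  simp [MonoidHom.mem_ker]

namespace Setting

variable {z : G} {P N : Subgroup G}

set_option quotPrecheck false in
local notation "ℋ" => Subgroup.centralizer (singleton z : Set G)
set_option quotPrecheck false in
local notation "ℰ" => twoCoreOfCentralizer z

theorem E_le (S : Setting z P N) : ℰ ≤ ℋ := S.E_le_N.trans S.N_le

theorem P_le_H (S : Setting z P N) : P ≤ ℋ := S.P_le.trans S.N_le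

theorem z_ne_one (S : Setting z P N) : z ≠ 1 := by
  intro h
  have := S.orderZ
  rw [h, orderOf_one] at this
  norm_num at this

theorem z_mul_self (S : Setting z P N) : z * z = 1 := by
  rw [← pow_two, ← S.orderZ, pow_orderOf_eq_one]

theorem z_inv (S : Setting z P N) : z⁻¹ = z := inv_eq_of_mul_eq_one_right S.z_mul_self

theorem mem_zpowers_iff (S : Setting z P N) {x : G} :
    x ∈ Subgroup.zpowers z ↔ x = 1 ∨ x = z := by
  constructor
  · rintro ⟨k, rfl⟩
    rcases Int.even_or_odd k with ⟨j, rfl⟩ | ⟨j, rfl⟩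
    · left
      show z ^ (j + j) = 1
      rw [← two_mul, zpow_mul, zpow_two, S.z_mul_self, one_zpow]
    · right
      show z ^ (2 * j + 1) = z
      rw [zpow_add, zpow_mul, zpow_two, S.z_mul_self, one_zpow, one_mul, zpow_one]
  · rintro (rfl | rfl)
    · exact Subgroup.one_mem _
    · exact Subgroup.mem_zpowers x

theorem z_mem_E (S : Setting z P N) : z ∈ ℰ :=
  (S.fixP.symm ▸ Subgroup.mem_zpowers z : z ∈ ℰ ⊓ Subgroup.centralizer (P : Set G)).1

theorem z_mem_centralizer_P (S : Setting z P N) : z ∈ Subgroup.centralizer (P : Set G) :=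
  (S.fixP.symm ▸ Subgroup.mem_zpowers z : z ∈ ℰ ⊓ Subgroup.centralizer (P : Set G)).2

theorem comm_z (_S : Setting z P N) {h : G} (hh : h ∈ ℋ) : h * z = z * h :=
  (Subgroup.mem_centralizer_iff.1 hh z (Set.mem_singleton z)).symm

theorem isPGroup_E (S : Setting z P N) : IsPGroup 2 ↥ℰ :=
  IsPGroup.of_card (n := 13) S.cardE

theorem conj_mem_E (_S : Setting z P N) {h e : G} (hh : h ∈ ℋ) (he : e ∈ ℰ) :
    h * e * h⁻¹ ∈ ℰ := by
  obtain ⟨x, hx, rfl⟩ := he
  refine ⟨(⟨h, hh⟩ : ↥ℋ) * x * (⟨h, hh⟩ : ↥ℋ)⁻¹, ?_, rfl⟩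
  have h1 := CfsgLib.Cores.map_pCore_equiv (p := 2) (MulAut.conj (⟨h, hh⟩ : ↥ℋ))
  exact h1 ▸ ⟨x, hx, rfl⟩

theorem conj_mem_E' (S : Setting z P N) {h e : G} (hh : h ∈ ℋ) (he : e ∈ ℰ) :
    h⁻¹ * e * h ∈ ℰ := by
  simpa using S.conj_mem_E (inv_mem hh) he

theorem H_le_normalizer_E (S : Setting z P N) : ℋ ≤ Subgroup.normalizer (ℰ : Set G) := by
  intro h hh
  rw [Subgroup.mem_normalizer_iff]
  refine fun e => ⟨S.conj_mem_E hh, fun he => ?_⟩
  have := S.conj_mem_E' hh he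
  simpa [mul_assoc] using this

theorem center_E (S : Setting z P N) : ℰ ⊓ Subgroup.centralizer (ℰ : Set G) = Subgroup.zpowers z := by
  classical
  haveI : Finite ↥ℰ := Nat.finite_of_card_ne_zero (by rw [S.cardE]; norm_num)
  have hzc : (⟨z, S.z_mem_E⟩ : ↥ℰ) ∈ Subgroup.center ↥ℰ :=
    Subgroup.mem_center_iff.2 fun x => Subtype.ext (S.comm_z (S.E_le x.2))
  have hle : Subgroup.zpowers (⟨z, S.z_mem_E⟩ : ↥ℰ) ≤ Subgroup.center ↥ℰ :=
    Subgroup.zpowers_le.2 hzc
  have heq : Subgroup.zpowers (⟨z, S.z_mem_E⟩ : ↥ℰ) = Subgroup.center ↥ℰ :=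
    Subgroup.eq_of_le_of_card_ge hle
      (by rw [Nat.card_zpowers, Subgroup.orderOf_mk, S.orderZ, S.extra.2])
  ext x
  constructor
  · rintro ⟨hxE, hx⟩
    have : (⟨x, hxE⟩ : ↥ℰ) ∈ Subgroup.center ↥ℰ :=
      Subgroup.mem_center_iff.2 fun y => Subtype.ext (Subgroup.mem_centralizer_iff.1 hx y y.2)
    rw [← heq] at this
    obtain ⟨k, hk⟩ := this
    exact ⟨k, by simpa using congrArg Subtype.val hk⟩
  · intro hx
    rcases S.mem_zpowers_iff.1 hx with rfl | rfl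
    · exact Subgroup.one_mem _
    · exact ⟨S.z_mem_E, Subgroup.mem_centralizer_iff.2 fun y hy => S.comm_z (S.E_le hy)⟩

theorem commutator_mem (S : Setting z P N) {e f : G} (he : e ∈ ℰ) (hf : f ∈ ℰ) :
    e * f * e⁻¹ * f⁻¹ ∈ Subgroup.zpowers z := by
  rw [← S.center_E]
  refine Subgroup.mem_inf.2 ⟨mul_mem (mul_mem (mul_mem he hf) (inv_mem he)) (inv_mem hf),
    Subgroup.mem_centralizer_iff.2 fun y hy => ?_⟩
  have := Subgroup.mem_center_iff.1
    (CfsgLib.PGroups.IsExtraspecial.commutator_mem_center S.extra ⟨e, he⟩ ⟨f, hf⟩) ⟨y, hy⟩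
  simpa [commutatorElement_def] using congrArg Subtype.val this

theorem sq_mem (S : Setting z P N) {e : G} (he : e ∈ ℰ) : e * e ∈ Subgroup.zpowers z := by
  haveI : Finite ↥ℰ := Nat.finite_of_card_ne_zero (by rw [S.cardE]; norm_num)
  haveI : Fact (Nat.Prime 2) := ⟨Nat.prime_two⟩
  rw [← S.center_E]
  refine ⟨mul_mem he he, Subgroup.mem_centralizer_iff.2 fun y hy => ?_⟩
  have := Subgroup.mem_center_iff.1
    (CfsgLib.PGroups.IsExtraspecial.pow_mem_center S.extra ⟨e, he⟩) ⟨y, hy⟩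
  simpa [pow_two, mul_assoc] using congrArg Subtype.val this

theorem conj_eq (S : Setting z P N) {e f : G} (he : e ∈ ℰ) (hf : f ∈ ℰ) :
    e * f * e⁻¹ = f ∨ e * f * e⁻¹ = z * f := by
  rcases S.mem_zpowers_iff.1 (S.commutator_mem he hf) with h | h
  · left; rw [← mul_inv_eq_one]; exact h
  · right; rw [← mul_inv_eq_iff_eq_mul]; exact h

theorem E_inf_P (S : Setting z P N) : ℰ ⊓ P = ⊥ := by
  rw [eq_bot_iff]
  intro x hx
  have h1 : orderOf x ∣ 2 ^ 13 := by
    rw [← S.cardE]; exact Subgroup.orderOf_dvd_natCard _ hx.1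
  have h2 : orderOf x ∣ 3 := by
    rw [← S.cardP]; exact Subgroup.orderOf_dvd_natCard _ hx.2
  have h3 : orderOf x ∣ 1 :=
    (show Nat.Coprime (2 ^ 13) 3 by norm_num) ▸ Nat.dvd_gcd h1 h2
  rw [Subgroup.mem_bot, ← orderOf_eq_one_iff]
  exact Nat.dvd_one.1 h3

theorem eq_zpowers_of_mem_P (S : Setting z P N) {p : G} (hp : p ∈ P) (hp1 : p ≠ 1) :
    P = Subgroup.zpowers p := by
  haveI : Finite ↥P := Nat.finite_of_card_ne_zero (by rw [S.cardP]; norm_num)
  have h3 : orderOf p = 3 := by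
    have h := Subgroup.orderOf_dvd_natCard _ hp
    rw [S.cardP] at h
    rcases (Nat.dvd_prime Nat.prime_three).1 h with e | e
    · exact absurd (orderOf_eq_one_iff.1 e) hp1
    · exact e
  exact (Subgroup.eq_of_le_of_card_ge (Subgroup.zpowers_le.2 hp)
    (by rw [Nat.card_zpowers, h3, S.cardP])).symm

theorem exists_generator (S : Setting z P N) :
    ∃ p ∈ P, p ≠ 1 ∧ orderOf p = 3 ∧ P = Subgroup.zpowers p := by
  haveI : Finite ↥P := Nat.finite_of_card_ne_zero (by rw [S.cardP]; norm_num)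
  haveI : Nontrivial ↥P := Finite.one_lt_card_iff_nontrivial.1 (by rw [S.cardP]; norm_num)
  obtain ⟨⟨p, hp⟩, hp1⟩ := exists_ne (1 : ↥P)
  have hp1' : p ≠ 1 := fun h => hp1 (Subtype.ext h)
  have e := S.eq_zpowers_of_mem_P hp hp1'
  refine ⟨p, hp, hp1', ?_, e⟩
  rw [← Nat.card_zpowers, ← e, S.cardP]

/-- `P` acts without fixed points on `ℰ / ⟨z⟩`. -/
theorem mem_zpowers_of_comm (S : Setting z P N) {p e : G} (hp : p ∈ P) (hp1 : p ≠ 1) (he : e ∈ ℰ)
    (h : p * e * p⁻¹ * e⁻¹ ∈ Subgroup.zpowers z) : e ∈ Subgroup.zpowers z := by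
  have hpe : p * e * p⁻¹ = e := by
    rcases S.mem_zpowers_iff.1 h with h | h
    · exact mul_inv_eq_one.1 h
    · exfalso
      have h1 : p * e * p⁻¹ = z * e := mul_inv_eq_iff_eq_mul.1 h
      have hpz : p * z * p⁻¹ = z := by rw [S.comm_z (S.P_le_H hp)]; group
      have h3 : p ^ 3 = 1 := by
        obtain ⟨q, -, -, hq, e'⟩ := S.exists_generator
        have := Subgroup.orderOf_dvd_natCard _ hp
        rw [S.cardP] at this
        exact orderOf_dvd_iff_pow_eq_one.1 this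
      have step : ∀ x : G, p ^ 3 * x * (p ^ 3)⁻¹ = p * (p * (p * x * p⁻¹) * p⁻¹) * p⁻¹ := fun x => by
        rw [pow_succ, pow_two]; group
      have h4 := step e
      rw [h3, one_mul, inv_one, mul_one, h1] at h4
      have h5 : p * (z * e) * p⁻¹ = e := by
        rw [show p * (z * e) * p⁻¹ = (p * z * p⁻¹) * (p * e * p⁻¹) by group, hpz, h1, ← mul_assoc,
          S.z_mul_self, one_mul]
      rw [h5, h1] at h4
      exact S.z_ne_one (mul_eq_right.1 h4.symm)
  rw [← S.fixP]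
  refine ⟨he, Subgroup.mem_centralizer_iff.2 fun x hx => ?_⟩
  rw [S.eq_zpowers_of_mem_P hp hp1] at hx
  obtain ⟨k, rfl⟩ := hx
  exact (show Commute p e from mul_inv_eq_iff_eq_mul.1 hpe).zpow_left k

theorem E_inf_normalizer (S : Setting z P N) :
    ℰ ⊓ Subgroup.normalizer (P : Set G) = Subgroup.zpowers z := by
  refine le_antisymm ?_ ?_
  · rintro e ⟨he, hn⟩
    rw [← S.fixP]
    refine ⟨he, Subgroup.mem_centralizer_iff.2 fun p hp => ?_⟩
    have h1 : e * p * e⁻¹ * p⁻¹ ∈ P :=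
      mul_mem ((Subgroup.mem_normalizer_iff.1 hn p).1 hp) (inv_mem hp)
    have h2 : e * p * e⁻¹ * p⁻¹ ∈ ℰ := by
      rw [show e * p * e⁻¹ * p⁻¹ = e * (p * e⁻¹ * p⁻¹) by group]
      exact mul_mem he (S.conj_mem_E (S.P_le_H hp) (inv_mem he))
    have h3 : e * p * e⁻¹ * p⁻¹ ∈ (⊥ : Subgroup G) := S.E_inf_P ▸ ⟨h2, h1⟩
    exact (eq_mul_of_mul_inv_eq (mul_inv_eq_one.1 (Subgroup.mem_bot.1 h3))).symm
  · rw [← S.fixP]
    exact inf_le_inf le_rfl (Subgroup.centralizer_le_normalizer _)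

theorem mem_N_iff [Finite G] (S : Setting z P N) {x : G} :
    x ∈ N ↔ ∃ e ∈ ℰ, ∃ p ∈ P, x = e * p := by
  have hle : ℰ ⊔ P ≤ N := sup_le S.E_le_N S.P_le
  have hn : P ≤ Subgroup.normalizer (ℰ : Set G) := S.P_le_H.trans S.H_le_normalizer_E
  have hset := Subgroup.coe_mul_of_right_le_normalizer_left ℰ P hn
  constructor
  · intro hx
    have hNeq : ℰ ⊔ P = N := by
      refine Subgroup.eq_of_le_of_card_ge hle ?_
      rw [S.cardN, S.cardE]
      have d1 : 2 ^ 13 ∣ Nat.card ↥(ℰ ⊔ P) := S.cardE ▸ Subgroup.card_dvd_of_le le_sup_left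
      have d2 : 3 ∣ Nat.card ↥(ℰ ⊔ P) := S.cardP ▸ Subgroup.card_dvd_of_le le_sup_right
      exact Nat.le_of_dvd Nat.card_pos
        (by rw [mul_comm]; exact Nat.Coprime.mul_dvd_of_dvd_of_dvd (by norm_num) d1 d2)
    rw [← hNeq] at hx
    rw [← SetLike.mem_coe, hset] at hx
    obtain ⟨e, he, p, hp, rfl⟩ := Set.mem_mul.1 hx
    exact ⟨e, he, p, hp, rfl⟩
  · rintro ⟨e, he, p, hp, rfl⟩
    exact mul_mem (S.E_le_N he) (S.P_le hp)

/-- The Frattini argument: `ℋ = ℰ N_H(P)`. -/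
theorem exists_mul_normalizer [Finite G] (S : Setting z P N) {h : G} (hh : h ∈ ℋ) :
    ∃ e ∈ ℰ, ∃ n ∈ ℋ ⊓ Subgroup.normalizer (P : Set G), h = e * n := by
  haveI : Fact (Nat.Prime 3) := ⟨Nat.prime_three⟩
  have hfac : (Nat.card ↥N).factorization 3 = 1 := by
    rw [S.cardN, S.cardE, Nat.factorization_mul (by norm_num) (by norm_num), Finsupp.add_apply,
      Nat.Prime.factorization_self Nat.prime_three, Nat.factorization_pow]
    simp [Nat.prime_two.factorization]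
  have hQle : P.map (MulAut.conj h).toMonoidHom ≤ N := by
    rintro _ ⟨p, hp, rfl⟩
    exact (Subgroup.mem_normalizer_iff.1 (S.normN hh) p).1 (S.P_le hp)
  have hQcard : Nat.card ↥(P.map (MulAut.conj h).toMonoidHom) = 3 := by
    rw [Subgroup.card_map_of_injective (MulAut.conj h).injective, S.cardP]
  let R₁ : Sylow 3 ↥N := Sylow.ofCard (P.subgroupOf N) (by
    rw [Nat.card_congr (Subgroup.subgroupOfEquivOfLe S.P_le).toEquiv, S.cardP, hfac]; norm_num)
  let R₂ : Sylow 3 ↥N := Sylow.ofCard ((P.map (MulAut.conj h).toMonoidHom).subgroupOf N) (by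
    rw [Nat.card_congr (Subgroup.subgroupOfEquivOfLe hQle).toEquiv, hQcard, hfac]; norm_num)
  obtain ⟨g, hg⟩ := MulAction.exists_smul_eq ↥N R₁ R₂
  obtain ⟨e, he, q, hq, hgeq⟩ := (S.mem_N_iff).1 g.2
  refine ⟨e, he, e⁻¹ * h, Subgroup.mem_inf.2 ⟨mul_mem (inv_mem (S.E_le he)) hh, ?_⟩, by group⟩
  have key : ∀ p ∈ P, (e * q) * p * (e * q)⁻¹ ∈ P.map (MulAut.conj h).toMonoidHom := by
    intro p hp
    have h1 : g * (⟨p, S.P_le hp⟩ : ↥N) * g⁻¹ ∈ ((g • R₁ : Sylow 3 ↥N) : Subgroup ↥N) := by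
      rw [Sylow.coe_subgroup_smul]
      exact Subgroup.smul_mem_pointwise_smul (⟨p, S.P_le hp⟩ : ↥N) (MulAut.conj g) _
        (Subgroup.mem_subgroupOf.2 hp)
    rw [hg] at h1
    have h2 := Subgroup.mem_subgroupOf.1 h1
    simpa [hgeq] using h2
  have hq' : q ∈ Subgroup.normalizer (P : Set G) := Subgroup.le_normalizer hq
  rw [← inv_mem_iff (H := Subgroup.normalizer (P : Set G))]
  refine Subgroup.mem_normalizer_fintype fun p hp => ?_
  obtain ⟨p', hp', hpe⟩ := key (q⁻¹ * p * q)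
    (mul_mem (mul_mem (inv_mem hq) hp) hq)
  simp only [MulEquiv.coe_toMonoidHom, MulAut.conj_apply] at hpe
  have h4 : (e⁻¹ * h)⁻¹ * p * (e⁻¹ * h)⁻¹⁻¹ = p' := by
    rw [show p' = h⁻¹ * (h * p' * h⁻¹) * h by group, hpe]
    group
  exact (h4 ▸ hp' : _)

theorem card_H [Finite G] (S : Setting z P N) : Nat.card ↥ℋ = 2 ^ 13 * 3 * 887040 := by
  obtain ⟨π, hπ, hker⟩ := S.quot
  have h := Subgroup.card_eq_card_quotient_mul_card_subgroup π.ker
  rw [Nat.card_congr (QuotientGroup.quotientKerEquivOfSurjective π hπ).toEquiv,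
    card_mulAut_mTwentyTwo, hker, Nat.card_congr (Subgroup.subgroupOfEquivOfLe S.N_le).toEquiv,
    S.cardN, S.cardE] at h
  rw [h]; norm_num

theorem zpowers_le_centralizer_P (S : Setting z P N) :
    Subgroup.zpowers z ≤ Subgroup.centralizer (P : Set G) :=
  Subgroup.zpowers_le.2 S.z_mem_centralizer_P

theorem P_le_C (S : Setting z P N) : P ≤ ℋ ⊓ Subgroup.centralizer (P : Set G) := by
  obtain ⟨p, hp, -, -, hP⟩ := S.exists_generator
  refine le_inf S.P_le_H fun x hx => Subgroup.mem_centralizer_iff.2 fun y hy => ?_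
  rw [SetLike.mem_coe, hP] at hy
  rw [hP] at hx
  obtain ⟨i, rfl⟩ := hy; obtain ⟨j, rfl⟩ := hx
  exact Commute.zpow_zpow_self p i j

theorem zP_le_C (S : Setting z P N) :
    Subgroup.zpowers z ⊔ P ≤ ℋ ⊓ Subgroup.centralizer (P : Set G) :=
  sup_le (le_inf (Subgroup.zpowers_le.2 (S.E_le S.z_mem_E)) S.zpowers_le_centralizer_P) S.P_le_C

theorem C_le_normalizer_P (_S : Setting z P N) :
    ℋ ⊓ Subgroup.centralizer (P : Set G) ≤ ℋ ⊓ Subgroup.normalizer (P : Set G) :=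
  inf_le_inf le_rfl (Subgroup.centralizer_le_normalizer _)

/-- The elements of `N` that normalise `P` are the elements of `⟨z⟩ P`. -/
theorem N_inf_normalizer [Finite G] (S : Setting z P N) :
    N ⊓ Subgroup.normalizer (P : Set G) = Subgroup.zpowers z ⊔ P := by
  refine le_antisymm ?_ (sup_le (le_inf (Subgroup.zpowers_le.2 (S.E_le_N S.z_mem_E))
    (S.zpowers_le_centralizer_P.trans (Subgroup.centralizer_le_normalizer _)))
    (le_inf S.P_le Subgroup.le_normalizer))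
  intro x hx
  obtain ⟨hxN, hxn⟩ := Subgroup.mem_inf.1 hx
  obtain ⟨e, he, p, hp, rfl⟩ := S.mem_N_iff.1 hxN
  have he' : e ∈ Subgroup.zpowers z := by
    rw [← S.E_inf_normalizer]
    refine Subgroup.mem_inf.2 ⟨he, ?_⟩
    have := mul_mem hxn (inv_mem (Subgroup.le_normalizer hp : p ∈ Subgroup.normalizer (P : Set G)))
    rwa [mul_inv_cancel_right] at this
  exact Subgroup.mul_mem_sup he' hp

theorem card_zP [Finite G] (S : Setting z P N) : Nat.card ↥(Subgroup.zpowers z ⊔ P) = 6 := by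
  obtain ⟨p, hp, -, hp3, hP⟩ := S.exists_generator
  have hc : Commute z p := (S.comm_z (S.P_le_H hp)).symm
  have h6 : orderOf (z * p) = 6 := by
    rw [hc.orderOf_mul_eq_mul_orderOf_of_coprime (by rw [S.orderZ, hp3]; norm_num), S.orderZ, hp3]
  have hzp : Subgroup.zpowers z ⊔ P = Subgroup.zpowers (z * p) := by
    refine le_antisymm (sup_le ?_ ?_) (Subgroup.zpowers_le.2 (Subgroup.mul_mem_sup
      (Subgroup.mem_zpowers z) hp))
    · rw [Subgroup.zpowers_le]
      refine ⟨3, ?_⟩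
      have h2 : z ^ 3 = z := by rw [pow_succ, pow_two, S.z_mul_self, one_mul]
      have h3 : p ^ 3 = 1 := by rw [← hp3, pow_orderOf_eq_one]
      show (z * p) ^ (3 : ℤ) = z
      rw [zpow_ofNat, hc.mul_pow, h2, h3, mul_one]
    · rw [hP, Subgroup.zpowers_le]
      refine ⟨4, ?_⟩
      have h2 : z ^ 4 = 1 := by rw [pow_succ, pow_succ, pow_two, S.z_mul_self, one_mul, S.z_mul_self]
      have h3 : p ^ 4 = p := by rw [pow_succ, ← hp3, pow_orderOf_eq_one, one_mul]
      show (z * p) ^ (4 : ℤ) = p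
      rw [zpow_ofNat, hc.mul_pow, h2, h3, one_mul]
  rw [hzp, Nat.card_zpowers, h6]

theorem isCyclic_zP [Finite G] (S : Setting z P N) :
    ∃ g : G, Subgroup.zpowers z ⊔ P = Subgroup.zpowers g := by
  obtain ⟨p, hp, -, hp3, hP⟩ := S.exists_generator
  refine ⟨z * p, (Subgroup.eq_of_le_of_card_ge (Subgroup.zpowers_le.2 (Subgroup.mul_mem_sup
    (Subgroup.mem_zpowers z) hp)) ?_).symm⟩
  have hc : Commute z p := (S.comm_z (S.P_le_H hp)).symm
  rw [S.card_zP, Nat.card_zpowers,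
    hc.orderOf_mul_eq_mul_orderOf_of_coprime (by rw [S.orderZ, hp3]; norm_num), S.orderZ, hp3]

/-- A map from `H` onto `Aut M22` with kernel `N` is onto on `N_H(P)` already. -/
theorem surjective_normalizer [Finite G] (S : Setting z P N) {π : ↥ℋ →* MulAut ↥Spor.M22}
    (hπ : Function.Surjective π) (hker : π.ker = N.subgroupOf ℋ) :
    Function.Surjective (π.comp (Subgroup.inclusion
      (inf_le_left : ℋ ⊓ Subgroup.normalizer (P : Set G) ≤ ℋ))) := by
  intro a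
  obtain ⟨h, rfl⟩ := hπ a
  obtain ⟨e, he, n, hn, hhe⟩ := S.exists_mul_normalizer h.2
  refine ⟨⟨n, hn⟩, ?_⟩
  have hh : h = (⟨e, S.E_le he⟩ : ↥ℋ) * Subgroup.inclusion
      (inf_le_left : ℋ ⊓ Subgroup.normalizer (P : Set G) ≤ ℋ) ⟨n, hn⟩ := Subtype.ext hhe
  have he1 : π ⟨e, S.E_le he⟩ = 1 := MonoidHom.mem_ker.1
    (hker.symm ▸ Subgroup.mem_subgroupOf.2 (S.E_le_N he))
  rw [hh, map_mul, he1, one_mul]
  rfl

theorem card_normalizer_P [Finite G] (S : Setting z P N) :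
    Nat.card ↥(ℋ ⊓ Subgroup.normalizer (P : Set G)) = 5322240 := by
  obtain ⟨π, hπ, hker⟩ := S.quot
  set f := π.comp (Subgroup.inclusion (inf_le_left : ℋ ⊓ Subgroup.normalizer (P : Set G) ≤ ℋ))
  have hk : f.ker = (Subgroup.zpowers z ⊔ P).subgroupOf (ℋ ⊓ Subgroup.normalizer (P : Set G)) := by
    rw [← S.N_inf_normalizer, ← MonoidHom.comap_ker, hker]
    ext x
    simp only [Subgroup.mem_comap, Subgroup.mem_subgroupOf, Subgroup.mem_inf,
      Subgroup.coe_inclusion, iff_self_and]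
    exact fun _ => (Subgroup.mem_inf.1 x.2).2
  have h := Subgroup.card_eq_card_quotient_mul_card_subgroup f.ker
  rw [Nat.card_congr (QuotientGroup.quotientKerEquivOfSurjective f (S.surjective_normalizer hπ hker)).toEquiv,
    card_mulAut_mTwentyTwo, hk, Nat.card_congr (Subgroup.subgroupOfEquivOfLe
      (S.zP_le_C.trans S.C_le_normalizer_P)).toEquiv, S.card_zP] at h
  rw [h]

theorem C_index_two [Finite G] (S : Setting z P N) :
    ((ℋ ⊓ Subgroup.centralizer (P : Set G)).subgroupOf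
      (ℋ ⊓ Subgroup.normalizer (P : Set G))).index = 2 := by
  obtain ⟨p, hp, -, hp3, hP⟩ := S.exists_generator
  have hp2 : ∀ x ∈ P, x = 1 ∨ x = p ∨ x = p⁻¹ := by
    intro x hx
    rw [hP] at hx
    obtain ⟨k, rfl⟩ := hx
    show p ^ k = 1 ∨ p ^ k = p ∨ p ^ k = p⁻¹
    rw [← zpow_mod_orderOf, hp3]
    have h1 := Int.emod_nonneg k (show ((3 : ℕ) : ℤ) ≠ 0 by norm_num)
    have h2 := Int.emod_lt_of_pos k (show (0 : ℤ) < ((3 : ℕ) : ℤ) by norm_num)
    have : k % ((3 : ℕ) : ℤ) = 0 ∨ k % ((3 : ℕ) : ℤ) = 1 ∨ k % ((3 : ℕ) : ℤ) = 2 := by omega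
    rcases this with e | e | e <;> rw [e]
    · exact Or.inl (zpow_zero p)
    · exact Or.inr (Or.inl (zpow_one p))
    · refine Or.inr (Or.inr (eq_inv_of_mul_eq_one_left ?_))
      rw [← zpow_add_one, show (2 : ℤ) + 1 = ((3 : ℕ) : ℤ) by norm_num, zpow_natCast, ← hp3,
        pow_orderOf_eq_one]
  have hcomm : ∀ g, g * p * g⁻¹ = p → g ∈ Subgroup.centralizer (P : Set G) := by
    intro g hg
    refine Subgroup.mem_centralizer_iff.2 fun x hx => ?_
    rw [SetLike.mem_coe, hP] at hx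
    obtain ⟨k, rfl⟩ := hx
    exact (show Commute g p from mul_inv_eq_iff_eq_mul.1 hg).symm.zpow_left k
  have hcases : ∀ g ∈ ℋ ⊓ Subgroup.normalizer (P : Set G), g * p * g⁻¹ = p ∨ g * p * g⁻¹ = p⁻¹ := by
    intro g hg
    rcases hp2 _ ((Subgroup.mem_normalizer_iff.1 (Subgroup.mem_inf.1 hg).2 p).1 hp) with e | e | e
    · exact absurd (conj_eq_one_iff.1 e) (by intro h; rw [h, orderOf_one] at hp3; norm_num at hp3)
    · exact Or.inl e
    · exact Or.inr e
  rw [Subgroup.index_eq_two_iff]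
  obtain ⟨a, ha, hac⟩ : ∃ a ∈ ℋ ⊓ Subgroup.normalizer (P : Set G),
      a ∉ ℋ ⊓ Subgroup.centralizer (P : Set G) :=
    Set.not_subset.1 fun hsub => S.ne_cent (le_antisymm hsub S.C_le_normalizer_P)
  have hinv : ∀ g ∈ ℋ ⊓ Subgroup.normalizer (P : Set G),
      g ∉ ℋ ⊓ Subgroup.centralizer (P : Set G) → g * p * g⁻¹ = p⁻¹ := by
    intro g hg hgc
    rcases hcases g hg with e | e
    · exact absurd (Subgroup.mem_inf.2 ⟨(Subgroup.mem_inf.1 hg).1, hcomm g e⟩) hgc
    · exact e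
  refine ⟨⟨a, ha⟩, fun b => ?_⟩
  simp only [Subgroup.mem_subgroupOf, Subgroup.coe_mul]
  have hbc : ∀ g : G, g ∈ ℋ ⊓ Subgroup.centralizer (P : Set G) → g * p * g⁻¹ = p := fun g hg => by
    rw [← Subgroup.mem_centralizer_iff.1 (Subgroup.mem_inf.1 hg).2 p hp, mul_inv_cancel_right]
  by_cases hb : (b : G) ∈ ℋ ⊓ Subgroup.centralizer (P : Set G)
  · refine Or.inr ⟨hb, fun hba => hac ?_⟩
    have := mul_mem (inv_mem hb) hba
    rwa [inv_mul_cancel_left] at this
  · refine Or.inl ⟨Subgroup.mem_inf.2 ⟨mul_mem (Subgroup.mem_inf.1 b.2).1 (Subgroup.mem_inf.1 ha).1,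
      hcomm _ ?_⟩, hb⟩
    rw [show (b : G) * a * p * ((b : G) * a)⁻¹ = b * (a * p * a⁻¹) * (b : G)⁻¹ by group,
      hinv a ha hac, show (b : G) * p⁻¹ * (b : G)⁻¹ = ((b : G) * p * (b : G)⁻¹)⁻¹ by group,
      hinv b b.2 hb, inv_inv]

theorem card_C [Finite G] (S : Setting z P N) :
    Nat.card ↥(ℋ ⊓ Subgroup.centralizer (P : Set G)) = 2661120 := by
  have h := ((ℋ ⊓ Subgroup.centralizer (P : Set G)).subgroupOf
    (ℋ ⊓ Subgroup.normalizer (P : Set G))).card_mul_index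
  rw [S.C_index_two, S.card_normalizer_P,
    Nat.card_congr (Subgroup.subgroupOfEquivOfLe S.C_le_normalizer_P).toEquiv] at h
  omega

/-- `C_H(P)` is the part of `N_H(P)` over the inner automorphisms. -/
theorem mem_inn_iff [Finite G] (S : Setting z P N) {π : ↥ℋ →* MulAut ↥Spor.M22}
    (hπ : Function.Surjective π) (hker : π.ker = N.subgroupOf ℋ)
    {n : G} (hn : n ∈ ℋ ⊓ Subgroup.normalizer (P : Set G)) :
    π ⟨n, (Subgroup.mem_inf.1 hn).1⟩ ∈ Inn ↥Spor.M22 ↔
      n ∈ ℋ ⊓ Subgroup.centralizer (P : Set G) := by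
  set f := π.comp (Subgroup.inclusion (inf_le_left : ℋ ⊓ Subgroup.normalizer (P : Set G) ≤ ℋ))
  have hsurj : Function.Surjective f := S.surjective_normalizer hπ hker
  set X := (ℋ ⊓ Subgroup.centralizer (P : Set G)).subgroupOf (ℋ ⊓ Subgroup.normalizer (P : Set G))
  have hkX : f.ker ≤ X := by
    intro x hx
    have h1 : (x : G) ∈ N := by
      have h2 : Subgroup.inclusion (inf_le_left : ℋ ⊓ Subgroup.normalizer (P : Set G) ≤ ℋ) x ∈ π.ker := hx
      rw [hker] at h2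
      exact h2
    rw [Subgroup.mem_subgroupOf]
    apply S.zP_le_C
    rw [← S.N_inf_normalizer]
    exact Subgroup.mem_inf.2 ⟨h1, (Subgroup.mem_inf.1 x.2).2⟩
  have hXi : (X.map f).index = 2 := by
    rw [Subgroup.index_map_eq _ hsurj hkX]; exact S.C_index_two
  have hcm : (Inn ↥Spor.M22).comap f = X := by
    rw [← eq_inn_of_index_two hXi, Subgroup.comap_map_eq_self hkX]
  have := SetLike.ext_iff.1 hcm ⟨n, hn⟩
  exact this

/-- `C_H(P)` maps onto M22 with kernel `⟨z⟩ P`. -/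
theorem exists_toMTwentyTwo [Finite G] (S : Setting z P N) :
    ∃ φ : ↥(ℋ ⊓ Subgroup.centralizer (P : Set G)) →* ↥Spor.M22, Function.Surjective φ ∧
      φ.ker = (Subgroup.zpowers z ⊔ P).subgroupOf (ℋ ⊓ Subgroup.centralizer (P : Set G)) := by
  haveI := isSimpleGroup_mTwentyTwo
  obtain ⟨π, hπ, hker⟩ := S.quot
  have hinj : Function.Injective (MulAut.conj : ↥Spor.M22 →* MulAut ↥Spor.M22) := by
    rw [← MonoidHom.ker_eq_bot_iff, eq_bot_iff]
    intro g hg
    rw [← center_mTwentyTwo, Subgroup.mem_center_iff]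
    intro x
    have := congrArg (fun f : MulAut ↥Spor.M22 => f x) (MonoidHom.mem_ker.1 hg)
    simp only [MulAut.conj_apply, MulAut.one_apply] at this
    conv_lhs => rw [← this]
    group
  let e : ↥Spor.M22 ≃* ↥(Inn ↥Spor.M22) := MonoidHom.ofInjective hinj
  have hmem : ∀ c : ↥(ℋ ⊓ Subgroup.centralizer (P : Set G)),
      π (Subgroup.inclusion inf_le_left c) ∈ Inn ↥Spor.M22 := fun c =>
    (S.mem_inn_iff hπ hker (S.C_le_normalizer_P c.2)).2 c.2
  let ψ := (π.comp (Subgroup.inclusion (inf_le_left : ℋ ⊓ Subgroup.centralizer (P : Set G) ≤ ℋ))).codRestrict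
    (Inn ↥Spor.M22) hmem
  refine ⟨e.symm.toMonoidHom.comp ψ, e.symm.surjective.comp ?_, ?_⟩
  · rintro ⟨a, ha⟩
    obtain ⟨⟨n, hn⟩, hna⟩ := S.surjective_normalizer hπ hker a
    have hnC : n ∈ ℋ ⊓ Subgroup.centralizer (P : Set G) := by
      rw [← S.mem_inn_iff hπ hker hn]
      have h1 : π ⟨n, (Subgroup.mem_inf.1 hn).1⟩ = a := hna
      rw [h1]; exact ha
    exact ⟨⟨n, hnC⟩, Subtype.ext hna⟩
  · ext c
    rw [MonoidHom.mem_ker, Subgroup.mem_subgroupOf, MonoidHom.comp_apply, MulEquiv.coe_toMonoidHom,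
      MulEquiv.map_eq_one_iff, ← S.N_inf_normalizer, Subgroup.mem_inf, ← Subtype.coe_inj]
    show π (Subgroup.inclusion inf_le_left c) = 1 ↔ _
    rw [← MonoidHom.mem_ker, hker, Subgroup.mem_subgroupOf, Subgroup.coe_inclusion]
    exact (and_iff_left (Subgroup.mem_inf.1 (S.C_le_normalizer_P c.2)).2).symm

/-- The centre of `C_H(P)`. -/
theorem center_C [Finite G] (S : Setting z P N) :
    Subgroup.center ↥(ℋ ⊓ Subgroup.centralizer (P : Set G)) =
      (Subgroup.zpowers z ⊔ P).subgroupOf (ℋ ⊓ Subgroup.centralizer (P : Set G)) := by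
  obtain ⟨φ, hφ, hker⟩ := S.exists_toMTwentyTwo
  refine le_antisymm ?_ ?_
  · rw [← hker]
    intro c hc
    rw [MonoidHom.mem_ker, ← Subgroup.mem_bot, ← center_mTwentyTwo, Subgroup.mem_center_iff]
    intro y
    obtain ⟨d, rfl⟩ := hφ y
    rw [← map_mul, ← map_mul, Subgroup.mem_center_iff.1 hc d]
  · intro c hc
    rw [Subgroup.mem_center_iff]
    intro d
    apply Subtype.ext
    rw [Subgroup.coe_mul, Subgroup.coe_mul]
    have hle : Subgroup.zpowers z ⊔ P ≤ Subgroup.centralizer ({(d : G)} : Set G) := by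
      refine sup_le ?_ fun q hq => ?_
      · rw [Subgroup.zpowers_le, Subgroup.mem_centralizer_iff]
        rintro y rfl
        exact S.comm_z (Subgroup.mem_inf.1 d.2).1
      · rw [Subgroup.mem_centralizer_iff]
        rintro y rfl
        exact (Subgroup.mem_centralizer_iff.1 (Subgroup.mem_inf.1 d.2).2 q hq).symm
    exact Subgroup.mem_centralizer_iff.1 (hle (Subgroup.mem_subgroupOf.1 hc)) d rfl

theorem pi_eq_one_iff (_S : Setting z P N) {π : ↥ℋ →* MulAut ↥Spor.M22}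
    (hker : π.ker = N.subgroupOf ℋ) (h : ↥ℋ) : π h = 1 ↔ (h : G) ∈ N := by
  rw [← MonoidHom.mem_ker, hker, Subgroup.mem_subgroupOf]

/-- Every inner automorphism comes from `C_H(P)`. -/
theorem exists_C_lift [Finite G] (S : Setting z P N) {π : ↥ℋ →* MulAut ↥Spor.M22}
    (hπ : Function.Surjective π) (hker : π.ker = N.subgroupOf ℋ)
    {a : MulAut ↥Spor.M22} (ha : a ∈ Inn ↥Spor.M22) :
    ∃ c : ↥(ℋ ⊓ Subgroup.centralizer (P : Set G)), π (Subgroup.inclusion inf_le_left c) = a := by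
  obtain ⟨⟨n, hn⟩, hna⟩ := S.surjective_normalizer hπ hker a
  have hnC : n ∈ ℋ ⊓ Subgroup.centralizer (P : Set G) := by
    rw [← S.mem_inn_iff hπ hker hn]
    have h1 : π ⟨n, (Subgroup.mem_inf.1 hn).1⟩ = a := hna
    rw [h1]; exact ha
  exact ⟨⟨n, hnC⟩, hna⟩

theorem pi_mem_inn_of_mem_C [Finite G] (S : Setting z P N) {π : ↥ℋ →* MulAut ↥Spor.M22}
    (hπ : Function.Surjective π) (hker : π.ker = N.subgroupOf ℋ)
    {h : ↥ℋ} (hc : (h : G) ∈ Subgroup.centralizer (P : Set G)) : π h ∈ Inn ↥Spor.M22 :=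
  (S.mem_inn_iff hπ hker (n := (h : G))
    (S.C_le_normalizer_P (Subgroup.mem_inf.2 ⟨h.2, hc⟩))).2 (Subgroup.mem_inf.2 ⟨h.2, hc⟩)

/-- The elements of `H` over inner automorphisms are the elements of `E C_H(P)`. -/
theorem exists_mul_C [Finite G] (S : Setting z P N) {π : ↥ℋ →* MulAut ↥Spor.M22}
    (hπ : Function.Surjective π) (hker : π.ker = N.subgroupOf ℋ)
    {h : ↥ℋ} (ha : π h ∈ Inn ↥Spor.M22) :
    ∃ e ∈ ℰ, ∃ c ∈ ℋ ⊓ Subgroup.centralizer (P : Set G), (h : G) = e * c := by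
  obtain ⟨c, hc⟩ := S.exists_C_lift hπ hker ha
  have h1 : (h : G) * (c : G)⁻¹ ∈ N := by
    have := (S.pi_eq_one_iff hker (h * (Subgroup.inclusion inf_le_left c)⁻¹)).1
      (by rw [map_mul, map_inv, hc, mul_inv_cancel])
    simpa using this
  obtain ⟨e, he, p, hp, hep⟩ := S.mem_N_iff.1 h1
  exact ⟨e, he, p * c, mul_mem (S.P_le_C hp) c.2,
    by rw [← mul_assoc, ← hep, inv_mul_cancel_right]⟩

theorem isCyclic_center_C [Finite G] (S : Setting z P N) :
    IsCyclic ↥(Subgroup.center ↥(ℋ ⊓ Subgroup.centralizer (P : Set G))) ∧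
      Nat.card ↥(Subgroup.center ↥(ℋ ⊓ Subgroup.centralizer (P : Set G))) = 6 := by
  rw [S.center_C]
  have e := Subgroup.subgroupOfEquivOfLe S.zP_le_C
  obtain ⟨g, hg⟩ := S.isCyclic_zP
  refine ⟨?_, by rw [Nat.card_congr e.toEquiv, S.card_zP]⟩
  haveI : IsCyclic ↥(Subgroup.zpowers z ⊔ P) := by rw [hg]; infer_instance
  exact isCyclic_of_surjective e.symm.toMonoidHom e.symm.surjective

theorem isoM22_quotient_C [Finite G] (S : Setting z P N) :
    Spor.IsoM22 (↥(ℋ ⊓ Subgroup.centralizer (P : Set G)) ⧸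
      Subgroup.center ↥(ℋ ⊓ Subgroup.centralizer (P : Set G))) := by
  obtain ⟨φ, hφ, hker⟩ := S.exists_toMTwentyTwo
  exact ⟨(QuotientGroup.quotientMulEquivOfEq (by rw [hker, S.center_C])).trans
    (QuotientGroup.quotientKerEquivOfSurjective φ hφ)⟩

end Setting

/-- A setting together with the map onto `Aut M22` and hexad data there. -/
structure Frame {z : G} {P N : Subgroup G}
    (π : ↥(Subgroup.centralizer ({z} : Set G)) →* MulAut ↥Spor.M22)
    (M B : Subgroup (MulAut ↥Spor.M22)) : Prop where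
  setting : Setting z P N
  surj : Function.Surjective π
  ker_eq : π.ker = N.subgroupOf (Subgroup.centralizer ({z} : Set G))
  hexad : HexadData (Inn ↥Spor.M22) M B

end CfsgLib.JFour
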