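import Cfsg.Agent.Lib.JFour.DuadStab
import Cfsg.Agent.Lib.JFour.ElemBound

/-!
# Groups of Janko-four type: a conjugate of `z` in another conjugate of `V` does not normalize `V`

For `g` centralising a duad `t` with `V ^ g ≠ V`: if a conjugate of `z` in `V ^ g` commutes with `z`,
then `C(z) ∩ V ^ g` has order at least `2 ^ 6`, while its image over the hexad is too small.
-/

set_option autoImplicit false
set_option linter.unusedSectionVars false
set_option linter.style.haveILetI false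

open Cfsg
open CfsgLib.JFour.HexFrame CfsgLib.JFour.HexTransitive

namespace CfsgLib.JFour

/-- An elementary abelian 2-subgroup of the symmetric group of degree 6 has order at most 8. -/
theorem card_elem_perm_six (S : Subgroup (Equiv.Perm (Fin 6)))
    (hc : ∀ a ∈ S, ∀ b ∈ S, a * b = b * a) (h2 : ∀ a ∈ S, a * a = 1) : Nat.card ↥S ≤ 8 := by
  classical
  have h4 := card_elem_alt_six (S.subgroupOf (alternatingGroup (Fin 6)))
    (fun a ha b hb => Subtype.ext (hc _ (Subgroup.mem_subgroupOf.mp ha) _ (Subgroup.mem_subgroupOf.mp hb)))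
    (fun a ha => Subtype.ext (h2 _ (Subgroup.mem_subgroupOf.mp ha)))
  set S0 := S ⊓ alternatingGroup (Fin 6) with hS0
  have h0 : Nat.card ↥S0 ≤ 4 := by
    have e : S.subgroupOf (alternatingGroup (Fin 6)) = S0.subgroupOf (alternatingGroup (Fin 6)) :=
      (Subgroup.inf_subgroupOf_right S _).symm
    rwa [e, Nat.card_congr (Subgroup.subgroupOfEquivOfLe (inf_le_right : S0 ≤ _)).toEquiv] at h4
  by_cases hall : S ≤ alternatingGroup (Fin 6)
  · rw [show S0 = S from inf_eq_left.mpr hall] at h0; omega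
  obtain ⟨s0, hs0, hs0A⟩ := SetLike.not_le_iff_exists.mp hall
  have hsub : (S : Set (Equiv.Perm (Fin 6))) ⊆ (S0 : Set _) ∪ (s0 * ·) '' (S0 : Set _) := by
    intro x hx
    by_cases hxA : x ∈ alternatingGroup (Fin 6)
    · exact Or.inl ⟨hx, hxA⟩
    · refine Or.inr ⟨s0 * x, ⟨mul_mem hs0 hx, ?_⟩, by
        show s0 * (s0 * x) = x
        rw [← mul_assoc, h2 s0 hs0, one_mul]⟩
      show s0 * x ∈ alternatingGroup (Fin 6)
      rw [Equiv.Perm.mem_alternatingGroup] at hxA hs0A ⊢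
      rw [map_mul, (Int.units_eq_one_or _).resolve_left hs0A,
        (Int.units_eq_one_or _).resolve_left hxA]
      rfl
  have := (Set.ncard_le_ncard hsub (Set.toFinite _)).trans (Set.ncard_union_le _ _)
  rw [Set.ncard_image_of_injective _ (mul_right_injective s0), ← Nat.card_coe_set_eq,
    ← Nat.card_coe_set_eq] at this
  simp only [SetLike.coe_sort_coe] at this
  omega

variable {G : Type*} [Group G] {z : G} {P N : Subgroup G}

namespace DuadFrame

variable {π : ↥(Subgroup.centralizer ({z} : Set G)) →* MulAut ↥Spor.M22}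
  {M B : Subgroup (MulAut ↥Spor.M22)} {R W : Subgroup G} {five : Set (Subgroup G)} {A : Set G}
  [Finite G] (F : DuadFrame (P := P) (N := N) π M B R W five A)
include F

set_option quotPrecheck false in
local notation "ℰ" => twoCoreOfCentralizer z
set_option quotPrecheck false in
local notation "V₀" => HexFrame.U (twoCoreOfCentralizer z) W ⊔ W
set_option quotPrecheck false in
local notation "ℋ" => Subgroup.centralizer (singleton z : Set G)

/-- An element normalizing a conjugate of `V` centralizes at least the square root of it. -/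
theorem card_sq_ge (g : G) {v : G}
    (hv : v ∈ Subgroup.normalizer (((V₀).map (MulAut.conj g).toMonoidHom : Subgroup G) : Set G))
    (hv2 : v * v = 1) :
    2 ^ 11 ≤ Nat.card ↥((V₀).map (MulAut.conj g).toMonoidHom ⊓ Subgroup.centralizer ({v} : Set G)) *
      Nat.card ↥((V₀).map (MulAut.conj g).toMonoidHom ⊓ Subgroup.centralizer ({v} : Set G)) := by
  set V' := (V₀).map (MulAut.conj g).toMonoidHom with hV'
  set C := V' ⊓ Subgroup.centralizer ({v} : Set G) with hC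
  have hab : ∀ a ∈ V', ∀ b ∈ V', a * b = b * a := fun a ha b hb =>
    congrArg Subtype.val ((F.conj_elem g).1.is_comm.comm ⟨a, ha⟩ ⟨b, hb⟩)
  have hsq : ∀ a ∈ V', a * a = 1 := fun a ha => by rw [← pow_two]; exact (F.conj_elem g).2 a ha
  have hcm : ∀ a ∈ V', cmm v a ∈ V' := fun a ha =>
    mul_mem ((Subgroup.mem_normalizer_iff.mp hv a).mp ha) (inv_mem ha)
  let κ : ↥V' →* ↥V' :=
    { toFun := fun a => ⟨cmm v a, hcm a a.2⟩
      map_one' := Subtype.ext (by simp [cmm])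
      map_mul' := fun a b => Subtype.ext (by
        show cmm v ((a : G) * b) = cmm v a * cmm v b
        rw [show cmm v ((a : G) * b) = cmm v a * ((a : G) * cmm v b * (a : G)⁻¹) by simp only [cmm]; group,
          hab _ a.2 _ (hcm b b.2), mul_inv_cancel_right]) }
  have hker : κ.ker = C.subgroupOf V' := by
    ext a
    rw [MonoidHom.mem_ker, Subgroup.mem_subgroupOf, Subgroup.mem_inf]
    show (⟨cmm v a, hcm a a.2⟩ : ↥V') = 1 ↔ _
    rw [Subtype.ext_iff]
    show v * (a : G) * v⁻¹ * (a : G)⁻¹ = 1 ↔ _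
    rw [mul_inv_eq_one, mul_inv_eq_iff_eq_mul, Subgroup.mem_centralizer_singleton_iff]
    exact ⟨fun e => ⟨a.2, e.symm⟩, fun e => e.2.symm⟩
  have hrange : Nat.card ↥κ.range ≤ Nat.card ↥C := by
    rw [← Subgroup.card_map_of_injective (K := κ.range) V'.subtype_injective]
    refine Subgroup.card_le_of_le ?_
    rintro _ ⟨_, ⟨a, rfl⟩, rfl⟩
    refine ⟨hcm a a.2, Subgroup.mem_centralizer_singleton_iff.mpr ?_⟩
    show cmm v a * v = v * cmm v a
    have h1 : v⁻¹ = v := inv_eq_of_mul_eq_one_right hv2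
    have h2 : v * cmm v a * v = (cmm v a)⁻¹ := by
      simp only [cmm, h1, mul_inv_rev, inv_inv]
      rw [show v * (v * (a : G) * v * (a : G)⁻¹) * v = (v * v) * ((a : G) * (v * (a : G)⁻¹ * v)) by group,
        hv2, one_mul, mul_assoc v]
    rw [inv_eq_of_mul_eq_one_right (hsq _ (hcm a a.2))] at h2
    conv_lhs => rw [← h2]
    rw [mul_assoc, hv2, mul_one]
  have h := Subgroup.card_eq_card_quotient_mul_card_subgroup κ.ker
  rw [Nat.card_congr (QuotientGroup.quotientKerEquivRange κ).toEquiv, F.card_conj g, hker,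
    Nat.card_congr (Subgroup.subgroupOfEquivOfLe (inf_le_left : C ≤ V')).toEquiv] at h
  rw [h]
  exact Nat.mul_le_mul_right _ hrange

/-- `V ∩ V ^ g` contains no conjugate of `z`. -/
theorem inf_pure (g : G) {t : G} (ht : t ∈ Duads ℰ W z five A) (hgt : g * t = t * g)
    (hne : (V₀).map (MulAut.conj g).toMonoidHom ≠ V₀) :
    ∀ i ∈ V₀ ⊓ (V₀).map (MulAut.conj g).toMonoidHom, ¬ IsConj z i := by
  rintro i ⟨hiV, hiW⟩ hc
  have htW : t ∈ (V₀).map (MulAut.conj g).toMonoidHom :=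
    ⟨t, (F.data.duad_sub ht).1, mul_inv_eq_iff_eq_mul.mpr hgt⟩
  refine hne (F.weakly_closed g fun x hx => ?_)
  exact F.stab_conj g hiW hc htW (F.data.duad_ne_one ht) (F.data.not_conj_of_duad ht)
    (F.data.V_comm hx hiV) (F.data.V_comm hx (F.data.duad_sub ht).1)

theorem V_inf_E {x : G} (hx : x ∈ V₀) (hxE : x ∈ ℰ) : x ∈ HexFrame.U ℰ W := by
  have hT := F.data.hT
  obtain ⟨u, hu, w, hw, rfl⟩ := hT.mem_sup_iff.mp hx
  have hwE : w ∈ ℰ := by simpa using mul_mem (inv_mem (U_le hu)) hxE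
  exact mul_mem hu ((Subgroup.zpowers_le.mpr hT.z_U) (hT.mem_Z.mpr (hT.W_inf_E hw hwE)))

/-- An element of `H` over `B` of order at most two is a product from `E` and `W`. -/
theorem exists_E_mul_W {a : G} (ha : a ∈ ℋ) (hb : π ⟨a, ha⟩ ∈ B) (ha2 : a * a = 1) :
    ∃ e ∈ ℰ, ∃ w ∈ W, a = e * w := by
  have S := F.frame.setting
  have hT := F.data.hT
  obtain ⟨w, hwH, hwW, hwb⟩ := F.lift _ hb
  have hN : a * w⁻¹ ∈ N := (S.pi_eq_one_iff F.frame.ker_eq ⟨_, mul_mem ha (inv_mem hwH)⟩).1 (by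
    rw [show (⟨a * w⁻¹, mul_mem ha (inv_mem hwH)⟩ : ↥ℋ) = ⟨a, ha⟩ * ⟨w, hwH⟩⁻¹ from rfl, map_mul,
      map_inv, hwb, mul_inv_cancel])
  obtain ⟨e, he, p, hp, hep⟩ := S.mem_N_iff.1 hN
  have ha' : a = e * (p * w) := by rw [← mul_assoc, ← hep, inv_mul_cancel_right]
  have hpw : p * w = w * p := (hT.W_P w hwW p hp).symm
  have hsq : (p * w) * (p * w) = p * p := by
    calc (p * w) * (p * w) = p * (w * p) * w := by group
      _ = (p * p) * (w * w) := by rw [← hpw]; group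
      _ = p * p := by rw [hT.W_sq w hwW, mul_one]
  have hp2 : p * p ∈ ℰ := by
    have h1 := ha2
    rw [ha', show e * (p * w) * (e * (p * w)) =
      e * ((p * w) * e * (p * w)⁻¹) * ((p * w) * (p * w)) by group, hsq] at h1
    rw [eq_inv_of_mul_eq_one_right h1]
    exact inv_mem (mul_mem he (S.conj_mem_E (mul_mem (S.P_le_H hp) hwH) he))
  have hp21 : p * p = 1 := Subgroup.mem_bot.1 (S.E_inf_P ▸ Subgroup.mem_inf.2 ⟨hp2, mul_mem hp hp⟩)
  have hp3 : p ^ 3 = 1 := orderOf_dvd_iff_pow_eq_one.mp (hT.card_P ▸ Subgroup.orderOf_dvd_natCard _ hp)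
  rw [pow_succ, pow_two, hp21, one_mul] at hp3
  exact ⟨e, he, w, hwW, by rw [ha', hp3, one_mul]⟩

/-- An element of `H` over an outer automorphism inverts `P` modulo `E`. -/
theorem exists_inverts {a : G} (ha : a ∈ ℋ) (hout : π ⟨a, ha⟩ ∉ Inn ↥Spor.M22) :
    ∃ e ∈ ℰ, ∀ p ∈ P, a * p * a⁻¹ = e * p⁻¹ * e⁻¹ := by
  have S := F.frame.setting
  obtain ⟨e, he, n, hn, rfl⟩ := S.exists_mul_normalizer ha
  refine ⟨e, he, fun p hp => ?_⟩
  have hnH : n ∈ ℋ := (Subgroup.mem_inf.1 hn).1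
  have hπ : π ⟨e * n, ha⟩ = π ⟨n, hnH⟩ := by
    rw [show (⟨e * n, ha⟩ : ↥ℋ) = ⟨e, S.E_le he⟩ * ⟨n, hnH⟩ from rfl, map_mul,
      (S.pi_eq_one_iff F.frame.ker_eq _).2 (S.E_le_N he), one_mul]
  have hnC : n ∉ ℋ ⊓ Subgroup.centralizer (P : Set G) := fun hC =>
    hout (hπ ▸ (S.mem_inn_iff F.frame.surj F.frame.ker_eq hn).2 hC)
  by_cases hp1 : p = 1
  · simp [hp1]
  have hP := S.eq_zpowers_of_mem_P hp hp1
  have hp3 : orderOf p = 3 := by
    rw [← Nat.card_zpowers, ← hP, S.cardP]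
  have hmem : n * p * n⁻¹ ∈ P := (Subgroup.mem_normalizer_iff.1 (Subgroup.mem_inf.1 hn).2 p).1 hp
  rw [hP] at hmem
  obtain ⟨k, hk⟩ := hmem
  have hk' : n * p * n⁻¹ = p ^ (k % 3) := by
    rw [← hk]
    show p ^ k = _
    rw [← zpow_mod_orderOf, hp3]
    rfl
  have h1 := Int.emod_nonneg k (show (3 : ℤ) ≠ 0 by norm_num)
  have h2 := Int.emod_lt_of_pos k (show (0 : ℤ) < 3 by norm_num)
  rcases (show k % 3 = 0 ∨ k % 3 = 1 ∨ k % 3 = 2 by omega) with e3 | e3 | e3 <;> rw [e3] at hk'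
  · exact absurd (conj_eq_one_iff.1 (hk'.trans (zpow_zero p))) hp1
  · exfalso
    refine hnC (Subgroup.mem_inf.2 ⟨hnH, Subgroup.mem_centralizer_iff.2 fun y hy => ?_⟩)
    rw [SetLike.mem_coe, hP] at hy
    obtain ⟨j, rfl⟩ := hy
    exact ((show Commute n p from mul_inv_eq_iff_eq_mul.1 (hk'.trans (zpow_one p))).zpow_right j).eq.symm
  · have hinv : p ^ (2 : ℤ) = p⁻¹ := by
      refine eq_inv_of_mul_eq_one_left ?_
      rw [← zpow_add_one, show (2 : ℤ) + 1 = ((3 : ℕ) : ℤ) by norm_num, zpow_natCast, ← hp3,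
        pow_orderOf_eq_one]
    rw [show e * n * p * (e * n)⁻¹ = e * (n * p * n⁻¹) * e⁻¹ by group, hk', hinv]

/-- The main bound: no conjugate of `z` in `V ^ g ≠ V` commutes with `z`. -/
theorem bound_at_z (g : G) {t : G} (ht : t ∈ Duads ℰ W z five A) (hgt : g * t = t * g)
    (hne : (V₀).map (MulAut.conj g).toMonoidHom ≠ V₀) {v : G}
    (hv : v ∈ (V₀).map (MulAut.conj g).toMonoidHom) (hvc : IsConj z v) (hvz : v * z = z * v) :
    False := by
  classical
  have S := F.frame.setting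
  have hT := F.data.hT
  have hF := F.data.fiveData
  set W' := (V₀).map (MulAut.conj g).toMonoidHom with hW'
  have hab : ∀ a ∈ W', ∀ b ∈ W', a * b = b * a := fun a ha b hb =>
    congrArg Subtype.val ((F.conj_elem g).1.is_comm.comm ⟨a, ha⟩ ⟨b, hb⟩)
  have hsq : ∀ a ∈ W', a * a = 1 := fun a ha => by rw [← pow_two]; exact (F.conj_elem g).2 a ha
  have htV := (F.data.duad_sub ht).1
  have ht1 := F.data.duad_ne_one ht
  have htc := F.data.not_conj_of_duad ht
  have htW : t ∈ W' := ⟨t, htV, mul_inv_eq_iff_eq_mul.mpr hgt⟩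
  have hpure := F.inf_pure g ht hgt hne
  have hzI : z ∉ V₀ ⊓ W' := fun hh => hpure z hh (IsConj.refl z)
  have hI4 : Nat.card ↥(V₀ ⊓ W') ≤ 4 :=
    F.data.pure_le_four g inf_le_right fun k hk _ => hpure k hk
  have hzN : z ∈ Subgroup.normalizer ((W' : Subgroup G) : Set G) :=
    F.stab_conj g hv hvc htW ht1 htc hvz.symm (F.data.V_comm F.data.z_mem_V htV)
  set C := W' ⊓ ℋ with hC
  have hsize : 2 ^ 11 ≤ Nat.card ↥C * Nat.card ↥C := F.card_sq_ge g hzN S.z_mul_self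
  have hCN : ∀ a ∈ C, a ∈ Subgroup.normalizer ((V₀ : Subgroup G) : Set G) := fun a ha =>
    F.stab F.data.z_mem_V (IsConj.refl z) ht (S.comm_z ha.2) (hab a ha.1 t htW)
  have hCM : ∀ a (ha : a ∈ C), π ⟨a, ha.2⟩ ∈ M := fun a ha => F.pi_mem_of_normalizes ha.2 (hCN a ha)
  obtain ⟨f, -, hfker, hfmap⟩ := F.frame.hexad.hexad
  let ι : ↥C →* ↥M := (π.comp (Subgroup.inclusion (inf_le_right : C ≤ ℋ))).codRestrict M
    fun a => hCM a a.2
  let φ : ↥C →* Equiv.Perm (Fin 6) := f.comp ι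
  set C0 := φ.ker.map C.subtype with hC0
  have hC0le : C0 ≤ C := Subgroup.map_subtype_le _
  have hC0B : ∀ a (ha : a ∈ C0), π ⟨a, (hC0le ha).2⟩ ∈ B := by
    rintro a ⟨x, hx, rfl⟩
    have h1 : ι x ∈ f.ker := hx
    rw [hfker, Subgroup.mem_subgroupOf] at h1
    exact h1
  have hcard : Nat.card ↥C = Nat.card ↥φ.range * Nat.card ↥C0 := by
    rw [hC0, Subgroup.card_map_of_injective C.subtype_injective,
      Subgroup.card_eq_card_quotient_mul_card_subgroup φ.ker,
      Nat.card_congr (QuotientGroup.quotientKerEquivRange φ).toEquiv]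
  have hr8 : Nat.card ↥φ.range ≤ 8 := by
    refine card_elem_perm_six _ ?_ ?_
    · rintro _ ⟨a, rfl⟩ _ ⟨b, rfl⟩
      rw [← map_mul, ← map_mul, show a * b = b * a from Subtype.ext (hab _ a.2.1 _ b.2.1)]
    · rintro _ ⟨a, rfl⟩
      rw [← map_mul, show a * a = 1 from Subtype.ext (hsq _ a.2.1), map_one]
  suffices hsmall : Nat.card ↥C ≤ 32 by
    have := Nat.mul_le_mul hsmall hsmall
    omega
  rw [hcard]
  by_cases hnone : ∀ a ∈ C0, a ≠ 1 → ¬ IsConj z a
  · have h4 : Nat.card ↥C0 ≤ 4 := F.data.pure_le_four g (hC0le.trans inf_le_left) hnone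
    exact (Nat.mul_le_mul hr8 h4).trans_eq (by norm_num)
  push Not at hnone
  obtain ⟨a, ha, -, hac⟩ := hnone
  have haC := hC0le ha
  have haV : a ∉ V₀ := fun hh => hpure a ⟨hh, haC.1⟩ hac
  obtain ⟨e, he, w, hw, hae⟩ := F.exists_E_mul_W haC.2 (hC0B a ha) (hsq a haC.1)
  have heU : e ∉ HexFrame.U ℰ W := fun hh => haV (hae ▸ Subgroup.mul_mem_sup hh hw)
  set CU := HexFrame.U ℰ W ⊓ Subgroup.centralizer ({e} : Set G) with hCU
  have hCU64 : 64 ≤ Nat.card ↥CU := by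
    have := F.card_le_two_mul (K := HexFrame.U ℰ W) U_le he
    rw [hT.card_U, ← hCU] at this
    omega
  have hCUN : ∀ u ∈ CU, u ∈ Subgroup.normalizer ((W' : Subgroup G) : Set G) := by
    intro u hu
    obtain ⟨huU, hue⟩ := Subgroup.mem_inf.mp hu
    refine F.stab_conj g haC.1 hac htW ht1 htc ?_ (F.data.V_comm (Subgroup.mem_sup_left huU) htV)
    rw [hae, ← mul_assoc, Subgroup.mem_centralizer_singleton_iff.mp hue, mul_assoc, ← U_comm huU hw,
      mul_assoc]
  have hcomm_mem : ∀ b ∈ C, ∀ u ∈ CU, cmm b u ∈ V₀ ⊓ W' := by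
    intro b hb u hu
    refine ⟨(V₀).mul_mem ((Subgroup.mem_normalizer_iff.mp (hCN b hb) u).mp
      (Subgroup.mem_sup_left hu.1)) ((V₀).inv_mem (Subgroup.mem_sup_left hu.1)), ?_⟩
    rw [show cmm b u = b * (u * b⁻¹ * u⁻¹) by simp only [cmm]; group]
    exact mul_mem hb.1 ((Subgroup.mem_normalizer_iff.mp (hCUN u hu) _).mp (inv_mem hb.1))
  have hsub : (C0 : Set G) ⊆ ((V₀ ⊓ W' : Subgroup G) : Set G) ∪
      (a * ·) '' ((V₀ ⊓ W' : Subgroup G) : Set G) := by
    intro b hb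
    have hbC := hC0le hb
    obtain ⟨e2, he2, w2, hw2, hbe⟩ := F.exists_E_mul_W hbC.2 (hC0B b hb) (hsq b hbC.1)
    have hb0 : ∀ u ∈ CU, cmm e2 u = 1 := by
      intro u hu
      have h1 := hcomm_mem b hbC u hu
      have h2 : cmm b u = cmm e2 u := by
        rw [hbe, show cmm (e2 * w2) u = e2 * (w2 * u * w2⁻¹) * e2⁻¹ * u⁻¹ by simp only [cmm]; group,
          U_comm hu.1 hw2, mul_inv_cancel_right]
        rfl
      rw [h2] at h1
      exact (hT.sgn_cases he2 (U_le hu.1)).resolve_right fun e' => hzI (e' ▸ h1)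
    by_cases he2U : e2 ∈ HexFrame.U ℰ W
    · exact Or.inl ⟨hbe ▸ Subgroup.mul_mem_sup he2U hw2, hbC.1⟩
    have hee : e * e2 ∈ HexFrame.U ℰ W := by
      refine hT.cent_U (mul_mem he he2) fun d hd => hT.cmm_eq_one_iff.mp ?_
      rw [hT.sgn_mul_left he he2 (U_le hd)]
      by_cases hdC : d ∈ CU
      · rw [hb0 d hdC, mul_one]
        exact hT.cmm_eq_one_iff.mpr (Subgroup.mem_centralizer_singleton_iff.mp hdC.2).symm
      have hed : cmm e d = z := (hT.sgn_cases he (U_le hd)).resolve_left fun e' =>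
        hdC ⟨hd, Subgroup.mem_centralizer_singleton_iff.mpr (hT.cmm_eq_one_iff.mp e').symm⟩
      have he2d : cmm e2 d = z := by
        refine (hT.sgn_cases he2 (U_le hd)).resolve_left fun e' => he2U (hT.cent_U he2 fun d' hd' => ?_)
        by_cases hd'C : d' ∈ CU
        · exact hT.cmm_eq_one_iff.mp (hb0 d' hd'C)
        have hed' : cmm e d' = z := (hT.sgn_cases he (U_le hd')).resolve_left fun e'' =>
          hd'C ⟨hd', Subgroup.mem_centralizer_singleton_iff.mpr (hT.cmm_eq_one_iff.mp e'').symm⟩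
        have hdd : d * d' ∈ CU := ⟨mul_mem hd hd', Subgroup.mem_centralizer_singleton_iff.mpr
          (hT.cmm_eq_one_iff.mp (by rw [hT.sgn_mul_right he (U_le hd) (U_le hd'), hed, hed', hT.z_sq])).symm⟩
        have h1 := hb0 _ hdd
        rw [hT.sgn_mul_right he2 (U_le hd) (U_le hd'), e', one_mul] at h1
        exact hT.cmm_eq_one_iff.mp h1
      rw [hed, he2d, hT.z_sq]
    refine Or.inr ⟨a * b, ⟨?_, mul_mem haC.1 hbC.1⟩, by
      show a * (a * b) = b
      rw [← mul_assoc, hsq a haC.1, one_mul]⟩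
    rw [hae, hbe, show e * w * (e2 * w2) = e * (w * e2 * w⁻¹ * e2⁻¹) * e2 * (w * w2) by group]
    have hc := hT.cmm_mem_U hw he2
    refine Subgroup.mul_mem_sup ?_ (mul_mem hw hw2)
    rw [show w * e2 * w⁻¹ * e2⁻¹ = cmm w e2 from rfl,
      show e * cmm w e2 * e2 = (e * cmm w e2 * e⁻¹) * (e * e2) by group]
    refine mul_mem ?_ hee
    rcases hT.conj_E_eq he (U_le hc) with c | c <;> rw [c]
    exacts [hc, mul_mem hT.z_U hc]
  have hC08 : Nat.card ↥C0 ≤ 8 := by
    have := (Set.ncard_le_ncard hsub (Set.toFinite _)).trans (Set.ncard_union_le _ _)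
    rw [Set.ncard_image_of_injective _ (mul_right_injective a), ← Nat.card_coe_set_eq,
      ← Nat.card_coe_set_eq] at this
    simp only [SetLike.coe_sort_coe] at this
    omega
  suffices heven : φ.range ≤ alternatingGroup (Fin 6) by
    have h4 : Nat.card ↥φ.range ≤ 4 := by
      rw [← Nat.card_congr (Subgroup.subgroupOfEquivOfLe heven).toEquiv]
      refine card_elem_alt_six _ ?_ ?_
      · rintro ⟨_, hx⟩ ⟨a1, rfl⟩ ⟨_, hy⟩ ⟨b1, rfl⟩
        apply Subtype.ext
        show φ a1 * φ b1 = φ b1 * φ a1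
        rw [← map_mul, ← map_mul, show a1 * b1 = b1 * a1 from Subtype.ext (hab _ a1.2.1 _ b1.2.1)]
      · rintro ⟨_, hx⟩ ⟨a1, rfl⟩
        apply Subtype.ext
        show φ a1 * φ a1 = 1
        rw [← map_mul, show a1 * a1 = 1 from Subtype.ext (hsq _ a1.2.1), map_one]
    exact (Nat.mul_le_mul h4 hC08).trans_eq (by norm_num)
  -- no outer elements
  rintro _ ⟨⟨a1, ha1⟩, rfl⟩
  by_contra hodd
  have hout : π ⟨a1, ha1.2⟩ ∉ Inn ↥Spor.M22 := fun hi => by
    refine hodd ?_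
    rw [← hfmap]
    exact Subgroup.mem_map_of_mem f (Subgroup.mem_subgroupOf.mpr hi : ι ⟨a1, ha1⟩ ∈ _)
  obtain ⟨e1, he1, hinv⟩ := F.exists_inverts ha1.2 hout
  set X := HexFrame.U ℰ W ⊓ Subgroup.centralizer ({a1} : Set G) with hX
  have hzX : z ∈ X := ⟨hT.z_U, Subgroup.mem_centralizer_singleton_iff.mpr (S.comm_z ha1.2).symm⟩
  obtain ⟨p, hp, hp1⟩ := hT.exists_gen
  have hp3 : p ^ 3 = 1 := orderOf_dvd_iff_pow_eq_one.mp (hT.card_P ▸ Subgroup.orderOf_dvd_natCard _ hp)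
  have hpp : p * p * p = 1 := by rw [← pow_three', hp3]
  set Y := X.map (MulAut.conj p).toMonoidHom with hY
  have hXY : X ⊓ Y ≤ Subgroup.zpowers z := by
    rintro x ⟨hxX, y, hy, rfl⟩
    obtain ⟨hyU, hya⟩ := Subgroup.mem_inf.mp hy
    simp only [MulEquiv.coe_toMonoidHom, MulAut.conj_apply] at hxX ⊢
    obtain ⟨hxU, hxa⟩ := Subgroup.mem_inf.mp hxX
    have hxa' : a1 * (p * y * p⁻¹) * a1⁻¹ = p * y * p⁻¹ := by
      rw [← Subgroup.mem_centralizer_singleton_iff.mp hxa, mul_inv_cancel_right]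
    have hya' : a1 * y * a1⁻¹ = y := by
      rw [← Subgroup.mem_centralizer_singleton_iff.mp hya, mul_inv_cancel_right]
    have h1 : p * y * p⁻¹ = e1 * (p⁻¹ * (e1⁻¹ * y * e1) * p) * e1⁻¹ := by
      calc p * y * p⁻¹ = a1 * (p * y * p⁻¹) * a1⁻¹ := hxa'.symm
        _ = (a1 * p * a1⁻¹) * (a1 * y * a1⁻¹) * (a1 * p * a1⁻¹)⁻¹ := by group
        _ = (e1 * p⁻¹ * e1⁻¹) * y * (e1 * p⁻¹ * e1⁻¹)⁻¹ := by rw [hinv p hp, hya']
        _ = e1 * (p⁻¹ * (e1⁻¹ * y * e1) * p) * e1⁻¹ := by group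
    set y' := p⁻¹ * y * p with hy'
    have hy'U : y' ∈ HexFrame.U ℰ W := by simpa [hy'] using hT.U_norm (inv_mem (hT.P_le hp)) hyU
    have hzy' : z * y' ∈ HexFrame.U ℰ W := mul_mem hT.z_U hy'U
    have hzp : p⁻¹ * z * p = z := by
      rw [mul_assoc, ← hT.M0_z p (hT.P_le_M0 hp), inv_mul_cancel_left]
    have h2 : p⁻¹ * (e1⁻¹ * y * e1) * p = y' ∨ p⁻¹ * (e1⁻¹ * y * e1) * p = z * y' := by
      rcases hT.conj_E_eq (inv_mem he1) (U_le hyU) with c | c <;> rw [inv_inv] at c <;> rw [c]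
      · exact Or.inl rfl
      · right
        rw [hy', show p⁻¹ * (z * y) * p = (p⁻¹ * z * p) * (p⁻¹ * y * p) by group, hzp]
    have h3 : p * y * p⁻¹ = y' ∨ p * y * p⁻¹ = z * y' := by
      have hc2 : ∀ q ∈ HexFrame.U ℰ W, e1 * q * e1⁻¹ = q ∨ e1 * q * e1⁻¹ = z * q :=
        fun q hq => hT.conj_E_eq he1 (U_le hq)
      rcases h2 with c | c <;> rw [c] at h1
      · rcases hc2 y' hy'U with d | d <;> rw [d] at h1
        exacts [Or.inl h1, Or.inr h1]
      · rcases hc2 _ hzy' with d | d <;> rw [d] at h1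
        exacts [Or.inr h1, Or.inl (by rwa [hT.z_mul_mul] at h1)]
    have hyz : y ∈ Subgroup.zpowers z := by
      have hy2 : p * p * y * (p * p)⁻¹ = y' := by
        rw [hy', show p * p = p⁻¹ from eq_inv_of_mul_eq_one_left hpp, inv_inv]
      have hs := hT.sigma_conj hp hp1 hyU
      rw [hy2] at hs
      have h4 : p * y * p⁻¹ * y' ∈ Subgroup.zpowers z := by
        rcases h3 with c | c <;> rw [c]
        · rw [hT.U_sq hy'U]; exact one_mem _
        · rw [mul_assoc, hT.U_sq hy'U, mul_one]; exact Subgroup.mem_zpowers z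
      have h5 := mul_mem hs (inv_mem h4)
      rwa [mul_assoc y, mul_inv_cancel_right] at h5
    rcases hT.mem_Z.mp hyz with c | c <;> rw [c]
    · simp
    · rw [mul_inv_eq_iff_eq_mul.mpr (hT.M0_z p (hT.P_le_M0 hp))]
      exact Subgroup.mem_zpowers z
  have hX16 : Nat.card ↥X ≤ 16 := by
    have hYU : Y ≤ HexFrame.U ℰ W := by
      rintro _ ⟨y, hy, rfl⟩
      exact hT.U_norm (hT.P_le hp) hy.1
    have h1 := hT.card_sup_mul (inf_le_left : X ≤ _) hYU
    have h2 := Subgroup.card_le_of_le hXY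
    have h3 := Subgroup.card_le_of_le (sup_le (inf_le_left : X ≤ _) hYU)
    rw [Nat.card_zpowers, hT.orderOf_z] at h2
    rw [hT.card_U] at h3
    have hYc : Nat.card ↥Y = Nat.card ↥X := by
      rw [hY, Subgroup.card_map_of_injective (MulAut.conj p).injective]
    rw [hYc] at h1
    nlinarith
  set IU := V₀ ⊓ W' ⊓ HexFrame.U ℰ W with hIU
  have hκmem : ∀ u ∈ CU, cmm a1 u ∈ IU := fun u hu => by
    have h1 := hcomm_mem a1 ha1 u hu
    refine ⟨h1, F.V_inf_E h1.1 ?_⟩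
    exact mul_mem (S.conj_mem_E ha1.2 (U_le hu.1)) (inv_mem (U_le hu.1))
  let κ : ↥CU →* ↥IU :=
    { toFun := fun u => ⟨cmm a1 u, hκmem u u.2⟩
      map_one' := Subtype.ext (by simp [cmm])
      map_mul' := fun u u' => Subtype.ext (by
        show cmm a1 ((u : G) * u') = cmm a1 u * cmm a1 u'
        rw [show cmm a1 ((u : G) * u') = cmm a1 u * ((u : G) * cmm a1 u' * (u : G)⁻¹) by
          simp only [cmm]; group, hT.U_comm_U u.2.1 (hκmem u' u'.2).2, mul_inv_cancel_right]) }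
  have hkerX : Nat.card ↥κ.ker ≤ Nat.card ↥X := by
    rw [← Subgroup.card_map_of_injective (K := κ.ker) CU.subtype_injective]
    refine Subgroup.card_le_of_le ?_
    rintro _ ⟨u, hu, rfl⟩
    exact ⟨u.2.1, Subgroup.mem_centralizer_singleton_iff.mpr
      (hT.cmm_eq_one_iff.mp (congrArg Subtype.val (MonoidHom.mem_ker.mp hu) :)).symm⟩
  have hcu := Subgroup.card_eq_card_quotient_mul_card_subgroup κ.ker
  rw [Nat.card_congr (QuotientGroup.quotientKerEquivRange κ).toEquiv] at hcu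
  have hIU2 : 2 < Nat.card ↥IU := by
    by_contra hcon
    have h1 : Nat.card ↥κ.range ≤ 2 := κ.range.card_le_card_group.trans (not_lt.mp hcon)
    have := Nat.mul_le_mul h1 (hkerX.trans hX16)
    omega
  -- then `V ∩ V ^ g` is four elements at one special point, fixed by an outer element
  have hIeq : IU = V₀ ⊓ W' := by
    refine Subgroup.eq_of_le_of_card_ge inf_le_left ?_
    have hd : Nat.card ↥IU ∣ Nat.card ↥(V₀ ⊓ W') := Subgroup.card_dvd_of_le inf_le_left
    have hd2 : Nat.card ↥IU ∣ 2 ^ 7 := hT.card_U ▸ Subgroup.card_dvd_of_le inf_le_right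
    obtain ⟨i, -, hi⟩ := (Nat.dvd_prime_pow Nat.prime_two).mp hd2
    have h3 := Subgroup.card_le_of_le (inf_le_left : IU ≤ V₀ ⊓ W')
    rw [hi] at hIU2 h3 ⊢
    have hi2 : 2 ≤ i := by
      by_contra hh
      interval_cases i <;> norm_num at hIU2
    have h4 : 4 ≤ 2 ^ i := le_trans (by norm_num) (Nat.pow_le_pow_right two_pos hi2)
    omega
  have htU : t ∈ HexFrame.U ℰ W := (hIeq.ge ⟨htV, htW⟩).2
  obtain ⟨-, htz, Q, hQ, htQ⟩ := F.data.spec_of_mem_U ht htU
  have hQp := hF.isPt Q hQ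
  have hIQ : V₀ ⊓ W' ≤ Q := by
    intro k hk
    by_cases hk1 : k = 1
    · exact hk1 ▸ one_mem _
    by_cases hkt : k * t = 1
    · rw [eq_inv_of_mul_eq_one_left hkt]; exact inv_mem htQ
    have hkU := (hIeq.ge hk).2
    have hkD := F.data.duad_of_not_conj hk.1 hk1 (hpure k hk)
    have hktI : k * t ∈ V₀ ⊓ W' := mul_mem hk ⟨htV, htW⟩
    have hktD := F.data.duad_of_not_conj hktI.1 hkt (hpure _ hktI)
    obtain ⟨-, hkz, Q', hQ', hkQ'⟩ := F.data.spec_of_mem_U hkD hkU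
    exact (hT.same_point hF hQ' hQ hkQ' hkz htQ htz
      (F.data.spec_of_mem_U hktD (mul_mem hkU htU))) ▸ hkQ'
  have hQX : Q ≤ X := by
    have hIX : V₀ ⊓ W' ≤ X := fun k hk => ⟨(hIeq.ge hk).2,
      Subgroup.mem_centralizer_singleton_iff.mpr (hab k hk.2 a1 ha1.1)⟩
    have hsubQ : ((V₀ ⊓ W' : Subgroup G) : Set G) ∪ (z * ·) '' ((V₀ ⊓ W' : Subgroup G) : Set G) ⊆
        ((Q ⊓ X : Subgroup G) : Set G) := by
      rintro k (hk | ⟨j, hj, rfl⟩)
      · exact ⟨hIQ hk, hIX hk⟩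
      · exact ⟨mul_mem hQp.1.z_mem (hIQ hj), mul_mem hzX (hIX hj)⟩
    have hdis : Disjoint ((V₀ ⊓ W' : Subgroup G) : Set G)
        ((z * ·) '' ((V₀ ⊓ W' : Subgroup G) : Set G)) := by
      rw [Set.disjoint_left]
      rintro _ hk ⟨j, hj, rfl⟩
      exact hzI (by simpa using (V₀ ⊓ W').mul_mem hk ((V₀ ⊓ W').inv_mem hj))
    have h1 := Set.ncard_le_ncard hsubQ (Set.toFinite _)
    rw [Set.ncard_union_eq hdis (Set.toFinite _) (Set.toFinite _),
      Set.ncard_image_of_injective _ (mul_right_injective z), ← Nat.card_coe_set_eq,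
      ← Nat.card_coe_set_eq] at h1
    simp only [SetLike.coe_sort_coe] at h1
    have h3 := Subgroup.card_dvd_of_le (inf_le_left : Q ⊓ X ≤ Q)
    rw [hQp.2] at h3
    have h4 := Nat.le_of_dvd (by norm_num) h3
    have h5 : 8 ≤ Nat.card ↥(Q ⊓ X) := by
      have h6 : Nat.card ↥IU = Nat.card ↥(V₀ ⊓ W') := by rw [hIeq]
      by_contra hlt
      interval_cases hh : Nat.card ↥(Q ⊓ X) <;> omega
    have := Subgroup.eq_of_le_of_card_ge (inf_le_left : Q ⊓ X ≤ Q) (by rw [hQp.2]; exact h5)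
    exact inf_eq_left.mp this
  have hQz : Q ≤ Subgroup.zpowers z := by
    intro y hy
    refine hXY ⟨hQX hy, p⁻¹ * y * p, hQX ?_, by simp [mul_assoc]⟩
    simpa using hQp.1.inv p⁻¹ (inv_mem hp) y hy
  have := Subgroup.card_le_of_le hQz
  rw [hQp.2, Nat.card_zpowers, hT.orderOf_z] at this
  omega

/-- A conjugate of `z` in `V ^ g ≠ V`, with `g` centralising a duad, does not normalize `V`. -/
theorem not_mem_normalizer (g : G) {t : G} (ht : t ∈ Duads ℰ W z five A) (hgt : g * t = t * g)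
    (hne : (V₀).map (MulAut.conj g).toMonoidHom ≠ V₀) {v : G}
    (hv : v ∈ (V₀).map (MulAut.conj g).toMonoidHom) (hvc : IsConj z v) :
    v ∉ Subgroup.normalizer ((V₀ : Subgroup G) : Set G) := by
  intro hvN
  have hv2 : v * v = 1 := by rw [← pow_two]; exact (F.conj_elem g).2 v hv
  have hone : (V₀).map (MulAut.conj (1 : G)).toMonoidHom = V₀ := by
    ext x
    simp
  have hsize : 2 ^ 11 ≤ Nat.card ↥(V₀ ⊓ Subgroup.centralizer ({v} : Set G)) *
      Nat.card ↥(V₀ ⊓ Subgroup.centralizer ({v} : Set G)) := by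
    have := F.card_sq_ge 1 (v := v) (by rw [hone]; exact hvN) hv2
    rwa [hone] at this
  obtain ⟨z0, hz0, hz0c⟩ : ∃ z0 ∈ V₀ ⊓ Subgroup.centralizer ({v} : Set G), IsConj z z0 := by
    by_contra hcon
    push Not at hcon
    have := F.data.pure_le_four 1 (K := V₀ ⊓ Subgroup.centralizer ({v} : Set G))
      (by rw [hone]; exact inf_le_left) fun k hk _ => hcon k hk
    have := Nat.mul_le_mul this this
    omega
  obtain ⟨n, hn, rfl⟩ := F.data.transZ z0 hz0.1 hz0c
  have hn' := inv_mem hn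
  have htn : n⁻¹ * t * n ∈ Duads ℰ W z five A := by simpa using F.data.duad_conj hn' ht
  have hnV : ∀ x ∈ V₀, n * x * n⁻¹ ∈ V₀ := fun x hx => (Subgroup.mem_normalizer_iff.mp hn x).mp hx
  have hnV' : ∀ x ∈ V₀, n⁻¹ * x * n ∈ V₀ := fun x hx => by
    simpa using (Subgroup.mem_normalizer_iff.mp hn' x).mp hx
  have hmapn : ∀ x, x ∈ (V₀).map (MulAut.conj (n⁻¹ * g * n)).toMonoidHom ↔
      n * x * n⁻¹ ∈ (V₀).map (MulAut.conj g).toMonoidHom := by
    intro x
    simp only [Subgroup.mem_map, MulEquiv.coe_toMonoidHom, MulAut.conj_apply]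
    constructor
    · rintro ⟨y, hy, rfl⟩
      exact ⟨n * y * n⁻¹, hnV y hy, by group⟩
    · rintro ⟨y, hy, e⟩
      refine ⟨n⁻¹ * y * n, hnV' y hy, ?_⟩
      rw [show x = n⁻¹ * (n * x * n⁻¹) * n by group, ← e]
      group
  refine F.bound_at_z (n⁻¹ * g * n) htn ?_ ?_ (v := n⁻¹ * v * n) ?_ ?_ ?_
  · calc n⁻¹ * g * n * (n⁻¹ * t * n) = n⁻¹ * (g * t) * n := by group
      _ = n⁻¹ * (t * g) * n := by rw [hgt]
      _ = n⁻¹ * t * n * (n⁻¹ * g * n) := by group
  · intro e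
    refine hne ((Subgroup.eq_of_le_of_card_ge ?_ (by rw [F.card_conj g, F.data.hT.card_V])).symm)
    intro y hy
    have := (hmapn (n⁻¹ * y * n)).mp (e.symm ▸ hnV' y hy)
    rwa [show n * (n⁻¹ * y * n) * n⁻¹ = y by group] at this
  · rw [hmapn, show n * (n⁻¹ * v * n) * n⁻¹ = v by group]
    exact hv
  · rw [← DuadData.conj_z_iff F.data n, show n * (n⁻¹ * v * n) * n⁻¹ = v by group]
    exact hvc
  · calc n⁻¹ * v * n * z = n⁻¹ * (v * (n * z * n⁻¹)) * n := by group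
      _ = n⁻¹ * ((n * z * n⁻¹) * v) * n := by
        rw [← Subgroup.mem_centralizer_singleton_iff.mp hz0.2]
      _ = z * (n⁻¹ * v * n) := by group

end DuadFrame

end CfsgLib.JFour
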