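import Cfsg.Agent.Lib.JFour.DuadBound

/-!
# Groups of Janko-four type: the centralizer of a duad normalizes `V`

If `x` centralises the duad `t` and moves `V`, two conjugates of `z`, in `V` and in `V ^ x`, with
different six-patterns on `V ∩ V ^ x` generate a dihedral group in the centralizer of `V ∩ V ^ x`.
They are not conjugate there, so it has a central involution, which then lies in `V ∩ V ^ x`, and
multiplying by it breaks the patterns.
-/

set_option autoImplicit false
set_option linter.unusedSectionVars false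
set_option linter.style.haveILetI false

open Cfsg
open CfsgLib.JFour.HexFrame CfsgLib.JFour.HexTransitive

namespace CfsgLib.JFour

/-- In a dihedral group every `a (a c) ^ k` is conjugate to `a` or to `c`. -/
theorem dihedral_conj {G : Type*} [Group G] {a c : G} (ha : a * a = 1) (hc : c * c = 1) (K : Subgroup G)
    (haK : a ∈ K) (hcK : c ∈ K) (k : ℕ) :
    ∃ m ∈ K, m * a * m⁻¹ = a * (a * c) ^ k ∨ m * c * m⁻¹ = a * (a * c) ^ k := by
  have haw : a * (a * c) = c := by rw [← mul_assoc, ha, one_mul]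
  have hconj : a * (a * c) * a⁻¹ = (a * c)⁻¹ := by
    rw [haw, inv_eq_of_mul_eq_one_right ha, mul_inv_rev, inv_eq_of_mul_eq_one_right hc,
      inv_eq_of_mul_eq_one_right ha]
  have hpow : ∀ i : ℕ, ((a * c) ^ i)⁻¹ * a = a * (a * c) ^ i := by
    intro i
    have h1 : a * (a * c) ^ i * a⁻¹ = ((a * c) ^ i)⁻¹ := by rw [← conj_pow, hconj, inv_pow]
    rw [← h1, inv_mul_cancel_right]
  rcases Nat.even_or_odd' k with ⟨i, hk | hk⟩
  · refine ⟨((a * c) ^ i)⁻¹, inv_mem (pow_mem (mul_mem haK hcK) i), Or.inl ?_⟩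
    rw [inv_inv, hk, hpow, two_mul, pow_add, mul_assoc]
  · refine ⟨((a * c) ^ i)⁻¹, inv_mem (pow_mem (mul_mem haK hcK) i), Or.inr ?_⟩
    rw [inv_inv, hk]
    calc ((a * c) ^ i)⁻¹ * c * (a * c) ^ i = ((a * c) ^ i)⁻¹ * a * ((a * c) * (a * c) ^ i) := by
          rw [← mul_assoc (((a * c) ^ i)⁻¹ * a), mul_assoc ((a * c) ^ i)⁻¹ a (a * c), haw]
      _ = a * ((a * c) ^ i * ((a * c) * (a * c) ^ i)) := by rw [hpow, mul_assoc]
      _ = a * (a * c) ^ (2 * i + 1) := by
          rw [← pow_succ', ← pow_add, show i + (i + 1) = 2 * i + 1 by omega]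

variable {G : Type*} [Group G] {z : G} {P N : Subgroup G}

namespace DuadData

variable [Finite G] {E R W M0 : Subgroup G} {five : Set (Subgroup G)} {A : Set G}
  (D : DuadData E R P W M0 z five A)
include D

theorem conj_of_ord {d : G} (hd : d ∈ ordU E W z five) : IsConj z d := by
  have hd1 : d ≠ 1 := fun e => hd.2.1 (e ▸ one_mem _)
  refine (D.iff_conj d (Subgroup.mem_sup_left hd.1) hd1).mpr ?_
  rintro (hs | ho)
  · obtain ⟨Q, hQ, hdQ⟩ := hs.2.2
    exact hd.2.2 Q hQ hdQ
  · exact (D.hT.Orb_sub D.sect ho).2 hd.1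

theorem conj_of_bigV {x : G} (hx : x ∈ bigV E W z A) : IsConj z x := by
  obtain ⟨hV, hU⟩ := D.hT.bigV_sub D.sect hx
  have hx1 : x ≠ 1 := fun e => hU (e ▸ one_mem _)
  refine (D.iff_conj x hV hx1).mpr ?_
  rintro (hs | ho)
  · exact hU hs.1
  · exact Set.disjoint_left.mp (D.hT.disjoint_bigV D.sect).1 hx ho

/-- Some conjugate of `z` in `V` is at six position to `t`. -/
theorem exists_six {t : G} (ht : t ∈ Duads E W z five A) :
    ∃ z0 ∈ HexFrame.U E W ⊔ W, IsConj z z0 ∧ ¬ IsConj z (z0 * t) := by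
  obtain ⟨d, hd⟩ := D.exists_spec
  obtain ⟨n, hn, hnd⟩ := D.transD d (Or.inl hd) t ht
  refine ⟨n * z * n⁻¹, (Subgroup.mem_normalizer_iff.mp hn z).mp D.z_mem_V,
    (D.conj_z_iff n z).mpr (IsConj.refl z), ?_⟩
  rw [← hnd, show n * z * n⁻¹ * (n * d * n⁻¹) = n * (z * d) * n⁻¹ by group, D.conj_z_iff]
  exact D.not_conj_of_duad (Or.inl (D.z_mul_spec hd))

/-- A subgroup without conjugates of `z` is at six position to some conjugate, or some conjugate is
in general position to all its elements; a conjugate in general position to `t` always exists. -/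
theorem exists_patterns {K : Subgroup G} (hKV : K ≤ HexFrame.U E W ⊔ W)
    (hK : ∀ k ∈ K, k ≠ 1 → ¬ IsConj z k) {t : G} (htK : t ∈ K) (ht : t ∈ Duads E W z five A) :
    ((∃ z0 ∈ HexFrame.U E W ⊔ W, IsConj z z0 ∧ ∀ i ∈ K, i ≠ 1 → ¬ IsConj z (z0 * i)) ∧
      ∃ z1 ∈ HexFrame.U E W ⊔ W, IsConj z z1 ∧ IsConj z (z1 * t)) ∨
    ∃ z1 ∈ HexFrame.U E W ⊔ W, IsConj z z1 ∧ ∀ i ∈ K, i ≠ 1 → IsConj z (z1 * i) := by
  classical
  have h := D.hT
  have hF := D.fiveData
  obtain ⟨d0, hd0⟩ := D.exists_spec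
  obtain ⟨n, hn, hnt⟩ := D.transD t ht d0 (Or.inl hd0)
  obtain ⟨-, hd0z, S, hS, hd0S⟩ := hd0
  have hn' := inv_mem hn
  have hnV : ∀ x ∈ HexFrame.U E W ⊔ W, n * x * n⁻¹ ∈ HexFrame.U E W ⊔ W :=
    fun x hx => (Subgroup.mem_normalizer_iff.mp hn x).mp hx
  have hback : ∀ x ∈ HexFrame.U E W ⊔ W, n⁻¹ * x * n ∈ HexFrame.U E W ⊔ W := fun x hx => by
    simpa using (Subgroup.mem_normalizer_iff.mp hn' x).mp hx
  have hbc : ∀ x, IsConj z x → IsConj z (n⁻¹ * x * n) := fun x hx => by
    rw [show n⁻¹ * x * n = n⁻¹ * x * n⁻¹⁻¹ by rw [inv_inv], D.conj_z_iff]; exact hx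
  -- pulling back a witness
  have hpull : ∀ d, IsConj z (d * (n * t * n⁻¹)) → IsConj z (n⁻¹ * d * n * t) := fun d hd => by
    rw [show n⁻¹ * d * n * t = n⁻¹ * (d * (n * t * n⁻¹)) * n by group]; exact hbc _ hd
  obtain ⟨x, hx, hxS⟩ : ∃ x ∈ HexFrame.U E W, x ∉ S := SetLike.not_le_iff_exists.mp fun hle => by
    have := Subgroup.card_le_of_le hle
    rw [h.card_U, (hF.isPt S hS).2] at this
    omega
  by_cases hall : ∀ i ∈ K, n * i * n⁻¹ ∈ HexFrame.U E W
  · refine Or.inl ⟨⟨n⁻¹ * z * n, hback z D.z_mem_V, hbc z (IsConj.refl z), fun i hi hi1 hc => ?_⟩, ?_⟩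
    · have hiD : n * i * n⁻¹ ∈ Duads E W z five A :=
        D.duad_conj hn (D.duad_of_not_conj (hKV hi) hi1 (hK i hi hi1))
      refine D.not_conj_of_duad ((D.z_mul_duad_iff hiD).mpr (hall i hi)) ?_
      rw [show z * (n * i * n⁻¹) = n * (n⁻¹ * z * n * i) * n⁻¹ by group, D.conj_z_iff]
      exact hc
    · obtain ⟨s, hs, h1, h2⟩ := h.exists_ord hF hS hd0S hd0z hx hxS
      refine ⟨n⁻¹ * (x * s) * n, hback _ (Subgroup.mem_sup_left h1.1), hbc _ (D.conj_of_ord h1),
        hpull _ ?_⟩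
      rw [hnt]; exact D.conj_of_ord h2
  · push Not at hall
    obtain ⟨u, huK, huU⟩ := hall
    refine Or.inr ?_
    have hu1 : u ≠ 1 := fun e => huU (by simp [e])
    set u' := n * u * n⁻¹ with hu'
    have hu'O : u' ∈ Orb E A :=
      (D.duad_conj hn (D.duad_of_not_conj (hKV huK) hu1 (hK u huK hu1))).resolve_left
        fun hh => huU hh.1
    have hd0U := (hF.isPt S hS).1.le_U hd0S
    have htu1 : t * u ≠ 1 := fun e => huU (by
      rw [show u' = (n * t * n⁻¹)⁻¹ by rw [hu', show u = t⁻¹ from eq_inv_of_mul_eq_one_right e]; group,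
        hnt]
      exact inv_mem hd0U)
    have hduU : d0 * u' ∉ HexFrame.U E W := fun hh => huU (by simpa using mul_mem (inv_mem hd0U) hh)
    have hduO : d0 * u' ∈ Orb E A := by
      have h1 := D.duad_conj hn
        (D.duad_of_not_conj (hKV (mul_mem htK huK)) htu1 (hK _ (mul_mem htK huK) htu1))
      rw [show n * (t * u) * n⁻¹ = (n * t * n⁻¹) * (n * u * n⁻¹) by group, hnt] at h1
      exact h1.resolve_left fun hh => hduU hh.1
    obtain ⟨a, ha, f, hf, hue⟩ := hu'O
    obtain ⟨b, hb, f', hf', hdue⟩ := hduO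
    have haW := (D.sect.sub a ha).1
    have hcU := h.cmm_mem_U haW hf
    rw [hue, ← mul_assoc] at hdue
    obtain ⟨rfl, hline⟩ := h.section_unique D.sect ha hb (mul_mem hd0U hcU)
      (h.cmm_mem_U (D.sect.sub b hb).1 hf') hdue
    have hd0a : d0 ∈ Line E z a := by
      rw [show d0 = cmm a f' * (cmm a f)⁻¹ by rw [← hline]; group]
      exact mul_mem (h.cmm_mem_Line hf') (inv_mem (h.cmm_mem_Line hf))
    have hSa := h.pt_le (hF.isPt S hS) (h.Line_between haW) hd0S hd0a hd0z
    obtain ⟨y, hy, hya⟩ : ∃ y ∈ HexFrame.U E W, y ∉ Line E z a := SetLike.not_le_iff_exists.mp fun hle => by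
      have := Subgroup.card_le_of_le hle
      rw [h.card_U, h.card_Line haW (D.sect.sub a ha).2] at this
      omega
    obtain ⟨s, hs, h1, h2⟩ := h.exists_ord hF hS hd0S hd0z hy fun hh => hya (hSa hh)
    set d := y * s with hd
    have hdu : IsConj z (d * u') := by
      refine D.conj_of_bigV ⟨a, ha, d * cmm a f, mul_mem h1.1 hcU, fun hh => hya ?_, by rw [hue]; group⟩
      have := mul_mem (mul_mem hh (inv_mem (h.cmm_mem_Line (z := z) hf))) (inv_mem (hSa hs))
      rwa [hd, show y * s * cmm a f * (cmm a f)⁻¹ * s⁻¹ = y by group] at this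
    have hdtu : IsConj z (d * (d0 * u')) := by
      refine D.conj_of_bigV ⟨a, ha, d * d0 * cmm a f, mul_mem (mul_mem h1.1 hd0U) hcU,
        fun hh => hya ?_, by rw [hue]; group⟩
      have := mul_mem (mul_mem (mul_mem hh (inv_mem (h.cmm_mem_Line (z := z) hf))) (inv_mem hd0a))
        (inv_mem (hSa hs))
      rwa [hd, show y * s * d0 * cmm a f * (cmm a f)⁻¹ * d0⁻¹ * s⁻¹ = y by group] at this
    refine ⟨n⁻¹ * d * n, hback _ (Subgroup.mem_sup_left h1.1), hbc _ (D.conj_of_ord h1), fun i hi hi1 => ?_⟩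
    have hi4 : i = t ∨ i = u ∨ i = t * u := by
      have h4 : Nat.card ↥K ≤ 4 := D.pure_le_four 1 (fun k hk => ⟨k, hKV hk, by simp⟩) hK
      by_contra hcon
      push Not at hcon
      have ht1 := D.duad_ne_one ht
      have htu : t ≠ u := fun e => huU (by
        rw [← e] at hu'
        rw [hu', hnt]; exact hd0U)
      have h5 : 5 ≤ Nat.card ↥K := by
        have hsub : ({1, t, u, t * u, i} : Set G) ⊆ K := by
          rintro k (rfl | rfl | rfl | rfl | rfl)
          exacts [one_mem _, htK, huK, mul_mem htK huK, hi]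
        have := Set.ncard_le_ncard hsub (Set.toFinite _)
        rw [Set.ncard_insert_of_notMem (by
              simp [Ne.symm ht1, Ne.symm hu1, Ne.symm htu1, Ne.symm hi1]) (Set.toFinite _),
          Set.ncard_insert_of_notMem (by simp [htu, Ne.symm hcon.1, hu1]) (Set.toFinite _),
          Set.ncard_insert_of_notMem (by simp [Ne.symm hcon.2.1, ht1]) (Set.toFinite _),
          Set.ncard_pair (Ne.symm hcon.2.2), ← Nat.card_coe_set_eq (K : Set G)] at this
        simp only [SetLike.coe_sort_coe] at this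
        omega
      omega
    rcases hi4 with rfl | rfl | rfl
    · exact hpull _ (by rw [hnt]; exact D.conj_of_ord h2)
    · rw [show n⁻¹ * d * n * i = n⁻¹ * (d * (n * i * n⁻¹)) * n by group]
      exact hbc _ hdu
    · rw [show n⁻¹ * d * n * (t * u) = n⁻¹ * (d * ((n * t * n⁻¹) * (n * u * n⁻¹))) * n by group, hnt]
      exact hbc _ hdtu

end DuadData

namespace DuadFrame

variable {π : ↥(Subgroup.centralizer ({z} : Set G)) →* MulAut ↥Spor.M22}
  {M B : Subgroup (MulAut ↥Spor.M22)} {R W : Subgroup G} {five : Set (Subgroup G)} {A : Set G}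
  [Finite G] (F : DuadFrame (P := P) (N := N) π M B R W five A)
include F

set_option quotPrecheck false in
local notation "ℰ" => twoCoreOfCentralizer z
set_option quotPrecheck false in
local notation "V₀" => HexFrame.U (twoCoreOfCentralizer z) W ⊔ W

theorem map_conj_one : (V₀).map (MulAut.conj (1 : G)).toMonoidHom = V₀ := by
  ext x; simp

theorem mem_map_inv {g x : G} (hx : x ∈ (V₀).map (MulAut.conj g).toMonoidHom) : g⁻¹ * x * g ∈ V₀ := by
  obtain ⟨y, hy, rfl⟩ := hx
  simpa [mul_assoc] using hy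

/-- The centralizer of a duad normalizes `V`. -/
theorem centralizer_le_normalizer {t : G} (ht : t ∈ Duads ℰ W z five A) :
    Subgroup.centralizer ({t} : Set G) ≤ Subgroup.normalizer ((V₀ : Subgroup G) : Set G) := by
  classical
  intro x hx
  rw [Subgroup.mem_centralizer_singleton_iff] at hx
  by_contra hxN
  have hne : (V₀).map (MulAut.conj x).toMonoidHom ≠ V₀ := fun e => hxN (F.mem_normalizer_of_map_eq e)
  set W' := (V₀).map (MulAut.conj x).toMonoidHom with hW'
  have htV := (F.data.duad_sub ht).1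
  have ht1 := F.data.duad_ne_one ht
  have htc := F.data.not_conj_of_duad ht
  have htW : t ∈ W' := ⟨t, htV, mul_inv_eq_iff_eq_mul.mpr hx⟩
  have hpure := F.inf_pure x ht hx hne
  set I := V₀ ⊓ W' with hI
  have htI : t ∈ I := ⟨htV, htW⟩
  have hW'sq : ∀ a ∈ W', a * a = 1 := fun a ha => by rw [← pow_two]; exact (F.conj_elem x).2 a ha
  have hW'c : ∀ a ∈ W', ∀ b ∈ W', a * b = b * a := fun a ha b hb =>
    congrArg Subtype.val ((F.conj_elem x).1.is_comm.comm ⟨a, ha⟩ ⟨b, hb⟩)
  set CI := Subgroup.centralizer (I : Set G) with hCI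
  have hVCI : V₀ ≤ CI := fun a ha => Subgroup.mem_centralizer_iff.mpr fun i hi => F.data.V_comm hi.1 ha
  have hWCI : W' ≤ CI := fun a ha => Subgroup.mem_centralizer_iff.mpr fun i hi => hW'c i hi.2 a ha
  -- conjugation in the centralizer of `I` preserves the patterns
  have hpat : ∀ m ∈ CI, ∀ y, ∀ i ∈ I, (IsConj z (m * y * m⁻¹ * i) ↔ IsConj z (y * i)) := by
    intro m hm y i hi
    have hmi : m * i * m⁻¹ = i :=
      mul_inv_eq_iff_eq_mul.mpr (Subgroup.mem_centralizer_iff.mp hm i hi).symm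
    rw [show m * y * m⁻¹ * i = m * (y * i) * m⁻¹ by
      conv_lhs => rw [← hmi]
      group]
    exact DuadData.conj_z_iff F.data m _
  -- a conjugate of `z` fixing `t` that normalizes `V` lies in `V`
  have hin : ∀ g, g * t = t * g → ∀ v ∈ (V₀).map (MulAut.conj g).toMonoidHom, IsConj z v →
      v ∈ Subgroup.normalizer ((V₀ : Subgroup G) : Set G) → v ∈ V₀ := by
    intro g hgt v hv hvc hvN
    by_contra hvV
    exact F.not_mem_normalizer g ht hgt (fun e => hvV (e ▸ hv)) hv hvc hvN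
  -- the dihedral argument
  have main : ∀ za ∈ V₀, ∀ zc ∈ W', IsConj z za → IsConj z zc →
      (∃ i ∈ I, ¬ (IsConj z (za * i) ↔ IsConj z (zc * i))) →
      ∃ u ∈ I, u ≠ 1 ∧ IsConj z (zc * u) ∧ IsConj z (za * u) ∧
        ((∀ i ∈ I, (IsConj z (za * u * i) ↔ IsConj z (za * i))) ∨
          (∀ i ∈ I, (IsConj z (za * u * i) ↔ IsConj z (zc * i)))) := by
    intro za hza zc hzc hac hcc hdiff
    have hza2 := F.data.V_sq hza
    have hzc2 := hW'sq zc hzc
    set K := Subgroup.closure ({za, zc} : Set G) with hK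
    have hzaK : za ∈ K := Subgroup.subset_closure (Or.inl rfl)
    have hzcK : zc ∈ K := Subgroup.subset_closure (Or.inr rfl)
    have hKCI : K ≤ CI := (Subgroup.closure_le _).mpr fun y hy => by
      rcases hy with rfl | rfl
      exacts [hVCI hza, hWCI hzc]
    have hKt : ∀ m ∈ K, m * t = t * m := fun m hm =>
      (Subgroup.mem_centralizer_iff.mp (hKCI hm) t htI).symm
    set w := za * zc with hw
    have hww : za * w = zc := by rw [hw, ← mul_assoc, hza2, one_mul]
    rcases Nat.even_or_odd (orderOf w) with ⟨j, hj⟩ | ⟨j, hj⟩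
    swap
    · exfalso
      have hconj : za * w * za⁻¹ = w⁻¹ := by
        rw [hww, inv_eq_of_mul_eq_one_right hza2, hw, mul_inv_rev, inv_eq_of_mul_eq_one_right hzc2,
          inv_eq_of_mul_eq_one_right hza2]
      have hj' : (w ^ j)⁻¹ * za = za * w ^ j := by
        have h1 : za * w ^ j * za⁻¹ = (w ^ j)⁻¹ := by rw [← conj_pow, hconj, inv_pow]
        rw [← h1, inv_mul_cancel_right]
      have e : (w ^ j)⁻¹ * zc * w ^ j = za := by
        calc (w ^ j)⁻¹ * zc * w ^ j = (w ^ j)⁻¹ * za * (w * w ^ j) := by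
              rw [← hww]; group
          _ = za * (w ^ j * (w * w ^ j)) := by rw [hj', mul_assoc]
          _ = za * w ^ (2 * j + 1) := by
              rw [← pow_succ', ← pow_add, show j + (j + 1) = 2 * j + 1 by omega]
          _ = za := by rw [← hj, pow_orderOf_eq_one, mul_one]
      obtain ⟨i, hi, hne'⟩ := hdiff
      refine hne' ?_
      have := hpat (w ^ j)⁻¹ (hKCI (inv_mem (pow_mem (mul_mem hzaK hzcK) j))) zc i hi
      rwa [inv_inv, e] at this
    have hj0 : 0 < j := by have := orderOf_pos w; omega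
    set u := w ^ j with hu
    have hu1 : u ≠ 1 := pow_ne_one_of_lt_orderOf (by omega) (by omega)
    have huu : u * u = 1 := by rw [hu, ← pow_add, ← hj, pow_orderOf_eq_one]
    have huK : u ∈ K := pow_mem (mul_mem hzaK hzcK) j
    have hzau : za * u = u * za := by
      have hconj : za * w * za⁻¹ = w⁻¹ := by
        rw [hww, inv_eq_of_mul_eq_one_right hza2, hw, mul_inv_rev, inv_eq_of_mul_eq_one_right hzc2,
          inv_eq_of_mul_eq_one_right hza2]
      have h1 : za * u * za⁻¹ = u := by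
        rw [hu, ← conj_pow, hconj, inv_pow, ← hu, inv_eq_of_mul_eq_one_right huu]
      exact mul_inv_eq_iff_eq_mul.mp h1
    have hzcu : zc * u = u * zc := by
      rw [← hww, mul_assoc, show w * u = u * w from (Commute.self_pow w j).eq, ← mul_assoc, hzau,
        mul_assoc]
    have hzau' : za * u = za * w ^ j := rfl
    have hzcu' : zc * u = za * w ^ (j + 1) := by rw [← hww, mul_assoc, hu, ← pow_succ']
    -- `za * w ^ k` is a conjugate of `z` in a conjugate of `V` by an element fixing `t`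
    have hgood : ∀ k, ∃ m ∈ K, ∃ g, g * t = t * g ∧ za * w ^ k ∈ (V₀).map (MulAut.conj g).toMonoidHom ∧
        IsConj z (za * w ^ k) ∧
        (m * za * m⁻¹ = za * w ^ k ∨ m * zc * m⁻¹ = za * w ^ k) := by
      intro k
      obtain ⟨m, hm, e | e⟩ := dihedral_conj hza2 hzc2 K hzaK hzcK k
      · exact ⟨m, hm, m, hKt m hm, ⟨za, hza, e⟩,
          e ▸ (DuadData.conj_z_iff F.data m za).mpr hac, Or.inl e⟩
      · refine ⟨m, hm, m * x, ?_, ?_, e ▸ (DuadData.conj_z_iff F.data m zc).mpr hcc, Or.inr e⟩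
        · rw [mul_assoc, hx, ← mul_assoc, hKt m hm, mul_assoc]
        · obtain ⟨y, hy, hye⟩ := hzc
          refine ⟨y, hy, ?_⟩
          rw [← e, ← hye]
          simp [mul_assoc]
    obtain ⟨m, hm, g, hgt, hmem, hconjv, hor⟩ := hgood j
    have hzat : za * t = t * za := F.data.V_comm hza htV
    have hzaN : za ∈ Subgroup.normalizer ((V₀ : Subgroup G) : Set G) := Subgroup.le_normalizer hza
    have huN : u ∈ Subgroup.normalizer ((V₀ : Subgroup G) : Set G) :=
      F.stab hza hac ht hzau.symm (hKt u huK)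
    have huV : u ∈ V₀ := by
      have h1 := hin g hgt _ hmem hconjv (mul_mem hzaN huN)
      have := mul_mem hza h1
      rwa [← hu, ← mul_assoc, hza2, one_mul] at this
    obtain ⟨m', hm', g', hgt', hmem', hconjv', -⟩ := hgood (j + 1)
    rw [← hzcu'] at hmem' hconjv'
    have huW : u ∈ W' := by
      have hxt : x⁻¹ * t = t * x⁻¹ := by rw [eq_mul_inv_iff_mul_eq, mul_assoc, ← hx, inv_mul_cancel_left]
      have hzcN : zc * u ∈ Subgroup.normalizer ((W' : Subgroup G) : Set G) :=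
        mul_mem (Subgroup.le_normalizer hzc)
          (F.stab_conj x hzc hcc htW ht1 htc hzcu.symm (hKt u huK))
      have hback : x⁻¹ * (zc * u) * x ∈ Subgroup.normalizer ((V₀ : Subgroup G) : Set G) := by
        refine Subgroup.mem_normalizer_fintype fun y hy => ?_
        have h1 := (Subgroup.mem_normalizer_iff.mp hzcN (x * y * x⁻¹)).mp ⟨y, hy, rfl⟩
        have h2 := F.mem_map_inv h1
        show x⁻¹ * (zc * u) * x * y * (x⁻¹ * (zc * u) * x)⁻¹ ∈ V₀
        rwa [show x⁻¹ * (zc * u * (x * y * x⁻¹) * (zc * u)⁻¹) * x =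
          x⁻¹ * (zc * u) * x * y * (x⁻¹ * (zc * u) * x)⁻¹ by group] at h2
      have hmem2 : x⁻¹ * (zc * u) * x ∈ (V₀).map (MulAut.conj (x⁻¹ * g')).toMonoidHom := by
        obtain ⟨y, hy, hye⟩ := hmem'
        refine ⟨y, hy, ?_⟩
        rw [← hye]
        simp [mul_assoc]
      have hc2 : IsConj z (x⁻¹ * (zc * u) * x) := by
        rw [show x⁻¹ * (zc * u) * x = x⁻¹ * (zc * u) * x⁻¹⁻¹ by rw [inv_inv],
          DuadData.conj_z_iff F.data]
        exact hconjv'
      have h3 := hin (x⁻¹ * g') (by rw [mul_assoc, hgt', ← mul_assoc, hxt, mul_assoc]) _ hmem2 hc2 hback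
      have h4 : zc * u ∈ W' := ⟨_, h3, by simp [mul_assoc]⟩
      have := mul_mem hzc h4
      rwa [← mul_assoc, hzc2, one_mul] at this
    refine ⟨u, ⟨huV, huW⟩, hu1, hconjv', hconjv, ?_⟩
    rcases hor with e | e
    · exact Or.inl fun i hi => by rw [hzau', ← e]; exact hpat m (hKCI hm) za i hi
    · exact Or.inr fun i hi => by rw [hzau', ← e]; exact hpat m (hKCI hm) zc i hi
  -- patterns in `V` and in `V ^ x`
  have hIV : I ≤ V₀ := inf_le_left
  set I' := I.map (MulAut.conj x⁻¹).toMonoidHom with hI'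
  have hI'V : I' ≤ V₀ := by
    rintro _ ⟨i, hi, rfl⟩
    simpa [mul_assoc] using F.mem_map_inv hi.2
  have hI'pure : ∀ k ∈ I', k ≠ 1 → ¬ IsConj z k := by
    rintro _ ⟨i, hi, rfl⟩ - hc
    exact hpure i hi ((DuadData.conj_z_iff F.data x⁻¹ i).mp hc)
  have htI' : t ∈ I' := by
    refine ⟨t, htI, ?_⟩
    show x⁻¹ * t * x⁻¹⁻¹ = t
    rw [inv_inv, mul_assoc, ← hx, inv_mul_cancel_left]
  have htrans : ∀ y i, IsConj z (x * y * x⁻¹ * i) ↔ IsConj z (y * (x⁻¹ * i * x⁻¹⁻¹)) := fun y i => by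
    rw [← DuadData.conj_z_iff F.data x (y * (x⁻¹ * i * x⁻¹⁻¹))]
    group
  have hI'mem : ∀ i ∈ I, x⁻¹ * i * x⁻¹⁻¹ ∈ I' := fun i hi => ⟨i, hi, rfl⟩
  have hlift : ∀ y ∈ V₀, x * y * x⁻¹ ∈ W' := fun y hy => ⟨y, hy, rfl⟩
  have htx : x⁻¹ * t * x⁻¹⁻¹ = t := by rw [inv_inv, mul_assoc, ← hx, inv_mul_cancel_left]
  have hlc : ∀ y, IsConj z y → IsConj z (x * y * x⁻¹) := fun y hy =>
    (DuadData.conj_z_iff F.data x y).mpr hy
  have hIp : ∀ k ∈ I, k ≠ 1 → ¬ IsConj z k := fun k hk _ => hpure k hk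
  by_cases hallV : ∃ za ∈ V₀, IsConj z za ∧ ∀ i ∈ I, i ≠ 1 → ¬ IsConj z (za * i)
  · obtain ⟨za, hza, hac, hall⟩ := hallV
    obtain ⟨y, hy, hyc, hyt⟩ : ∃ y ∈ V₀, IsConj z y ∧ IsConj z (y * t) := by
      rcases F.data.exists_patterns hI'V hI'pure htI' ht with ⟨-, y, hy, hyc, hyt⟩ | ⟨y, hy, hyc, hyt⟩
      · exact ⟨y, hy, hyc, hyt⟩
      · exact ⟨y, hy, hyc, hyt t htI' ht1⟩
    obtain ⟨u, hu, hu1, -, huc, -⟩ := main za hza _ (hlift y hy) hac (hlc y hyc)
      ⟨t, htI, fun h => hall t htI ht1 (h.mpr ((htrans y t).mpr (by rw [htx]; exact hyt)))⟩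
    exact hall u hu hu1 huc
  rcases F.data.exists_patterns hI'V hI'pure htI' ht with ⟨⟨y, hy, hyc, hall⟩, -⟩ | ⟨y, hy, hyc, hnone⟩
  · obtain ⟨za, hza, hac, hzat⟩ : ∃ za ∈ V₀, IsConj z za ∧ IsConj z (za * t) := by
      rcases F.data.exists_patterns hIV hIp htI ht with ⟨-, za, hza, hac, h⟩ | ⟨za, hza, hac, h⟩
      · exact ⟨za, hza, hac, h⟩
      · exact ⟨za, hza, hac, h t htI ht1⟩
    have hall' : ∀ i ∈ I, i ≠ 1 → ¬ IsConj z (x * y * x⁻¹ * i) := fun i hi hi1 hc =>
      hall _ (hI'mem i hi) (fun e => hi1 (conj_eq_one_iff.mp e)) ((htrans y i).mp hc)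
    obtain ⟨u, hu, hu1, huc, -, -⟩ := main za hza _ (hlift y hy) hac (hlc y hyc)
      ⟨t, htI, fun h => hall' t htI ht1 (h.mp hzat)⟩
    exact hall' u hu hu1 huc
  · obtain ⟨za, hza, hac, hzat⟩ := F.data.exists_six ht
    have hnone' : ∀ i ∈ I, i ≠ 1 → IsConj z (x * y * x⁻¹ * i) := fun i hi hi1 =>
      (htrans y i).mpr (hnone _ (hI'mem i hi) fun e => hi1 (conj_eq_one_iff.mp e))
    obtain ⟨u, hu, hu1, -, huc, hor⟩ := main za hza _ (hlift y hy) hac (hlc y hyc)
      ⟨t, htI, fun h => hzat (h.mpr (hnone' t htI ht1))⟩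
    have hut : u ≠ t := fun e => hzat (e ▸ huc)
    have hut1 : u * t ≠ 1 := fun e => hut (by
      rw [eq_inv_of_mul_eq_one_left e]; exact inv_eq_of_mul_eq_one_right (F.data.V_sq htV))
    -- `za` is at six position to `t` only
    have honly : ∀ i ∈ I, i ≠ 1 → i ≠ t → IsConj z (za * i) := by
      intro i hi hi1 hit
      by_contra hc
      refine hallV ⟨za, hza, hac, fun j hj hj1 hjc => ?_⟩
      have hit1 : t * i ≠ 1 := fun e => hit (by
        rw [eq_inv_of_mul_eq_one_right e]; exact inv_eq_of_mul_eq_one_right (F.data.V_sq htV))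
      have hD : ∀ k ∈ I, k ≠ 1 → k ∈ Duads ℰ W z five A := fun k hk hk1 =>
        F.data.duad_of_not_conj hk.1 hk1 (hpure k hk)
      have hD' : ∀ k ∈ I, k ≠ 1 → ¬ IsConj z (za * k) → za * k ∈ Duads ℰ W z five A :=
        fun k hk hk1 hkc => F.data.duad_of_not_conj (mul_mem hza hk.1) (fun e => hpure k hk (by
          rw [eq_inv_of_mul_eq_one_right e, inv_eq_of_mul_eq_one_right (F.data.V_sq hza)]
          exact hac)) hkc
      have hti := F.data.six_closed hza hac (hD t htI ht1) (hD i hi hi1)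
        (hD _ (mul_mem htI hi) hit1) (hD' t htI ht1 hzat) (hD' i hi hi1 hc)
      have hI4 : Nat.card ↥I ≤ 4 := F.data.pure_le_four x inf_le_right hIp
      have : j = t ∨ j = i ∨ j = t * i := by
        by_contra hcon
        push Not at hcon
        have hsub : ({1, t, i, t * i, j} : Set G) ⊆ I := by
          rintro k (rfl | rfl | rfl | rfl | rfl)
          exacts [one_mem _, htI, hi, mul_mem htI hi, hj]
        have h5 := Set.ncard_le_ncard hsub (Set.toFinite _)
        rw [Set.ncard_insert_of_notMem (by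
              simp [Ne.symm ht1, Ne.symm hi1, Ne.symm hit1, Ne.symm hj1]) (Set.toFinite _),
          Set.ncard_insert_of_notMem (by simp [Ne.symm hit, Ne.symm hcon.1, hi1]) (Set.toFinite _),
          Set.ncard_insert_of_notMem (by simp [Ne.symm hcon.2.1, ht1]) (Set.toFinite _),
          Set.ncard_pair (Ne.symm hcon.2.2), ← Nat.card_coe_set_eq (I : Set G)] at h5
        simp only [SetLike.coe_sort_coe] at h5
        omega
      rcases this with rfl | rfl | rfl
      · exact hzat hjc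
      · exact hc hjc
      · exact F.data.not_conj_of_duad hti hjc
    rcases hor with hor | hor
    · refine hzat ((hor t htI).mp ?_)
      rw [mul_assoc]
      exact honly _ (mul_mem hu htI) hut1 (fun e => hu1 (mul_eq_right.mp e))
    · refine hzat ?_
      have h1 := (hor (u * t) (mul_mem hu htI)).mpr (hnone' _ (mul_mem hu htI) hut1)
      rwa [mul_assoc za u, ← mul_assoc u u, F.data.V_sq hu.1, one_mul] at h1

end DuadFrame

end CfsgLib.JFour
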