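import Cfsg.Agent.Lib.JFour.HexadPerm
import Cfsg.Agent.Lib.JFour.HexadData

/-!
The automorphism group of `M22` has a hexad group with its normalizer and Sylow 3-subgroup.
-/

set_option autoImplicit false
set_option maxRecDepth 100000

open Cfsg CfsgLib.Golay
open scoped Pointwise

namespace CfsgLib.JFour

open HexadPerm

local notation "PP" => Equiv.Perm GolayPt
set_option quotPrecheck false in
local notation "HH" => (↥(HexadPerm.pairStab) : Type)

theorem card_HH : Nat.card HH = 887040 := card_pairStab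

/-- Conjugation in the stabiliser of the pair gives every automorphism of `M22`. -/
theorem exists_equiv : Nonempty (HH ≃* MulAut ↥Spor.M22) := by
  classical
  have hnorm : ∀ h ∈ pairStab, ∀ x ∈ twoFix, h * x * h⁻¹ ∈ twoFix := by
    intro h hh x hx
    obtain ⟨hxp, hx0⟩ := mem_twoFix.1 hx
    obtain ⟨-, hi⟩ := mem_pairStab.1 (inv_mem hh)
    refine mem_twoFix.2 ⟨mul_mem (mul_mem hh hxp) (inv_mem hh), ?_⟩
    have hx23 : x (pt 23) = pt 23 := by
      rcases (mem_pairStab.1 hxp).2 with k | k
      · exact k.2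
      · exact absurd (hx0.symm.trans k.1) pt_zero_ne
    rcases hi with k | k <;>
      rw [Equiv.Perm.mul_apply, Equiv.Perm.mul_apply, k.1]
    · rw [hx0]
      conv_lhs => rw [← k.1]
      exact h.apply_symm_apply _
    · rw [hx23]
      conv_lhs => rw [← k.1]
      exact h.apply_symm_apply _
  have h2 : ∀ h : HH, ∀ x ∈ Spor.M22, (h : PP)⁻¹ * x * h ∈ Spor.M22 := fun h x hx => by
    have := hnorm (h : PP)⁻¹ (inv_mem h.2) x hx
    rwa [inv_inv] at this
  let φ : HH →* MulAut ↥Spor.M22 :=
    { toFun := fun h => CfsgLib.OutMathieu.conjOn Spor.M22 h (hnorm h h.2) (h2 h)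
      map_one' := MulEquiv.ext fun x => Subtype.ext (by simp [CfsgLib.OutMathieu.conjOn])
      map_mul' := fun a b => MulEquiv.ext fun x => Subtype.ext (by
        simp [CfsgLib.OutMathieu.conjOn, mul_assoc]) }
  have hinj : Function.Injective φ := by
    rw [injective_iff_map_eq_one]
    intro h hh
    by_cases hf : (h : PP) (pt 0) = pt 0
    · have hmem : (h : PP) ∈ Spor.M22 := mem_twoFix.2 ⟨h.2, hf⟩
      have hc : (⟨(h : PP), hmem⟩ : ↥Spor.M22) ∈ Subgroup.center ↥Spor.M22 := by
        rw [Subgroup.mem_center_iff]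
        intro x
        have e : (h : PP) * x * (h : PP)⁻¹ = x := congrArg (fun f : MulAut ↥Spor.M22 => ((f x : ↥Spor.M22) : PP)) hh
        exact Subtype.ext (mul_inv_eq_iff_eq_mul.1 e).symm
      rw [center_mTwentyTwo, Subgroup.mem_bot] at hc
      exact Subtype.ext (congrArg Subtype.val hc : ((⟨(h : PP), hmem⟩ : ↥Spor.M22) : PP) = 1)
    · exfalso
      refine CfsgLib.OutMathieu.conjOn_not_inner (sets := [1, 8388608]) (K := Spor.M22) (S := 1)
        CfsgLib.OutMathieu.M22_eq_stabK (Or.inl rfl) (by simp) (fun s hs => by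
          simp only [List.mem_cons, List.not_mem_nil, or_false] at hs
          rcases hs with rfl | rfl
          · exact Or.inl rfl
          · exact Or.inr (Or.inl rfl)) ((mem_pairStab.1 h.2).1) ?_ (hnorm h h.2) (h2 h) ?_
      · rw [show (1 : ℕ) = 2 ^ 0 from rfl, unmask_two_pow_of_lt (by norm_num), Finset.smul_finset_singleton,
          Ne, Finset.singleton_inj]
        exact hf
      · show φ h ∈ Inn ↥Spor.M22
        rw [hh]
        exact one_mem _
  haveI : Finite (MulAut ↥Spor.M22) :=
    Nat.finite_of_card_ne_zero (by rw [card_mulAut_mTwentyTwo]; norm_num)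
  exact ⟨MulEquiv.ofBijective φ ((Nat.bijective_iff_injective_and_card φ).2
    ⟨hinj, by rw [card_HH, card_mulAut_mTwentyTwo]⟩)⟩

theorem hexadData_HH : HexadData (twoFix.subgroupOf pairStab) (hexStab.subgroupOf pairStab)
    (hexGrp.subgroupOf pairStab) := by
  classical
  have hI : Nat.card ↥(twoFix.subgroupOf pairStab) = 443520 :=
    (Nat.card_congr (Subgroup.subgroupOfEquivOfLe twoFix_le).toEquiv).trans card_twoFix
  have hB : Nat.card ↥(hexGrp.subgroupOf pairStab) = 16 :=
    (Nat.card_congr (Subgroup.subgroupOfEquivOfLe (hexGrp_le.trans hexStab_le)).toEquiv).trans card_hexGrp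
  have hM : Nat.card ↥(hexStab.subgroupOf pairStab) = 11520 :=
    (Nat.card_congr (Subgroup.subgroupOfEquivOfLe hexStab_le).toEquiv).trans card_hexStab
  refine
    { I_index := ?_, I_simple := ?_, I_card := hI, M_eq := ?_, M_index := ?_,
      B_le := fun x hx => hexGrp_le_twoFix hx, B_card := hB, B_elem := ?_, cen_B := ?_, conj_B := ?_,
      cen_inv := ?_, conj_inv := ?_, exists_four := ?_, hexad := ?_, fix_two := ?_, fix_three := ?_,
      syl_three := ?_ }
  · have h := (twoFix.subgroupOf pairStab).card_mul_index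
    rw [hI, card_HH] at h
    omega
  · haveI : IsSimpleGroup ↥twoFix := isSimpleGroup_mTwentyTwo
    exact (Subgroup.subgroupOfEquivOfLe twoFix_le).isSimpleGroup
  · ext g
    rw [Subgroup.mem_subgroupOf, Subgroup.mem_normalizer_iff, mem_hexStab_iff_normalizes g.2]
    constructor
    · intro h b
      exact h b
    · intro h b
      constructor
      · intro hb
        exact (h ⟨b, hexStab_le (hexGrp_le hb)⟩).1 hb
      · intro hb
        have hb' : b ∈ pairStab := by
          have := mul_mem (mul_mem (inv_mem g.2) (hexStab_le (hexGrp_le hb))) g.2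
          simpa [mul_assoc] using this
        exact (h ⟨b, hb'⟩).2 hb
  · have h := (hexStab.subgroupOf pairStab).card_mul_index
    rw [hM, card_HH] at h
    omega
  · exact ⟨⟨⟨fun a b => Subtype.ext (Subtype.ext (hexGrp_comm a.2 b.2))⟩⟩, fun a ha => Subtype.ext (by
      show (a : PP) ^ 2 = 1
      rw [pow_two]
      exact hexGrp_sq ha)⟩
  · intro g hg
    exact cent_hexGrp g.2 fun b hb =>
      (congrArg Subtype.val (hg ⟨b, hexStab_le (hexGrp_le hb)⟩ hb)).symm
  · intro a ha ha1 b hb hb1
    obtain ⟨g, hg, e⟩ := conj_transitive ha (fun k => ha1 (Subtype.ext k)) hb (fun k => hb1 (Subtype.ext k))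
    exact ⟨⟨g, hexStab_le hg.1⟩, ⟨hg.1, hg.2⟩, Subtype.ext e⟩
  · intro b hb hb1 g hg
    exact cent_inv_le hb (fun k => hb1 (Subtype.ext k)) g.2
      (congrArg Subtype.val (Subgroup.mem_centralizer_singleton_iff.1 hg))
  · intro a ha ho
    obtain ⟨b, hb, hb1⟩ := exists_ne_one
    obtain ⟨h2, h1⟩ := orderOf_eq_prime_iff (p := 2) |>.1 ho
    obtain ⟨g, hg, e⟩ := conj_involutions (a := (a : PP)) ha
      (by rw [← pow_two]; exact congrArg Subtype.val h2) (fun k => h1 (Subtype.ext k))
      (hexGrp_le_twoFix hb) (hexGrp_sq hb) hb1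
    exact ⟨⟨g, twoFix_le hg⟩, hg, show g * (a : PP) * g⁻¹ ∈ hexGrp by rw [e]; exact hb⟩
  · obtain ⟨v, hv, ho⟩ := HexadPerm.exists_four
    exact ⟨⟨v, twoFix_le hv⟩, hv, by rw [← Subgroup.orderOf_coe]; exact ho⟩
  · let e := Subgroup.subgroupOfEquivOfLe hexStab_le
    refine ⟨sixHom.comp e.toMonoidHom, sixHom_surjective.comp e.surjective, ?_, ?_⟩
    · ext g
      rw [MonoidHom.mem_ker, MonoidHom.comp_apply]
      show sixHom (e g) = 1 ↔ _
      rw [← MonoidHom.mem_ker, ker_sixHom]
      exact Iff.rfl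
    · rw [← Subgroup.map_map, ← image_even]
      congr 1
      ext x
      constructor
      · rintro ⟨y, hy, rfl⟩
        exact hy
      · intro hx
        exact ⟨e.symm x, hx, e.apply_symm_apply x⟩
  · intro a ha haB ha2
    have h := HexadPerm.fix_two (a := (a : PP)) ha.1 ha.2 haB ha2
    rw [← h]
    exact Nat.card_congr
      { toFun := fun b => ⟨(b.1 : PP), b.2.1, Subgroup.mem_centralizer_singleton_iff.2
          (congrArg Subtype.val (Subgroup.mem_centralizer_singleton_iff.1 b.2.2))⟩
        invFun := fun b => ⟨⟨b.1, hexStab_le (hexGrp_le b.2.1)⟩, b.2.1, Subgroup.mem_centralizer_singleton_iff.2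
          (Subtype.ext (Subgroup.mem_centralizer_singleton_iff.1 b.2.2))⟩
        left_inv := fun b => rfl
        right_inv := fun b => rfl }
  · intro a ha ho
    have h := HexadPerm.fix_three (p := (a : PP)) ha.1 ha.2 (by rw [Subgroup.orderOf_coe]; exact ho)
    have e : Nat.card ↥(hexGrp.subgroupOf pairStab ⊓ Subgroup.centralizer ({a} : Set HH)) =
        Nat.card ↥(hexGrp ⊓ Subgroup.centralizer ({(a : PP)} : Set PP)) := Nat.card_congr
      { toFun := fun b => ⟨(b.1 : PP), b.2.1, Subgroup.mem_centralizer_singleton_iff.2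
          (congrArg Subtype.val (Subgroup.mem_centralizer_singleton_iff.1 b.2.2))⟩
        invFun := fun b => ⟨⟨b.1, hexStab_le (hexGrp_le b.2.1)⟩, b.2.1, Subgroup.mem_centralizer_singleton_iff.2
          (Subtype.ext (Subgroup.mem_centralizer_singleton_iff.1 b.2.2))⟩
        left_inv := fun b => rfl
        right_inv := fun b => rfl }
    rw [e]
    exact h
  · obtain ⟨R, hle, hcard, hcube, hcen, hN, htr⟩ := three_group
    have hRH : R ≤ pairStab := fun r hr => hexStab_le (hle hr).1
    have hnorm : (Subgroup.normalizer ((R.subgroupOf pairStab : Subgroup HH) : Set HH)) =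
        (pairStab ⊓ Subgroup.normalizer (R : Set PP)).subgroupOf pairStab := by
      ext g
      rw [Subgroup.mem_normalizer_iff, Subgroup.mem_subgroupOf, Subgroup.mem_inf,
        and_iff_right g.2, Subgroup.mem_normalizer_iff]
      constructor
      · intro h r
        constructor
        · intro hr
          exact (h ⟨r, hRH hr⟩).1 hr
        · intro hr
          have hr' : r ∈ pairStab := by
            have := mul_mem (mul_mem (inv_mem g.2) (hRH hr)) g.2
            simpa [mul_assoc] using this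
          exact (h ⟨r, hr'⟩).2 hr
      · intro h r
        exact h r
    refine ⟨R.subgroupOf pairStab, fun x hx => ⟨(hle hx).1, (hle hx).2⟩,
      (Nat.card_congr (Subgroup.subgroupOfEquivOfLe hRH).toEquiv).trans hcard,
      fun r hr => Subtype.ext (hcube r hr),
      fun g hg => hcen g g.2 fun r hr => (congrArg Subtype.val (hg ⟨r, hRH hr⟩ hr)).symm, ?_, ?_⟩
    · rw [hnorm, Nat.card_congr (Subgroup.subgroupOfEquivOfLe inf_le_left).toEquiv, hN]
    · intro a ha ha1 b hb hb1
      obtain ⟨g, hgN, hgI, e⟩ := htr a ha (fun k => ha1 (Subtype.ext k)) b hb (fun k => hb1 (Subtype.ext k))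
      refine ⟨⟨g, twoFix_le hgI⟩, ⟨?_, hgI⟩, Subtype.ext e⟩
      rw [hnorm]
      exact ⟨twoFix_le hgI, hgN⟩

/-- The data is preserved by isomorphisms. -/
theorem HexadData.map_equiv {A A' : Type*} [Group A] [Group A'] {I M B : Subgroup A} (h : HexadData I M B)
    (e : A ≃* A') : HexadData (I.map e.toMonoidHom) (M.map e.toMonoidHom) (B.map e.toMonoidHom) := by
  classical
  have hm : ∀ {X : Subgroup A} {x : A}, e x ∈ X.map e.toMonoidHom ↔ x ∈ X := fun {X x} =>
    ⟨fun ⟨y, hy, hye⟩ => e.injective hye ▸ hy, fun hx => ⟨x, hx, rfl⟩⟩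
  have hc : ∀ X : Subgroup A, Nat.card ↥(X.map e.toMonoidHom) = Nat.card ↥X := fun X =>
    Subgroup.card_map_of_injective e.injective
  have hi : ∀ X : Subgroup A, (X.map e.toMonoidHom).index = X.index := fun X => Subgroup.index_map_equiv X e
  have hinf : ∀ X Y : Subgroup A, X.map e.toMonoidHom ⊓ Y.map e.toMonoidHom = (X ⊓ Y).map e.toMonoidHom :=
    fun X Y => (Subgroup.map_inf X Y _ e.injective).symm
  have hcen : ∀ s : A, Subgroup.centralizer ({e s} : Set A') =
      (Subgroup.centralizer ({s} : Set A)).map e.toMonoidHom := by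
    intro s
    ext y
    obtain ⟨x, rfl⟩ := e.surjective y
    rw [hm, Subgroup.mem_centralizer_singleton_iff, Subgroup.mem_centralizer_singleton_iff, ← map_mul, ← map_mul,
      e.injective.eq_iff]
  have hcenS : ∀ X : Subgroup A, Subgroup.centralizer ((X.map e.toMonoidHom : Subgroup A') : Set A') =
      (Subgroup.centralizer (X : Set A)).map e.toMonoidHom := by
    intro X
    ext y
    obtain ⟨x, rfl⟩ := e.surjective y
    rw [hm, Subgroup.mem_centralizer_iff, Subgroup.mem_centralizer_iff]
    constructor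
    · intro hy z hz
      exact e.injective (by rw [map_mul, map_mul]; exact hy (e z) (hm.2 hz))
    · rintro hy _ ⟨z, hz, rfl⟩
      show e z * e x = e x * e z
      rw [← map_mul, ← map_mul, hy z hz]
  have hnor : ∀ X : Subgroup A, Subgroup.normalizer ((X.map e.toMonoidHom : Subgroup A') : Set A') =
      (Subgroup.normalizer (X : Set A)).map e.toMonoidHom := fun X => by
    rw [Subgroup.map_equiv_normalizer_eq]
  refine
    { I_index := by rw [hi, h.I_index]
      I_simple := ?_
      I_card := by rw [hc, h.I_card]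
      M_eq := by rw [hnor, ← h.M_eq]
      M_index := by rw [hi, h.M_index]
      B_le := Subgroup.map_mono h.B_le
      B_card := by rw [hc, h.B_card]
      B_elem := ?_
      cen_B := by rw [hcenS]; exact Subgroup.map_mono h.cen_B
      conj_B := ?_
      cen_inv := ?_
      conj_inv := ?_
      exists_four := ?_
      hexad := ?_
      fix_two := ?_
      fix_three := ?_
      syl_three := ?_ }
  · haveI := h.I_simple
    exact (e.subgroupMap I).symm.isSimpleGroup
  · obtain ⟨hcomm, hsq⟩ := h.B_elem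
    refine ⟨⟨⟨?_⟩⟩, ?_⟩
    · rintro ⟨_, x, hx, rfl⟩ ⟨_, y, hy, rfl⟩
      refine Subtype.ext ?_
      show e x * e y = e y * e x
      rw [← map_mul, ← map_mul]
      exact congrArg e (congrArg Subtype.val (mul_comm' (⟨x, hx⟩ : B) ⟨y, hy⟩))
    · rintro _ ⟨x, hx, rfl⟩
      show e x ^ 2 = 1
      rw [← map_pow, hsq x hx, map_one]
  · rintro _ ⟨a, ha, rfl⟩ ha1 _ ⟨b, hb, rfl⟩ hb1
    obtain ⟨g, hg, rfl⟩ := h.conj_B a ha (fun k => ha1 (by rw [k]; exact map_one e)) b hb
      (fun k => hb1 (by rw [k]; exact map_one e))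
    rw [hinf]
    exact ⟨e g, ⟨g, hg, rfl⟩, by simp⟩
  · rintro _ ⟨b, hb, rfl⟩ hb1
    show Subgroup.centralizer ({e b} : Set A') ≤ _
    rw [hcen]
    exact Subgroup.map_mono (h.cen_inv b hb fun k => hb1 (by rw [k]; exact map_one e))
  · rintro _ ⟨a, ha, rfl⟩ ho
    obtain ⟨g, hg, hgB⟩ := h.conj_inv a ha (by rw [← MulEquiv.orderOf_eq e a]; exact ho)
    exact ⟨e g, ⟨g, hg, rfl⟩, ⟨_, hgB, by simp⟩⟩
  · obtain ⟨v, hv, ho⟩ := h.exists_four
    exact ⟨e v, ⟨v, hv, rfl⟩, by rw [MulEquiv.orderOf_eq e v]; exact ho⟩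
  · obtain ⟨f, hf, hker, himg⟩ := h.hexad
    let es : ↥(M.map e.toMonoidHom) →* ↥M :=
      (Subgroup.equivMapOfInjective M e.toMonoidHom e.injective).symm.toMonoidHom
    have hes : ∀ g, e ((es g : ↥M) : A) = g := fun g => by
      conv_rhs => rw [← (Subgroup.equivMapOfInjective M e.toMonoidHom e.injective).apply_symm_apply g]
      rfl
    refine ⟨f.comp es, hf.comp (Subgroup.equivMapOfInjective M e.toMonoidHom e.injective).symm.surjective, ?_, ?_⟩
    · ext g
      have h1 : g ∈ (f.comp es).ker ↔ es g ∈ f.ker := Iff.rfl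
      rw [h1, hker, Subgroup.mem_subgroupOf, Subgroup.mem_subgroupOf, ← hes g, hm]
    · rw [← himg, ← Subgroup.map_map]
      congr 1
      ext x
      constructor
      · rintro ⟨y, hy, rfl⟩
        rw [SetLike.mem_coe, Subgroup.mem_subgroupOf] at hy
        rw [Subgroup.mem_subgroupOf]
        rw [← hes y] at hy
        exact hm.1 hy
      · intro hx
        refine ⟨Subgroup.equivMapOfInjective M e.toMonoidHom e.injective x, ?_, MulEquiv.symm_apply_apply _ _⟩
        exact hm.2 hx
  · intro a ha haB ha2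
    obtain ⟨x, rfl⟩ := e.surjective a
    rw [hcen, hinf, hc]
    exact h.fix_two x ⟨hm.1 ha.1, hm.1 ha.2⟩ (fun k => haB (hm.2 k)) (hm.1 (by rwa [map_mul]))
  · intro a ha ho
    obtain ⟨x, rfl⟩ := e.surjective a
    rw [hcen, hinf, hc]
    exact h.fix_three x ⟨hm.1 ha.1, hm.1 ha.2⟩ (by rw [← MulEquiv.orderOf_eq e x]; exact ho)
  · obtain ⟨R, hle, hcard, hcube, hcen', hN, htr⟩ := h.syl_three
    refine ⟨R.map e.toMonoidHom, by rw [hinf]; exact Subgroup.map_mono hle, by rw [hc, hcard], ?_,
      by rw [hcenS]; exact Subgroup.map_mono hcen', by rw [hnor, hc, hN], ?_⟩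
    · rintro _ ⟨r, hr, rfl⟩
      show e r ^ 3 = 1
      rw [← map_pow, hcube r hr, map_one]
    · rintro _ ⟨a, ha, rfl⟩ ha1 _ ⟨b, hb, rfl⟩ hb1
      obtain ⟨g, hg, rfl⟩ := htr a ha (fun k => ha1 (by rw [k]; exact map_one e)) b hb
        (fun k => hb1 (by rw [k]; exact map_one e))
      rw [hnor, hinf]
      exact ⟨e g, ⟨g, hg, rfl⟩, by simp⟩

/-- Existence of the hexad data for `Aut M22`. -/
theorem exists_hexadData : ∃ I M B : Subgroup (MulAut Cfsg.Spor.M22), HexadData I M B := by
  obtain ⟨e⟩ := exists_equiv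
  exact ⟨_, _, _, hexadData_HH.map_equiv e⟩

/-- Existence of the hexad data with the inner automorphisms. -/
theorem exists_hexadData_inn : ∃ M B : Subgroup (MulAut ↥Cfsg.Spor.M22),
    HexadData (Inn ↥Cfsg.Spor.M22) M B := by
  obtain ⟨I, M, B, h⟩ := exists_hexadData
  rw [eq_inn_of_index_two h.I_index] at h
  exact ⟨M, B, h⟩

end CfsgLib.JFour
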