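import Cfsg.Agent.Lib.JFour.Unique

/-!
In a group of Janko-four type the centralizer of `z` has one class of elementary abelian subgroups of
order `2 ^ 11` and contains a Sylow 2-subgroup of the whole group, so each Sylow 2-subgroup has
exactly one such subgroup.
-/

set_option autoImplicit false
set_option linter.unusedSectionVars false
set_option linter.style.haveILetI false

open Cfsg
open scoped Pointwise

namespace CfsgLib.JFour

variable {G : Type*} [Group G] {z : G} {P N : Subgroup G}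

namespace Setting

/-- A 2-subgroup of `C(z)` of order `2 ^ 21` containing `E` is a Sylow 2-subgroup of `G`. -/
theorem eq_of_isPGroup_ge [Finite G] (S : Setting z P N) {T0 T : Subgroup G}
    (hT0 : T0 ≤ Subgroup.centralizer ({z} : Set G)) (hcard : Nat.card ↥T0 = 2 ^ 21)
    (hE : twoCoreOfCentralizer z ≤ T0) (hT : IsPGroup 2 ↥T) (hle : T0 ≤ T) : T = T0 := by
  haveI : Fact (Nat.Prime 2) := ⟨Nat.prime_two⟩
  by_contra hne
  haveI : Group.IsNilpotent ↥T := hT.isNilpotent
  have hlt : T0.subgroupOf T < ⊤ := by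
    rw [lt_top_iff_ne_top, Ne, Subgroup.subgroupOf_eq_top]
    exact fun h => hne (le_antisymm h hle)
  obtain ⟨⟨x, hxT⟩, hxn, hx⟩ :=
    SetLike.exists_of_lt (normalizerCondition_of_isNilpotent (G := ↥T) _ hlt)
  rw [Subgroup.mem_subgroupOf] at hx
  have hxN : ∀ y ∈ T0, x * y * x⁻¹ ∈ T0 := fun y hy =>
    Subgroup.mem_subgroupOf.1 ((Subgroup.mem_normalizer_iff.1 hxn ⟨y, hle hy⟩).1
      (Subgroup.mem_subgroupOf.2 hy))
  have hxN' : ∀ y ∈ T0, x⁻¹ * y * x ∈ T0 := fun y hy => by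
    have hxi : (⟨x, hxT⟩ : ↥T)⁻¹ ∈ Subgroup.normalizer ((T0.subgroupOf T : Subgroup ↥T) : Set ↥T) :=
      inv_mem hxn
    have := Subgroup.mem_subgroupOf.1 ((Subgroup.mem_normalizer_iff.1 hxi ⟨y, hle hy⟩).1
      (Subgroup.mem_subgroupOf.2 hy))
    simpa using this
  have hzT : z ∈ T0 := hE S.z_mem_E
  have hxz : x * z * x⁻¹ ∈ Subgroup.zpowers z := by
    rw [← S.center_E]
    have hcE : x * z * x⁻¹ ∈ Subgroup.centralizer (twoCoreOfCentralizer z : Set G) := by
      refine Subgroup.mem_centralizer_iff.2 fun e he => ?_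
      have h1 := S.comm_z (hT0 (hxN' e (hE he)))
      calc e * (x * z * x⁻¹) = x * ((x⁻¹ * e * x) * z) * x⁻¹ := by group
        _ = x * (z * (x⁻¹ * e * x)) * x⁻¹ := by rw [h1]
        _ = x * z * x⁻¹ * e := by group
    exact ⟨S.centE ⟨hT0 (hxN z hzT), hcE⟩, hcE⟩
  have hxH : x ∈ Subgroup.centralizer ({z} : Set G) := by
    rw [Subgroup.mem_centralizer_singleton_iff]
    rcases S.mem_zpowers_iff.1 hxz with e | e
    · exact absurd (conj_eq_one_iff.1 e) S.z_ne_one
    · exact mul_inv_eq_iff_eq_mul.1 e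
  set T' := T0 ⊔ Subgroup.zpowers x with hT'
  have hT'T : T' ≤ T := sup_le hle (Subgroup.zpowers_le.2 hxT)
  have hT'H : T' ≤ Subgroup.centralizer ({z} : Set G) := sup_le hT0 (Subgroup.zpowers_le.2 hxH)
  obtain ⟨k, hk⟩ := IsPGroup.iff_card.1 (hT.to_le hT'T)
  have hdvd : 2 ^ k ∣ 2 ^ 21 * 10395 := by
    have h := Subgroup.card_dvd_of_le hT'H
    rw [hk, S.card_H] at h
    exact h.trans (dvd_of_eq (by norm_num))
  have hk21 : k ≤ 21 :=
    (Nat.pow_dvd_pow_iff_le_right (by norm_num : 1 < 2)).1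
      ((Nat.Coprime.pow_left k (by norm_num : Nat.Coprime 2 10395)).dvd_of_dvd_mul_right hdvd)
  have : T0 = T' := Subgroup.eq_of_le_of_card_ge le_sup_left
    (by rw [hcard, hk]; exact Nat.pow_le_pow_right two_pos hk21)
  exact hx (this.symm ▸ Subgroup.mem_sup_right (Subgroup.mem_zpowers x))

end Setting

namespace Frame

variable {π : ↥(Subgroup.centralizer ({z} : Set G)) →* MulAut ↥Spor.M22}
  {M B : Subgroup (MulAut ↥Spor.M22)} [Finite G] (F : Frame (P := P) (N := N) π M B)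
include F

/-- `V = U W` lies over `B`. -/
theorem sup_le_preimage {W : Subgroup G} (hWX : W ≤ preC P π B) :
    HexFrame.U (twoCoreOfCentralizer z) W ⊔ W ≤
      (B.comap π).map (Subgroup.centralizer ({z} : Set G)).subtype := by
  refine sup_le (fun u hu => ?_) (hWX.trans inf_le_left)
  refine ⟨⟨u, F.setting.E_le hu.1⟩, ?_, rfl⟩
  have h1 : π ⟨u, F.setting.E_le hu.1⟩ = 1 :=
    (F.setting.pi_eq_one_iff F.ker_eq _).2 (F.setting.E_le_N hu.1)
  show π ⟨u, F.setting.E_le hu.1⟩ ∈ B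
  rw [h1]; exact one_mem B

/-- The preimage of the hexad normalizer contains a Sylow 2-subgroup of `G`. -/
theorem exists_sylow_over_M :
    ∃ T0 : Sylow 2 G, (T0 : Subgroup G) ≤ (M.comap π).map (Subgroup.centralizer ({z} : Set G)).subtype ∧
      Nat.card ↥(T0 : Subgroup G) = 2 ^ 21 := by
  haveI : Fact (Nat.Prime 2) := ⟨Nat.prime_two⟩
  have S := F.setting
  set X : Subgroup ↥(Subgroup.centralizer ({z} : Set G)) := M.comap π with hX
  have hXcard : Nat.card ↥X = 2 ^ 21 * 135 := by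
    have h := X.card_mul_index
    rw [hX, Subgroup.index_comap_of_surjective _ F.surj, F.hexad.M_index, ← hX, S.card_H] at h
    norm_num at h ⊢
    omega
  set T : Sylow 2 ↥X := default
  set T0 : Subgroup G := ((T : Subgroup ↥X).map X.subtype).map (Subgroup.centralizer ({z} : Set G)).subtype with hT0
  have hT0le : T0 ≤ X.map (Subgroup.centralizer ({z} : Set G)).subtype := Subgroup.map_mono (Subgroup.map_subtype_le _)
  have hcard : Nat.card ↥T0 = 2 ^ 21 := by
    rw [hT0, Subgroup.card_map_of_injective (Subgroup.centralizer ({z} : Set G)).subtype_injective,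
      Subgroup.card_map_of_injective X.subtype_injective, Sylow.card_eq_multiplicity, hXcard,
      Nat.factorization_mul (by norm_num) (by norm_num), Finsupp.add_apply,
      Nat.Prime.factorization_pow Nat.prime_two, Finsupp.single_eq_same,
      Nat.factorization_eq_zero_of_not_dvd (by norm_num : ¬ 2 ∣ 135)]
  have hT0H : T0 ≤ (Subgroup.centralizer ({z} : Set G)) := hT0le.trans (Subgroup.map_subtype_le _)
  have hEX : twoCoreOfCentralizer z ≤ X.map (Subgroup.centralizer ({z} : Set G)).subtype := fun e he => by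
    refine ⟨⟨e, S.E_le he⟩, ?_, rfl⟩
    show π ⟨e, S.E_le he⟩ ∈ M
    rw [(S.pi_eq_one_iff F.ker_eq _).2 (S.E_le_N he : ((⟨e, S.E_le he⟩ : ↥(Subgroup.centralizer ({z} : Set G))) : G) ∈ N)]
    exact one_mem M
  have hE : twoCoreOfCentralizer z ≤ T0 := by
    have hp : IsPGroup 2 ↥(twoCoreOfCentralizer z ⊔ T0) :=
      IsPGroup.to_sup_of_normal_left' S.isPGroup_E (IsPGroup.of_card hcard)
        (hT0H.trans S.H_le_normalizer_E)
    obtain ⟨k, hk⟩ := IsPGroup.iff_card.1 hp
    have hd := Subgroup.card_dvd_of_le (sup_le hEX hT0le : twoCoreOfCentralizer z ⊔ T0 ≤ X.map (Subgroup.centralizer ({z} : Set G)).subtype)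
    rw [hk, Subgroup.card_map_of_injective (Subgroup.centralizer ({z} : Set G)).subtype_injective, hXcard] at hd
    have hk21 : k ≤ 21 :=
      (Nat.pow_dvd_pow_iff_le_right (by norm_num : 1 < 2)).1
        ((Nat.Coprime.pow_left k (by norm_num : Nat.Coprime 2 135)).dvd_of_dvd_mul_right hd)
    have : T0 = twoCoreOfCentralizer z ⊔ T0 := Subgroup.eq_of_le_of_card_ge le_sup_right
      (by rw [hcard, hk]; exact Nat.pow_le_pow_right two_pos hk21)
    rw [this]; exact le_sup_left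
  refine ⟨⟨T0, IsPGroup.of_card hcard, fun hT hle => S.eq_of_isPGroup_ge hT0H hcard hE hT hle⟩,
    hT0le, hcard⟩

variable {R W : Subgroup G}

/-- Any elementary `2 ^ 11` in `C(z)` is conjugate in `C(z)` to `V = U W`. -/
theorem exists_conj_eq
    (hT : HexTransitive (twoCoreOfCentralizer z) R P W (preC P π (M ⊓ Inn ↥Spor.M22)) z)
    (hWX : W ≤ preC P π B) (hsplit : ∀ g ∈ preC P π B, ∃ w ∈ W, ∃ p ∈ P, g = w * p)
    (hlift : ∀ b ∈ B, ∃ w, ∃ hw : w ∈ Subgroup.centralizer ({z} : Set G), w ∈ W ∧ π ⟨w, hw⟩ = b)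
    {A : Subgroup G} (hA : A ≤ Subgroup.centralizer ({z} : Set G))
    (hel : Cfsg.IsElementaryAbelian 2 A) (hcard : Nat.card ↥A = 2 ^ 11) :
    ∃ h ∈ Subgroup.centralizer ({z} : Set G),
      A = (HexFrame.U (twoCoreOfCentralizer z) W ⊔ W).map (MulAut.conj h).toMonoidHom := by
  haveI : Fact (Nat.Prime 2) := ⟨Nat.prime_two⟩
  obtain ⟨T0, hT0M, hT0c⟩ := F.exists_sylow_over_M
  have hT0H : (T0 : Subgroup G) ≤ (Subgroup.centralizer ({z} : Set G)) := hT0M.trans (Subgroup.map_subtype_le _)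
  let T1 : Sylow 2 ↥(Subgroup.centralizer ({z} : Set G)) := Sylow.ofCard ((T0 : Subgroup G).subgroupOf (Subgroup.centralizer ({z} : Set G))) (by
    rw [Nat.card_congr (Subgroup.subgroupOfEquivOfLe hT0H).toEquiv, hT0c, F.setting.card_H,
      show 2 ^ 13 * 3 * 887040 = 10395 * 2 ^ 21 by norm_num,
      Nat.factorization_mul (by norm_num) (by norm_num), Finsupp.add_apply,
      Nat.Prime.factorization_pow Nat.prime_two, Finsupp.single_eq_same,
      Nat.factorization_eq_zero_of_not_dvd (by norm_num : ¬ 2 ∣ 10395)])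
  have hAp : IsPGroup 2 ↥(A.subgroupOf (Subgroup.centralizer ({z} : Set G))) :=
    IsPGroup.of_card (n := 11) (by rw [Nat.card_congr (Subgroup.subgroupOfEquivOfLe hA).toEquiv, hcard])
  obtain ⟨Q, hQ⟩ := hAp.exists_le_sylow
  obtain ⟨g, hg⟩ := MulAction.exists_smul_eq ↥(Subgroup.centralizer ({z} : Set G)) Q T1
  set A' : Subgroup G := A.map (MulAut.conj (g : G)).toMonoidHom with hA'
  have hmem : ∀ a (ha : a ∈ A), (g : G) * a * (g : G)⁻¹ ∈ (T0 : Subgroup G) := by
    intro a ha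
    have h1 : MulAut.conj g ⟨a, hA ha⟩ ∈ MulAut.conj g • (Q : Subgroup ↥(Subgroup.centralizer ({z} : Set G))) :=
      Subgroup.smul_mem_pointwise_smul (⟨a, hA ha⟩ : ↥(Subgroup.centralizer ({z} : Set G))) (MulAut.conj g) _
        (hQ (Subgroup.mem_subgroupOf.2 ha))
    rw [← Sylow.coe_subgroup_smul] at h1
    change MulAut.conj g ⟨a, hA ha⟩ ∈ ((g • Q : Sylow 2 ↥(Subgroup.centralizer ({z} : Set G))) : Subgroup ↥(Subgroup.centralizer ({z} : Set G))) at h1
    rw [hg] at h1
    exact h1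
  have hA'T : A' ≤ (T0 : Subgroup G) := by
    rintro _ ⟨a, ha, rfl⟩; exact hmem a ha
  have hA'el : Cfsg.IsElementaryAbelian 2 A' := by
    obtain ⟨hc, h2⟩ := hel
    refine ⟨⟨⟨fun x y => Subtype.ext ?_⟩⟩, ?_⟩
    · obtain ⟨a, ha, hax⟩ := Subgroup.mem_map.1 x.2
      obtain ⟨b, hb, hby⟩ := Subgroup.mem_map.1 y.2
      show (x : G) * y = y * x
      rw [← hax, ← hby, ← map_mul, ← map_mul,
        show a * b = b * a from congrArg Subtype.val (hc.is_comm.comm ⟨a, ha⟩ ⟨b, hb⟩)]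
    · intro x hx
      obtain ⟨a, ha, rfl⟩ := Subgroup.mem_map.1 hx
      rw [← map_pow, h2 a ha, map_one]
  have hA'V := F.eq_sup_of_le_preimage hT hWX hsplit hlift (A := A') (hA'T.trans hT0H)
    (fun a ha => by
      obtain ⟨x, hx, hxa⟩ := Subgroup.mem_map.1 (hT0M (hA'T ha))
      have : x = ⟨a, hT0H (hA'T ha)⟩ := Subtype.ext hxa
      rw [← this]; exact hx)
    hA'el (by rw [hA', Subgroup.card_map_of_injective (MulAut.conj (g : G)).injective, hcard])
  refine ⟨(g : G)⁻¹, inv_mem g.2, ?_⟩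
  rw [← hA'V, hA', Subgroup.map_map]
  convert (Subgroup.map_id A).symm using 2
  ext x
  simp [mul_assoc]

/-- Every Sylow 2-subgroup of `G` contains exactly one elementary abelian subgroup of order `2 ^ 11`. -/
theorem existsUnique_elementary (T : Sylow 2 G) :
    ∃! V : Subgroup G, V ≤ (T : Subgroup G) ∧ Cfsg.IsElementaryAbelian 2 V ∧ Nat.card ↥V = 2 ^ 11 := by
  haveI : Fact (Nat.Prime 2) := ⟨Nat.prime_two⟩
  obtain ⟨R, W, hT, hWX, hsplit, -, hlift⟩ := F.exists_hexTransitive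
  obtain ⟨T0, hT0M, hT0c⟩ := F.exists_sylow_over_M
  set V : Subgroup G := HexFrame.U (twoCoreOfCentralizer z) W ⊔ W with hV
  have hVB := F.sup_le_preimage hWX
  have hVel : Cfsg.IsElementaryAbelian 2 V := hT.V_elem hT.W_sq
  have hVc : Nat.card ↥V = 2 ^ 11 := hT.card_V
  have hT0H : (T0 : Subgroup G) ≤ (Subgroup.centralizer ({z} : Set G)) := hT0M.trans (Subgroup.map_subtype_le _)
  -- `V` is contained in some Sylow subgroup, hence a conjugate lies in `T`
  obtain ⟨Q, hQ⟩ := (IsPGroup.of_card (p := 2) (n := 11) hVc).exists_le_sylow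
  obtain ⟨g, hg⟩ := MulAction.exists_smul_eq G Q T
  obtain ⟨k, hk⟩ := MulAction.exists_smul_eq G T T0
  have hconj : ∀ (a b : G) (Y : Subgroup G), (Y.map (MulAut.conj a).toMonoidHom).map
      (MulAut.conj b).toMonoidHom = Y.map (MulAut.conj (b * a)).toMonoidHom := by
    intro a b Y
    rw [Subgroup.map_map]
    congr 1
    ext x
    simp [mul_assoc]
  have hinT : ∀ {a : G} {Q' T' : Sylow 2 G}, a • Q' = T' → ∀ {Y : Subgroup G},
      Y ≤ (Q' : Subgroup G) → Y.map (MulAut.conj a).toMonoidHom ≤ (T' : Subgroup G) := by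
    intro a Q' T' h Y hY
    rw [← h, Sylow.coe_subgroup_smul]
    rintro _ ⟨y, hy, rfl⟩
    exact Subgroup.smul_mem_pointwise_smul y (MulAut.conj a) _ (hY hy)
  have helem : ∀ (a : G) {Y : Subgroup G}, Cfsg.IsElementaryAbelian 2 Y →
      Cfsg.IsElementaryAbelian 2 (Y.map (MulAut.conj a).toMonoidHom) := by
    intro a Y hY
    obtain ⟨hc, h2⟩ := hY
    refine ⟨⟨⟨fun x y => Subtype.ext ?_⟩⟩, ?_⟩
    · obtain ⟨u, hu, hux⟩ := Subgroup.mem_map.1 x.2
      obtain ⟨v, hv, hvy⟩ := Subgroup.mem_map.1 y.2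
      show (x : G) * y = y * x
      rw [← hux, ← hvy, ← map_mul, ← map_mul,
        show u * v = v * u from congrArg Subtype.val (hc.is_comm.comm ⟨u, hu⟩ ⟨v, hv⟩)]
    · intro x hx
      obtain ⟨u, hu, rfl⟩ := Subgroup.mem_map.1 hx
      rw [← map_pow, h2 u hu, map_one]
  -- in `T0` there is only `V`
  have huniq : ∀ A : Subgroup G, A ≤ (T0 : Subgroup G) → Cfsg.IsElementaryAbelian 2 A →
      Nat.card ↥A = 2 ^ 11 → A = V := fun A hA hAel hAc =>
    F.eq_sup_of_le_preimage hT hWX hsplit hlift (hA.trans hT0H) (fun a ha => by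
      obtain ⟨x, hx, hxa⟩ := Subgroup.mem_map.1 (hT0M (hA ha))
      have : x = ⟨a, hT0H (hA ha)⟩ := Subtype.ext hxa
      rw [← this]; exact hx) hAel hAc
  refine ⟨V.map (MulAut.conj g).toMonoidHom, ⟨hinT hg hQ, helem g hVel,
    by rw [Subgroup.card_map_of_injective (MulAut.conj g).injective, hVc]⟩, ?_⟩
  rintro A ⟨hA, hAel, hAc⟩
  have e1 := huniq _ (hinT hk hA) (helem k hAel)
    (by rw [Subgroup.card_map_of_injective (MulAut.conj k).injective, hAc])
  have e2 := huniq _ (hinT hk (hinT hg hQ)) (helem k (helem g hVel))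
    (by rw [Subgroup.card_map_of_injective (MulAut.conj k).injective,
      Subgroup.card_map_of_injective (MulAut.conj g).injective, hVc])
  exact Subgroup.map_injective (MulAut.conj k).injective (e1.trans e2.symm)

end Frame

end CfsgLib.JFour
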