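import Cfsg.Agent.Lib.JFour.DuadPure
import Cfsg.Agent.Lib.JFour.UniqueSylow

/-!
# Groups of Janko-four type: the common centralizer of a conjugate of `z` in `V` and a duad

It normalizes `V`. For a duad outside `U` this is the centralizer statement of the hexad; for a
special element `t` each of the five lines through its point centralizes a conjugate of `z` in `U ^ h`
in general position to `t`.
-/

set_option autoImplicit false
set_option linter.unusedSectionVars false
set_option linter.style.haveILetI false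

open Cfsg
open CfsgLib.JFour.HexFrame CfsgLib.JFour.HexTransitive

namespace CfsgLib.JFour

variable {G : Type*} [Group G] {z : G} {P N : Subgroup G}

/-- A frame together with its hexad subgroup and the fusion data of `V`. -/
structure DuadFrame
    (π : ↥(Subgroup.centralizer ({z} : Set G)) →* MulAut ↥Spor.M22)
    (M B : Subgroup (MulAut ↥Spor.M22)) (R W : Subgroup G) (five : Set (Subgroup G)) (A : Set G) :
    Prop where
  frame : Frame (P := P) (N := N) π M B
  data : DuadData (twoCoreOfCentralizer z) R P W (preC P π (M ⊓ Inn ↥Spor.M22)) z five A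
  W_le : W ≤ preC P π B
  split : ∀ g ∈ preC P π B, ∃ w ∈ W, ∃ p ∈ P, g = w * p
  lift : ∀ b ∈ B, ∃ w, ∃ hw : w ∈ Subgroup.centralizer ({z} : Set G), w ∈ W ∧ π ⟨w, hw⟩ = b

namespace DuadFrame

variable {π : ↥(Subgroup.centralizer ({z} : Set G)) →* MulAut ↥Spor.M22}
  {M B : Subgroup (MulAut ↥Spor.M22)} {R W : Subgroup G} {five : Set (Subgroup G)} {A : Set G}
  [Finite G] (F : DuadFrame (P := P) (N := N) π M B R W five A)
include F

set_option quotPrecheck false in
local notation "ℰ" => twoCoreOfCentralizer z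
set_option quotPrecheck false in
local notation "V₀" => HexFrame.U (twoCoreOfCentralizer z) W ⊔ W
set_option quotPrecheck false in
local notation "ℋ" => Subgroup.centralizer (singleton z : Set G)

theorem V_le_H : V₀ ≤ ℋ :=
  (F.frame.sup_le_preimage F.W_le).trans (Subgroup.map_subtype_le _)

theorem pi_V_mem {v : G} (hv : v ∈ V₀) : π ⟨v, F.V_le_H hv⟩ ∈ B := by
  obtain ⟨x, hx, hxv⟩ := F.frame.sup_le_preimage F.W_le hv
  have : x = ⟨v, F.V_le_H hv⟩ := Subtype.ext hxv
  exact this ▸ hx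

theorem conj_elem (g : G) : Cfsg.IsElementaryAbelian 2 ((V₀).map (MulAut.conj g).toMonoidHom) := by
  refine ⟨⟨⟨fun x y => Subtype.ext ?_⟩⟩, fun x hx => ?_⟩
  · obtain ⟨a, ha, hax⟩ := Subgroup.mem_map.1 x.2
    obtain ⟨b, hb, hby⟩ := Subgroup.mem_map.1 y.2
    show (x : G) * y = y * x
    rw [← hax, ← hby, ← map_mul, ← map_mul, F.data.V_comm ha hb]
  · obtain ⟨a, ha, rfl⟩ := Subgroup.mem_map.1 hx
    rw [← map_pow, pow_two, F.data.V_sq ha, map_one]

theorem card_conj (g : G) : Nat.card ↥((V₀).map (MulAut.conj g).toMonoidHom) = 2 ^ 11 := by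
  rw [Subgroup.card_map_of_injective (MulAut.conj g).injective, F.data.hT.card_V]

theorem mem_normalizer_of_map_eq {g : G} (hg : (V₀).map (MulAut.conj g).toMonoidHom = V₀) :
    g ∈ Subgroup.normalizer ((V₀ : Subgroup G) : Set G) := by
  refine Subgroup.mem_normalizer_fintype fun x hx => ?_
  have h1 : (MulAut.conj g).toMonoidHom x ∈ (V₀).map (MulAut.conj g).toMonoidHom :=
    Subgroup.mem_map_of_mem _ hx
  rw [hg] at h1
  exact h1

/-- `V` is weakly closed in its normalizer. -/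
theorem weakly_closed (g : G)
    (hg : V₀ ≤ Subgroup.normalizer (((V₀).map (MulAut.conj g).toMonoidHom : Subgroup G) : Set G)) :
    (V₀).map (MulAut.conj g).toMonoidHom = V₀ := by
  haveI : Fact (Nat.Prime 2) := ⟨Nat.prime_two⟩
  have h1 : IsPGroup 2 ↥((V₀).map (MulAut.conj g).toMonoidHom) :=
    IsPGroup.of_card (n := 11) (F.card_conj g)
  have h2 : IsPGroup 2 ↥V₀ := IsPGroup.of_card (n := 11) F.data.hT.card_V
  obtain ⟨T, hT⟩ := (IsPGroup.to_sup_of_normal_left' h1 h2 hg).exists_le_sylow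
  exact (F.frame.existsUnique_elementary T).unique ⟨le_sup_left.trans hT, F.conj_elem g, F.card_conj g⟩
    ⟨le_sup_right.trans hT, F.data.hT.V_elem F.data.hT.W_sq, F.data.hT.card_V⟩

/-- The preimage of the hexad normalizer normalizes `V`. -/
theorem mem_normalizer_of_pi {g : G} (hg : g ∈ ℋ) (hgM : π ⟨g, hg⟩ ∈ M) :
    g ∈ Subgroup.normalizer ((V₀ : Subgroup G) : Set G) := by
  have hle : (V₀).map (MulAut.conj g).toMonoidHom ≤ ℋ := by
    rintro _ ⟨v, hv, rfl⟩
    exact mul_mem (mul_mem hg (F.V_le_H hv)) (inv_mem hg)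
  refine F.mem_normalizer_of_map_eq (F.frame.eq_sup_of_le_preimage F.data.hT F.W_le F.split F.lift
    hle (fun a ha => ?_) (F.conj_elem g) (F.card_conj g))
  obtain ⟨v, hv, hva⟩ := ha
  have : (⟨a, hle ⟨v, hv, hva⟩⟩ : ↥ℋ) = ⟨g, hg⟩ * ⟨v, F.V_le_H hv⟩ * ⟨g, hg⟩⁻¹ :=
    Subtype.ext hva.symm
  rw [this, map_mul, map_mul, map_inv]
  refine mul_mem (mul_mem hgM ?_) (inv_mem hgM)
  exact F.frame.hexad.M_eq.ge (Subgroup.le_normalizer (F.pi_V_mem hv))

theorem pi_mem_of_normalizes {g : G} (hg : g ∈ ℋ)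
    (hn : g ∈ Subgroup.normalizer ((V₀ : Subgroup G) : Set G)) : π ⟨g, hg⟩ ∈ M := by
  haveI : Finite (MulAut ↥Spor.M22) :=
    Nat.finite_of_card_ne_zero (by rw [card_mulAut_mTwentyTwo]; norm_num)
  rw [F.frame.hexad.M_eq]
  refine Subgroup.mem_normalizer_fintype fun b hb => ?_
  obtain ⟨w, hw, hwW, rfl⟩ := F.lift b hb
  have h1 := (Subgroup.mem_normalizer_iff.mp hn w).mp (Subgroup.mem_sup_right hwW)
  have h2 := F.pi_V_mem h1
  rwa [show (⟨g * w * g⁻¹, F.V_le_H h1⟩ : ↥ℋ) = ⟨g, hg⟩ * ⟨w, hw⟩ * ⟨g, hg⟩⁻¹ from rfl,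
    map_mul, map_mul, map_inv] at h2

theorem E_le_normalizer : ℰ ≤ Subgroup.normalizer ((V₀ : Subgroup G) : Set G) := fun e he =>
  F.mem_normalizer_of_pi (F.frame.setting.E_le he) (by
    rw [(F.frame.setting.pi_eq_one_iff F.frame.ker_eq ⟨e, F.frame.setting.E_le he⟩).2
      (F.frame.setting.E_le_N he)]
    exact one_mem M)

/-- An element of `H` centralising an element of `V ∖ U` normalizes `V`. -/
theorem normalizes_of_comm_notMem_U {h x : G} (hh : h ∈ ℋ) (hx : x ∈ V₀)
    (hxU : x ∉ HexFrame.U ℰ W) (hc : h * x = x * h) :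
    h ∈ Subgroup.normalizer ((V₀ : Subgroup G) : Set G) := by
  have S := F.frame.setting
  have hT := F.data.hT
  refine F.mem_normalizer_of_pi hh (F.frame.hexad.cen_inv _ (F.pi_V_mem hx) ?_
    (Subgroup.mem_centralizer_singleton_iff.mpr ?_))
  · intro h1
    have hN := (S.pi_eq_one_iff F.frame.ker_eq ⟨x, F.V_le_H hx⟩).1 h1
    have hxE : x ∈ ℰ := S.mem_E_of_pow hN (k := 1) (by rw [pow_one, pow_two]; exact F.data.V_sq hx)
    obtain ⟨u, hu, w, hw, rfl⟩ := hT.mem_sup_iff.mp hx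
    have hwE : w ∈ ℰ := by simpa using mul_mem (inv_mem (U_le hu)) hxE
    exact hxU (mul_mem hu ((Subgroup.zpowers_le.mpr hT.z_U) (hT.mem_Z.mpr (hT.W_inf_E hw hwE))))
  · rw [← map_mul, ← map_mul]
    exact congrArg π (Subtype.ext hc)

/-- A conjugate of `z` in `V` in general position to the duad `t`. -/
theorem stab_b {z0 t h : G} (hz0 : z0 ∈ V₀) (hc0 : IsConj z z0)
    (ht : t ∈ Duads ℰ W z five A) (hzt : IsConj z (z0 * t))
    (h1 : h * z0 = z0 * h) (h2 : h * t = t * h) :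
    h ∈ Subgroup.normalizer ((V₀ : Subgroup G) : Set G) := by
  obtain ⟨n, hn, rfl⟩ := F.data.transZ z0 hz0 hc0
  have ht' : n⁻¹ * t * n ∈ Duads ℰ W z five A := by
    simpa using F.data.duad_conj (inv_mem hn) ht
  have hU : n⁻¹ * t * n ∉ HexFrame.U ℰ W := fun hh => by
    refine F.data.not_conj_of_duad ((F.data.z_mul_duad_iff ht').mpr hh) ?_
    rw [← DuadData.conj_z_iff F.data n (z * (n⁻¹ * t * n)),
      show n * (z * (n⁻¹ * t * n)) * n⁻¹ = n * z * n⁻¹ * t by group]
    exact hzt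
  have hh : n⁻¹ * h * n ∈ ℋ := by
    rw [Subgroup.mem_centralizer_singleton_iff]
    calc n⁻¹ * h * n * z = n⁻¹ * (h * (n * z * n⁻¹)) * n := by group
      _ = n⁻¹ * ((n * z * n⁻¹) * h) * n := by rw [h1]
      _ = z * (n⁻¹ * h * n) := by group
  have := F.normalizes_of_comm_notMem_U hh (F.data.duad_sub ht').1 hU (by
    calc n⁻¹ * h * n * (n⁻¹ * t * n) = n⁻¹ * (h * t) * n := by group
      _ = n⁻¹ * (t * h) * n := by rw [h2]
      _ = n⁻¹ * t * n * (n⁻¹ * h * n) := by group)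
  have h3 := mul_mem (mul_mem hn this) (inv_mem hn)
  rwa [show n * (n⁻¹ * h * n) * n⁻¹ = h by group] at h3

/-- An element of `H` centralising a special element fixes its point. -/
theorem map_point {S : Subgroup G} (hS : S ∈ five) {t h : G} (ht : t ∈ S)
    (htz : t ∉ Subgroup.zpowers z) (hh : h ∈ ℋ) (hc : h * t = t * h) :
    S.map (MulAut.conj h).toMonoidHom = S := by
  have St := F.frame.setting
  have hT := F.data.hT
  have hSp := F.data.fiveData.isPt S hS
  set S' := S.map (MulAut.conj h).toMonoidHom with hS'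
  have hmem : ∀ s ∈ S, h * s * h⁻¹ ∈ S' := fun s hs => ⟨s, hs, rfl⟩
  have hzS' : z ∈ S' :=
    ⟨z, hSp.1.z_mem, mul_inv_eq_iff_eq_mul.mpr (St.comm_z hh)⟩
  have htS' : t ∈ S' := ⟨t, ht, mul_inv_eq_iff_eq_mul.mpr hc⟩
  have hinv : ∀ q ∈ P, ∀ y ∈ S', q * y * q⁻¹ ∈ S' := by
    intro q hq y hy
    obtain ⟨s, hs, rfl⟩ := hy
    have hqN : h⁻¹ * q * h ∈ N := by
      have := (Subgroup.mem_normalizer_iff.1 (St.normN (inv_mem hh)) q).1 (St.P_le hq)
      simpa using this
    obtain ⟨e, he, q', hq', heq⟩ := St.mem_N_iff.1 hqN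
    have hs2 := hSp.1.inv q' hq' s hs
    have hs3 : e * (q' * s * q'⁻¹) * e⁻¹ ∈ S := by
      rcases hT.conj_E_eq he (U_le (hSp.1.le_U hs2)) with c | c <;> rw [c]
      exacts [hs2, mul_mem hSp.1.z_mem hs2]
    refine ⟨_, hs3, ?_⟩
    show h * (e * (q' * s * q'⁻¹) * e⁻¹) * h⁻¹ = q * (h * s * h⁻¹) * q⁻¹
    calc h * (e * (q' * s * q'⁻¹) * e⁻¹) * h⁻¹
        = h * ((e * q') * s * (e * q')⁻¹) * h⁻¹ := by group
      _ = h * ((h⁻¹ * q * h) * s * (h⁻¹ * q * h)⁻¹) * h⁻¹ := by rw [heq]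
      _ = q * (h * s * h⁻¹) * q⁻¹ := by group
  obtain ⟨p, hp, hp1⟩ := hT.exists_gen
  refine (Subgroup.eq_of_le_of_card_ge (fun x hx => ?_)
    (by rw [hS', Subgroup.card_map_of_injective (MulAut.conj h).injective])).symm
  by_cases hxz : x ∈ Subgroup.zpowers z
  · exact Subgroup.zpowers_le.mpr hzS' hxz
  · obtain ⟨k, e | e⟩ := hT.pt_elements hSp hp hp1 ht htz hx hxz <;> rw [e]
    · exact hinv _ (pow_mem hp k) t htS'
    · exact mul_mem hzS' (hinv _ (pow_mem hp k) t htS')

theorem card_le_two_mul {K : Subgroup G} (hK : K ≤ ℰ) {d : G} (hd : d ∈ ℰ) :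
    Nat.card ↥K ≤ 2 * Nat.card ↥(K ⊓ Subgroup.centralizer ({d} : Set G)) := by
  have hT := F.data.hT
  set K0 := K ⊓ Subgroup.centralizer ({d} : Set G) with hK0
  by_cases hall : K ≤ Subgroup.centralizer ({d} : Set G)
  · rw [show K0 = K from inf_eq_left.mpr hall]; omega
  obtain ⟨k0, hk0, hk0c⟩ := SetLike.not_le_iff_exists.mp hall
  have hne : ∀ k ∈ K, k ∉ Subgroup.centralizer ({d} : Set G) → cmm k d = z := fun k hk hkc =>
    (hT.sgn_cases (hK hk) hd).resolve_left fun e =>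
      hkc (Subgroup.mem_centralizer_singleton_iff.mpr (hT.cmm_eq_one_iff.mp e))
  have hsub : (K : Set G) ⊆ (K0 : Set G) ∪ (k0 * ·) '' (K0 : Set G) := by
    intro k hk
    by_cases hkc : k ∈ Subgroup.centralizer ({d} : Set G)
    · exact Or.inl ⟨hk, hkc⟩
    · refine Or.inr ⟨k0⁻¹ * k, ⟨K.mul_mem (K.inv_mem hk0) hk, Subgroup.mem_centralizer_singleton_iff.mpr
        (hT.cmm_eq_one_iff.mp ?_)⟩, mul_inv_cancel_left k0 k⟩
      have h1 := hT.sgn_mul_left (hK hk0) (hK (mul_mem (inv_mem hk0) hk)) hd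
      rw [mul_inv_cancel_left, hne k hk hkc, hne k0 hk0 hk0c] at h1
      exact mul_eq_left.mp h1.symm
  have := (Set.ncard_le_ncard hsub (Set.toFinite _)).trans (Set.ncard_union_le _ _)
  rw [Set.ncard_image_of_injective _ (mul_right_injective k0), ← Nat.card_coe_set_eq,
    ← Nat.card_coe_set_eq] at this
  simp only [SetLike.coe_sort_coe] at this
  omega

/-- An element of `H` centralising a special element normalizes `V`. -/
theorem stab_spec {t h : G} (ht : t ∈ specU ℰ W z five) (hh : h ∈ ℋ) (hc : h * t = t * h) :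
    h ∈ Subgroup.normalizer ((V₀ : Subgroup G) : Set G) := by
  classical
  have St := F.frame.setting
  have hT := F.data.hT
  have hF := F.data.fiveData
  obtain ⟨htU, htz, S, hS, htS⟩ := ht
  have htD : t ∈ Duads ℰ W z five A := Or.inl ⟨htU, htz, S, hS, htS⟩
  have hSp := hF.isPt S hS
  have hmap := F.map_point hS htS htz hh hc
  set V' := (V₀).map (MulAut.conj h).toMonoidHom with hV'
  set U' := (HexFrame.U ℰ W).map (MulAut.conj h).toMonoidHom with hU'
  have hU'E : U' ≤ ℰ := by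
    rintro _ ⟨u, hu, rfl⟩
    exact St.conj_mem_E hh (U_le hu)
  have hU'c : Nat.card ↥U' = 2 ^ 7 := by
    rw [hU', Subgroup.card_map_of_injective (MulAut.conj h).injective, hT.card_U]
  have hSU' : S ≤ U' := hmap ▸ Subgroup.map_mono hSp.1.le_U
  -- every line through `S` is centralised by a suitable conjugate
  have hline : ∀ a ∈ W, a ∉ Subgroup.zpowers z → S ≤ Line ℰ z a →
      a ∈ Subgroup.normalizer ((V' : Subgroup G) : Set G) := by
    intro a ha haz hSa
    obtain ⟨d, hd, hdS⟩ : ∃ d ∈ Line ℰ z a, d ∉ S := SetLike.not_le_iff_exists.mp fun hle => by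
      have := Subgroup.card_le_of_le hle
      rw [hT.card_Line ha haz, hSp.2] at this
      omega
    have hdz : d ∉ Subgroup.zpowers z := fun e => hdS (Subgroup.zpowers_le.mpr hSp.1.z_mem e)
    obtain ⟨p, hp, hp1⟩ := hT.exists_gen
    have hd1 := (hT.Line_between ha).inv p hp d hd
    have hdU := hT.Line_le_U ha hd
    have hd1U := hT.Line_le_U ha hd1
    set X := U' ⊓ Subgroup.centralizer ({d} : Set G) ⊓ Subgroup.centralizer ({p * d * p⁻¹} : Set G)
      with hX
    have hXc : 32 ≤ Nat.card ↥X := by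
      have h1 := F.card_le_two_mul hU'E (U_le hdU)
      have h2 := F.card_le_two_mul (K := U' ⊓ Subgroup.centralizer ({d} : Set G))
        (inf_le_left.trans hU'E) (U_le hd1U)
      rw [hU'c] at h1
      rw [← hX] at h2
      omega
    obtain ⟨x, hxX, hxS⟩ : ∃ x ∈ X, x ∉ S := SetLike.not_le_iff_exists.mp fun hle => by
      have := Subgroup.card_le_of_le hle
      rw [hSp.2] at this
      omega
    obtain ⟨⟨hxU', hxd⟩, hxd1⟩ := Subgroup.mem_inf.mp hxX |>.imp_left Subgroup.mem_inf.mp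
    obtain ⟨x0, hx0, hx0e⟩ := hxU'
    simp only [MulEquiv.coe_toMonoidHom, MulAut.conj_apply] at hx0e
    have hx0S : x0 ∉ S := fun hh0 => hxS (by rw [← hx0e, ← hmap]; exact ⟨x0, hh0, rfl⟩)
    obtain ⟨s, hs, he0, he0t⟩ := hT.exists_ord hF hS htS htz hx0 hx0S
    have hs' : h * s * h⁻¹ ∈ S := by
      have h1 : (MulAut.conj h).toMonoidHom s ∈ S.map (MulAut.conj h).toMonoidHom :=
        Subgroup.mem_map_of_mem _ hs
      rw [hmap] at h1
      exact h1
    set e := x * (h * s * h⁻¹) with he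
    have he_eq : e = h * (x0 * s) * h⁻¹ := by rw [he, ← hx0e]; group
    have heE : e ∈ ℰ := he_eq ▸ St.conj_mem_E hh (U_le he0.1)
    have hcU : ∀ u ∈ HexFrame.U ℰ W,
        h * s * h⁻¹ ∈ Subgroup.centralizer ({u} : Set G) := fun u hu =>
      Subgroup.mem_centralizer_singleton_iff.mpr (hT.U_comm_U (hSp.1.le_U hs') hu)
    have hed : e * d = d * e :=
      Subgroup.mem_centralizer_singleton_iff.mp (mul_mem hxd (hcU d hdU))
    have hed1 : e * (p * d * p⁻¹) = p * d * p⁻¹ * e :=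
      Subgroup.mem_centralizer_singleton_iff.mp (mul_mem hxd1 (hcU _ hd1U))
    have hSe : S ≤ Subgroup.centralizer ({e} : Set G) := fun y hy => by
      rw [Subgroup.mem_centralizer_singleton_iff]
      obtain ⟨y0, hy0, rfl⟩ := hSU' hy
      simp only [MulEquiv.coe_toMonoidHom, MulAut.conj_apply]
      rw [he_eq, show h * y0 * h⁻¹ * (h * (x0 * s) * h⁻¹) = h * (y0 * (x0 * s)) * h⁻¹ by group,
        hT.U_comm_U hy0 he0.1]
      group
    obtain ⟨T, hTB, hT8, hdT⟩ := hT.exists_pt hdU hdz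
    have hTp : IsPt ℰ P W z T := ⟨hTB, hT8⟩
    have hTa := hT.pt_le hTp (hT.Line_between ha) hdT hd hdz
    have hpM := hT.P_le_M0 hp
    have hp3 : p ^ 3 = 1 := orderOf_dvd_iff_pow_eq_one.mp (hT.card_P ▸ Subgroup.orderOf_dvd_natCard _ hp)
    have hzc : z ∈ Subgroup.centralizer ({e} : Set G) :=
      Subgroup.mem_centralizer_singleton_iff.mpr (hT.E_z heE).symm
    have hTe : T ≤ Subgroup.centralizer ({e} : Set G) := fun y hy => by
      by_cases hyz : y ∈ Subgroup.zpowers z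
      · exact Subgroup.zpowers_le.mpr hzc hyz
      have hk : ∀ k : ℕ, p ^ k * d * (p ^ k)⁻¹ ∈ Subgroup.centralizer ({e} : Set G) := by
        intro k
        have hk3 : p ^ k = p ^ (k % 3) := by
          conv_lhs => rw [← Nat.div_add_mod k 3, pow_add, pow_mul, hp3, one_pow, one_mul]
        rw [hk3]
        rcases (show k % 3 = 0 ∨ k % 3 = 1 ∨ k % 3 = 2 by omega) with e3 | e3 | e3 <;> rw [e3]
        · simpa [Subgroup.mem_centralizer_singleton_iff] using hed.symm
        · rw [pow_one]; exact Subgroup.mem_centralizer_singleton_iff.mpr hed1.symm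
        · rw [pow_two]
          have h3 : d * (p * d * p⁻¹) * (p * p * d * (p * p)⁻¹) ∈
              Subgroup.centralizer ({e} : Set G) := Subgroup.zpowers_le.mpr hzc (hT.sigma_conj hp hp1 hdU)
          have h4 : d * (p * d * p⁻¹) ∈ Subgroup.centralizer ({e} : Set G) :=
            mul_mem (Subgroup.mem_centralizer_singleton_iff.mpr hed.symm)
              (Subgroup.mem_centralizer_singleton_iff.mpr hed1.symm)
          have := mul_mem (inv_mem h4) h3
          rwa [← mul_assoc, inv_mul_cancel, one_mul] at this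
      obtain ⟨k, e2 | e2⟩ := hT.pt_elements hTp hp hp1 hdT hdz hy hyz <;> rw [e2]
      · exact hk k
      · exact mul_mem hzc (hk k)
    have hsup : S ⊔ T = Line ℰ z a := by
      refine Subgroup.eq_of_le_of_card_ge (sup_le hSa hTa) ?_
      have h1 := hT.card_sup_mul hSp.1.le_U hTB.le_U
      have h2 : Nat.card ↥(S ⊓ T) ≤ 2 := by
        have : S ⊓ T ≤ Subgroup.zpowers z := fun y hy => by
          by_contra hyz
          exact hdS ((hT.pt_unique hSp.1 hTB hSp.2 hT8 hy.1 hy.2 hyz).symm ▸ hdT)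
        have := Subgroup.card_le_of_le this
        rwa [Nat.card_zpowers, hT.orderOf_z] at this
      rw [hSp.2, hT8] at h1
      rw [hT.card_Line ha haz]
      nlinarith
    have hea : e * a = a * e := by
      have he' : e ∈ ℰ ⊓ Subgroup.centralizer (Line ℰ z a : Set G) :=
        ⟨heE, Subgroup.mem_centralizer_iff.mpr fun y hy =>
          Subgroup.mem_centralizer_singleton_iff.mp ((hsup ▸ sup_le hSe hTe) hy)⟩
      rw [hT.centralizer_Line F.data.hE ha haz] at he'
      exact Subgroup.mem_centralizer_singleton_iff.mp he'.2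
    have hat : a * t = t * a := U_comm htU ha
    have hconj : ∀ y, y ∈ ordU ℰ W z five → IsConj z y := fun y hy => by
      have hy1 : y ≠ 1 := fun e => hy.2.1 (e ▸ one_mem _)
      refine (F.data.iff_conj y (Subgroup.mem_sup_left hy.1) hy1).mpr ?_
      rintro (hs2 | ho)
      · obtain ⟨Q, hQ, hyQ⟩ := hs2.2.2
        exact hy.2.2 Q hQ hyQ
      · exact (hT.Orb_sub F.data.sect ho).2 hy.1
    have hst := F.stab_b (z0 := x0 * s) (h := h⁻¹ * a * h) (Subgroup.mem_sup_left he0.1) (hconj _ he0)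
      htD (hconj _ he0t) (by
        rw [show x0 * s = h⁻¹ * e * h by rw [he_eq]; group]
        calc h⁻¹ * a * h * (h⁻¹ * e * h) = h⁻¹ * (a * e) * h := by group
          _ = h⁻¹ * (e * a) * h := by rw [hea]
          _ = h⁻¹ * e * h * (h⁻¹ * a * h) := by group) (by
        calc h⁻¹ * a * h * t = h⁻¹ * a * (h * t) := by group
          _ = h⁻¹ * a * (t * h) := by rw [hc]
          _ = h⁻¹ * (a * t) * h := by group
          _ = h⁻¹ * (t * a) * h := by rw [hat]
          _ = h⁻¹ * (t * (h * h⁻¹)) * a * h := by group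
          _ = h⁻¹ * (t * h) * h⁻¹ * a * h := by group
          _ = h⁻¹ * (h * t) * h⁻¹ * a * h := by rw [hc]
          _ = t * (h⁻¹ * a * h) := by group)
    rw [Subgroup.mem_normalizer_iff]
    intro y
    have key := Subgroup.mem_normalizer_iff.mp hst (h⁻¹ * y * h)
    constructor
    · rintro ⟨v, hv, rfl⟩
      simp only [MulEquiv.coe_toMonoidHom, MulAut.conj_apply] at key ⊢
      rw [show h⁻¹ * (h * v * h⁻¹) * h = v by group] at key
      exact ⟨_, key.mp hv, by simp [mul_assoc]⟩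
    · rintro ⟨v, hv, hve⟩
      simp only [MulEquiv.coe_toMonoidHom, MulAut.conj_apply] at hve
      refine ⟨h⁻¹ * y * h, key.mpr ?_, by simp [mul_assoc]⟩
      rwa [show h⁻¹ * a * h * (h⁻¹ * y * h) * (h⁻¹ * a * h)⁻¹ = h⁻¹ * (a * y * a⁻¹) * h by group,
        ← hve, show h⁻¹ * (h * v * h⁻¹) * h = v by group]
  -- these elements generate `W`
  set K : Subgroup G := W ⊓ Subgroup.normalizer ((V' : Subgroup G) : Set G) with hK
  have hzK : z ∈ K := by
    refine ⟨hT.z_W, ?_⟩
    refine Subgroup.le_normalizer (H := V') ⟨z, F.data.z_mem_V, ?_⟩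
    exact mul_inv_eq_iff_eq_mul.mpr (St.comm_z hh)
  set s : Set G := {w | w ∈ W ∧ w ∉ Subgroup.zpowers z ∧ S ≤ Line ℰ z w} with hs_def
  have hsK : ∀ w ∈ s, w ∈ K := fun w hw => ⟨hw.1, hline w hw.1 hw.2.1 hw.2.2⟩
  have hzs : ∀ w ∈ s, z * w ∈ s := fun w hw => ⟨mul_mem hT.z_W hw.1, hT.z_mul_notMem hw.2.1,
    by rw [hT.Line_zmul hw.1]; exact hw.2.2⟩
  have hs10 : 10 ≤ s.ncard := by
    let Ls := {L : Subgroup G // (∃ b ∈ W, b ∉ Subgroup.zpowers z ∧ L = Line ℰ z b) ∧ S ≤ L}
    have hex : ∀ L : Ls, ∃ w ∈ s, Line ℰ z w = L.1 := by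
      rintro ⟨L, ⟨w, hw, hwz, rfl⟩, hSL⟩
      exact ⟨w, ⟨hw, hwz, hSL⟩, rfl⟩
    choose r hr hrL using hex
    let φ : Ls × Bool → ↥s := fun x => ⟨bif x.2 then z * r x.1 else r x.1, by
      cases x.2
      · exact hr _
      · exact hzs _ (hr _)⟩
    have hφ : Function.Injective φ := by
      rintro ⟨L, i⟩ ⟨L', i'⟩ e
      have e' : (bif i then z * r L else r L) = (bif i' then z * r L' else r L') := congrArg Subtype.val e
      have hL : L = L' := by
        apply Subtype.ext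
        rw [← hrL L, ← hrL L']
        cases i <;> cases i' <;> simp only [cond_true, cond_false] at e'
        · rw [e']
        · rw [e', hT.Line_zmul (hr L').1]
        · rw [← e', hT.Line_zmul (hr L).1]
        · rw [mul_left_cancel e']
      subst hL
      cases i <;> cases i' <;> simp only [cond_true, cond_false] at e'
      · rfl
      · exact absurd (mul_eq_right.mp e'.symm) hT.z_ne
      · exact absurd (mul_eq_right.mp e') hT.z_ne
      · rfl
    have := Nat.card_le_card_of_injective φ hφ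
    rw [Nat.card_prod, Nat.card_eq_fintype_card (α := Bool), Fintype.card_bool,
      Nat.card_coe_set_eq s, hF.five_lines S hS] at this
    exact this
  have hKW : K = W := by
    refine Subgroup.eq_of_le_of_card_ge inf_le_left ?_
    obtain ⟨a, ha⟩ : s.Nonempty := Set.nonempty_of_ncard_ne_zero (by omega)
    have hsub : (a * ·) '' (s \ {a, z * a}) ⊆ (K : Set G) \ (s ∪ {1, z}) := by
      rintro _ ⟨b, ⟨hb, hb2⟩, rfl⟩
      refine ⟨mul_mem (hsK a ha) (hsK b hb), ?_⟩
      have hab : a * b ∉ Subgroup.zpowers z := by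
        intro hh
        rcases hT.mem_Z.mp hh with e | e
        · exact hb2 (Or.inl (by rw [eq_inv_of_mul_eq_one_right e, inv_eq_of_mul_eq_one_right (hT.W_sq a ha.1)]))
        · refine hb2 (Or.inr ?_)
          show b = z * a
          rw [← hT.W_z a ha.1, ← e, ← mul_assoc, hT.W_sq a ha.1, one_mul]
      rintro (h1 | h1)
      · exact hT.not_concurrent F.data.hE hF hS ha.1 ha.2.1 hb.1 hb.2.1 hab ha.2.2 hb.2.2 h1.2.2
      · exact hab (hT.mem_Z.mpr h1)
    have hc := Set.ncard_le_ncard hsub (Set.toFinite _)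
    have hsKset : s ∪ {1, z} ⊆ (K : Set G) := by
      rintro w (hw | rfl | rfl)
      exacts [hsK w hw, one_mem _, hzK]
    rw [Set.ncard_image_of_injective _ (mul_right_injective a),
      Set.ncard_sdiff hsKset (Set.toFinite _)] at hc
    have hd : Disjoint s {1, z} := Set.disjoint_left.mpr fun w hw hw1 => hw.2.1 (hT.mem_Z.mpr hw1)
    have hs2 : ({a, z * a} : Set G) ⊆ s := by
      rintro w (rfl | rfl)
      exacts [ha, hzs _ ha]
    rw [Set.ncard_sdiff hs2 (Set.toFinite _),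
      Set.ncard_pair (fun e => hT.z_ne (mul_eq_right.mp e.symm)),
      Set.ncard_union_eq hd (Set.toFinite _) (Set.toFinite _), Set.ncard_pair hT.z_ne.symm,
      ← Nat.card_coe_set_eq (K : Set G)] at hc
    simp only [SetLike.coe_sort_coe] at hc
    have hdv := Subgroup.card_dvd_of_le (inf_le_left : K ≤ W)
    rw [hT.card_W] at hdv ⊢
    obtain ⟨i, hi, hKi⟩ := (Nat.dvd_prime_pow (m := 5) Nat.prime_two).mp hdv
    have : s.ncard + 2 ≤ Nat.card ↥K := by
      have h5 := Set.ncard_le_ncard hsKset (Set.toFinite _)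
      rw [Set.ncard_union_eq hd (Set.toFinite _) (Set.toFinite _), Set.ncard_pair hT.z_ne.symm,
        ← Nat.card_coe_set_eq (K : Set G)] at h5
      exact h5
    rw [hKi] at hc this ⊢
    interval_cases i <;> norm_num at hc this ⊢ <;> omega
  have hWN : W ≤ Subgroup.normalizer ((V' : Subgroup G) : Set G) := inf_eq_left.mp hKW
  have hEN : ℰ ≤ Subgroup.normalizer ((V' : Subgroup G) : Set G) := by
    intro e he
    rw [Subgroup.mem_normalizer_iff]
    have he' : h⁻¹ * e * h ∈ Subgroup.normalizer ((V₀ : Subgroup G) : Set G) :=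
      F.E_le_normalizer (St.conj_mem_E' hh he)
    intro y
    have key := Subgroup.mem_normalizer_iff.mp he' (h⁻¹ * y * h)
    rw [show h⁻¹ * e * h * (h⁻¹ * y * h) * (h⁻¹ * e * h)⁻¹ = h⁻¹ * (e * y * e⁻¹) * h by group] at key
    constructor
    · rintro ⟨v, hv, hvy⟩
      simp only [MulEquiv.coe_toMonoidHom, MulAut.conj_apply] at hvy
      refine ⟨_, key.mp ?_, by simp [mul_assoc]⟩
      rwa [← hvy, show h⁻¹ * (h * v * h⁻¹) * h = v by group]
    · rintro ⟨v, hv, hvy⟩
      simp only [MulEquiv.coe_toMonoidHom, MulAut.conj_apply] at hvy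
      refine ⟨_, key.mpr ?_, by simp [mul_assoc]⟩
      rwa [← hvy, show h⁻¹ * (h * v * h⁻¹) * h = v by group]
  exact F.mem_normalizer_of_map_eq (F.weakly_closed h (sup_le ((U_le (W := W)).trans hEN) hWN))

/-- The common centralizer of a conjugate of `z` in `V` and a duad normalizes `V`. -/
theorem stab {z0 t h : G} (hz0 : z0 ∈ V₀) (hc0 : IsConj z z0)
    (ht : t ∈ Duads ℰ W z five A) (h1 : h * z0 = z0 * h) (h2 : h * t = t * h) :
    h ∈ Subgroup.normalizer ((V₀ : Subgroup G) : Set G) := by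
  obtain ⟨n, hn, rfl⟩ := F.data.transZ z0 hz0 hc0
  have ht' : n⁻¹ * t * n ∈ Duads ℰ W z five A := by
    simpa using F.data.duad_conj (inv_mem hn) ht
  have hh : n⁻¹ * h * n ∈ ℋ := by
    rw [Subgroup.mem_centralizer_singleton_iff]
    calc n⁻¹ * h * n * z = n⁻¹ * (h * (n * z * n⁻¹)) * n := by group
      _ = n⁻¹ * ((n * z * n⁻¹) * h) * n := by rw [h1]
      _ = z * (n⁻¹ * h * n) := by group
  have hc : n⁻¹ * h * n * (n⁻¹ * t * n) = n⁻¹ * t * n * (n⁻¹ * h * n) := by
    calc n⁻¹ * h * n * (n⁻¹ * t * n) = n⁻¹ * (h * t) * n := by group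
      _ = n⁻¹ * (t * h) * n := by rw [h2]
      _ = n⁻¹ * t * n * (n⁻¹ * h * n) := by group
  have h3 : n⁻¹ * h * n ∈ Subgroup.normalizer ((V₀ : Subgroup G) : Set G) := by
    by_cases hU : n⁻¹ * t * n ∈ HexFrame.U ℰ W
    · exact F.stab_spec (F.data.spec_of_mem_U ht' hU) hh hc
    · exact F.normalizes_of_comm_notMem_U hh (F.data.duad_sub ht').1 hU hc
  have h4 := mul_mem (mul_mem hn h3) (inv_mem hn)
  rwa [show n * (n⁻¹ * h * n) * n⁻¹ = h by group] at h4

/-- The same for a conjugate of `V`. -/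
theorem stab_conj (g : G) {z0 t h : G} (hz0 : z0 ∈ (V₀).map (MulAut.conj g).toMonoidHom)
    (hc0 : IsConj z z0) (htV : t ∈ (V₀).map (MulAut.conj g).toMonoidHom) (ht1 : t ≠ 1)
    (htc : ¬ IsConj z t) (h1 : h * z0 = z0 * h) (h2 : h * t = t * h) :
    h ∈ Subgroup.normalizer (((V₀).map (MulAut.conj g).toMonoidHom : Subgroup G) : Set G) := by
  obtain ⟨y, hy, rfl⟩ := hz0
  obtain ⟨u, hu, rfl⟩ := htV
  simp only [MulEquiv.coe_toMonoidHom, MulAut.conj_apply] at hc0 ht1 htc h1 h2
  have huD : u ∈ Duads ℰ W z five A := F.data.duad_of_not_conj hu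
    (fun e => ht1 (by rw [e]; group)) fun hc => htc ((DuadData.conj_z_iff F.data g u).mpr hc)
  have hc : ∀ x, h * (g * x * g⁻¹) = g * x * g⁻¹ * h → g⁻¹ * h * g * x = x * (g⁻¹ * h * g) := by
    intro x hx
    calc g⁻¹ * h * g * x = g⁻¹ * (h * (g * x * g⁻¹)) * g := by group
      _ = g⁻¹ * (g * x * g⁻¹ * h) * g := by rw [hx]
      _ = x * (g⁻¹ * h * g) := by group
  have h3 := F.stab hy ((DuadData.conj_z_iff F.data g y).mp hc0) huD (hc y h1) (hc u h2)
  refine Subgroup.mem_normalizer_fintype fun x hx => ?_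
  obtain ⟨v, hv, rfl⟩ := hx
  refine ⟨_, (Subgroup.mem_normalizer_iff.mp h3 v).mp hv, ?_⟩
  simp [mul_assoc]

end DuadFrame

end CfsgLib.JFour
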