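import Cfsg.Agent.Lib.JFour.Main
import Cfsg.Agent.Lib.JFour.UniqueSylow
import Cfsg.Agent.Lib.JFour.DuadStab

/-!
# Groups of Janko-four type: the frame of the two orbits on `V`, and transfer to any `2 ^ 11`
-/

set_option autoImplicit false
set_option linter.unusedSectionVars false

open Cfsg

namespace CfsgLib.JFour

variable {G : Type*} [Group G] [Finite G] {z : G} {P N : Subgroup G}

namespace Frame

variable {π : ↥(Subgroup.centralizer ({z} : Set G)) →* MulAut ↥Spor.M22}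
  {M B : Subgroup (MulAut ↥Spor.M22)} (F : Frame (P := P) (N := N) π M B) {R W : Subgroup G}
include F

/-- The duads are exactly the involutions of `V` not conjugate to `z`. -/
theorem exists_duadFrame (L : Lifted P π M B R W)
    (hfus : ∃ v ∈ (HexFrame.U (twoCoreOfCentralizer z) W ⊔ W : Subgroup _), v ≠ z ∧ IsConj z v) :
    ∃ (five : Set (Subgroup G)) (A : Set G),
      DuadFrame (P := P) (N := N) π M B R W five A ∧
      otherClass z (HexFrame.U (twoCoreOfCentralizer z) W ⊔ W) =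
        Duads (twoCoreOfCentralizer z) W z five A := by
  obtain ⟨five, hF⟩ := F.exists_fiveData L
  obtain ⟨A, hA⟩ := L.hex.exists_section
  obtain ⟨-, hsplit⟩ := F.split L hfus hF hA
  obtain ⟨A, hA, hT⟩ : ∃ A : Set G,
      Section (twoCoreOfCentralizer z) (preC P π (M ⊓ Inn ↥Spor.M22)) W z A ∧
      otherClass z (HexFrame.U (twoCoreOfCentralizer z) W ⊔ W) =
        specU (twoCoreOfCentralizer z) W z five ∪ Orb (twoCoreOfCentralizer z) A := by
    rcases hsplit with ⟨e, -⟩ | ⟨e, -⟩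
    · exact ⟨A, hA, e⟩
    · exact ⟨_, L.hex.section_zmul hA, e⟩
  refine ⟨five, A, ⟨F, ⟨L.hex, F.setting.extra, hF, hA, fun x hx hx1 => ?_, fun x hx hc =>
    F.exists_normalizer_conj L hx hc, ?_⟩, L.W_le, L.split, L.lift⟩, hT⟩
  · rw [Duads, ← hT]
    exact ⟨fun hc hm => hm.2.2 hc, fun hm => by_contra fun hc => hm ⟨hx, hx1, hc⟩⟩
  · rw [Duads, ← hT]
    exact (F.other_class L hfus).2

/-- Every elementary abelian `2 ^ 11` of the group is conjugate to `V = U W`. -/
theorem exists_map_eq (L : Lifted P π M B R W) {V : Subgroup G}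
    (hV : Cfsg.IsElementaryAbelian 2 V) (hcard : Nat.card ↥V = 2 ^ 11) :
    ∃ g : G, V = (HexFrame.U (twoCoreOfCentralizer z) W ⊔ W).map (MulAut.conj g).toMonoidHom := by
  haveI : Fact (Nat.Prime 2) := ⟨Nat.prime_two⟩
  obtain ⟨T, hT⟩ := (IsPGroup.of_card (p := 2) (n := 11) hcard).exists_le_sylow
  obtain ⟨Q, hQ⟩ := (IsPGroup.of_card (p := 2) (n := 11) L.hex.card_V).exists_le_sylow
  obtain ⟨g, hg⟩ := MulAction.exists_smul_eq G Q T
  refine ⟨g, (F.existsUnique_elementary T).unique ⟨hT, hV, hcard⟩ ⟨?_, ?_, ?_⟩⟩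
  · rw [← hg, Sylow.coe_subgroup_smul]
    rintro _ ⟨x, hx, rfl⟩
    exact Subgroup.smul_mem_pointwise_smul x (MulAut.conj g) _ (hQ hx)
  · obtain ⟨hc, h2⟩ := L.hex.V_elem L.hex.W_sq
    refine ⟨⟨⟨fun x y => Subtype.ext ?_⟩⟩, ?_⟩
    · obtain ⟨u, hu, hux⟩ := Subgroup.mem_map.1 x.2
      obtain ⟨v, hv, hvy⟩ := Subgroup.mem_map.1 y.2
      show (x : G) * y = y * x
      rw [← hux, ← hvy, ← map_mul, ← map_mul,
        show u * v = v * u from congrArg Subtype.val (hc.is_comm.comm ⟨u, hu⟩ ⟨v, hv⟩)]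
    · intro x hx
      obtain ⟨u, hu, rfl⟩ := Subgroup.mem_map.1 hx
      rw [← map_pow, h2 u hu, map_one]
  · rw [Subgroup.card_map_of_injective (MulAut.conj g).injective]
    exact L.hex.card_V

/-- The two orbits of `N(V)` on `V`, for every elementary abelian `2 ^ 11`. -/
theorem orbits_of_centralizer_le (L : Lifted P π M B R W)
    (hfus : ∃ v ∈ (HexFrame.U (twoCoreOfCentralizer z) W ⊔ W : Subgroup _), v ≠ z ∧ IsConj z v)
    (hC : ∀ t ∈ otherClass z (HexFrame.U (twoCoreOfCentralizer z) W ⊔ W),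
      Subgroup.centralizer ({t} : Set G) ≤
        Subgroup.normalizer ((HexFrame.U (twoCoreOfCentralizer z) W ⊔ W : Subgroup G) : Set G))
    {V : Subgroup G} (hV : Cfsg.IsElementaryAbelian 2 V) (hcard : Nat.card ↥V = 2 ^ 11) :
    ∃ z' t : G, z' ∈ V ∧ t ∈ V ∧ t ≠ 1 ∧ IsConj z z' ∧ ¬ IsConj z t ∧
    Set.ncard {v : G | ∃ n ∈ Subgroup.normalizer (V : Set G), n * z' * n⁻¹ = v} = 1771 ∧
    Set.ncard {v : G | ∃ n ∈ Subgroup.normalizer (V : Set G), n * t * n⁻¹ = v} = 276 ∧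
    Subgroup.centralizer ({t} : Set G) ≤ Subgroup.normalizer (V : Set G) := by
  set V₀ : Subgroup G := HexFrame.U (twoCoreOfCentralizer z) W ⊔ W with hV₀
  obtain ⟨g, hg⟩ := F.exists_map_eq L hV hcard
  have hmem : ∀ x : G, x ∈ V ↔ g⁻¹ * x * g ∈ V₀ := by
    intro x
    rw [hg, Subgroup.mem_map]
    constructor
    · rintro ⟨y, hy, rfl⟩
      simpa [mul_assoc] using hy
    · intro h
      exact ⟨_, h, by simp [mul_assoc]⟩
  have hN : ∀ n : G, n ∈ Subgroup.normalizer (V : Set G) ↔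
      g⁻¹ * n * g ∈ Subgroup.normalizer (V₀ : Set G) := by
    intro n
    rw [Subgroup.mem_normalizer_iff, Subgroup.mem_normalizer_iff]
    constructor
    · intro h x
      have := h (g * x * g⁻¹)
      rw [hmem, hmem] at this
      simpa [mul_assoc] using this
    · intro h x
      rw [hmem, hmem]
      have := h (g⁻¹ * x * g)
      simpa [mul_assoc] using this
  have horb : ∀ x : G,
      {v : G | ∃ n ∈ Subgroup.normalizer (V : Set G), n * (g * x * g⁻¹) * n⁻¹ = v} =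
        (fun w => g * w * g⁻¹) '' {v : G | ∃ n ∈ Subgroup.normalizer (V₀ : Set G), n * x * n⁻¹ = v} := by
    intro x
    ext v
    constructor
    · rintro ⟨n, hn, rfl⟩
      exact ⟨_, ⟨g⁻¹ * n * g, (hN n).1 hn, rfl⟩, by group⟩
    · rintro ⟨_, ⟨n, hn, rfl⟩, rfl⟩
      exact ⟨g * n * g⁻¹, (hN _).2 (by simpa [mul_assoc] using hn), by group⟩
  have hinj : Function.Injective fun w : G => g * w * g⁻¹ := fun a b e => by simpa using e
  have hconj : ∀ x : G, IsConj x (g * x * g⁻¹) := fun x => isConj_iff.2 ⟨g, rfl⟩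
  obtain ⟨five, hF5⟩ := F.exists_fiveData L
  obtain ⟨A, hA⟩ := L.hex.exists_section
  obtain ⟨h1771, -⟩ := F.split L hfus hF5 hA
  obtain ⟨h276, htrans⟩ := F.other_class L hfus
  obtain ⟨d, hd⟩ : (otherClass z V₀).Nonempty := by
    refine Set.nonempty_coe_sort.1 (Nat.card_pos_iff.1 ?_).1
    rw [h276]; norm_num
  obtain ⟨hdV, hd1, hdc⟩ := hd
  refine ⟨g * z * g⁻¹, g * d * g⁻¹, (hmem _).2 (by simpa [mul_assoc] using F.z_mem_V L),
    (hmem _).2 (by simpa [mul_assoc] using hdV), fun e => hd1 (conj_eq_one_iff.1 e), hconj z,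
    fun hc => hdc (hc.trans (hconj d).symm), ?_, ?_, ?_⟩
  · rw [horb, Set.ncard_image_of_injective _ hinj, ← Nat.card_coe_set_eq, ← h1771]
    congr 2
    ext v
    constructor
    · rintro ⟨n, hn, rfl⟩
      exact ⟨(Subgroup.mem_normalizer_iff.1 hn z).1 (F.z_mem_V L), isConj_iff.2 ⟨n, rfl⟩⟩
    · rintro ⟨hv, hc⟩
      exact F.exists_normalizer_conj L hv hc
  · rw [horb, Set.ncard_image_of_injective _ hinj, ← Nat.card_coe_set_eq, ← h276]
    congr 2
    ext v
    constructor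
    · rintro ⟨n, hn, rfl⟩
      exact F.otherClass_map L hfus hn ⟨hdV, hd1, hdc⟩
    · intro hv
      exact htrans d ⟨hdV, hd1, hdc⟩ v hv
  · intro c hc
    rw [Subgroup.mem_centralizer_singleton_iff] at hc
    refine (hN c).2 (hC d ⟨hdV, hd1, hdc⟩ (Subgroup.mem_centralizer_singleton_iff.2 ?_))
    calc g⁻¹ * c * g * d = g⁻¹ * (c * (g * d * g⁻¹)) * g := by group
      _ = g⁻¹ * ((g * d * g⁻¹) * c) * g := by rw [hc]
      _ = d * (g⁻¹ * c * g) := by group

end Frame

end CfsgLib.JFour
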