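import Cfsg.Agent.Lib.JFour.Points
import Cfsg.Agent.Lib.JFour.DuadInst

/-!
# Groups of Janko-four type: the 24 points of `V` inside a frame, and the order of `N(V)`
-/

set_option autoImplicit false
set_option linter.unusedSectionVars false

open Cfsg

namespace CfsgLib.JFour

variable {G : Type*} [Group G] [Finite G] {z : G} {P N : Subgroup G}

namespace Frame

variable {π : ↥(Subgroup.centralizer ({z} : Set G)) →* MulAut ↥Spor.M22}
  {M B : Subgroup (MulAut ↥Spor.M22)} (F : Frame (P := P) (N := N) π M B) {R W : Subgroup G}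
include F

theorem card_normalizer_V (L : Lifted P π M B R W)
    (hfus : ∃ v ∈ (HexFrame.U (twoCoreOfCentralizer z) W ⊔ W : Subgroup _), v ≠ z ∧ IsConj z v) :
    Nat.card ↥(Subgroup.normalizer
      ((HexFrame.U (twoCoreOfCentralizer z) W ⊔ W : Subgroup G) : Set G)) = 2 ^ 11 * 244823040 := by
  classical
  set V : Subgroup G := HexFrame.U (twoCoreOfCentralizer z) W ⊔ W with hV
  have h := F.card_range_mul L (Y := Subgroup.normalizer (V : Set G)) Subgroup.le_normalizer le_rfl
  have hr : ((Subgroup.normalizerMonoidHom V).rangeRestrict.comp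
      (Subgroup.inclusion (le_refl (Subgroup.normalizer (V : Set G))))).range = ⊤ := by
    rw [eq_top_iff]
    intro x _
    obtain ⟨n, rfl⟩ := (Subgroup.normalizerMonoidHom V).rangeRestrict_surjective x
    exact ⟨n, rfl⟩
  rw [hr, Subgroup.card_top] at h
  rw [← h, OrbitArith.card_eq_orb_mul (Subgroup.normalizerMonoidHom V).range ⟨z, F.z_mem_V L⟩,
    F.card_stab L]
  obtain ⟨five, hF5⟩ := F.exists_fiveData L
  obtain ⟨A, hA⟩ := L.hex.exists_section
  obtain ⟨h1771, -⟩ := F.split L hfus hF5 hA
  have hzc : zClass z V = Subtype.val ''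
      OrbitArith.orb (Subgroup.normalizerMonoidHom V).range ⟨z, F.z_mem_V L⟩ := by
    ext x
    constructor
    · rintro ⟨hx, hc⟩
      exact ⟨⟨x, hx⟩, (F.mem_orb_iff L hfus).2 hc, rfl⟩
    · rintro ⟨w, hw, rfl⟩
      exact ⟨w.2, (F.mem_orb_iff L hfus).1 hw⟩
  rw [hzc, Nat.card_image_of_injective Subtype.val_injective] at h1771
  rw [h1771]; rfl

/-- The frame of duads together with their 24 points. -/
theorem exists_duadFrame_points (L : Lifted P π M B R W)
    (hfus : ∃ v ∈ (HexFrame.U (twoCoreOfCentralizer z) W ⊔ W : Subgroup _), v ≠ z ∧ IsConj z v) :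
    ∃ (five : Set (Subgroup G)) (A : Set G) (lam : Fin 24 → G),
      DuadFrame (P := P) (N := N) π M B R W five A ∧
      otherClass z (HexFrame.U (twoCoreOfCentralizer z) W ⊔ W) =
        Duads (twoCoreOfCentralizer z) W z five A ∧
      PointData (HexFrame.U (twoCoreOfCentralizer z) W ⊔ W)
        (Duads (twoCoreOfCentralizer z) W z five A) lam := by
  obtain ⟨five, A, D, hT⟩ := F.exists_duadFrame L hfus
  obtain ⟨lam, hlam⟩ := D.data.exists_pointData (F.card_normalizer_V L hfus) (F.centralizer_V_le L)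
  exact ⟨five, A, lam, D, hT, hlam⟩

end Frame

end CfsgLib.JFour
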