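import Cfsg.Agent.Lib.JFour.DuadInst

/-!
# Groups of Janko-four type: two types of involutions opposite to `V`

A complement `O` of `U` in `E` has elements commuting with some element of `W` outside `⟨z⟩` and
elements commuting with none, and these centralise subgroups of different orders in `V`.
-/

set_option autoImplicit false
set_option linter.unusedSectionVars false
set_option linter.style.haveILetI false

open Cfsg

namespace CfsgLib.JFour

variable {G : Type*} [Group G]

namespace HexTransitive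

open HexFrame

variable [Finite G] {E R P W M0 : Subgroup G} {z : G} (h : HexTransitive E R P W M0 z)
include h

theorem centralizer_inf_V {f x : G} (hf : f ∈ E) (hx : x ∈ U E W ⊔ W) (hc : f * x = x * f) :
    ∃ u ∈ U E W, ∃ w ∈ W, x = u * w ∧ f * u = u * f ∧ w * f = f * w := by
  obtain ⟨u, hu, w, hw, rfl⟩ := h.mem_sup_iff.1 hx
  have hwf : w * f = f * w := by
    refine h.mem_Z_of_cmm hw hf ?_
    rcases h.conj_E_eq hf (U_le hu) with e | e
    · have h1 : f * w * f⁻¹ = w := by
        have : f * u * f⁻¹ * (f * w * f⁻¹) = u * w := by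
          rw [show f * u * f⁻¹ * (f * w * f⁻¹) = f * (u * w) * f⁻¹ by group, hc]; group
        rw [e] at this
        exact mul_left_cancel this
      rw [h.cmm_eq_one_iff.2 (mul_inv_eq_iff_eq_mul.1 h1).symm]
      exact one_mem _
    · have h1 : z * (f * w * f⁻¹) = w := by
        have : f * u * f⁻¹ * (f * w * f⁻¹) = u * w := by
          rw [show f * u * f⁻¹ * (f * w * f⁻¹) = f * (u * w) * f⁻¹ by group, hc]; group
        rw [e, ← h.z_comm_of_U hu, mul_assoc] at this
        exact mul_left_cancel this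
      have h2 : cmm w f = z := by
        have h4 : f * w * f⁻¹ = z * w := by
          conv_rhs => rw [← h1]
          rw [← mul_assoc, h.z_sq, one_mul]
        have hwz : w * z = z * w := h.W_z w hw
        show w * f * w⁻¹ * f⁻¹ = z
        calc w * f * w⁻¹ * f⁻¹ = w * (f * w * f⁻¹)⁻¹ := by group
          _ = w * w⁻¹ * z⁻¹ := by rw [h4]; group
          _ = z := by rw [mul_inv_cancel, one_mul, inv_eq_of_mul_eq_one_right h.z_sq]
      rw [h2]
      exact Subgroup.mem_zpowers z
  refine ⟨u, hu, w, hw, rfl, ?_, hwf⟩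
  have := hc
  rw [← mul_assoc, mul_assoc u w f, hwf, ← mul_assoc] at this
  exact mul_right_cancel this

theorem card_centralizer_U {f : G} (hf : f ∈ E) (hfU : f ∉ U E W) :
    Nat.card ↥(U E W ⊓ Subgroup.centralizer ({f} : Set G)) = 64 := by
  classical
  let φ : ↥(U E W) →* ↥(Subgroup.zpowers z) :=
    { toFun := fun u => ⟨f * u * f⁻¹ * (u : G), by
        rcases h.conj_E_eq hf (U_le u.2) with e | e <;> rw [e]
        · rw [h.U_sq u.2]; exact one_mem _
        · rw [mul_assoc, h.U_sq u.2, mul_one]; exact Subgroup.mem_zpowers z⟩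
      map_one' := Subtype.ext (by simp)
      map_mul' := fun a b => Subtype.ext (by
        show f * ((a : G) * b) * f⁻¹ * (a * b) = f * a * f⁻¹ * a * (f * b * f⁻¹ * b)
        rw [mul_assoc (f * a * f⁻¹) (a : G), ← mul_assoc (a : G) (f * b * f⁻¹),
          h.U_comm_U a.2 (h.U_normal hf b.2)]
        group) }
  have hiff : ∀ u : ↥(U E W), u ∈ φ.ker ↔ f * u = u * f := by
    intro u
    rw [MonoidHom.mem_ker, ← Subtype.coe_inj]
    show f * (u : G) * f⁻¹ * u = 1 ↔ _
    constructor
    · intro e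
      refine mul_inv_eq_iff_eq_mul.1 ?_
      rw [eq_inv_of_mul_eq_one_left e, h.U_inv' u.2]
    · intro e
      rw [mul_inv_eq_iff_eq_mul.2 e, h.U_sq u.2]
  have hsurj : Function.Surjective φ := by
    rintro ⟨y, hy⟩
    rcases h.mem_Z.1 hy with e | e
    · exact ⟨1, by rw [map_one]; exact Subtype.ext e.symm⟩
    · obtain ⟨u, hu⟩ : ∃ u : ↥(U E W), u ∉ φ.ker := by
        by_contra hcon
        push Not at hcon
        exact hfU (h.cent_U hf fun u hu => (hiff ⟨u, hu⟩).1 (hcon ⟨u, hu⟩))
      refine ⟨u, Subtype.ext ?_⟩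
      rcases h.mem_Z.1 (φ u).2 with e' | e'
      · exact absurd (MonoidHom.mem_ker.2 (Subtype.ext e')) hu
      · exact e'.trans e.symm
  have hk : φ.ker = (U E W ⊓ Subgroup.centralizer ({f} : Set G)).subgroupOf (U E W) := by
    ext u
    rw [hiff, Subgroup.mem_subgroupOf, Subgroup.mem_inf, Subgroup.mem_centralizer_singleton_iff]
    exact ⟨fun e => ⟨u.2, e.symm⟩, fun e => e.2.symm⟩
  have h1 := Subgroup.card_eq_card_quotient_mul_card_subgroup φ.ker
  rw [Nat.card_congr (QuotientGroup.quotientKerEquivOfSurjective φ hsurj).toEquiv, Nat.card_zpowers,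
    h.orderOf_z, hk, Nat.card_congr (Subgroup.subgroupOfEquivOfLe inf_le_left).toEquiv, h.card_U] at h1
  omega

/-- Two elements of a complement of `U` in `E` centralising different numbers of elements of `V`. -/
theorem exists_two_types {O : Subgroup G} (hO : O ≤ E) (hcard : Nat.card ↥O = 64)
    (hOU : O ⊓ U E W = ⊥) :
    ∃ f₁ ∈ O, ∃ f₂ ∈ O, f₁ ≠ 1 ∧ f₂ ≠ 1 ∧
      Nat.card ↥((U E W ⊔ W) ⊓ Subgroup.centralizer ({f₁} : Set G)) ≠
        Nat.card ↥((U E W ⊔ W) ⊓ Subgroup.centralizer ({f₂} : Set G)) := by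
  classical
  have hnotU : ∀ f ∈ O, f ≠ 1 → f ∉ U E W := fun f hf hf1 hU =>
    hf1 (Subgroup.mem_bot.1 (hOU ▸ ⟨hf, hU⟩))
  set s : Set G := {w | w ∈ W ∧ w ∉ Subgroup.zpowers z} with hs
  -- an element commuting with some element of `W` outside `⟨z⟩`
  obtain ⟨b, hb⟩ : s.Nonempty := by
    by_contra hcon
    rw [Set.not_nonempty_iff_eq_empty] at hcon
    have hle : W ≤ Subgroup.zpowers z := fun w hw => by_contra fun hwz => (hcon ▸ ⟨hw, hwz⟩ : w ∈ (∅ : Set G))
    have := Subgroup.card_le_of_le hle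
    rw [h.card_W, Nat.card_zpowers, h.orderOf_z] at this
    omega
  obtain ⟨e, he, heU⟩ : ∃ e ∈ E ⊓ Subgroup.centralizer ({b} : Set G), e ∉ U E W :=
    SetLike.not_le_iff_exists.1 fun hle => by
      have := Subgroup.card_le_of_le hle
      rw [h.main.1 b hb.1 hb.2, h.card_U] at this
      omega
  have hdec : ∀ x ∈ E, ∃ f ∈ O, ∃ u ∈ U E W, x = f * u := by
    intro x hx
    let m : ↥O × ↥(U E W) → ↥E := fun p => ⟨p.1 * p.2, mul_mem (hO p.1.2) (U_le p.2.2)⟩
    have hinj : Function.Injective m := by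
      rintro ⟨a, u⟩ ⟨a', u'⟩ e
      have e' : (a : G) * u = a' * u' := congrArg Subtype.val e
      have h1 : (a' : G)⁻¹ * a = u' * (u : G)⁻¹ := by
        calc (a' : G)⁻¹ * a = (a' : G)⁻¹ * (a * u) * (u : G)⁻¹ := by group
          _ = u' * (u : G)⁻¹ := by rw [e']; group
      have h2 : (a' : G)⁻¹ * a = 1 :=
        Subgroup.mem_bot.1 (hOU ▸ ⟨mul_mem (O.inv_mem a'.2) a.2, h1 ▸ mul_mem u'.2 ((U E W).inv_mem u.2)⟩)
      have h3 : a = a' := Subtype.ext (inv_mul_eq_one.1 h2).symm
      subst h3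
      exact Prod.ext rfl (Subtype.ext (mul_left_cancel e'))
    obtain ⟨⟨a, u⟩, e⟩ := ((Nat.bijective_iff_injective_and_card m).2 ⟨hinj, by
      rw [Nat.card_prod, hcard, h.card_U, h.card_E]; norm_num⟩).2 ⟨x, hx⟩
    exact ⟨a, a.2, u, u.2, (congrArg Subtype.val e).symm⟩
  obtain ⟨f₁, hf₁, u, hu, rfl⟩ := hdec e he.1
  have hf11 : f₁ ≠ 1 := fun e => heU (by rw [e, one_mul]; exact hu)
  have hbf₁ : b * f₁ = f₁ * b := by
    have h1 := Subgroup.mem_centralizer_singleton_iff.1 he.2
    have hbu : b * u = u * b := U_comm hu hb.1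
    rw [← mul_assoc, mul_assoc f₁ u b, ← hbu, ← mul_assoc] at h1
    exact (mul_right_cancel h1).symm
  -- an element commuting with none
  obtain ⟨f₂, hf₂, hf21, hnone⟩ : ∃ f ∈ O, f ≠ 1 ∧ ∀ w ∈ s, w * f ≠ f * w := by
    by_contra hcon
    push Not at hcon
    let p : Set (G × G) := {q | q.1 ∈ s ∧ q.2 ∈ O ∧ q.2 ≠ 1 ∧ q.1 * q.2 = q.2 * q.1}
    haveI := Fintype.ofFinite G
    haveI := Fintype.ofFinite ↥s
    -- at least two partners for each of the 63 elements
    have hlow : 2 * 63 ≤ Nat.card ↥p := by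
      choose g hg hgc using hcon
      let T := {f : ↥O // (f : G) ≠ 1}
      have hT : Nat.card T = 63 := by
        haveI := Fintype.ofFinite ↥O
        rw [Nat.card_congr (Equiv.subtypeEquivRight (q := fun f : ↥O => f ≠ 1) fun f => by
          rw [ne_eq, ne_eq, OneMemClass.coe_eq_one]), Nat.card_eq_fintype_card, Fintype.card_subtype_compl,
          Fintype.card_subtype_eq, ← Nat.card_eq_fintype_card, hcard]
      let F : Bool × T → ↥p := fun q =>
        ⟨(bif q.1 then z * g _ q.2.1.2 q.2.2 else g _ q.2.1.2 q.2.2, q.2.1), by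
          obtain ⟨t, ⟨f, hf⟩, hf1⟩ := q
          have hgs := hg f hf hf1
          cases t
          · exact ⟨hgs, hf, hf1, hgc f hf hf1⟩
          · refine ⟨⟨mul_mem h.z_W hgs.1, fun hh => hgs.2 ?_⟩, hf, hf1, ?_⟩
            · have := mul_mem (Subgroup.mem_zpowers z) hh
              simpa only [cond_true, ← mul_assoc, h.z_sq, one_mul] using this
            · show z * g f hf hf1 * f = f * (z * g f hf hf1)
              rw [mul_assoc, hgc f hf hf1, ← mul_assoc, ← h.E_z (hO hf), mul_assoc]⟩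
      have hF : Function.Injective F := by
        rintro ⟨t, x⟩ ⟨t', x'⟩ e
        have e2 : ((x.1 : ↥O) : G) = x'.1 := congrArg (fun q : ↥p => q.1.2) e
        have hx : x = x' := Subtype.ext (Subtype.ext e2)
        subst hx
        have e1 := congrArg (fun q : ↥p => q.1.1) e
        cases t <;> cases t' <;> simp only [F, cond_true, cond_false] at e1
        · rfl
        · exact absurd (mul_eq_right.1 e1.symm) h.z_ne
        · exact absurd (mul_eq_right.1 e1) h.z_ne
        · rfl
      have := Nat.card_le_card_of_injective F hF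
      rwa [Nat.card_prod, hT, Nat.card_eq_fintype_card (α := Bool), Fintype.card_bool] at this
    -- at most three for each of the 30 elements of `W`
    have hfib : ∀ w : ↥s, Nat.card {f : G // f ∈ O ∧ f ≠ 1 ∧ (w : G) * f = f * w} ≤ 3 := by
      intro w
      set C := O ⊓ Subgroup.centralizer ({(w : G)} : Set G) with hC
      let m : ↥C × ↥(U E W) → ↥(E ⊓ Subgroup.centralizer ({(w : G)} : Set G)) := fun q =>
        ⟨q.1 * q.2, mul_mem (hO q.1.2.1) (U_le q.2.2), mul_mem q.1.2.2
          (Subgroup.mem_centralizer_singleton_iff.2 (U_comm q.2.2 w.2.1).symm)⟩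
      have hinj : Function.Injective m := by
        rintro ⟨a, u⟩ ⟨a', u'⟩ e
        have e' : (a : G) * u = a' * u' := congrArg Subtype.val e
        have h1 : (a' : G)⁻¹ * a = u' * (u : G)⁻¹ := by
          calc (a' : G)⁻¹ * a = (a' : G)⁻¹ * (a * u) * (u : G)⁻¹ := by group
            _ = u' * (u : G)⁻¹ := by rw [e']; group
        have h2 : (a' : G)⁻¹ * a = 1 :=
          Subgroup.mem_bot.1 (hOU ▸ ⟨mul_mem (O.inv_mem a'.2.1) a.2.1, h1 ▸ mul_mem u'.2 ((U E W).inv_mem u.2)⟩)
        have h3 : a = a' := Subtype.ext (inv_mul_eq_one.1 h2).symm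
        subst h3
        exact Prod.ext rfl (Subtype.ext (mul_left_cancel e'))
      have h4 := Nat.card_le_card_of_injective m hinj
      rw [Nat.card_prod, h.card_U, h.main.1 w w.2.1 w.2.2] at h4
      let j : Option {f : G // f ∈ O ∧ f ≠ 1 ∧ (w : G) * f = f * w} → ↥C := fun o =>
        o.elim 1 fun f => ⟨f.1, f.2.1, Subgroup.mem_centralizer_singleton_iff.2 f.2.2.2.symm⟩
      have hj : Function.Injective j := by
        rintro (_ | ⟨f, hf⟩) (_ | ⟨f', hf'⟩) e
        · rfl
        · exact absurd (congrArg Subtype.val e).symm hf'.2.1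
        · exact absurd (congrArg Subtype.val e) hf.2.1
        · exact congrArg some (Subtype.ext (congrArg (fun x : ↥C => (x : G)) e :))
      have h5 := Nat.card_le_card_of_injective j hj
      rw [Finite.card_option] at h5
      omega
    have hhigh : Nat.card ↥p ≤ Nat.card ↥s * 3 := by
      let e : ↥p → Σ w : ↥s, {f : G // f ∈ O ∧ f ≠ 1 ∧ (w : G) * f = f * w} := fun q =>
        ⟨⟨q.1.1, q.2.1⟩, q.1.2, q.2.2⟩
      have he : Function.Injective e := by
        intro q q' hq
        have h1 := congrArg (fun x : Σ w : ↥s, {f : G // f ∈ O ∧ f ≠ 1 ∧ (w : G) * f = f * w} =>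
          ((x.1 : G), (x.2 : G))) hq
        exact Subtype.ext h1
      refine (Nat.card_le_card_of_injective e he).trans ?_
      rw [Nat.card_sigma, Nat.card_eq_fintype_card (α := ↥s)]
      exact (Finset.sum_le_sum fun w _ => hfib w).trans (by simp)
    have hs30 : Nat.card ↥s ≤ 32 := by
      rw [← h.card_W]
      exact Nat.card_mono (Set.toFinite _) fun w hw => hw.1
    omega
  refine ⟨f₁, hf₁, f₂, hf₂, hf11, hf21, Ne.symm (ne_of_lt ?_)⟩
  have hlow : Nat.card ↥((U E W ⊔ W) ⊓ Subgroup.centralizer ({f₂} : Set G)) = 64 := by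
    rw [← h.card_centralizer_U (hO hf₂) (hnotU f₂ hf₂ hf21)]
    refine congrArg (fun K : Subgroup G => Nat.card ↥K) ?_
    refine le_antisymm ?_ (inf_le_inf_right _ le_sup_left)
    rintro x ⟨hx, hxc⟩
    obtain ⟨u, hu, w, hw, rfl, hfu, hwf⟩ :=
      h.centralizer_inf_V (hO hf₂) hx (Subgroup.mem_centralizer_singleton_iff.1 hxc).symm
    have hwz : w ∈ Subgroup.zpowers z := by_contra fun hwz => hnone w ⟨hw, hwz⟩ hwf
    exact ⟨mul_mem hu ((Subgroup.zpowers_le.2 h.z_U) hwz), hxc⟩
  rw [hlow, ← h.card_centralizer_U (hO hf₁) (hnotU f₁ hf₁ hf11)]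
  refine lt_of_le_of_ne (Subgroup.card_le_of_le (inf_le_inf_right _ le_sup_left)) fun e => hb.2 ?_
  have hbmem : b ∈ (U E W ⊔ W) ⊓ Subgroup.centralizer ({f₁} : Set G) :=
    ⟨Subgroup.mem_sup_right hb.1, Subgroup.mem_centralizer_singleton_iff.2 hbf₁⟩
  rw [← Subgroup.eq_of_le_of_card_ge (inf_le_inf_right _ le_sup_left) e.ge] at hbmem
  exact h.mem_Z.2 (h.W_inf_E hb.1 (U_le hbmem.1))

end HexTransitive

end CfsgLib.JFour
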