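import Cfsg.Agent.Lib.JFour.SplitLift
import Cfsg.Agent.Lib.JFour.SplitClass
import Cfsg.Agent.Lib.JFour.PointsInst
import Cfsg.Agent.Lib.JFour.PointIso
import Cfsg.Agent.S5394

/-!
# Groups of Janko-four type: a group of order `2 ^ 10` in `N(V)` meeting `V` trivially

The elementary abelian group `O` opposite to `V` and a lift `T` of a Sylow 2-subgroup of the stabiliser
of two disjoint hexads.  The outer generator of `T` is an involution because `M24` has two classes of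
involutions and `O` meets both.
-/

set_option autoImplicit false
set_option linter.unusedSectionVars false
set_option linter.style.haveILetI false

open Cfsg

namespace CfsgLib.JFour

variable {G : Type*} [Group G]

/-- A map onto `M24` with kernel `V` leaves two classes of involutions modulo `V`. -/
theorem two_classes_of_surjection {V : Subgroup G}
    (q : ↥(Subgroup.normalizer (V : Set G)) →* ↥Cfsg.M24) (hq : Function.Surjective q)
    (hk : q.ker = V.subgroupOf (Subgroup.normalizer (V : Set G))) (a b c : G)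
    (ha : a ∈ Subgroup.normalizer (V : Set G)) (haV : a ∉ V) (ha2 : a * a ∈ V)
    (hb : b ∈ Subgroup.normalizer (V : Set G)) (hbV : b ∉ V) (hb2 : b * b ∈ V)
    (hc : c ∈ Subgroup.normalizer (V : Set G)) (hcV : c ∉ V) (hc2 : c * c ∈ V) :
    (∃ n ∈ Subgroup.normalizer (V : Set G), ∃ v ∈ V, n * a * n⁻¹ = b * v) ∨
      (∃ n ∈ Subgroup.normalizer (V : Set G), ∃ v ∈ V, n * a * n⁻¹ = c * v) ∨
      (∃ n ∈ Subgroup.normalizer (V : Set G), ∃ v ∈ V, n * b * n⁻¹ = c * v) := by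
  have hord : ∀ x (hx : x ∈ Subgroup.normalizer (V : Set G)), x ∉ V → x * x ∈ V →
      orderOf ((q ⟨x, hx⟩ : ↥Cfsg.M24) : Equiv.Perm GolayPt) = 2 := by
    intro x hx hxV hx2
    rw [Subgroup.orderOf_coe]
    refine orderOf_eq_prime ?_ fun h => hxV ?_
    · rw [pow_two, ← map_mul, ← MonoidHom.mem_ker, hk, Subgroup.mem_subgroupOf]
      exact hx2
    · rw [← MonoidHom.mem_ker, hk, Subgroup.mem_subgroupOf] at h
      exact h
  have hkey : ∀ x (hx : x ∈ Subgroup.normalizer (V : Set G)) y (hy : y ∈ Subgroup.normalizer (V : Set G)),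
      x ∉ V → x * x ∈ V → y ∉ V → y * y ∈ V →
      ((∀ p, ((q ⟨x, hx⟩ : ↥Cfsg.M24) : Equiv.Perm GolayPt) p ≠ p) ↔
        (∀ p, ((q ⟨y, hy⟩ : ↥Cfsg.M24) : Equiv.Perm GolayPt) p ≠ p)) →
      ∃ n ∈ Subgroup.normalizer (V : Set G), ∃ v ∈ V, n * x * n⁻¹ = y * v := by
    intro x hx y hy hxV hx2 hyV hy2 hiff
    obtain ⟨k, hkM, e⟩ := Cfsg.Agent.S5394.result.2.2.2 _ (q ⟨x, hx⟩).2 _ (q ⟨y, hy⟩).2
      (hord x hx hxV hx2) (hord y hy hyV hy2) hiff
    obtain ⟨n, hn⟩ := hq ⟨k, hkM⟩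
    have h1 : (⟨y, hy⟩ : ↥(Subgroup.normalizer (V : Set G)))⁻¹ * (n * ⟨x, hx⟩ * n⁻¹) ∈ q.ker := by
      have e' : q n * q ⟨x, hx⟩ * (q n)⁻¹ = q ⟨y, hy⟩ := by rw [hn]; exact Subtype.ext e
      rw [MonoidHom.mem_ker, map_mul, map_mul, map_mul, map_inv, map_inv, e', inv_mul_cancel]
    rw [hk, Subgroup.mem_subgroupOf] at h1
    exact ⟨n, n.2, y⁻¹ * ((n : G) * x * (n : G)⁻¹), h1, by group⟩
  by_cases h1 : ∀ p, ((q ⟨a, ha⟩ : ↥Cfsg.M24) : Equiv.Perm GolayPt) p ≠ p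
  · by_cases h2 : ∀ p, ((q ⟨b, hb⟩ : ↥Cfsg.M24) : Equiv.Perm GolayPt) p ≠ p
    · exact Or.inl (hkey a ha b hb haV ha2 hbV hb2 (iff_of_true h1 h2))
    · by_cases h3 : ∀ p, ((q ⟨c, hc⟩ : ↥Cfsg.M24) : Equiv.Perm GolayPt) p ≠ p
      · exact Or.inr (Or.inl (hkey a ha c hc haV ha2 hcV hc2 (iff_of_true h1 h3)))
      · exact Or.inr (Or.inr (hkey b hb c hc hbV hb2 hcV hc2 (iff_of_false h2 h3)))
  · by_cases h2 : ∀ p, ((q ⟨b, hb⟩ : ↥Cfsg.M24) : Equiv.Perm GolayPt) p ≠ p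
    · by_cases h3 : ∀ p, ((q ⟨c, hc⟩ : ↥Cfsg.M24) : Equiv.Perm GolayPt) p ≠ p
      · exact Or.inr (Or.inr (hkey b hb c hc hbV hb2 hcV hc2 (iff_of_true h2 h3)))
      · exact Or.inr (Or.inl (hkey a ha c hc haV ha2 hcV hc2 (iff_of_false h1 h3)))
    · exact Or.inl (hkey a ha b hb haV ha2 hbV hb2 (iff_of_false h1 h2))

/-- Conjugation by the normaliser modulo `V` preserves the number of fixed elements of `V`. -/
theorem card_fixed_of_conj {V : Subgroup G} (hVc : ∀ a ∈ V, ∀ b ∈ V, a * b = b * a) {f f' n v : G}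
    (hn : n ∈ Subgroup.normalizer (V : Set G)) (hv : v ∈ V) (e : n * f * n⁻¹ = f' * v) :
    Nat.card ↥(V ⊓ Subgroup.centralizer ({f} : Set G)) =
      Nat.card ↥(V ⊓ Subgroup.centralizer ({f'} : Set G)) := by
  rw [← Subgroup.card_map_of_injective (f := (MulAut.conj n).toMonoidHom) (MulAut.conj n).injective]
  refine congrArg (fun K : Subgroup G => Nat.card ↥K) ?_
  ext x
  simp only [Subgroup.mem_map_equiv, MulAut.conj_symm_apply, Subgroup.mem_inf,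
    Subgroup.mem_centralizer_singleton_iff]
  have hxV : n⁻¹ * x * n ∈ V ↔ x ∈ V := by
    have := Subgroup.mem_normalizer_iff.1 (inv_mem hn) x
    rw [inv_inv] at this
    exact this.symm
  rw [hxV]
  refine and_congr_right fun hx => ?_
  constructor
  · intro h
    have h1 : x * (n * f * n⁻¹) = (n * f * n⁻¹) * x := by
      calc x * (n * f * n⁻¹) = n * ((n⁻¹ * x * n) * f) * n⁻¹ := by group
        _ = n * (f * (n⁻¹ * x * n)) * n⁻¹ := by rw [h]
        _ = (n * f * n⁻¹) * x := by group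
    rw [e, mul_assoc f', hVc v hv x hx, ← mul_assoc, ← mul_assoc] at h1
    exact mul_right_cancel h1
  · intro h
    have h1 : x * (n * f * n⁻¹) = (n * f * n⁻¹) * x := by
      rw [e, mul_assoc f', hVc v hv x hx, ← mul_assoc, ← mul_assoc, h]
    calc n⁻¹ * x * n * f = n⁻¹ * (x * (n * f * n⁻¹)) * n := by group
      _ = n⁻¹ * ((n * f * n⁻¹) * x) * n := by rw [h1]
      _ = f * (n⁻¹ * x * n) := by group

variable {z : G} {P N : Subgroup G}

namespace DuadFrame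

set_option quotPrecheck false in
local notation "ℋ" => Subgroup.centralizer (singleton z : Set G)
set_option quotPrecheck false in
local notation "ℰ" => twoCoreOfCentralizer z
set_option quotPrecheck false in
local notation "𝒩" => (Subgroup.centralizer (singleton z : Set G) ⊓ Subgroup.normalizer (P : Set G))
set_option quotPrecheck false in
local notation "𝒞" => (Subgroup.centralizer (singleton z : Set G) ⊓ Subgroup.centralizer (P : Set G))

variable [Finite G] {π : ↥(Subgroup.centralizer ({z} : Set G)) →* MulAut ↥Spor.M22}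
  {M B : Subgroup (MulAut ↥Spor.M22)} {R W : Subgroup G} {five : Set (Subgroup G)} {A : Set G}
  (D : DuadFrame (P := P) (N := N) π M B R W five A) (L : Lifted P π M B R W)
include D L

set_option quotPrecheck false in
local notation "V₀" => HexFrame.U (twoCoreOfCentralizer z) W ⊔ W

/-- A group of order `2 ^ 10` in `N(V)` meeting `V` trivially. -/
theorem exists_two_group {g : MulAut ↥Spor.M22} (hBg : B ⊓ M.map (MulAut.conj g).toMonoidHom = ⊥)
    (hL : Nat.card ↥(M ⊓ M.map (MulAut.conj g).toMonoidHom) = 720)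
    (htwo : ∀ a b c : G,
      a ∈ Subgroup.normalizer ((V₀ : Subgroup G) : Set G) → a ∉ V₀ → a * a ∈ V₀ →
      b ∈ Subgroup.normalizer ((V₀ : Subgroup G) : Set G) → b ∉ V₀ → b * b ∈ V₀ →
      c ∈ Subgroup.normalizer ((V₀ : Subgroup G) : Set G) → c ∉ V₀ → c * c ∈ V₀ →
      (∃ n ∈ Subgroup.normalizer ((V₀ : Subgroup G) : Set G), ∃ v ∈ V₀, n * a * n⁻¹ = b * v) ∨
      (∃ n ∈ Subgroup.normalizer ((V₀ : Subgroup G) : Set G), ∃ v ∈ V₀, n * a * n⁻¹ = c * v) ∨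
      (∃ n ∈ Subgroup.normalizer ((V₀ : Subgroup G) : Set G), ∃ v ∈ V₀, n * b * n⁻¹ = c * v)) :
    ∃ K : Subgroup G, K ≤ Subgroup.normalizer ((V₀ : Subgroup G) : Set G) ∧
      Nat.card ↥K = 2 ^ 10 ∧ K ⊓ V₀ = ⊥ := by
  classical
  have F := D.frame
  obtain ⟨f, -, halt, hone, hσ, -⟩ := F.exists_mul_B hBg hL
  set Lg := M ⊓ M.map (MulAut.conj g).toMonoidHom with hLg
  let fL : ↥Lg →* Equiv.Perm (Fin 6) := f.comp (Subgroup.inclusion inf_le_left)
  have hinj : Function.Injective fL := by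
    rw [← MonoidHom.ker_eq_bot_iff, eq_bot_iff]
    intro x hx
    exact Subgroup.mem_bot.2 (Subtype.ext (hone x x.2 hx))
  have hex : ∀ σ, ∃ l : ↥Lg, fL l = σ := fun σ => by
    obtain ⟨l, hl, e⟩ := hσ σ
    exact ⟨⟨l, hl⟩, e⟩
  obtain ⟨la, hla⟩ := hex (Equiv.swap 0 1 * Equiv.swap 4 5)
  obtain ⟨lb, hlb⟩ := hex (Equiv.swap 0 2 * Equiv.swap 1 3)
  obtain ⟨lo, hlo⟩ := hex (Equiv.swap 4 5)
  have hla2 : la * la = 1 := hinj (by rw [map_mul, map_one, hla]; decide)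
  have hlb2 : lb * lb = 1 := hinj (by rw [map_mul, map_one, hlb]; decide)
  have hlo2 : lo * lo = 1 := hinj (by rw [map_mul, map_one, hlo]; decide)
  have hloa : lo * la = la * lo := hinj (by rw [map_mul, map_mul, hla, hlo]; decide)
  have hlob : lo * lb = lb * lo := hinj (by rw [map_mul, map_mul, hlb, hlo]; decide)
  have hlr4 : (la * lb) ^ 4 = 1 := hinj (by rw [map_pow, map_mul, map_one, hla, hlb]; decide)
  have hI : ∀ l : ↥Lg, fL l ∈ alternatingGroup (Fin 6) → (l : MulAut ↥Spor.M22) ∈ Inn ↥Spor.M22 :=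
    fun l h => (halt ⟨l, l.2.1⟩).1 h
  have hne : ∀ l : ↥Lg, fL l ≠ 1 → (l : MulAut ↥Spor.M22) ≠ 1 := fun l h e =>
    h (by rw [show l = 1 from Subtype.ext e, map_one])
  have hord : ∀ l : ↥Lg, l * l = 1 → fL l ≠ 1 → orderOf (l : MulAut ↥Spor.M22) = 2 := fun l h2 h1 =>
    orderOf_eq_prime (by rw [pow_two, ← Subgroup.coe_mul, h2, Subgroup.coe_one]) (hne l h1)
  -- the two inner lifts
  obtain ⟨x, hx, hπx, hxx, hxc⟩ := D.exists_lift L (hI la (by
    rw [hla, Equiv.Perm.mem_alternatingGroup]; decide)) (hord la hla2 (by rw [hla]; decide))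
  obtain ⟨y, hy, hπy, hyy, hyc⟩ := D.exists_lift L (hI lb (by
    rw [hlb, Equiv.Perm.mem_alternatingGroup]; decide)) (hord lb hlb2 (by rw [hlb]; decide))
  -- the outer lift
  obtain ⟨n0, hn0, hπ0⟩ := F.exists_lift_N (lo : MulAut ↥Spor.M22)
  set o := n0 ^ 3 with ho_def
  have ho : o ∈ 𝒩 := pow_mem hn0 3
  have hlo2' : (lo : MulAut ↥Spor.M22) * lo = 1 := by rw [← Subgroup.coe_mul, hlo2, Subgroup.coe_one]
  have hπo : π ⟨o, ho.1⟩ = lo := by
    rw [show π ⟨o, ho.1⟩ = π (⟨n0, hn0.1⟩ ^ 3) from rfl, map_pow, hπ0, pow_succ, pow_two, hlo2', one_mul]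
  have hd1 : π ⟨o * o, mul_mem ho.1 ho.1⟩ = 1 := by rw [F.pi_mul ho.1 ho.1, hπo, hlo2']
  have hoo : o * o = 1 ∨ o * o = z := by
    refine F.two_zP (x := o * o) (mul_mem ho ho) hd1 ?_
    have h6 : (n0 * n0) ^ 6 = 1 := orderOf_dvd_iff_pow_eq_one.1 (F.setting.card_zP ▸
      Subgroup.orderOf_dvd_natCard _ (F.mem_zP_of_pi (mul_mem hn0 hn0)
        (by rw [F.pi_mul hn0.1 hn0.1, hπ0, hlo2'])))
    rw [ho_def, ← pow_add, ← pow_mul, show (3 + 3) * 32 = 2 * 6 * 16 by norm_num, pow_mul, pow_mul,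
      pow_two, h6, one_pow]
  obtain ⟨O, hOE, hOcard, hOsq, hOV, hOnorm⟩ := F.exists_opp L hBg hL
  have hVH : ∀ {v : G}, v ∈ V₀ → v ∈ ℋ := fun hv => F.V_le_H L hv
  have hmemM : ∀ {q : G} (hq : q ∈ ℋ), π ⟨q, hq⟩ ∈ M →
      q ∈ Subgroup.normalizer ((V₀ : Subgroup G) : Set G) := fun hq h =>
    F.preH_le_normalizer L (mem_preH.2 ⟨hq, h⟩)
  have hOH : ∀ a ∈ O, a ∈ ℋ := fun a ha => F.setting.E_le (hOE ha)
  have hπO : ∀ a (ha : a ∈ O), π ⟨a, hOH a ha⟩ = 1 := fun a ha =>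
    (F.setting.pi_eq_one_iff F.ker_eq _).2 (F.setting.E_le_N (hOE ha))
  have hON : O ≤ Subgroup.normalizer ((V₀ : Subgroup G) : Set G) := fun a ha =>
    hmemM (hOH a ha) (by rw [hπO a ha]; exact one_mem M)
  have hBLg : ∀ l ∈ Lg, l ∈ B → l = 1 := fun l hl hlB => Subgroup.mem_bot.1 (hBg ▸ ⟨hlB, hl.2⟩)
  have hoone : o * o = 1 := by
    rcases hoo with h | h
    · exact h
    exfalso
    obtain ⟨f₁, hf₁, f₂, hf₂, hf11, hf21, hne12⟩ := L.hex.exists_two_types hOE hOcard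
      (eq_bot_iff.2 fun a ha => hOV ▸ ⟨ha.1, Subgroup.mem_sup_left ha.2⟩)
    have hOnV : ∀ a ∈ O, a ≠ 1 → a ∉ V₀ := fun a ha ha1 hV =>
      ha1 (Subgroup.mem_bot.1 (hOV ▸ ⟨ha, hV⟩))
    have hoV : o ∉ V₀ := fun hV => by
      have h1 := hBLg _ lo.2 (hπo ▸ F.pi_V L hV ho.1)
      exact hne lo (by rw [hlo]; decide) h1
    have hoN := hmemM ho.1 (hπo.symm ▸ lo.2.1)
    have hroot : ∀ f' ∈ O, ∀ n v, v ∈ V₀ → n * f' * n⁻¹ = o * v → False := by
      intro f' hf' n v hv e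
      refine D.no_root_coset L ho (hπo.symm ▸ lo.2.1) h hv (f := n * f' * n⁻¹) ?_ ?_
      · rw [show n * f' * n⁻¹ * (n * f' * n⁻¹) = n * (f' * f') * n⁻¹ by group, hOsq f' hf']; group
      · rw [e, mul_assoc, D.data.V_sq hv, mul_one]
    rcases htwo f₁ f₂ o (hON hf₁) (hOnV f₁ hf₁ hf11) (by rw [hOsq f₁ hf₁]; exact one_mem _)
      (hON hf₂) (hOnV f₂ hf₂ hf21) (by rw [hOsq f₂ hf₂]; exact one_mem _) hoN hoV
      (by rw [h]; exact D.data.z_mem_V) with ⟨n, hn, v, hv, e⟩ | ⟨n, hn, v, hv, e⟩ | ⟨n, hn, v, hv, e⟩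
    · exact hne12 (card_fixed_of_conj (fun a ha b hb => D.data.V_comm ha hb) hn hv e)
    · exact hroot f₁ hf₁ n v hv e
    · exact hroot f₂ hf₂ n v hv e
  -- the outer lift centralises the inner ones
  have hcomm : ∀ {q : G} (hq : q ∈ 𝒞) (l : ↥Lg), π ⟨q, hq.1⟩ = l → q * q = 1 → ¬ IsConj z q →
      lo * l = l * lo → orderOf (l : MulAut ↥Spor.M22) = 2 → o * q = q * o := by
    intro q hq l hπq hqq hqc hcm hl2
    refine mul_inv_eq_iff_eq_mul.1 (D.lift_unique L hq (F.conj_mem_C ho hq) (by rw [hπq, hl2]) ?_ hqq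
      (by rw [show o * q * o⁻¹ * (o * q * o⁻¹) = o * (q * q) * o⁻¹ by group, hqq]; group) hqc
      (fun h => hqc ((D.data.conj_z_iff o q).1 h)))
    rw [F.pi_conj ho.1 hq.1, hπo, hπq, mul_inv_eq_iff_eq_mul]
    exact congrArg Subtype.val hcm
  have hox : o * x = x * o := hcomm hx la hπx hxx hxc hloa (hord la hla2 (by rw [hla]; decide))
  have hoy : o * y = y * o := hcomm hy lb hπy hyy hyc hlob (hord lb hlb2 (by rw [hlb]; decide))
  set r := x * y with hr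
  have hrC : r ∈ 𝒞 := mul_mem hx hy
  have hxr : x * r * x⁻¹ = r⁻¹ := by
    rw [hr, ← mul_assoc, hxx, one_mul, mul_inv_rev, inv_eq_of_mul_eq_one_right hxx,
      inv_eq_of_mul_eq_one_right hyy]
  have hπr : π ⟨r, hrC.1⟩ = ((la * lb : ↥Lg) : MulAut ↥Spor.M22) := by
    rw [F.pi_mul hx.1 hy.1, hπx, hπy]; rfl
  have hr4 : r ^ 4 = 1 := by
    have hπ4 : π ⟨r ^ 4, pow_mem hrC.1 4⟩ = 1 := by
      rw [show π ⟨r ^ 4, _⟩ = π (⟨r, hrC.1⟩ ^ 4) from rfl, map_pow, hπr, ← SubmonoidClass.coe_pow, hlr4]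
      rfl
    have h4C : r ^ 4 ∈ 𝒞 := pow_mem hrC 4
    have hle : Subgroup.zpowers z ⊔ P ≤ Subgroup.centralizer ({x} : Set G) := sup_le
      (Subgroup.zpowers_le.2 (Subgroup.mem_centralizer_singleton_iff.2 (F.setting.comm_z hx.1).symm))
      fun q hq => Subgroup.mem_centralizer_singleton_iff.2 (Subgroup.mem_centralizer_iff.1 hx.2 q hq)
    have hfix : x * r ^ 4 * x⁻¹ = r ^ 4 := mul_inv_eq_iff_eq_mul.2
      (Subgroup.mem_centralizer_singleton_iff.1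
        (hle (F.mem_zP_of_pi (F.setting.C_le_normalizer_P h4C) hπ4))).symm
    have h8 : r ^ 8 = 1 := by
      rw [show (8 : ℕ) = 4 + 4 from rfl, pow_add]
      nth_rewrite 1 [← hfix]
      rw [← conj_pow, hxr, inv_pow, inv_mul_cancel]
    have h2C : r ^ 2 ∈ 𝒞 := pow_mem hrC 2
    have := D.mul_self_eq_one L (x := r ^ 2) h2C
      (by rw [← pow_mul, show 2 * 32 = 8 * 8 by norm_num, pow_mul, h8, one_pow]) (by
        rw [← map_mul, ← hπ4]
        congr 1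
        exact Subtype.ext (pow_add r 2 2).symm)
    rwa [← pow_add] at this
  -- the lifted Sylow subgroup
  let X : Subgroup G :=
    { carrier := {q | ∃ hq : q ∈ 𝒩, π ⟨q, hq.1⟩ ∈ Lg}
      one_mem' := ⟨one_mem _, by rw [show π ⟨(1 : G), _⟩ = 1 from map_one π]; exact one_mem _⟩
      mul_mem' := fun {a b} ha hb => ⟨mul_mem ha.1 hb.1, by
        rw [F.pi_mul ha.1.1 hb.1.1]; exact mul_mem ha.2 hb.2⟩
      inv_mem' := fun {a} ha => ⟨inv_mem ha.1, by rw [F.pi_inv ha.1.1]; exact inv_mem ha.2⟩ }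
  set T : Subgroup G := Subgroup.closure ({x, y, o} : Set G) with hT
  have hTX : T ≤ X := (Subgroup.closure_le _).2 fun q hq => by
    rcases hq with rfl | rfl | rfl
    · exact ⟨F.setting.C_le_normalizer_P hx, hπx.symm ▸ la.2⟩
    · exact ⟨F.setting.C_le_normalizer_P hy, hπy.symm ▸ lb.2⟩
    · exact ⟨ho, hπo.symm ▸ lo.2⟩
  have hor : Commute o r := (show Commute o x from hox).mul_right hoy
  have hxpow : ∀ i : ℕ, x * r ^ i = r ^ (3 * i) * x := fun i => by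
    refine mul_inv_eq_iff_eq_mul.1 ?_
    rw [← conj_pow, hxr, pow_mul,
      show r ^ 3 = r⁻¹ from eq_inv_of_mul_eq_one_left (by rw [← pow_succ, hr4])]
  have hform : ∀ q ∈ T, ∃ i j k : ℕ, q = r ^ i * x ^ j * o ^ k := by
    intro q hq
    have hgx : ∀ i j k : ℕ, x * (r ^ i * x ^ j * o ^ k) = r ^ (3 * i) * x ^ (j + 1) * o ^ k := fun i j k => by
      rw [← mul_assoc, ← mul_assoc, hxpow, mul_assoc (r ^ (3 * i)), ← pow_succ']
    have hgy : ∀ i j k : ℕ, y * (r ^ i * x ^ j * o ^ k) = r ^ (3 * (i + 1)) * x ^ (j + 1) * o ^ k :=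
      fun i j k => by
        rw [show y = x * r by rw [hr, ← mul_assoc, hxx, one_mul], mul_assoc x r, ← hgx, pow_succ']
        group
    have hgo : ∀ i j k : ℕ, o * (r ^ i * x ^ j * o ^ k) = r ^ i * x ^ j * o ^ (k + 1) := fun i j k => by
      have h : Commute o (r ^ i * x ^ j) := (hor.pow_right i).mul_right (Commute.pow_right hox j)
      rw [← mul_assoc, h.eq, mul_assoc, ← pow_succ']
    refine Subgroup.closure_induction_left (p := fun q _ => ∃ i j k : ℕ, q = r ^ i * x ^ j * o ^ k)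
      ⟨0, 0, 0, by simp⟩ ?_ ?_ hq
    · rintro s hs q _ ⟨i, j, k, rfl⟩
      rcases hs with rfl | rfl | rfl
      · exact ⟨_, _, _, hgx i j k⟩
      · exact ⟨_, _, _, hgy i j k⟩
      · exact ⟨_, _, _, hgo i j k⟩
    · rintro s hs q _ ⟨i, j, k, rfl⟩
      rcases hs with rfl | rfl | rfl
      · rw [inv_eq_of_mul_eq_one_right hxx]; exact ⟨_, _, _, hgx i j k⟩
      · rw [inv_eq_of_mul_eq_one_right hyy]; exact ⟨_, _, _, hgy i j k⟩
      · rw [inv_eq_of_mul_eq_one_right hoone]; exact ⟨_, _, _, hgo i j k⟩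
  have hxT : x ∈ T := Subgroup.subset_closure (Set.mem_insert _ _)
  have hyT : y ∈ T := Subgroup.subset_closure (Set.mem_insert_of_mem _ (Set.mem_insert _ _))
  have hoT : o ∈ T := Subgroup.subset_closure
    (Set.mem_insert_of_mem _ (Set.mem_insert_of_mem _ (Set.mem_singleton _)))
  have hrT : r ∈ T := mul_mem hxT hyT
  let φ : Fin 4 × Fin 2 × Fin 2 → ↥T := fun q => ⟨r ^ (q.1 : ℕ) * x ^ (q.2.1 : ℕ) * o ^ (q.2.2 : ℕ),
    mul_mem (mul_mem (pow_mem hrT _) (pow_mem hxT _)) (pow_mem hoT _)⟩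
  have hφs : Function.Surjective φ := by
    rintro ⟨q, hq⟩
    obtain ⟨i, j, k, rfl⟩ := hform q hq
    refine ⟨⟨⟨i % 4, Nat.mod_lt _ (by norm_num)⟩, ⟨j % 2, Nat.mod_lt _ (by norm_num)⟩,
      ⟨k % 2, Nat.mod_lt _ (by norm_num)⟩⟩, Subtype.ext ?_⟩
    show r ^ (i % 4) * x ^ (j % 2) * o ^ (k % 2) = _
    rw [← pow_eq_pow_mod i hr4, ← pow_eq_pow_mod j (by rw [pow_two, hxx]),
      ← pow_eq_pow_mod k (by rw [pow_two, hoone])]
  let ψ : ↥T →* Equiv.Perm (Fin 6) := fL.comp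
    { toFun := fun t => (⟨π ⟨t, (hTX t.2).1.1⟩, (hTX t.2).2⟩ : ↥Lg)
      map_one' := Subtype.ext (map_one π)
      map_mul' := fun a b => Subtype.ext (F.pi_mul (hTX a.2).1.1 (hTX b.2).1.1) }
  have hψ : ∀ q : Fin 4 × Fin 2 × Fin 2, ψ (φ q) =
      (Equiv.swap 0 1 * Equiv.swap 4 5 * (Equiv.swap 0 2 * Equiv.swap 1 3)) ^ (q.1 : ℕ) *
        (Equiv.swap 0 1 * Equiv.swap 4 5) ^ (q.2.1 : ℕ) * (Equiv.swap 4 5) ^ (q.2.2 : ℕ) := by
    intro q
    show fL ⟨π (⟨r, hrC.1⟩ ^ (q.1 : ℕ) * ⟨x, hx.1⟩ ^ (q.2.1 : ℕ) * ⟨o, ho.1⟩ ^ (q.2.2 : ℕ)), _⟩ = _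
    rw [← hla, ← hlb, ← hlo, ← map_mul, ← map_pow, ← map_pow, ← map_pow, ← map_mul, ← map_mul]
    refine congrArg fL (Subtype.ext ?_)
    simp only [map_mul, map_pow, hπr, hπx, hπo, Subgroup.coe_mul, SubmonoidClass.coe_pow]
  have hψinj : Function.Injective (ψ ∘ φ) := by
    intro a b e
    simp only [Function.comp_apply, hψ] at e
    revert a b
    decide +kernel
  have hψinj' : Function.Injective ψ := by
    intro a b e
    obtain ⟨a', rfl⟩ := hφs a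
    obtain ⟨b', rfl⟩ := hφs b
    rw [hψinj (a₁ := a') (a₂ := b') e]
  have hTcard : Nat.card ↥T = 16 := by
    rw [← Nat.card_congr (Equiv.ofBijective φ ⟨hψinj.of_comp, hφs⟩), Nat.card_prod, Nat.card_prod]
    simp
  have hTone : ∀ t (ht : t ∈ T), π ⟨t, (hTX ht).1.1⟩ = 1 → t = 1 := fun t ht h => by
    have h1 : ψ ⟨t, ht⟩ = ψ 1 := by
      rw [map_one]
      show fL ⟨π ⟨t, _⟩, _⟩ = 1
      rw [show (⟨π ⟨t, (hTX ht).1.1⟩, (hTX ht).2⟩ : ↥Lg) = 1 from Subtype.ext h, map_one]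
    exact congrArg Subtype.val (hψinj' h1)
  have hTO : T ≤ Subgroup.normalizer (O : Set G) := fun t ht => hOnorm t (hTX ht).1 (hTX ht).2
  refine ⟨O ⊔ T, sup_le hON fun t ht => hmemM (hTX ht).1.1 (hTX ht).2.1, ?_, ?_⟩
  · have hTOinf : T ⊓ O = ⊥ := eq_bot_iff.2 fun t ht =>
      Subgroup.mem_bot.2 (hTone t ht.1 (hπO t ht.2))
    have h1 := CfsgLib.ThompsonJ.card_sup_mul_card_inf T O hTO
    rw [hTOinf, Subgroup.card_bot, mul_one, hTcard, hOcard, sup_comm] at h1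
    rw [h1]
    norm_num
  · rw [eq_bot_iff]
    rintro q ⟨hq, hqV⟩
    replace hq : q ∈ ((O ⊔ T : Subgroup G) : Set G) := hq
    rw [Subgroup.coe_mul_of_right_le_normalizer_left O T hTO] at hq
    obtain ⟨a, ha, t, ht, rfl⟩ := hq
    have h1 : π ⟨a * t, hVH hqV⟩ = π ⟨t, (hTX ht).1.1⟩ := by
      rw [show π ⟨a * t, hVH hqV⟩ = π ⟨a, hOH a ha⟩ * π ⟨t, (hTX ht).1.1⟩ from
        F.pi_mul (hOH a ha) (hTX ht).1.1, hπO a ha, one_mul]
    have ht1 : t = 1 := hTone t ht (hBLg _ (hTX ht).2 (h1 ▸ F.pi_V L hqV _))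
    subst ht1
    simp only [mul_one] at hqV ⊢
    exact hOV.le ⟨ha, hqV⟩

end DuadFrame

namespace Frame

variable [Finite G] {π : ↥(Subgroup.centralizer ({z} : Set G)) →* MulAut ↥Spor.M22}
  {M B : Subgroup (MulAut ↥Spor.M22)} (F : Frame (P := P) (N := N) π M B) {R W : Subgroup G}
include F

/-- A group of order `2 ^ 10` in `N(V)` meeting `V` trivially, from two disjoint hexads. -/
theorem exists_two_group (L : Lifted P π M B R W)
    (hfus : ∃ v ∈ (HexFrame.U (twoCoreOfCentralizer z) W ⊔ W : Subgroup _), v ≠ z ∧ IsConj z v)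
    {g : MulAut ↥Spor.M22} (hBg : B ⊓ M.map (MulAut.conj g).toMonoidHom = ⊥)
    (hL : Nat.card ↥(M ⊓ M.map (MulAut.conj g).toMonoidHom) = 720) :
    ∃ K : Subgroup G, K ≤ Subgroup.normalizer
      ((HexFrame.U (twoCoreOfCentralizer z) W ⊔ W : Subgroup G) : Set G) ∧
      Nat.card ↥K = 2 ^ 10 ∧ K ⊓ (HexFrame.U (twoCoreOfCentralizer z) W ⊔ W) = ⊥ := by
  obtain ⟨five, A, lam, D, -, PD⟩ := F.exists_duadFrame_points L hfus
  obtain ⟨q, hq, hk⟩ := PD.exists_surjection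
  exact D.exists_two_group L hBg hL fun a b c h1 h2 h3 h4 h5 h6 h7 h8 h9 =>
    two_classes_of_surjection q hq hk a b c h1 h2 h3 h4 h5 h6 h7 h8 h9

end Frame

end CfsgLib.JFour
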