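import Cfsg.Agent.Lib.JFour.DuadPerm
import Cfsg.Agent.Lib.JFour.HexadExists
import Cfsg.Agent.Lib.JFour.DuadChecks

/-!
The action of `Aut M22` on the 22 points: a hexad, and the stabilisers of the pairs of its points.
-/

set_option autoImplicit false
set_option maxRecDepth 100000

namespace CfsgLib.JFour

/-- The requirement on the stabiliser of one pair of points. -/
def DuadAt {A : Type*} [Group A] (I M : Subgroup A) (f : A →* Equiv.Perm (Fin 22)) (R : Finset (Fin 22)) : Prop :=
  ∃ D : Subgroup A, (∀ g : A, g ∈ D ↔ ∀ x ∈ R, f g x ∈ R) ∧ Nat.card ↥D = 3840 ∧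
    Nat.card ↥(D ⊓ I) = 1920 ∧ Nat.card ↥(D ⊓ M) = 768 ∧
    ∃ (K : Subgroup A) (φ : ↥(D ⊓ I) →* Equiv.Perm (Fin 5)),
      Function.Surjective φ ∧ φ.ker = K.subgroupOf (D ⊓ I) ∧ K ≤ D ⊓ I ∧ Nat.card ↥K = 16 ∧
      (∀ k ∈ K, k * k = 1) ∧
      ∀ a ∈ K, a ≠ 1 → ∀ b ∈ K, b ≠ 1 → ∃ g ∈ D ⊓ I, g * a * g⁻¹ = b

/-- The requirement on a pair moves along an isomorphism. -/
theorem DuadAt.map {A A' : Type*} [Group A] [Group A'] {I M : Subgroup A} {f : A →* Equiv.Perm (Fin 22)}
    {f' : A' →* Equiv.Perm (Fin 22)} {R R' : Finset (Fin 22)} (h : DuadAt I M f R) (e : A ≃* A')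
    (hR : ∀ g : A, (∀ x ∈ R, f g x ∈ R) ↔ ∀ x ∈ R', f' (e g) x ∈ R') :
    DuadAt (I.map e.toMonoidHom) (M.map e.toMonoidHom) f' R' := by
  obtain ⟨D, hD, h1, h2, h3, K, φ, hs, hk, hKle, hKc, hKe, hKt⟩ := h
  have hm : ∀ {X : Subgroup A} {x : A}, e x ∈ X.map e.toMonoidHom ↔ x ∈ X := fun {X x} =>
    ⟨fun ⟨y, hy, hye⟩ => e.injective hye ▸ hy, fun hx => ⟨x, hx, rfl⟩⟩
  have hc : ∀ X : Subgroup A, Nat.card ↥(X.map e.toMonoidHom) = Nat.card ↥X := fun X =>
    Subgroup.card_map_of_injective e.injective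
  have hinf : ∀ X Y : Subgroup A, X.map e.toMonoidHom ⊓ Y.map e.toMonoidHom = (X ⊓ Y).map e.toMonoidHom :=
    fun X Y => (Subgroup.map_inf X Y _ e.injective).symm
  have hback : ∀ g : ↥(D.map e.toMonoidHom ⊓ I.map e.toMonoidHom), e.symm (g : A') ∈ D ⊓ I := fun g =>
    ⟨(hm (X := D) (x := e.symm (g : A'))).1 (by rw [e.apply_symm_apply]; exact g.2.1),
      (hm (X := I) (x := e.symm (g : A'))).1 (by rw [e.apply_symm_apply]; exact g.2.2)⟩
  let ι : ↥(D.map e.toMonoidHom ⊓ I.map e.toMonoidHom) →* ↥(D ⊓ I) :=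
    (e.symm.toMonoidHom.comp (Subgroup.subtype _)).codRestrict _ hback
  have hι : Function.Surjective ι := fun y =>
    ⟨⟨e y, hm.2 y.2.1, hm.2 y.2.2⟩, Subtype.ext (e.symm_apply_apply _)⟩
  refine ⟨D.map e.toMonoidHom, fun g => ?_, by rw [hc, h1], by rw [hinf, hc, h2], by rw [hinf, hc, h3],
    K.map e.toMonoidHom, φ.comp ι, hs.comp hι, ?_, by rw [hinf]; exact Subgroup.map_mono hKle,
    by rw [hc, hKc], ?_, ?_⟩
  · obtain ⟨x, rfl⟩ := e.surjective g
    rw [hm, hD, hR]
  · ext g
    rw [MonoidHom.mem_ker, MonoidHom.comp_apply, ← MonoidHom.mem_ker, hk, Subgroup.mem_subgroupOf,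
      Subgroup.mem_subgroupOf]
    conv_rhs => rw [← e.apply_symm_apply (g : A'), hm]
    rfl
  · rintro _ ⟨k, hk', rfl⟩
    show e k * e k = 1
    rw [← map_mul, hKe k hk', map_one]
  · rintro _ ⟨a, ha, rfl⟩ ha1 _ ⟨b, hb, rfl⟩ hb1
    obtain ⟨g, hg, rfl⟩ := hKt a ha (fun k => ha1 (by rw [k]; exact map_one e)) b hb
      (fun k => hb1 (by rw [k]; exact map_one e))
    rw [hinf]
    exact ⟨e g, ⟨g, hg, rfl⟩, by simp⟩

/-- The action data moves along an isomorphism. -/
theorem DuadPerm.map_equiv {A A' : Type*} [Group A] [Group A'] {I M B : Subgroup A}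
    {f : A →* Equiv.Perm (Fin 22)} {Hx : Finset (Fin 22)} (h : DuadPerm I M B f Hx) (e : A ≃* A') :
    DuadPerm (I.map e.toMonoidHom) (M.map e.toMonoidHom) (B.map e.toMonoidHom) (f.comp e.symm.toMonoidHom) Hx := by
  have hm : ∀ {X : Subgroup A} {x : A}, e x ∈ X.map e.toMonoidHom ↔ x ∈ X := fun {X x} =>
    ⟨fun ⟨y, hy, hye⟩ => e.injective hye ▸ hy, fun hx => ⟨x, hx, rfl⟩⟩
  have hf : ∀ a, f.comp e.symm.toMonoidHom (e a) = f a := fun a => congrArg f (e.symm_apply_apply a)
  refine
    { inj := h.inj.comp e.symm.injective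
      card_Hx := h.card_Hx
      mem_M := ?_
      fix_B := ?_
      reg_B := ?_
      three := ?_
      duad := ?_ }
  · intro g
    obtain ⟨x, rfl⟩ := e.surjective g
    rw [hm, h.mem_M, hf]
  · rintro _ ⟨b, hb, rfl⟩ x hx
    show f.comp e.symm.toMonoidHom (e b) x = x
    rw [hf]
    exact h.fix_B b hb x hx
  · intro x y hx hy
    obtain ⟨b, hb, hbx⟩ := h.reg_B x y hx hy
    exact ⟨e b, ⟨b, hb, rfl⟩, by rw [hf]; exact hbx⟩
  · intro R hR h3 g hg
    obtain ⟨x, rfl⟩ := e.surjective g
    rw [hm]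
    exact h.three R hR h3 x fun y hy => by rw [← hf x]; exact hg y hy
  · intro R hR h2
    exact DuadAt.map (h.duad R hR h2) e fun g => by rw [hf]

namespace DuadExists

open Cfsg CfsgLib.Golay CfsgLib.JFour.HexadTables CfsgLib.JFour.HexadPerm CfsgLib.JFour.DuadTables
open scoped Pointwise

local notation "PP" => Equiv.Perm GolayPt
set_option quotPrecheck false in
local notation "HH" => (↥(HexadPerm.pairStab) : Type)

/-- The 22 points other than the pair. -/
def pts (i : Fin 22) : GolayPt := pt (i.val + 1)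

theorem pts_inj : Function.Injective pts := by decide +kernel

theorem pts_notMem : ∀ i, pts i ∉ unmask pairMask := by decide +kernel

theorem exists_pts : ∀ p : GolayPt, p ∉ unmask pairMask → ∃ i, pts i = p := by decide +kernel

theorem exists_img {g : PP} (hg : g ∈ pairStab) (i : Fin 22) : ∃ j, g (pts i) = pts j := by
  have hp : g • unmask pairMask = unmask pairMask := (mem_stabK.1 hg).2 _ (List.mem_cons_self ..)
  obtain ⟨j, hj⟩ := exists_pts (g (pts i)) fun h => by
    rw [← hp] at h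
    exact pts_notMem i ((Finset.smul_mem_smul_finset_iff g).1 h)
  exact ⟨j, hj.symm⟩

/-- The action on the 22 points. -/
noncomputable def actMap (g : HH) (i : Fin 22) : Fin 22 := (exists_img g.2 i).choose

theorem actMap_spec (g : HH) (i : Fin 22) : (g : PP) (pts i) = pts (actMap g i) :=
  (exists_img g.2 i).choose_spec

/-- The action on the 22 points as a homomorphism. -/
noncomputable def act : HH →* Equiv.Perm (Fin 22) :=
  MonoidHom.mk' (fun g => Equiv.ofBijective (actMap g) (Finite.injective_iff_bijective.1 fun i j h =>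
      pts_inj ((g : PP).injective (by rw [actMap_spec, actMap_spec, h]))))
    fun a b => Equiv.ext fun i => pts_inj (by
      rw [Equiv.Perm.mul_apply]
      show pts (actMap (a * b) i) = pts (actMap a (actMap b i))
      rw [← actMap_spec, ← actMap_spec, Subgroup.coe_mul, Equiv.Perm.mul_apply, actMap_spec b])

theorem act_spec (g : HH) (i : Fin 22) : (g : PP) (pts i) = pts (act g i) := actMap_spec g i

theorem smul_image_iff (g : HH) (S : Finset (Fin 22)) :
    (g : PP) • S.image pts = S.image pts ↔ ∀ x ∈ S, act g x ∈ S := by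
  constructor
  · intro h x hx
    have h1 : (g : PP) (pts x) ∈ S.image pts := by
      rw [← h]
      exact Finset.smul_mem_smul_finset (Finset.mem_image_of_mem _ hx)
    rw [act_spec, Finset.mem_image] at h1
    obtain ⟨y, hy, hyx⟩ := h1
    rwa [← pts_inj hyx]
  · intro h
    refine Finset.eq_of_subset_of_card_le ?_ (by rw [Finset.card_smul_finset])
    intro p hp
    obtain ⟨q, hq, rfl⟩ := Finset.mem_smul_finset.1 hp
    obtain ⟨x, hx, rfl⟩ := Finset.mem_image.1 hq
    rw [Equiv.Perm.smul_def, act_spec]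
    exact Finset.mem_image_of_mem _ (h x hx)

/-- The six points among the 22. -/
def hexIdx (i : Fin 6) : Fin 22 := ![11, 13, 15, 16, 17, 21] i

theorem six_eq : ∀ i, six i = pts (hexIdx i) := by decide +kernel

/-- The hexad among the 22 points. -/
def Hx : Finset (Fin 22) := {11, 13, 15, 16, 17, 21}

theorem hexIdx_mem : ∀ i, hexIdx i ∈ Hx := by decide +kernel

theorem exists_hexIdx : ∀ x ∈ Hx, ∃ i, hexIdx i = x := by decide +kernel

theorem hex_diff : unmask hexMask \ unmask pairMask = Hx.image pts := by decide +kernel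

theorem hex_union : unmask hexMask = unmask pairMask ∪ Hx.image pts := by decide +kernel

theorem mem_hexStab_iff (g : HH) : (g : PP) ∈ hexStab ↔ ∀ x ∈ Hx, act g x ∈ Hx := by
  have hp : (g : PP) • unmask pairMask = unmask pairMask := (mem_stabK.1 g.2).2 _ (List.mem_cons_self ..)
  rw [← smul_image_iff, mem_hexStab, and_iff_right g.2]
  constructor
  · intro h
    rw [← hex_diff, Finset.smul_finset_sdiff, hp, h]
  · intro h
    rw [hex_union, Finset.smul_finset_union, hp, h]

theorem act_injective : Function.Injective act := by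
  refine (injective_iff_map_eq_one act).2 fun g hg => Subtype.ext ?_
  have hfix : ∀ p, p ∉ unmask pairMask → (g : PP) p = p := fun p hp => by
    obtain ⟨i, rfl⟩ := exists_pts p hp
    rw [act_spec, hg]
    rfl
  have hd : (g : PP) ∈ stabK outFix := by
    refine mem_stabK.2 ⟨(mem_stabK.1 g.2).1, fun n hn => ?_⟩
    rcases List.mem_cons.1 hn with rfl | hn
    · exact (mem_stabK.1 g.2).2 _ (List.mem_cons_self ..)
    · obtain ⟨i, hi, rfl⟩ := List.mem_map.1 hn
      have hi24 : i < 24 := (show ∀ i ∈ outPts, i < 24 by decide +kernel) i hi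
      have hout : pt i ∉ unmask pairMask := by
        rw [pt_mem_unmask hi24, Bool.not_eq_true]
        exact (show ∀ i ∈ outPts, pairMask.testBit i = false by decide +kernel) i hi
      rw [unmask_two_pow_of_lt hi24, Finset.smul_finset_singleton, Finset.singleton_inj, Equiv.Perm.smul_def,
        hfix _ hout]
  rw [stabK_eq_bot out_ok, Subgroup.mem_bot] at hd
  exact hd

theorem reg_hexGrp (x y : Fin 22) (hx : x ∉ Hx) (hy : y ∉ Hx) :
    ∃ b : HH, (b : PP) ∈ hexGrp ∧ act b x = y := by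
  have hmem : ∀ z : Fin 22, z ∉ Hx → (z.val + 1) ∈ outPts := by decide +kernel
  have hlt : ∀ i ∈ outPts, i < 24 := by decide +kernel
  have key : ∀ z : Fin 22, z ∉ Hx → ∃ c ∈ hexGrp, c (pt (outPts.headD 0)) = pts z := by
    intro z hz
    have h := List.all_eq_true.1 hexB_ok.2.2.2.2.2.2 _ (hmem z hz)
    simp only [List.any_eq_true, Bool.and_eq_true, beq_iff_eq] at h
    obtain ⟨t, ht, -, he⟩ := h
    obtain ⟨c, hc, hct⟩ := exists_hexB ht
    refine ⟨c, hc, idx_injective ?_⟩
    rw [hct, idx_pt (by decide +kernel), he, pts, idx_pt (hlt _ (hmem z hz))]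
  obtain ⟨c, hc, hcx⟩ := key x hx
  obtain ⟨d, hd, hdy⟩ := key y hy
  have hb : d * c⁻¹ ∈ hexGrp := mul_mem hd (inv_mem hc)
  refine ⟨⟨d * c⁻¹, hexStab_le (hexGrp_le hb)⟩, hb, pts_inj ?_⟩
  rw [← act_spec]
  show (d * c⁻¹) (pts x) = pts y
  rw [Equiv.Perm.mul_apply, ← hcx, ← Equiv.Perm.mul_apply c⁻¹, inv_mul_cancel, Equiv.Perm.one_apply, hdy]

theorem hex_octad : unmask hexMask ∈ octads := by
  have h : inCode hexMask = true ∧ popc hexMask = 8 := by decide +kernel
  exact mem_octads_iff.2 ⟨hexMask, inCode_iff.1 h.1, h.2, rfl⟩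

theorem three_points (R : Finset (Fin 22)) (hR : R ⊆ Hx) (h3 : 3 ≤ R.card) (g : HH)
    (hg : ∀ x ∈ R, act g x ∈ Hx) : (g : PP) ∈ hexStab := by
  have hp : (g : PP) • unmask pairMask = unmask pairMask := (mem_stabK.1 g.2).2 _ (List.mem_cons_self ..)
  refine mem_hexStab.2 ⟨g.2, octad_unique (smul_mem_octads (mem_stabK.1 g.2).1 hex_octad) hex_octad ?_⟩
  have hdis : Disjoint (unmask pairMask) (R.image pts) := Finset.disjoint_left.2 fun p hp' hpR => by
    obtain ⟨i, -, rfl⟩ := Finset.mem_image.1 hpR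
    exact pts_notMem i hp'
  have hcard : 5 ≤ ((g : PP) • (unmask pairMask ∪ R.image pts)).card := by
    rw [Finset.card_smul_finset, Finset.card_union_of_disjoint hdis, Finset.card_image_of_injective _ pts_inj,
      show (unmask pairMask).card = 2 by decide +kernel]
    omega
  refine hcard.trans (Finset.card_le_card (Finset.subset_inter ?_ ?_))
  · refine Finset.smul_finset_subset_smul_finset ?_
    rw [hex_union]
    exact Finset.union_subset_union_right (Finset.image_subset_image hR)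
  · rw [Finset.smul_finset_union, hp, hex_union]
    refine Finset.union_subset_union_right ?_
    intro p hp'
    obtain ⟨q, hq, rfl⟩ := Finset.mem_smul_finset.1 hp'
    obtain ⟨x, hx, rfl⟩ := Finset.mem_image.1 hq
    rw [Equiv.Perm.smul_def, act_spec]
    exact Finset.mem_image_of_mem _ (hg x hx)

/-- The five tetrads. -/
def tet (i : Fin 5) : Finset GolayPt := unmask (tetrads.getD i.val 0)

theorem tet_inj : Function.Injective tet := by decide +kernel

/-- The inner part of the stabiliser of the two pairs. -/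
def innStab : Subgroup PP := stabK [1, 2 ^ 23, duadMask]

/-- The kernel of the action on the tetrads. -/
def kerStab : Subgroup PP := stabK (1 :: 2 ^ 23 :: duadMask :: tetrads)

theorem kerStab_le : kerStab ≤ innStab := fun g hg =>
  mem_stabK.2 ⟨(mem_stabK.1 hg).1, fun n hn => (mem_stabK.1 hg).2 n (by
    simp only [List.mem_cons, List.not_mem_nil, or_false] at hn ⊢
    tauto)⟩

theorem innStab_le : innStab ≤ MulAction.stabilizer PP (Finset.univ.image tet) := by
  refine stabK_le chainI_ok.1 fun l hl t ht g hg => ?_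
  rw [MulAction.mem_stabilizer_iff]
  refine Finset.eq_of_subset_of_card_le ?_ (by rw [Finset.card_smul_finset])
  intro S hS
  obtain ⟨U, hU, rfl⟩ := Finset.mem_smul_finset.1 hS
  obtain ⟨i, -, rfl⟩ := Finset.mem_image.1 hU
  have hi : ∀ i : Fin 5, tetrads.getD i.val 0 ∈ tetrads := by decide +kernel
  have h := List.all_eq_true.1 (List.all_eq_true.1 (List.all_eq_true.1 tetrads_invariant l hl) t ht) _ (hi i)
  rw [List.contains_iff_mem] at h
  obtain ⟨j, hj⟩ := (show ∀ m ∈ tetrads, ∃ j : Fin 5, tetrads.getD j.val 0 = m by decide +kernel) _ h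
  refine Finset.mem_image.2 ⟨j, Finset.mem_univ _, ?_⟩
  rw [tet, tet, smul_unmask hg, hj]

theorem exists_tet {g : PP} (hg : g ∈ innStab) (i : Fin 5) : ∃ j, g • tet i = tet j := by
  have h : g • tet i ∈ g • Finset.univ.image tet :=
    Finset.smul_mem_smul_finset (Finset.mem_image_of_mem _ (Finset.mem_univ i))
  rw [MulAction.mem_stabilizer_iff.1 (innStab_le hg), Finset.mem_image] at h
  obtain ⟨j, -, hj⟩ := h
  exact ⟨j, hj.symm⟩

/-- The action on the tetrads. -/
noncomputable def tetMap (g : innStab) (i : Fin 5) : Fin 5 := (exists_tet g.2 i).choose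

theorem tetMap_spec (g : innStab) (i : Fin 5) : (g : PP) • tet i = tet (tetMap g i) :=
  (exists_tet g.2 i).choose_spec

/-- The action on the tetrads as a homomorphism. -/
noncomputable def tetHom : innStab →* Equiv.Perm (Fin 5) :=
  MonoidHom.mk' (fun g => Equiv.ofBijective (tetMap g) (Finite.injective_iff_bijective.1 fun i j h =>
      tet_inj (smul_left_cancel (g : PP) (by rw [tetMap_spec, tetMap_spec, h]))))
    fun a b => Equiv.ext fun i => tet_inj (by
      rw [Equiv.Perm.mul_apply]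
      show tet (tetMap (a * b) i) = tet (tetMap a (tetMap b i))
      rw [← tetMap_spec, ← tetMap_spec, Subgroup.coe_mul, mul_smul, tetMap_spec b])

theorem tetHom_spec (g : innStab) (i : Fin 5) : (g : PP) • tet i = tet (tetHom g i) := tetMap_spec g i

theorem ker_tetHom : tetHom.ker = kerStab.subgroupOf innStab := by
  have hi : ∀ i : Fin 5, tetrads.getD i.val 0 ∈ tetrads := by decide +kernel
  ext g
  rw [MonoidHom.mem_ker, Subgroup.mem_subgroupOf]
  constructor
  · intro h
    refine mem_stabK.2 ⟨(mem_stabK.1 g.2).1, fun n hn => ?_⟩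
    have hn' : n ∈ [1, 2 ^ 23, duadMask] ∨ n ∈ tetrads := by
      simp only [List.mem_cons, List.not_mem_nil, or_false] at hn ⊢
      tauto
    rcases hn' with hn' | hn'
    · exact (mem_stabK.1 g.2).2 n hn'
    · obtain ⟨j, rfl⟩ := (show ∀ m ∈ tetrads, ∃ j : Fin 5, tetrads.getD j.val 0 = m by decide +kernel) _ hn'
      have := tetHom_spec g j
      rwa [h] at this
  · intro h
    refine Equiv.ext fun i => tet_inj ?_
    rw [← tetHom_spec]
    exact (mem_stabK.1 h).2 _ (List.mem_cons_of_mem _ (List.mem_cons_of_mem _ (List.mem_cons_of_mem _ (hi i))))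

theorem exists_inDi {t : ℕ} (h : inDi t = true) : ∃ g : PP, IsTbl g t ∧ g ∈ innStab := by
  simp only [inDi, Bool.and_eq_true, beq_iff_eq] at h
  obtain ⟨g, hg⟩ := exists_isTbl (t := t) (by
    have := h.1.1.1; simp only [inM24, Bool.and_eq_true] at this; exact this.1)
  refine ⟨g, hg, mem_stabK_of_isTbl hg h.1.1.1 fun n hn => ?_⟩
  simp only [List.mem_cons, List.not_mem_nil, or_false] at hn
  rcases hn with rfl | rfl | rfl
  · exact h.1.1.2
  · exact h.1.2
  · exact h.2

theorem tetHom_eq {g : PP} {t : ℕ} (hg : IsTbl g t) (hm : g ∈ innStab) (σ : Equiv.Perm (Fin 5))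
    {p : List ℕ} (ha : actsTet t p = true) (hσ : ∀ i : Fin 5, p.getD i.val 0 = (σ i).val) :
    tetHom ⟨g, hm⟩ = σ := by
  simp only [actsTet, List.all_eq_true, List.mem_range, beq_iff_eq] at ha
  refine Equiv.ext fun i => tet_inj ?_
  rw [← tetHom_spec, tet, tet, smul_unmask hg, ha i.val i.2, hσ]

theorem tetHom_surjective : Function.Surjective tetHom := by
  obtain ⟨h1, h2, h3, h4⟩ := tetGens_ok
  obtain ⟨a, ha, ham⟩ := exists_inDi h1
  obtain ⟨c, hc, hcm⟩ := exists_inDi h3
  have ea := tetHom_eq ha ham (Equiv.swap 0 1) h2 (by decide +kernel)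
  have ec := tetHom_eq hc hcm (finRotate 5) h4 (by decide +kernel)
  rw [← MonoidHom.range_eq_top, eq_top_iff,
    ← Equiv.Perm.closure_cycle_adjacent_swap (σ := finRotate 5) (isCycle_finRotate_of_le (by norm_num))
      (support_finRotate_of_le (by norm_num)) 0,
    Subgroup.closure_le]
  rintro x (rfl | rfl)
  · exact ⟨_, ec⟩
  · exact ⟨_, ea.trans (by decide +kernel)⟩

theorem card_kerStab : Nat.card kerStab = 16 := (card_stabK chainK_ok.1).trans chainK_ok.2

theorem kList_all : ∀ g ∈ kerStab, ∃ t ∈ kList, IsTbl g t := by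
  obtain ⟨hlen, hnd, -, hin, -⟩ := kList_ok
  refine exists_tbl_of_card (List.all_eq_true.2 fun t ht => ?_) hnd (fun t ht g hg => ?_)
    (card_kerStab.trans hlen.symm)
  · have h := List.all_eq_true.1 hin t ht
    simp only [inDi, inM24, Bool.and_eq_true] at h
    exact h.1.1.1.1.1
  · have h := List.all_eq_true.1 hin t ht
    simp only [Bool.and_eq_true, List.all_eq_true, beq_iff_eq] at h
    obtain ⟨g', hg', hm⟩ := exists_inDi h.1
    cases hg.ext hg'
    refine mem_stabK.2 ⟨(mem_stabK.1 hm).1, fun n hn => ?_⟩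
    have hn' : n ∈ [1, 2 ^ 23, duadMask] ∨ n ∈ tetrads := by
      simp only [List.mem_cons, List.not_mem_nil, or_false] at hn ⊢
      tauto
    rcases hn' with hn' | hn'
    · exact (mem_stabK.1 hm).2 n hn'
    · rw [smul_unmask hg, h.2 n hn']

theorem kerStab_sq {a : PP} (ha : a ∈ kerStab) : a * a = 1 := by
  obtain ⟨s, hs, has⟩ := kList_all a ha
  have h := List.all_eq_true.1 kList_ok.2.2.2.2 s hs
  simp only [List.all_eq_true, List.mem_range, beq_iff_eq] at h
  refine Equiv.ext fun p => idx_injective ?_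
  rw [Equiv.Perm.mul_apply, has, has, h _ (idx_lt p)]
  rfl

theorem kerStab_conj {a b : PP} (ha : a ∈ kerStab) (ha1 : a ≠ 1) (hb : b ∈ kerStab) (hb1 : b ≠ 1) :
    ∃ g ∈ innStab, g * a * g⁻¹ = b := by
  obtain ⟨k₁, hk₁⟩ : ∃ k : PP, IsTbl k (kList.getD 1 0) := exists_isTbl (by decide +kernel)
  have key : ∀ c ∈ kerStab, c ≠ 1 → ∃ g ∈ innStab, g * k₁ * g⁻¹ = c := by
    intro c hc hc1
    obtain ⟨t, ht, hct⟩ := kList_all c hc
    obtain ⟨i, hi⟩ := (show ∀ t ∈ kList, ∃ i : Fin 16, kList.getD i.val 0 = t by decide +kernel) t ht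
    have hi0 : i.val ≠ 0 := fun h0 =>
      hc1 (hct.isIdTbl_iff.1 (by rw [← hi, h0]; exact kList_ok.2.2.1))
    have h := List.all_eq_true.1 conjK_ok (i.val - 1) (List.mem_range.2 (by omega))
    simp only [Bool.and_eq_true] at h
    rw [Nat.sub_add_cancel (Nat.pos_of_ne_zero hi0), hi] at h
    obtain ⟨g, hg, hgm⟩ := exists_inDi h.1
    exact ⟨g, hgm, hg.conj hk₁ hct h.2⟩
  obtain ⟨g, hg, rfl⟩ := key a ha ha1
  obtain ⟨k, hk, rfl⟩ := key b hb hb1
  exact ⟨k * g⁻¹, mul_mem hk (inv_mem hg), by group⟩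

/-- The base pair. -/
def baseR : Finset (Fin 22) := {11, 13}

theorem base_image : baseR.image pts = unmask duadMask := by decide +kernel

theorem mem_duadStab {g : PP} :
    g ∈ stabK [pairMask, duadMask] ↔ g ∈ pairStab ∧ g • unmask duadMask = unmask duadMask := by
  rw [pairStab, mem_stabK, mem_stabK]
  simp only [List.mem_cons, List.not_mem_nil, or_false, forall_eq_or_imp, forall_eq]
  tauto

theorem mem_innStab {g : PP} : g ∈ innStab ↔ g ∈ stabK [pairMask, duadMask] ∧ g ∈ twoFix := by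
  have h1 : unmask 1 = {pt 0} := unmask_two_pow_of_lt (i := 0) (by norm_num)
  have h23 : unmask (2 ^ 23) = {pt 23} := unmask_two_pow_of_lt (by norm_num)
  rw [mem_duadStab, mem_twoFix, mem_pairStab, innStab, mem_stabK]
  simp only [List.mem_cons, List.not_mem_nil, or_false, forall_eq_or_imp, forall_eq, h1, h23,
    Finset.smul_finset_singleton, Finset.singleton_inj, Equiv.Perm.smul_def]
  constructor
  · rintro ⟨h, a, b, c⟩
    exact ⟨⟨⟨h, Or.inl ⟨a, b⟩⟩, c⟩, ⟨h, Or.inl ⟨a, b⟩⟩, a⟩
  · rintro ⟨⟨⟨h, hor⟩, c⟩, -, a⟩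
    rcases hor with hor | hor
    · exact ⟨h, a, hor.2, c⟩
    · exact absurd (a.symm.trans hor.1) pt_zero_ne

theorem duadAt_base : DuadAt (twoFix.subgroupOf pairStab) (hexStab.subgroupOf pairStab) act baseR := by
  set D : Subgroup HH := (stabK [pairMask, duadMask]).subgroupOf pairStab with hD
  have hle : stabK [pairMask, duadMask] ≤ pairStab := fun g hg => (mem_duadStab.1 hg).1
  have hIle : innStab ≤ pairStab := fun g hg => hle (mem_innStab.1 hg).1
  have hI : D ⊓ twoFix.subgroupOf pairStab = innStab.subgroupOf pairStab := by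
    ext g
    simp only [hD, Subgroup.mem_inf, Subgroup.mem_subgroupOf, mem_innStab]
  have hM : D ⊓ hexStab.subgroupOf pairStab = (stabK [pairMask, hexMask, duadMask]).subgroupOf pairStab := by
    ext g
    rw [hD, Subgroup.mem_inf, Subgroup.mem_subgroupOf, Subgroup.mem_subgroupOf, Subgroup.mem_subgroupOf,
      hexStab, mem_stabK, mem_stabK, mem_stabK]
    simp only [List.mem_cons, List.not_mem_nil, or_false, forall_eq_or_imp, forall_eq]
    tauto
  let ι : ↥(D ⊓ twoFix.subgroupOf pairStab) →* ↥innStab :=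
    ((pairStab).subtype.comp (Subgroup.subtype _)).codRestrict innStab fun g =>
      mem_innStab.2 ⟨g.2.1, g.2.2⟩
  have hι : Function.Surjective ι := fun y =>
    ⟨⟨⟨y, hIle y.2⟩, (mem_innStab.1 y.2).1, (mem_innStab.1 y.2).2⟩, rfl⟩
  have hKle : kerStab ≤ pairStab := kerStab_le.trans hIle
  refine ⟨D, fun g => ?_, ?_, ?_, ?_, kerStab.subgroupOf pairStab, tetHom.comp ι,
    tetHom_surjective.comp hι, ?_, ?_, ?_, ?_, ?_⟩
  · rw [← smul_image_iff, base_image, hD, Subgroup.mem_subgroupOf, mem_duadStab, and_iff_right g.2]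
  · rw [hD, Nat.card_congr (Subgroup.subgroupOfEquivOfLe hle).toEquiv, card_stabK chainD_ok.1, chainD_ok.2]
  · rw [hI, Nat.card_congr (Subgroup.subgroupOfEquivOfLe hIle).toEquiv, innStab, card_stabK chainI_ok.1,
      chainI_ok.2]
  · rw [hM, Nat.card_congr (Subgroup.subgroupOfEquivOfLe (K := pairStab) (fun g hg => hexStab_le
      (mem_stabK.2 ⟨(mem_stabK.1 hg).1, fun n hn => (mem_stabK.1 hg).2 n (by
        simp only [List.mem_cons, List.not_mem_nil, or_false] at hn ⊢
        tauto)⟩))).toEquiv, card_stabK DuadTables.chainM_ok.1, DuadTables.chainM_ok.2]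
  · ext g
    rw [MonoidHom.mem_ker, MonoidHom.comp_apply, ← MonoidHom.mem_ker, ker_tetHom]
    exact Iff.rfl
  · rw [hI]
    exact fun g hg => kerStab_le hg
  · rw [Nat.card_congr (Subgroup.subgroupOfEquivOfLe hKle).toEquiv, card_kerStab]
  · exact fun k hk => Subtype.ext (kerStab_sq hk)
  · intro a ha ha1 b hb hb1
    obtain ⟨g, hg, e⟩ := kerStab_conj ha (fun k => ha1 (Subtype.ext k)) hb (fun k => hb1 (Subtype.ext k))
    exact ⟨⟨g, hIle hg⟩, by rw [hI]; exact hg, Subtype.ext e⟩

theorem exists_perm : ∀ i j : Fin 6, i ≠ j → (Equiv.swap (Equiv.swap 0 i 1) j * Equiv.swap 0 i) 0 = i ∧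
    (Equiv.swap (Equiv.swap 0 i 1) j * Equiv.swap 0 i) 1 = j := by decide +kernel

theorem duadAt_of_card_two (R : Finset (Fin 22)) (hR : R ⊆ Hx) (h2 : R.card = 2) :
    DuadAt (twoFix.subgroupOf pairStab) (hexStab.subgroupOf pairStab) act R := by
  obtain ⟨x, y, hxy, rfl⟩ := Finset.card_eq_two.1 h2
  obtain ⟨i, rfl⟩ := exists_hexIdx x (hR (Finset.mem_insert_self ..))
  obtain ⟨j, rfl⟩ := exists_hexIdx y (hR (Finset.mem_insert_of_mem (Finset.mem_singleton_self _)))
  obtain ⟨h0, h1⟩ := exists_perm i j fun e => hxy (by rw [e])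
  obtain ⟨⟨h, hh⟩, hσ⟩ := sixHom_surjective (Equiv.swap (Equiv.swap 0 i 1) j * Equiv.swap 0 i)
  let c : HH := ⟨h, hexStab_le hh⟩
  have hact : ∀ k : Fin 6, act c (hexIdx k) = hexIdx (sixHom ⟨h, hh⟩ k) := fun k => pts_inj (by
    rw [← act_spec, ← six_eq, ← six_eq]
    exact sixHom_spec ⟨h, hh⟩ k)
  have e0 : act c 11 = hexIdx i := by
    rw [show (11 : Fin 22) = hexIdx 0 from rfl, hact, hσ, h0]
  have e1 : act c 13 = hexIdx j := by
    rw [show (13 : Fin 22) = hexIdx 1 from rfl, hact, hσ, h1]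
  have hcI : (twoFix.subgroupOf pairStab).map (MulAut.conj c).toMonoidHom = twoFix.subgroupOf pairStab := by
    haveI hn : (twoFix.subgroupOf pairStab).Normal := Subgroup.normal_of_index_eq_two hexadData_HH.I_index
    ext g
    rw [Subgroup.mem_map_equiv, MulAut.conj_symm_apply]
    exact ⟨fun hg => by simpa [mul_assoc] using hn.conj_mem _ hg c, fun hg => by
      simpa using hn.conj_mem g hg c⁻¹⟩
  have hcM : (hexStab.subgroupOf pairStab).map (MulAut.conj c).toMonoidHom = hexStab.subgroupOf pairStab := by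
    ext g
    rw [Subgroup.mem_map_equiv, MulAut.conj_symm_apply, Subgroup.mem_subgroupOf, Subgroup.mem_subgroupOf,
      Subgroup.coe_mul, Subgroup.coe_mul, Subgroup.coe_inv]
    rw [Subgroup.mul_mem_cancel_right _ hh, Subgroup.mul_mem_cancel_left _ (inv_mem hh)]
  have key := DuadAt.map duadAt_base (MulAut.conj c) (f' := act) (R' := {hexIdx i, hexIdx j}) fun g => by
    have hR' : ({hexIdx i, hexIdx j} : Finset (Fin 22)) = baseR.map (act c).toEmbedding := by
      simp [baseR, e0, e1]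
    rw [hR', MulAut.conj_apply]
    constructor
    · intro h x hx
      simp only [map_mul, map_inv, Equiv.Perm.mul_apply, Finset.mem_map_equiv, Equiv.Perm.inv_def,
        Equiv.symm_apply_apply] at hx ⊢
      exact h _ hx
    · intro h x hx
      have h' := h (act c x) (Finset.mem_map_of_mem _ hx)
      simpa [map_mul, map_inv, Equiv.Perm.mul_apply, Finset.mem_map_equiv] using h'
  rwa [hcI, hcM] at key

theorem duadPerm_HH : DuadPerm (twoFix.subgroupOf pairStab) (hexStab.subgroupOf pairStab)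
    (hexGrp.subgroupOf pairStab) act Hx where
  inj := act_injective
  card_Hx := by decide +kernel
  mem_M g := by rw [Subgroup.mem_subgroupOf, mem_hexStab_iff]
  fix_B b hb x hx := by
    obtain ⟨i, rfl⟩ := exists_hexIdx x hx
    apply pts_inj
    rw [← act_spec, ← six_eq]
    exact (hexGrp_eq.1 hb).2 i
  reg_B x y hx hy := reg_hexGrp x y hx hy
  three := three_points
  duad := duadAt_of_card_two

end DuadExists

/-- The hexad data of `Aut M22` together with the action on the 22 points. -/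
theorem exists_hexadData_duad : ∃ (M B : Subgroup (MulAut ↥Cfsg.Spor.M22))
    (f : MulAut ↥Cfsg.Spor.M22 →* Equiv.Perm (Fin 22)) (Hx : Finset (Fin 22)),
    HexadData (Cfsg.Inn ↥Cfsg.Spor.M22) M B ∧ DuadPerm (Cfsg.Inn ↥Cfsg.Spor.M22) M B f Hx := by
  obtain ⟨e⟩ := exists_equiv
  have h := hexadData_HH.map_equiv e
  have h' := DuadExists.duadPerm_HH.map_equiv e
  have hI := eq_inn_of_index_two h.I_index
  rw [hI] at h h'
  exact ⟨_, _, _, _, h, h'⟩

end CfsgLib.JFour
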