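import Cfsg.Agent.Lib.JFour.Basic
import Cfsg.Agent.Lib.JFour.SevenCount

/-!
# Groups of Janko-four type: fixed points of elements of odd prime order on `E`
-/

set_option autoImplicit false
set_option linter.unusedSectionVars false

open Cfsg

namespace CfsgLib.JFour

variable {G : Type*} [Group G] [Finite G]

/-- A subgroup normalized by an element of prime order is congruent to the centralized part. -/
theorem card_inf_centralizer_modEq {p : ℕ} [Fact p.Prime] {g : G} (hg : g ^ p = 1) {X : Subgroup G}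
    (hX : ∀ x ∈ X, g * x * g⁻¹ ∈ X) :
    Nat.card ↥X ≡ Nat.card ↥(X ⊓ Subgroup.centralizer ({g} : Set G)) [MOD p] := by
  have h := Seven.ncard_modEq (X : Set G) hg hX
  suffices e : Nat.card {a : G // a ∈ (X : Set G) ∧ g * a * g⁻¹ = a} =
      Nat.card ↥(X ⊓ Subgroup.centralizer ({g} : Set G)) by
    rw [e] at h; exact h
  refine Nat.card_congr (Equiv.subtypeEquivRight fun a => ?_)
  rw [Subgroup.mem_inf, Subgroup.mem_centralizer_singleton_iff, mul_inv_eq_iff_eq_mul]
  exact and_congr Iff.rfl eq_comm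

/-- The size of the centralized part of a `2`-subgroup is a power of two not above the whole. -/
theorem exists_card_inf_centralizer {n : ℕ} {X : Subgroup G} (hX : Nat.card ↥X = 2 ^ n) (g : G) :
    ∃ k ≤ n, Nat.card ↥(X ⊓ Subgroup.centralizer ({g} : Set G)) = 2 ^ k :=
  (Nat.dvd_prime_pow Nat.prime_two).1 (hX ▸ Subgroup.card_dvd_of_le inf_le_left)

namespace Setting

variable {z : G} {P N : Subgroup G}

set_option quotPrecheck false in
local notation "ℋ" => Subgroup.centralizer (singleton z : Set G)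
set_option quotPrecheck false in
local notation "ℰ" => twoCoreOfCentralizer z

/-- An element of `E` fixed by an element of odd prime order and central among the fixed points
lies in `⟨z⟩`: the elements not commuting with it would fall into orbits of that prime length. -/
theorem central_of_fixed (S : Setting z P N) {p : ℕ} [Fact p.Prime] (hp2 : p ≠ 2) {g x : G}
    (hg : g ∈ ℋ) (hgp : g ^ p = 1) (hx : x ∈ ℰ) (hgx : g * x = x * g)
    (hc : ∀ e ∈ ℰ, g * e = e * g → x * e = e * x) : x ∈ Subgroup.zpowers z := by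
  classical
  by_contra hxz
  obtain ⟨e₀, he₀, hne₀⟩ : ∃ e ∈ ℰ, ¬ x * e = e * x := by
    by_contra hcon
    push Not at hcon
    exact hxz (S.center_E ▸ Subgroup.mem_inf.2 ⟨hx, Subgroup.mem_centralizer_iff.2 fun e he => (hcon e he).symm⟩)
  let X : Set G := {e | e ∈ ℰ ∧ ¬ x * e = e * x}
  let C : Set G := {e | e ∈ ℰ ∧ x * e = e * x}
  have hz : ∀ e, e ∈ ℰ → ¬ x * e = e * x → x * e * x⁻¹ = z * e := fun e he h =>
    (S.conj_eq hx he).resolve_left fun c => h (mul_inv_eq_iff_eq_mul.1 c)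
  have hfix : ∀ e, e ∈ ℰ → x * e = e * x → x * e * x⁻¹ = e := fun e _ h => mul_inv_eq_iff_eq_mul.2 h
  have hzc : ∀ a ∈ ℰ, z * a = a * z := fun a ha => (S.comm_z (S.E_le ha)).symm
  have hflip : ∀ e, e ∈ ℰ → (x * (e₀ * e) = e₀ * e * x ↔ ¬ x * e = e * x) := by
    intro e he
    have hmul : x * (e₀ * e) * x⁻¹ = z * e₀ * (x * e * x⁻¹) := by rw [← hz e₀ he₀ hne₀]; group
    constructor
    · intro h h'
      rw [hfix e he h', hfix _ (mul_mem he₀ he) h, mul_assoc] at hmul
      exact S.z_ne_one (right_eq_mul.1 hmul)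
    · intro h
      rw [← mul_inv_eq_iff_eq_mul, hmul, hz e he h, mul_assoc z, ← mul_assoc e₀, ← hzc e₀ he₀,
        mul_assoc z e₀ e, ← mul_assoc, S.z_mul_self, one_mul]
  have hXC : Nat.card X = Nat.card C := Nat.card_congr
    { toFun := fun e => ⟨e₀ * e, mul_mem he₀ e.2.1, (hflip e e.2.1).2 e.2.2⟩
      invFun := fun e => ⟨e₀⁻¹ * e, mul_mem (inv_mem he₀) e.2.1, (hflip _ (mul_mem (inv_mem he₀) e.2.1)).1
        (by rw [mul_inv_cancel_left]; exact e.2.2)⟩
      left_inv := fun e => Subtype.ext (inv_mul_cancel_left e₀ e.1)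
      right_inv := fun e => Subtype.ext (mul_inv_cancel_left e₀ e.1) }
  have hsum : Nat.card X + Nat.card C = 2 ^ 13 := by
    have hU : X ∪ C = (ℰ : Set G) := by
      ext e
      simp only [X, C, Set.mem_union, Set.mem_ofPred_eq, SetLike.mem_coe]
      tauto
    rw [← S.cardE, Nat.card_coe_set_eq, Nat.card_coe_set_eq,
      ← Set.ncard_union_eq (Set.disjoint_left.2 fun e h h' => h.2 h'.2) (Set.toFinite _) (Set.toFinite _), hU]
    exact (Nat.card_coe_set_eq _).symm
  have hmod := Seven.ncard_modEq (p := p) X hgp (fun e he => ⟨S.conj_mem_E hg he.1, fun h => he.2 (by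
    have := congrArg (fun a => g⁻¹ * a * g) h
    have hg1 : g⁻¹ * x = x * g⁻¹ := by
      calc g⁻¹ * x = g⁻¹ * (x * g) * g⁻¹ := by group
        _ = g⁻¹ * (g * x) * g⁻¹ := by rw [hgx]
        _ = x * g⁻¹ := by group
    calc x * e = g⁻¹ * (g * x) * e := by group
      _ = g⁻¹ * (x * g) * e := by rw [hgx]
      _ = g⁻¹ * (x * (g * e * g⁻¹)) * g := by group
      _ = g⁻¹ * (g * e * g⁻¹ * x) * g := by rw [h]
      _ = e * (g⁻¹ * x) * g := by group
      _ = e * x := by rw [hg1]; group)⟩)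
  have h0 : Nat.card {e : G // e ∈ X ∧ g * e * g⁻¹ = e} = 0 := by
    haveI : IsEmpty {e : G // e ∈ X ∧ g * e * g⁻¹ = e} :=
      ⟨fun e => e.2.1.2 (hc e.1 e.2.1.1 (mul_inv_eq_iff_eq_mul.1 e.2.2))⟩
    exact Nat.card_of_isEmpty
  rw [h0, Nat.modEq_zero_iff_dvd, show Nat.card X = 2 ^ 12 by omega] at hmod
  exact hp2 ((Nat.prime_dvd_prime_iff_eq Fact.out Nat.prime_two).1
    ((Fact.out : p.Prime).dvd_of_dvd_pow hmod))

end Setting

end CfsgLib.JFour
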