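import Cfsg.Agent.Lib.JFour.Basic
import Cfsg.Agent.Lib.ClassK.Extraspecial

/-!
# Fusion in groups of Janko-four type: hypotheses and elementary facts
-/

set_option autoImplicit false
set_option linter.style.haveILetI false
set_option linter.unusedSectionVars false

open Cfsg

namespace CfsgLib.JFour

variable {G : Type*} [Group G]

/-- The hexad subgroup `Bt` of `C_H(P)`, the subgroup `D` of `E` it centralises and the group `V`
containing both. -/
structure FusionData {z : G} {P N : Subgroup G}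
    (π : ↥(Subgroup.centralizer ({z} : Set G)) →* MulAut ↥Spor.M22)
    (M B : Subgroup (MulAut ↥Spor.M22)) (Bt D V : Subgroup G) : Prop where
  frame : Frame (P := P) (N := N) π M B
  Bt_le : Bt ≤ Subgroup.centralizer ({z} : Set G) ⊓ Subgroup.centralizer (P : Set G)
  z_mem_Bt : z ∈ Bt
  Bt_sq : ∀ b ∈ Bt, b * b = 1
  Bt_map : ∀ b (hb : b ∈ Subgroup.centralizer ({z} : Set G)), b ∈ Bt → π ⟨b, hb⟩ ∈ B
  Bt_surj : ∀ β ∈ B, ∃ b ∈ Bt, ∃ hb : b ∈ Subgroup.centralizer ({z} : Set G), π ⟨b, hb⟩ = β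
  D_le : D ≤ twoCoreOfCentralizer z
  z_mem_D : z ∈ D
  D_card : Nat.card ↥D = 2 ^ 7
  D_comm : ∀ a ∈ D, ∀ c ∈ D, a * c = c * a
  D_P : ∀ q ∈ P, ∀ a ∈ D, q * a * q⁻¹ ∈ D
  D_Bt : ∀ a ∈ D, ∀ b ∈ Bt, a * b = b * a
  comm_mem_D : ∀ b ∈ Bt, ∀ f ∈ twoCoreOfCentralizer z, f * b * f⁻¹ * b⁻¹ ∈ D
  card_cen : ∀ b ∈ Bt, b ∉ Subgroup.zpowers z →
    Nat.card ↥(twoCoreOfCentralizer z ⊓ Subgroup.centralizer ({b} : Set G) : Subgroup G) = 2 ^ 9
  cap : ∀ b ∈ Bt, ∀ c ∈ Bt, b ∉ Subgroup.zpowers z → c ∉ Subgroup.zpowers z →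
    c * b ∉ Subgroup.zpowers z → ∀ f ∈ twoCoreOfCentralizer z,
    f * b = b * f → f * c = c * f → f ∈ D
  D_le_V : D ≤ V
  Bt_le_V : Bt ≤ V

/-- `x` is conjugate into `V` under the centraliser of `z`. -/
def InV (z : G) (V : Subgroup G) (x : G) : Prop :=
  ∃ h ∈ Subgroup.centralizer ({z} : Set G), h * x * h⁻¹ ∈ V

theorem InV.of_conj {z : G} {V : Subgroup G} {x k : G}
    (hk : k ∈ Subgroup.centralizer ({z} : Set G)) (h : InV z V (k * x * k⁻¹)) : InV z V x := by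
  obtain ⟨h', hh', hx⟩ := h
  exact ⟨h' * k, mul_mem hh' hk, by simpa [mul_assoc] using hx⟩

namespace Setting

variable {z : G} {P N : Subgroup G} (S : Setting z P N)
include S

theorem z_commute {h : G} (hh : h ∈ Subgroup.centralizer ({z} : Set G)) : Commute z h :=
  (S.comm_z hh).symm

theorem commute_cases {e f : G} (he : e ∈ twoCoreOfCentralizer z)
    (hf : f ∈ twoCoreOfCentralizer z) : Commute e f ∨ e * f = z * (f * e) := by
  rcases S.conj_eq he hf with h | h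
  · exact Or.inl (mul_inv_eq_iff_eq_mul.1 h)
  · exact Or.inr (by rw [← mul_assoc]; exact mul_inv_eq_iff_eq_mul.1 h)

theorem zpowers_le_E : Subgroup.zpowers z ≤ twoCoreOfCentralizer z :=
  Subgroup.zpowers_le.2 S.z_mem_E

theorem commute_of_mem_zpowers {w h : G} (hw : w ∈ Subgroup.zpowers z)
    (hh : h ∈ Subgroup.centralizer ({z} : Set G)) : Commute w h := by
  rcases S.mem_zpowers_iff.1 hw with rfl | rfl
  · exact Commute.one_left h
  · exact S.z_commute hh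

theorem sq_of_mem_zpowers {w : G} (hw : w ∈ Subgroup.zpowers z) : w * w = 1 := by
  rcases S.mem_zpowers_iff.1 hw with rfl | rfl
  · exact one_mul 1
  · exact S.z_mul_self

theorem cube_of_mem_zpowers {w : G} (hw : w ∈ Subgroup.zpowers z) (h : w * w * w = 1) : w = 1 := by
  rwa [S.sq_of_mem_zpowers hw, one_mul] at h

theorem inv_E {e : G} (he : e ∈ twoCoreOfCentralizer z) :
    ∃ w ∈ Subgroup.zpowers z, e⁻¹ = e * w := by
  refine ⟨(e * e)⁻¹, inv_mem (S.sq_mem he), ?_⟩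
  group

/-- The sum of a `q`-orbit is fixed by `q`, up to `⟨z⟩`. -/
theorem triple_mem {q f : G} (hq : q ∈ Subgroup.centralizer ({z} : Set G)) (hq3 : q ^ 3 = 1)
    (hf : f ∈ twoCoreOfCentralizer z) :
    q * (f * (q * f * q⁻¹) * (q * (q * f * q⁻¹) * q⁻¹)) * q⁻¹ *
      (f * (q * f * q⁻¹) * (q * (q * f * q⁻¹) * q⁻¹))⁻¹ ∈ Subgroup.zpowers z := by
  set a := q * f * q⁻¹ with ha
  set c := q * a * q⁻¹ with hc
  have haE : a ∈ twoCoreOfCentralizer z := S.conj_mem_E hq hf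
  have hcE : c ∈ twoCoreOfCentralizer z := S.conj_mem_E hq haE
  have hqc : q * c * q⁻¹ = f := by
    rw [hc, ha, show q * (q * (q * f * q⁻¹) * q⁻¹) * q⁻¹ = q ^ 3 * f * (q ^ 3)⁻¹ by
      rw [pow_succ, pow_two]; group, hq3]
    simp
  rw [show q * (f * a * c) * q⁻¹ = (q * f * q⁻¹) * (q * a * q⁻¹) * (q * c * q⁻¹) by group, ← ha,
    ← hc, hqc, show a * c * f * (f * a * c)⁻¹ = (a * c) * f * (a * c)⁻¹ * f⁻¹ by group]
  exact S.commutator_mem (mul_mem haE hcE) hf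

theorem triple_mem_zpowers {q f : G} (hq : q ∈ P) (hq1 : q ≠ 1)
    (hf : f ∈ twoCoreOfCentralizer z) :
    f * (q * f * q⁻¹) * (q * (q * f * q⁻¹) * q⁻¹) ∈ Subgroup.zpowers z := by
  have hqH := S.P_le_H hq
  haveI : Finite ↥P := Nat.finite_of_card_ne_zero (by rw [S.cardP]; norm_num)
  have hq3 : q ^ 3 = 1 :=
    orderOf_dvd_iff_pow_eq_one.1 (S.cardP ▸ Subgroup.orderOf_dvd_natCard _ hq)
  exact S.mem_zpowers_of_comm hq hq1
    (mul_mem (mul_mem hf (S.conj_mem_E hqH hf)) (S.conj_mem_E hqH (S.conj_mem_E hqH hf)))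
    (S.triple_mem hqH hq3 hf)

/-- An element centralising `P` which centralises `f` modulo `⟨z⟩` centralises `f`. -/
theorem commute_of_comm_mem {b f : G}
    (hb : b ∈ Subgroup.centralizer ({z} : Set G) ⊓ Subgroup.centralizer (P : Set G))
    (hf : f ∈ twoCoreOfCentralizer z) (h : f * b * f⁻¹ * b⁻¹ ∈ Subgroup.zpowers z) :
    Commute f b := by
  obtain ⟨q, hq, hq1, -, -⟩ := S.exists_generator
  set w := f * b * f⁻¹ * b⁻¹ with hw
  have hbq : q * b = b * q := Subgroup.mem_centralizer_iff.1 hb.2 q hq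
  have hwq : q * w * q⁻¹ = w := by
    rw [← (S.commute_of_mem_zpowers h (S.P_le_H hq)).eq, mul_inv_cancel_right]
  have conj : ∀ y : G, y * b * y⁻¹ * b⁻¹ = w →
      (q * y * q⁻¹) * b * (q * y * q⁻¹)⁻¹ * b⁻¹ = w := by
    intro y hy
    have hb2 : q⁻¹ * b * q = b := by rw [mul_assoc, ← hbq, inv_mul_cancel_left]
    calc q * y * q⁻¹ * b * (q * y * q⁻¹)⁻¹ * b⁻¹
        = q * (y * (q⁻¹ * b * q) * y⁻¹ * (q⁻¹ * b * q)⁻¹) * q⁻¹ := by group
      _ = w := by rw [hb2, hy, hwq]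
  set a := q * f * q⁻¹ with ha
  set c := q * a * q⁻¹ with hc
  have haE : a ∈ twoCoreOfCentralizer z := S.conj_mem_E (S.P_le_H hq) hf
  have hcE : c ∈ twoCoreOfCentralizer z := S.conj_mem_E (S.P_le_H hq) haE
  have hwE : ∀ y ∈ twoCoreOfCentralizer z, Commute w y := fun y hy =>
    S.commute_of_mem_zpowers h (S.E_le hy)
  have hfb : f * b * f⁻¹ = w * b := by rw [hw]; group
  have hab : a * b * a⁻¹ = w * b := mul_inv_eq_iff_eq_mul.1 (conj f hw.symm)
  have hcb : c * b * c⁻¹ = w * b := mul_inv_eq_iff_eq_mul.1 (conj a (conj f hw.symm))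
  have hu : f * a * c * b * (f * a * c)⁻¹ = w * w * w * b := by
    calc f * a * c * b * (f * a * c)⁻¹ = f * (a * (c * b * c⁻¹) * a⁻¹) * f⁻¹ := by group
      _ = f * (a * w * (b * a⁻¹)) * f⁻¹ := by rw [hcb]; group
      _ = f * (w * (a * b * a⁻¹)) * f⁻¹ := by rw [← (hwE a haE).eq]; group
      _ = f * (w * w) * (b * f⁻¹) := by rw [hab]; group
      _ = w * w * (f * b * f⁻¹) := by
          rw [← ((hwE f hf).mul_left (hwE f hf)).eq]; group
      _ = w * w * w * b := by rw [hfb]; group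
  have htriv : f * a * c * b * (f * a * c)⁻¹ = b := by
    rw [((S.commute_of_mem_zpowers (S.triple_mem_zpowers hq hq1 hf) hb.1)).eq, mul_inv_cancel_right]
  rw [htriv] at hu
  have hw1 : w = 1 := S.cube_of_mem_zpowers h (mul_eq_right.1 hu.symm)
  rw [hw, mul_inv_eq_one, mul_inv_eq_iff_eq_mul] at hw1
  exact hw1

theorem exists_pow_eq {e c : G} (he : e ∈ twoCoreOfCentralizer z)
    (hc : c ∈ Subgroup.centralizer ({z} : Set G)) (n : ℕ) :
    ∃ e' ∈ twoCoreOfCentralizer z, (e * c) ^ n = e' * c ^ n := by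
  induction n with
  | zero => exact ⟨1, one_mem _, by simp⟩
  | succ n ih =>
    obtain ⟨e', he', h⟩ := ih
    refine ⟨e' * (c ^ n * e * (c ^ n)⁻¹), mul_mem he' (S.conj_mem_E (pow_mem hc n) he), ?_⟩
    rw [pow_succ, h, pow_succ]
    group

/-- Two-elements of `N` lie in `E`. -/
theorem mem_E_of_two [Finite G] {x : G} (hx : x ∈ N) {a : ℕ} (ha : x ^ 2 ^ a = 1) :
    x ∈ twoCoreOfCentralizer z := by
  obtain ⟨e, he, p, hp, rfl⟩ := S.mem_N_iff.1 hx
  obtain ⟨e', he', h⟩ := S.exists_pow_eq he (S.P_le_H hp) (2 ^ a)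
  rw [ha] at h
  have h1 : p ^ 2 ^ a = 1 := by
    rw [← Subgroup.mem_bot, ← S.E_inf_P]
    exact ⟨by rw [eq_inv_of_mul_eq_one_right h.symm]; exact Subgroup.inv_mem _ he', pow_mem hp _⟩
  have h3 : orderOf p ∣ 3 := S.cardP ▸ Subgroup.orderOf_dvd_natCard _ hp
  have hp1 : p = 1 := by
    rw [← orderOf_eq_one_iff]
    exact Nat.eq_one_of_dvd_coprimes (Nat.Coprime.pow_left a (by norm_num))
      (orderOf_dvd_of_pow_eq_one h1) h3
  rw [hp1, mul_one]
  exact he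

/-- Elements of order 3 of `N` are conjugate into `P`. -/
theorem exists_conj_P [Finite G] {p : G} (hp : p ∈ N) (h3 : orderOf p = 3) :
    ∃ n ∈ N, n * p * n⁻¹ ∈ P := by
  haveI : Fact (Nat.Prime 3) := ⟨Nat.prime_three⟩
  have hfac : (Nat.card ↥N).factorization 3 = 1 := by
    rw [S.cardN, S.cardE, Nat.factorization_mul (by norm_num) (by norm_num), Finsupp.add_apply,
      Nat.Prime.factorization_self Nat.prime_three, Nat.factorization_pow]
    simp [Nat.prime_two.factorization]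
  let R₁ : Sylow 3 ↥N := Sylow.ofCard (P.subgroupOf N) (by
    rw [Nat.card_congr (Subgroup.subgroupOfEquivOfLe S.P_le).toEquiv, S.cardP, hfac]; norm_num)
  let R₂ : Sylow 3 ↥N := Sylow.ofCard (Subgroup.zpowers (⟨p, hp⟩ : ↥N)) (by
    rw [Nat.card_zpowers, Subgroup.orderOf_mk, h3, hfac]; norm_num)
  obtain ⟨g, hg⟩ := MulAction.exists_smul_eq ↥N R₂ R₁
  refine ⟨g, g.2, ?_⟩
  have h1 : g * ⟨p, hp⟩ * g⁻¹ ∈ ((g • R₂ : Sylow 3 ↥N) : Subgroup ↥N) := by
    rw [Sylow.coe_subgroup_smul]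
    exact Subgroup.smul_mem_pointwise_smul (⟨p, hp⟩ : ↥N) (MulAut.conj g) _
      (Subgroup.mem_zpowers _)
  rw [hg] at h1
  simpa using Subgroup.mem_subgroupOf.1 h1

theorem center_le : (Subgroup.center ↥(twoCoreOfCentralizer z)).map
    (twoCoreOfCentralizer z).subtype = Subgroup.zpowers z := by
  ext x
  rw [← S.center_E, Subgroup.mem_inf, CfsgLib.Fischer2.mem_centerImage_iff,
    Subgroup.mem_centralizer_iff]
  exact and_congr_right fun _ => ⟨fun h y hy => (h y hy).symm, fun h y hy => (h y hy).symm⟩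

/-- An abelian subgroup of `E` has order at most `2 ^ 7`. -/
theorem card_abelian_le [Finite G] {A : Subgroup G} (hA : A ≤ twoCoreOfCentralizer z)
    (hab : ∀ a ∈ A, ∀ c ∈ A, a * c = c * a) : Nat.card ↥A ≤ 2 ^ 7 := by
  set A' := A ⊔ Subgroup.zpowers z
  have hA'E : A' ≤ twoCoreOfCentralizer z := sup_le hA S.zpowers_le_E
  have hab' : A' ≤ Subgroup.centralizer (A' : Set G) := by
    rw [Subgroup.le_centralizer_iff]
    refine sup_le ?_ (Subgroup.zpowers_le.2 (Subgroup.mem_centralizer_iff.2 fun y hy =>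
      S.comm_z (S.E_le (hA'E hy))))
    rw [Subgroup.le_centralizer_iff]
    refine sup_le (fun a ha => Subgroup.mem_centralizer_iff.2 fun c hc => hab c hc a ha)
      (Subgroup.zpowers_le.2 (Subgroup.mem_centralizer_iff.2 fun y hy => S.comm_z (S.E_le (hA hy))))
  have h := CfsgLib.ClassK.card_inf_centralizer_mul_card S.extra
    (D := A') (S.center_le ▸ le_sup_right) hA'E
  have h1 : Nat.card ↥A' ≤ Nat.card ↥(twoCoreOfCentralizer z ⊓ Subgroup.centralizer (A' : Set G) :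
      Subgroup G) := Subgroup.card_le_of_le (le_inf hA'E hab')
  have h2 : Nat.card ↥A ≤ Nat.card ↥A' := Subgroup.card_le_of_le le_sup_left
  rw [S.cardE] at h
  nlinarith

end Setting

namespace FusionData

variable {z : G} {P N : Subgroup G}
  {π : ↥(Subgroup.centralizer ({z} : Set G)) →* MulAut ↥Spor.M22}
  {M B : Subgroup (MulAut ↥Spor.M22)} {Bt D V : Subgroup G}
  (F : FusionData (P := P) (N := N) π M B Bt D V)
include F

theorem S : Setting z P N := F.frame.setting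

theorem Bt_H {b : G} (hb : b ∈ Bt) : b ∈ Subgroup.centralizer ({z} : Set G) := (F.Bt_le hb).1

theorem Bt_inv {b : G} (hb : b ∈ Bt) : b⁻¹ = b :=
  inv_eq_of_mul_eq_one_right (F.Bt_sq b hb)

theorem Bt_comm {b c : G} (hb : b ∈ Bt) (hc : c ∈ Bt) : b * c = c * b := by
  have h := F.Bt_inv (mul_mem hb hc)
  rw [mul_inv_rev, F.Bt_inv hb, F.Bt_inv hc] at h
  exact h.symm

theorem V_mem_mul {e b : G} (he : e ∈ D) (hb : b ∈ Bt) : e * b ∈ V :=
  mul_mem (F.D_le_V he) (F.Bt_le_V hb)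

theorem pi_eq_one_of_zpowers {w : G} (hw : w ∈ Subgroup.zpowers z)
    (hH : w ∈ Subgroup.centralizer ({z} : Set G)) : π ⟨w, hH⟩ = 1 :=
  (F.S.pi_eq_one_iff F.frame.ker_eq ⟨w, hH⟩).2 (F.S.E_le_N (F.S.zpowers_le_E hw))

theorem pi_bt_ne_one [Finite G] {b : G} (hb : b ∈ Bt) (hbz : b ∉ Subgroup.zpowers z) :
    π ⟨b, F.Bt_H hb⟩ ≠ 1 := fun h => hbz <| by
  rw [← F.S.fixP]
  exact ⟨F.S.mem_E_of_two ((F.S.pi_eq_one_iff F.frame.ker_eq _).1 h) (a := 1)
    (by rw [pow_one, pow_two]; exact F.Bt_sq b hb), (F.Bt_le hb).2⟩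

/-- A 2-element over `π b` lies in `E b`. -/
theorem exists_eq_mul [Finite G] {w b : G} (hw : w ∈ Subgroup.centralizer ({z} : Set G)) {a : ℕ}
    (ha : w ^ 2 ^ a = 1) (hb : b ∈ Bt) (h : π ⟨w, hw⟩ = π ⟨b, F.Bt_H hb⟩) :
    ∃ e ∈ twoCoreOfCentralizer z, w = e * b := by
  have S := F.S
  have hbH := F.Bt_H hb
  have hn : w * b⁻¹ ∈ N := by
    have h1 : π (⟨w, hw⟩ * (⟨b, hbH⟩)⁻¹) = 1 := by rw [map_mul, map_inv, h, mul_inv_cancel]
    simpa using (S.pi_eq_one_iff F.frame.ker_eq _).1 h1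
  obtain ⟨e, he, p, hp, hep⟩ := S.mem_N_iff.1 hn
  have hweq : w = e * (p * b) := by rw [← mul_assoc, ← hep, inv_mul_cancel_right]
  obtain ⟨e', he', h'⟩ := S.exists_pow_eq he (mul_mem (S.P_le_H hp) hbH) (2 ^ (a + 1))
  rw [← hweq, pow_succ, pow_mul, ha, one_pow, ← pow_succ] at h'
  have hpb : Commute p b := Subgroup.mem_centralizer_iff.1 (F.Bt_le hb).2 p hp
  have hb2 : b ^ 2 ^ (a + 1) = 1 := by
    rw [pow_succ', pow_mul, pow_two, F.Bt_sq b hb, one_pow]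
  rw [hpb.mul_pow, hb2, mul_one] at h'
  have h1 : p ^ 2 ^ (a + 1) = 1 := by
    rw [← Subgroup.mem_bot, ← S.E_inf_P]
    exact ⟨by rw [eq_inv_of_mul_eq_one_right h'.symm]; exact Subgroup.inv_mem _ he', pow_mem hp _⟩
  have h3 : orderOf p ∣ 3 := S.cardP ▸ Subgroup.orderOf_dvd_natCard _ hp
  have hp1 : p = 1 := by
    rw [← orderOf_eq_one_iff]
    exact Nat.eq_one_of_dvd_coprimes (Nat.Coprime.pow_left (a + 1) (by norm_num))
      (orderOf_dvd_of_pow_eq_one h1) h3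
  exact ⟨e, he, by rw [hweq, hp1, one_mul]⟩

theorem commute_Bt {b f : G} (hb : b ∈ Bt) (hf : f ∈ twoCoreOfCentralizer z)
    (h : f * b * f⁻¹ * b⁻¹ ∈ Subgroup.zpowers z) : Commute f b :=
  F.S.commute_of_comm_mem (F.Bt_le hb) hf h

theorem exists_pair [Finite G] : ∃ b ∈ Bt, ∃ c ∈ Bt, b ∉ Subgroup.zpowers z ∧
    c ∉ Subgroup.zpowers z ∧ c * b ∉ Subgroup.zpowers z := by
  classical
  haveI : Finite ↥B := Nat.finite_of_card_ne_zero (by rw [F.frame.hexad.B_card]; norm_num)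
  haveI : Nontrivial ↥B :=
    Finite.one_lt_card_iff_nontrivial.1 (by rw [F.frame.hexad.B_card]; norm_num)
  obtain ⟨⟨β, hβ⟩, hβ1⟩ := exists_ne (1 : ↥B)
  obtain ⟨γ, hγ, hγ1, hγβ⟩ : ∃ γ ∈ B, γ ≠ 1 ∧ γ ≠ β := by
    by_contra! hall
    have hsub : (B : Set (MulAut ↥Spor.M22)) ⊆ {1, β} := fun γ hγ => by
      by_cases h : γ = 1
      · exact Or.inl h
      · exact Or.inr (hall γ hγ h)
    have h2 := Set.ncard_le_ncard hsub (Set.toFinite _)
    rw [← Nat.card_coe_set_eq] at h2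
    have h3 : Set.ncard ({1, β} : Set (MulAut ↥Spor.M22)) ≤ 2 :=
      (Set.ncard_insert_le 1 {β}).trans (by rw [Set.ncard_singleton])
    have h4 : Nat.card ↥B = 16 := F.frame.hexad.B_card
    simp only [SetLike.coe_sort_coe] at h2
    omega
  obtain ⟨b, hb, hbH, hbβ⟩ := F.Bt_surj β hβ
  obtain ⟨c, hc, hcH, hcγ⟩ := F.Bt_surj γ hγ
  refine ⟨b, hb, c, hc, fun h => ?_, fun h => ?_, fun h => ?_⟩
  · exact hβ1 (Subtype.ext (hbβ.symm.trans (F.pi_eq_one_of_zpowers h hbH)))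
  · exact hγ1 (hcγ.symm.trans (F.pi_eq_one_of_zpowers h hcH))
  · refine hγβ ?_
    have h1 : π (⟨c, hcH⟩ * ⟨b, hbH⟩) = 1 := F.pi_eq_one_of_zpowers h (mul_mem hcH hbH)
    have h2 : π (⟨b, hbH⟩ * ⟨b, hbH⟩) = 1 := by
      rw [show (⟨b, hbH⟩ : ↥(Subgroup.centralizer ({z} : Set G))) * ⟨b, hbH⟩ = 1 from
        Subtype.ext (F.Bt_sq b hb), map_one]
    rw [map_mul, hcγ, hbβ] at h1
    rw [map_mul, hbβ] at h2
    exact mul_right_cancel (h1.trans h2.symm)

theorem mem_D_iff [Finite G] {f : G} :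
    f ∈ D ↔ f ∈ twoCoreOfCentralizer z ∧ ∀ b ∈ Bt, f * b = b * f := by
  refine ⟨fun h => ⟨F.D_le h, F.D_Bt f h⟩, fun ⟨hf, h⟩ => ?_⟩
  obtain ⟨b, hb, c, hc, h1, h2, h3⟩ := F.exists_pair
  exact F.cap b hb c hc h1 h2 h3 f hf (h b hb) (h c hc)

theorem D_self [Finite G] {f : G} (hf : f ∈ twoCoreOfCentralizer z)
    (h : ∀ a ∈ D, f * a = a * f) : f ∈ D := by
  have h1 := CfsgLib.ClassK.card_inf_centralizer_mul_card F.S.extra (D := D)
    (F.S.center_le ▸ Subgroup.zpowers_le.2 F.z_mem_D) F.D_le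
  rw [F.D_card, F.S.cardE] at h1
  have h2 : D = twoCoreOfCentralizer z ⊓ Subgroup.centralizer (D : Set G) :=
    Subgroup.eq_of_le_of_card_ge
      (le_inf F.D_le fun a ha => Subgroup.mem_centralizer_iff.2 fun c hc => F.D_comm c hc a ha)
      (by rw [F.D_card]; omega)
  rw [h2]
  exact ⟨hf, Subgroup.mem_centralizer_iff.2 fun a ha => (h a ha).symm⟩

end FusionData

end CfsgLib.JFour
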