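import Cfsg.Agent.Lib.JFour.Pieces
import Cfsg.Agent.Lib.JFour.UniqueSylow

/-!
# Groups of Janko-four type: the normalizer of `V = U W` inside and outside `H`
-/

set_option autoImplicit false
set_option linter.unusedSectionVars false
set_option linter.style.haveILetI false

open Cfsg

namespace CfsgLib.JFour

variable {G : Type*} [Group G] {z : G} {P N : Subgroup G}

/-- The elements of `H` lying over `X`. -/
def preH (π : ↥(Subgroup.centralizer ({z} : Set G)) →* MulAut ↥Spor.M22)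
    (X : Subgroup (MulAut ↥Spor.M22)) : Subgroup G :=
  (X.comap π).map (Subgroup.centralizer ({z} : Set G)).subtype

theorem mem_preH {π : ↥(Subgroup.centralizer ({z} : Set G)) →* MulAut ↥Spor.M22}
    {X : Subgroup (MulAut ↥Spor.M22)} {g : G} :
    g ∈ preH π X ↔ ∃ hg : g ∈ Subgroup.centralizer ({z} : Set G), π ⟨g, hg⟩ ∈ X := by
  constructor
  · rintro ⟨x, hx, rfl⟩
    exact ⟨x.2, hx⟩
  · rintro ⟨hg, hx⟩
    exact ⟨⟨g, hg⟩, hx, rfl⟩

/-- The nonidentity elements of `V` not conjugate to `z`. -/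
def otherClass (z : G) (V : Subgroup G) : Set G := {v | v ∈ V ∧ v ≠ 1 ∧ ¬ IsConj z v}

/-- The conjugates of `z` in `V`. -/
def zClass (z : G) (V : Subgroup G) : Set G := {v | v ∈ V ∧ IsConj z v}

/-- What the hexad lift provides. -/
structure Lifted {z : G} (P : Subgroup G)
    (π : ↥(Subgroup.centralizer ({z} : Set G)) →* MulAut ↥Spor.M22)
    (M B : Subgroup (MulAut ↥Spor.M22)) (R W : Subgroup G) : Prop where
  hex : HexTransitive (twoCoreOfCentralizer z) R P W (preC P π (M ⊓ Inn ↥Spor.M22)) z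
  W_le : W ≤ preC P π B
  split : ∀ g ∈ preC P π B, ∃ w ∈ W, ∃ p ∈ P, g = w * p
  mem_W : ∀ x, x ∈ W ↔ x ∈ preC P π B ∧ x ^ 32 = 1
  lift : ∀ b ∈ B, ∃ w, ∃ hw : w ∈ Subgroup.centralizer ({z} : Set G), w ∈ W ∧ π ⟨w, hw⟩ = b

namespace Frame

set_option quotPrecheck false in
local notation "ℋ" => Subgroup.centralizer (singleton z : Set G)
set_option quotPrecheck false in
local notation "ℰ" => twoCoreOfCentralizer z

variable [Finite G] {π : ↥(Subgroup.centralizer ({z} : Set G)) →* MulAut ↥Spor.M22}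
  {M B : Subgroup (MulAut ↥Spor.M22)} (F : Frame (P := P) (N := N) π M B) {R W : Subgroup G}
include F

set_option quotPrecheck false in
local notation "𝒱" => (HexFrame.U (twoCoreOfCentralizer z) W ⊔ W : Subgroup _)

theorem exists_lifted : ∃ R W : Subgroup G, Lifted P π M B R W := by
  obtain ⟨R, W, h1, h2, h3, h4, h5⟩ := F.exists_hexTransitive
  exact ⟨R, W, h1, h2, h3, h4, h5⟩

theorem card_preH_mul (X : Subgroup (MulAut ↥Spor.M22)) :
    Nat.card ↥(preH π X) = Nat.card ↥N * Nat.card ↥X := by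
  rw [preH, Subgroup.card_map_of_injective (Subgroup.subtype_injective _)]
  let f : ↥(X.comap π) →* ↥X :=
    { toFun := fun h => ⟨π h.1, h.2⟩
      map_one' := Subtype.ext (map_one π)
      map_mul' := fun a b => Subtype.ext (map_mul π a.1 b.1) }
  have hf : Function.Surjective f := by
    rintro ⟨a, ha⟩
    obtain ⟨h, rfl⟩ := F.surj a
    exact ⟨⟨h, ha⟩, rfl⟩
  have hk : f.ker = π.ker.subgroupOf (X.comap π) := by
    ext h
    rw [MonoidHom.mem_ker, Subgroup.mem_subgroupOf, MonoidHom.mem_ker, ← Subtype.coe_inj]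
    rfl
  have hle : π.ker ≤ X.comap π := fun h hh => by
    show π h ∈ X
    rw [MonoidHom.mem_ker.1 hh]; exact one_mem X
  have h := Subgroup.card_eq_card_quotient_mul_card_subgroup f.ker
  rw [Nat.card_congr (QuotientGroup.quotientKerEquivOfSurjective f hf).toEquiv, hk,
    Nat.card_congr (Subgroup.subgroupOfEquivOfLe hle).toEquiv, F.ker_eq,
    Nat.card_congr (Subgroup.subgroupOfEquivOfLe F.setting.N_le).toEquiv] at h
  rw [h, mul_comm]

theorem card_preH_M : Nat.card ↥(preH π M) = 283115520 := by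
  have h : Nat.card ↥M = 11520 := by
    have := M.card_mul_index
    rw [F.hexad.M_index, card_mulAut_mTwentyTwo] at this
    omega
  rw [F.card_preH_mul, h, F.setting.cardN, F.setting.cardE]
  norm_num

theorem card_preH_B : Nat.card ↥(preH π B) = 393216 := by
  rw [F.card_preH_mul, F.hexad.B_card, F.setting.cardN, F.setting.cardE]
  norm_num

theorem B_le_M : B ≤ M := F.hexad.M_eq ▸ Subgroup.le_normalizer

variable (L : Lifted P π M B R W)
include L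

theorem z_mem_V : z ∈ 𝒱 := Subgroup.mem_sup_left L.hex.z_U

theorem V_comm {a b : G} (ha : a ∈ 𝒱) (hb : b ∈ 𝒱) : a * b = b * a :=
  congrArg Subtype.val ((L.hex.V_elem L.hex.W_sq).1.is_comm.comm ⟨a, ha⟩ ⟨b, hb⟩)

theorem V_sq {a : G} (ha : a ∈ 𝒱) : a * a = 1 := by
  rw [← pow_two]; exact (L.hex.V_elem L.hex.W_sq).2 a ha

theorem V_le_H : 𝒱 ≤ ℋ := fun v hv =>
  Subgroup.mem_centralizer_singleton_iff.2 (F.V_comm L hv (F.z_mem_V L))

theorem V_le_preH : 𝒱 ≤ preH π B := F.sup_le_preimage L.W_le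

theorem pi_V {v : G} (hv : v ∈ 𝒱) (hvH : v ∈ ℋ) : π ⟨v, hvH⟩ ∈ B := by
  obtain ⟨_, h⟩ := mem_preH.1 (F.V_le_preH L hv)
  exact h

theorem mem_U_of_pi {v : G} (hv : v ∈ 𝒱) (hvH : v ∈ ℋ) (h1 : π ⟨v, hvH⟩ = 1) :
    v ∈ HexFrame.U ℰ W := by
  have hvE : v ∈ ℰ := F.setting.mem_E_of_pow ((F.setting.pi_eq_one_iff F.ker_eq _).1 h1) (k := 1)
    (by rw [pow_one, pow_two]; exact F.V_sq L hv)
  obtain ⟨u, hu, w, hw, rfl⟩ := L.hex.mem_sup_iff.1 hv
  have hwE : w ∈ ℰ := by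
    have := mul_mem (inv_mem (HexFrame.U_le (W := W) hu)) hvE
    rwa [inv_mul_cancel_left] at this
  rcases L.hex.W_inf_E hw hwE with e | e <;> rw [e]
  · rwa [mul_one]
  · exact mul_mem hu L.hex.z_U

/-- The elements of `N_H(P)` over `M` normalize `W`. -/
theorem conj_W_mem {n : G} (hn : n ∈ ℋ ⊓ Subgroup.normalizer (P : Set G))
    (hM : π ⟨n, hn.1⟩ ∈ M) {w : G} (hw : w ∈ W) : n * w * n⁻¹ ∈ W := by
  obtain ⟨hwX, hw32⟩ := (L.mem_W w).1 hw
  obtain ⟨⟨hwH, hwB⟩, hwP⟩ := mem_preC.1 hwX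
  refine (L.mem_W _).2 ⟨mem_preC.2 ⟨⟨mul_mem (mul_mem hn.1 hwH) (inv_mem hn.1), ?_⟩, ?_⟩, ?_⟩
  · rw [show (⟨n * w * n⁻¹, mul_mem (mul_mem hn.1 hwH) (inv_mem hn.1)⟩ : ↥ℋ) =
      ⟨n, hn.1⟩ * ⟨w, hwH⟩ * ⟨n, hn.1⟩⁻¹ from rfl, map_mul, map_mul, map_inv]
    rw [F.hexad.M_eq] at hM
    exact (Subgroup.mem_normalizer_iff.1 hM _).1 hwB
  · refine Subgroup.mem_centralizer_iff.2 fun p hp => ?_
    have hp' : n⁻¹ * p * n ∈ P := by
      have := (Subgroup.mem_normalizer_iff.1 (inv_mem hn.2) p).1 hp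
      rwa [inv_inv] at this
    calc p * (n * w * n⁻¹) = n * ((n⁻¹ * p * n) * w) * n⁻¹ := by group
      _ = n * (w * (n⁻¹ * p * n)) * n⁻¹ := by rw [Subgroup.mem_centralizer_iff.1 hwP _ hp']
      _ = n * w * n⁻¹ * p := by group
  · rw [conj_pow, hw32, mul_one, mul_inv_cancel]

theorem conj_U_mem {n : G} (hn : n ∈ ℋ ⊓ Subgroup.normalizer (P : Set G))
    (hM : π ⟨n, hn.1⟩ ∈ M) {u : G} (hu : u ∈ HexFrame.U ℰ W) : n * u * n⁻¹ ∈ HexFrame.U ℰ W := by
  refine HexFrame.mem_U (F.setting.conj_mem_E hn.1 (HexFrame.U_le hu)) fun w hw => ?_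
  have hw' : n⁻¹ * w * n ∈ W := by
    have hinv : π ⟨n⁻¹, (inv_mem hn).1⟩ ∈ M := by
      rw [show (⟨n⁻¹, (inv_mem hn).1⟩ : ↥ℋ) = ⟨n, hn.1⟩⁻¹ from rfl, map_inv]
      exact inv_mem hM
    simpa using F.conj_W_mem L (inv_mem hn) hinv hw
  calc w * (n * u * n⁻¹) = n * ((n⁻¹ * w * n) * u) * n⁻¹ := by group
    _ = n * (u * (n⁻¹ * w * n)) * n⁻¹ := by rw [HexFrame.U_comm hu hw']
    _ = n * u * n⁻¹ * w := by group

theorem conj_V_E {e v : G} (he : e ∈ ℰ) (hv : v ∈ 𝒱) : e * v * e⁻¹ ∈ 𝒱 := by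
  obtain ⟨u, hu, w, hw, rfl⟩ := L.hex.mem_sup_iff.1 hv
  rw [show e * (u * w) * e⁻¹ = (e * u * e⁻¹) * (e * w * e⁻¹) by group, L.hex.conj_W_eq he hw]
  exact mul_mem (Subgroup.mem_sup_left (L.hex.U_normal he hu))
    (Subgroup.mul_mem_sup (L.hex.cmm_mem_U hw he) hw)

theorem preH_le_normalizer : preH π M ≤ Subgroup.normalizer (𝒱 : Set G) := by
  intro g hg
  obtain ⟨hgH, hgM⟩ := mem_preH.1 hg
  obtain ⟨e, he, n, hn, rfl⟩ := F.setting.exists_mul_normalizer hgH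
  have hM : π ⟨n, hn.1⟩ ∈ M := by
    rw [show (⟨e * n, hgH⟩ : ↥ℋ) = ⟨e, F.setting.E_le he⟩ * ⟨n, hn.1⟩ from rfl, map_mul,
      (F.setting.pi_eq_one_iff F.ker_eq _).2 (F.setting.E_le_N he : ((⟨e, F.setting.E_le he⟩ : ↥ℋ) : G) ∈ N),
      one_mul] at hgM
    exact hgM
  refine Subgroup.mem_normalizer_fintype fun v hv => ?_
  obtain ⟨u, hu, w, hw, rfl⟩ := L.hex.mem_sup_iff.1 hv
  rw [show e * n * (u * w) * (e * n)⁻¹ = e * ((n * u * n⁻¹) * (n * w * n⁻¹)) * e⁻¹ by group]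
  exact F.conj_V_E L he (Subgroup.mul_mem_sup (F.conj_U_mem L hn hM hu) (F.conj_W_mem L hn hM hw))

theorem normalizer_inf_H_le {n : G} (hn : n ∈ Subgroup.normalizer (𝒱 : Set G)) (hnH : n ∈ ℋ) :
    n ∈ preH π M := by
  haveI : Finite (MulAut ↥Spor.M22) :=
    Nat.finite_of_card_ne_zero (by rw [card_mulAut_mTwentyTwo]; norm_num)
  refine mem_preH.2 ⟨hnH, ?_⟩
  rw [F.hexad.M_eq]
  refine Subgroup.mem_normalizer_fintype fun β hβ => ?_
  obtain ⟨w, hwH, hw, rfl⟩ := L.lift β hβ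
  rw [← map_inv, ← map_mul, ← map_mul]
  exact F.pi_V L ((Subgroup.mem_normalizer_iff.1 hn w).1 (Subgroup.mem_sup_right hw)) _

theorem centralizer_V_le : Subgroup.centralizer (𝒱 : Set G) ≤ 𝒱 := by
  intro g hg
  have hc : ∀ v ∈ 𝒱, g * v = v * g := fun v hv => (Subgroup.mem_centralizer_iff.1 hg v hv).symm
  have hgH : g ∈ ℋ := Subgroup.mem_centralizer_singleton_iff.2 (hc z (F.z_mem_V L))
  have hgB : π ⟨g, hgH⟩ ∈ B := by
    refine F.hexad.cen_B (Subgroup.mem_centralizer_iff.2 fun β hβ => ?_)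
    obtain ⟨w, hwH, hw, rfl⟩ := L.lift β hβ
    rw [← map_mul, ← map_mul]
    exact congrArg π (Subtype.ext (hc w (Subgroup.mem_sup_right hw)).symm)
  obtain ⟨w, hwH, hw, hwg⟩ := L.lift _ hgB
  have hN : g * w⁻¹ ∈ N := (F.setting.pi_eq_one_iff F.ker_eq ⟨_, mul_mem hgH (inv_mem hwH)⟩).1 (by
    rw [show (⟨g * w⁻¹, mul_mem hgH (inv_mem hwH)⟩ : ↥ℋ) = ⟨g, hgH⟩ * ⟨w, hwH⟩⁻¹ from rfl,
      map_mul, map_inv, hwg, mul_inv_cancel])
  obtain ⟨e, he, p, hp, hep⟩ := F.setting.mem_N_iff.1 hN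
  have hcn : ∀ v ∈ 𝒱, (e * p) * v = v * (e * p) := by
    intro v hv
    have h1 := F.V_comm L hv (inv_mem (Subgroup.mem_sup_right hw : w ∈ 𝒱))
    rw [← hep, mul_assoc, ← h1, ← mul_assoc, hc v hv, mul_assoc]
  have hp1 : p = 1 := by
    by_contra hp1
    have hle : HexFrame.U ℰ W ≤ Subgroup.zpowers z := by
      intro u hu
      refine F.setting.mem_zpowers_of_comm hp hp1 (HexFrame.U_le hu) ?_
      have h1 : p * u * p⁻¹ = e⁻¹ * u * (e⁻¹)⁻¹ := by
        calc p * u * p⁻¹ = e⁻¹ * ((e * p) * u) * p⁻¹ := by group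
          _ = e⁻¹ * (u * (e * p)) * p⁻¹ := by rw [hcn u (Subgroup.mem_sup_left hu)]
          _ = e⁻¹ * u * (e⁻¹)⁻¹ := by group
      rw [h1]
      exact F.setting.commutator_mem (inv_mem he) (HexFrame.U_le hu)
    have := Subgroup.card_le_of_le hle
    rw [L.hex.card_U, Nat.card_zpowers, F.setting.orderZ] at this
    norm_num at this
  subst hp1
  rw [mul_one] at hep hcn
  have heU : e ∈ HexFrame.U ℰ W :=
    HexFrame.mem_U he fun w hw => (hcn w (Subgroup.mem_sup_right hw)).symm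
  rw [show g = e * w by rw [← hep, inv_mul_cancel_right]]
  exact Subgroup.mul_mem_sup heU hw

/-- Conjugates of `z` inside `V` are conjugate under `N(V)`. -/
theorem exists_normalizer_conj {v : G} (hv : v ∈ 𝒱) (hc : IsConj z v) :
    ∃ n ∈ Subgroup.normalizer (𝒱 : Set G), n * z * n⁻¹ = v := by
  obtain ⟨c, hcv⟩ := isConj_iff.1 hc
  set A : Subgroup G := (𝒱).map (MulAut.conj c⁻¹).toMonoidHom with hA
  have hAH : A ≤ ℋ := by
    rintro _ ⟨x, hx, rfl⟩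
    refine Subgroup.mem_centralizer_singleton_iff.2 ?_
    simp only [MulEquiv.coe_toMonoidHom, MulAut.conj_apply, inv_inv]
    calc c⁻¹ * x * c * z = c⁻¹ * (x * v) * c := by rw [← hcv]; group
      _ = c⁻¹ * (v * x) * c := by rw [F.V_comm L hx hv]
      _ = z * (c⁻¹ * x * c) := by rw [← hcv]; group
  have hAe : Cfsg.IsElementaryAbelian 2 A := by
    refine ⟨⟨⟨fun x y => Subtype.ext ?_⟩⟩, ?_⟩
    · obtain ⟨u, hu, hux⟩ := Subgroup.mem_map.1 x.2
      obtain ⟨w, hw, hwy⟩ := Subgroup.mem_map.1 y.2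
      show (x : G) * y = y * x
      rw [← hux, ← hwy, ← map_mul, ← map_mul, F.V_comm L hu hw]
    · intro x hx
      obtain ⟨u, hu, rfl⟩ := Subgroup.mem_map.1 hx
      rw [← map_pow, pow_two, F.V_sq L hu, map_one]
  obtain ⟨h, hh, hAh⟩ := F.exists_conj_eq L.hex L.W_le L.split L.lift hAH hAe
    (by rw [hA, Subgroup.card_map_of_injective (MulAut.conj c⁻¹).injective, L.hex.card_V])
  refine ⟨c * h, Subgroup.mem_normalizer_fintype fun x hx => ?_, ?_⟩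
  · have hm : h * x * h⁻¹ ∈ A := by rw [hAh]; exact ⟨x, hx, rfl⟩
    obtain ⟨y, hy, e⟩ := hm
    simp only [MulEquiv.coe_toMonoidHom, MulAut.conj_apply, inv_inv] at e
    rw [show c * h * x * (c * h)⁻¹ = c * (h * x * h⁻¹) * c⁻¹ by group, ← e,
      show c * (c⁻¹ * y * c) * c⁻¹ = y by group]
    exact hy
  · rw [show c * h * z * (c * h)⁻¹ = c * (h * z * h⁻¹) * c⁻¹ by group,
      mul_inv_eq_iff_eq_mul.2 (F.setting.comm_z hh), hcv]

/-- The hexad group acts on six letters as `A₆`. -/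
theorem sixHyp : SixHyp P W (preC P π (M ⊓ Inn ↥Spor.M22)) := by
  classical
  unfold SixHyp
  set M0 : Subgroup G := preC P π (M ⊓ Inn ↥Spor.M22)
  intro f hfW hfP
  obtain ⟨q, hqs, hqker, hqalt⟩ := F.hexad.hexad
  have hmI : ∀ m : ↥M0, π ⟨(m : G), (preC_le m.2).1⟩ ∈ M ⊓ Inn ↥Spor.M22 := fun m => by
    obtain ⟨⟨_, h2⟩, -⟩ := mem_preC.1 m.2
    exact h2
  let g : ↥M0 →* ↥(alternatingGroup (Fin 6)) :=
    { toFun := fun m => ⟨q ⟨π ⟨(m : G), (preC_le m.2).1⟩, (hmI m).1⟩, by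
        rw [← hqalt]
        exact ⟨_, (hmI m).2, rfl⟩⟩
      map_one' := Subtype.ext (by
        show q ⟨π ⟨(1 : G), _⟩, _⟩ = 1
        rw [← map_one q]
        congr 1
        exact Subtype.ext (map_one π))
      map_mul' := fun x y => Subtype.ext (by
        show q ⟨π ⟨((x * y : ↥M0) : G), _⟩, _⟩ = q _ * q _
        rw [← map_mul]
        congr 1
        exact Subtype.ext (map_mul π ⟨(x : G), (preC_le x.2).1⟩ ⟨(y : G), (preC_le y.2).1⟩)) }
  have hgs : Function.Surjective g := by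
    rintro ⟨x, hx⟩
    rw [← hqalt] at hx
    obtain ⟨⟨y, hyM⟩, hyI, rfl⟩ := hx
    obtain ⟨m, hmH, hmM, hmy⟩ := F.exists_preC_lift (X := M ⊓ Inn ↥Spor.M22) inf_le_right ⟨hyM, hyI⟩
    exact ⟨⟨m, hmM⟩, Subtype.ext (congrArg q (Subtype.ext hmy))⟩
  have hgker : g.ker ≤ f.ker := by
    intro m hm
    have h1 : (⟨π ⟨(m : G), (preC_le m.2).1⟩, (hmI m).1⟩ : ↥M) ∈ q.ker := congrArg Subtype.val hm
    rw [hqker, Subgroup.mem_subgroupOf] at h1
    obtain ⟨w, hw, p, hp, hwp⟩ := L.split (m : G) (mem_preC.2 ⟨⟨_, h1⟩, (preC_le m.2).2⟩)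
    have hwM : w ∈ M0 := L.hex.W_M0 hw
    have hpM : p ∈ M0 := L.hex.P_le_M0 hp
    rw [MonoidHom.mem_ker, show m = (⟨w, hwM⟩ : ↥M0) * ⟨p, hpM⟩ from Subtype.ext hwp, map_mul,
      hfW ⟨w, hwM⟩ hw, hfP ⟨p, hpM⟩ hp, one_mul]
  let k : ↥(alternatingGroup (Fin 6)) →* Equiv.Perm (Fin 6) := (g.liftOfSurjective hgs) ⟨f, hgker⟩
  have hk : ∀ m, k (g m) = f m := fun m => g.liftOfRightInverse_comp_apply _ _ ⟨f, hgker⟩ m
  haveI : IsSimpleGroup ↥(alternatingGroup (Fin 6)) := alternatingGroup.isSimpleGroup (by simp)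
  rcases IsSimpleGroup.eq_bot_or_eq_top_of_normal k.ker inferInstance with e | e
  · right
    have hr : k.range = alternatingGroup (Fin 6) := by
      refine Equiv.Perm.eq_alternatingGroup_of_index_eq_two ?_
      have h1 := k.range.card_mul_index
      rw [← Nat.card_congr (MonoidHom.ofInjective (k.ker_eq_bot_iff.1 e)).toEquiv,
        nat_card_alternatingGroup, Nat.card_perm, Nat.card_fin] at h1
      norm_num [Nat.factorial] at h1
      omega
    rw [← hr]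
    rintro _ ⟨a, rfl⟩
    obtain ⟨m, rfl⟩ := hgs a
    exact ⟨m, (hk m).symm⟩
  · left
    ext1 m
    rw [← hk m, MonoidHom.mem_ker.1 (e ▸ Subgroup.mem_top (g m) : g m ∈ k.ker), MonoidHom.one_apply]

theorem exists_fiveData :
    ∃ five, FiveData ℰ P W (preC P π (M ⊓ Inn ↥Spor.M22)) z five :=
  L.hex.exists_five F.setting.extra (F.sixHyp L)

variable {five : Set (Subgroup G)}
  (hF : FiveData (twoCoreOfCentralizer z) P W (preC P π (M ⊓ Inn ↥Spor.M22)) z five)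
include hF

theorem isPt_map {n : G} (hn : n ∈ ℋ ⊓ Subgroup.normalizer (P : Set G)) (hM : π ⟨n, hn.1⟩ ∈ M)
    {S : Subgroup G} (hS : IsPt ℰ P W z S) : IsPt ℰ P W z (S.map (MulAut.conj n).toMonoidHom) := by
  refine ⟨⟨⟨z, hS.1.z_mem, ?_⟩, ?_, ?_⟩, by
    rw [Subgroup.card_map_of_injective (MulAut.conj n).injective, hS.2]⟩
  · simp only [MulEquiv.coe_toMonoidHom, MulAut.conj_apply]
    exact mul_inv_eq_iff_eq_mul.2 (F.setting.comm_z hn.1)
  · rintro _ ⟨x, hx, rfl⟩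
    exact F.conj_U_mem L hn hM (hS.1.le_U hx)
  · rintro p hp _ ⟨x, hx, rfl⟩
    have hp' : n⁻¹ * p * n ∈ P := by
      have := (Subgroup.mem_normalizer_iff.1 (inv_mem hn.2) p).1 hp
      rwa [inv_inv] at this
    refine ⟨_, hS.1.inv _ hp' x hx, ?_⟩
    simp only [MulEquiv.coe_toMonoidHom, MulAut.conj_apply]
    group

theorem five_map {n : G} (hn : n ∈ ℋ ⊓ Subgroup.normalizer (P : Set G)) (hM : π ⟨n, hn.1⟩ ∈ M)
    {S : Subgroup G} (hS : S ∈ five) : S.map (MulAut.conj n).toMonoidHom ∈ five := by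
  classical
  have hinv : π ⟨n⁻¹, (inv_mem hn).1⟩ ∈ M := by
    rw [show (⟨n⁻¹, (inv_mem hn).1⟩ : ↥ℋ) = ⟨n, hn.1⟩⁻¹ from rfl, map_inv]
    exact inv_mem hM
  have hle : ∀ (m : G) (hm : m ∈ ℋ ⊓ Subgroup.normalizer (P : Set G)) (b : G),
      (Line ℰ z b).map (MulAut.conj m).toMonoidHom ≤ Line ℰ z (m * b * m⁻¹) := by
    intro m hm b
    rw [Subgroup.map_le_iff_le_comap, Line, Subgroup.closure_le]
    rintro y (rfl | ⟨f, hf, rfl⟩) <;>
      simp only [SetLike.mem_coe, Subgroup.mem_comap, MulEquiv.coe_toMonoidHom, MulAut.conj_apply]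
    · rw [mul_inv_eq_iff_eq_mul.2 (F.setting.comm_z hm.1)]
      exact L.hex.z_mem_Line _
    · rw [show m * cmm b f * m⁻¹ = cmm (m * b * m⁻¹) (m * f * m⁻¹) by simp only [cmm]; group]
      exact L.hex.cmm_mem_Line (F.setting.conj_mem_E hm.1 hf)
  have hback : ∀ (a : G) (T : Subgroup G),
      (T.map (MulAut.conj a).toMonoidHom).map (MulAut.conj a⁻¹).toMonoidHom = T := fun a T => by
    rw [Subgroup.map_map]
    convert Subgroup.map_id T using 2
    ext x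
    simp [mul_assoc]
  have heq : ∀ (m : G) (hm : m ∈ ℋ ⊓ Subgroup.normalizer (P : Set G)) (b : G),
      (Line ℰ z b).map (MulAut.conj m).toMonoidHom = Line ℰ z (m * b * m⁻¹) := by
    intro m hm b
    refine le_antisymm (hle m hm b) fun y hy => ?_
    have h1 := hle m⁻¹ (inv_mem hm) (m * b * m⁻¹) ⟨y, hy, rfl⟩
    rw [show m⁻¹ * (m * b * m⁻¹) * m⁻¹⁻¹ = b by group] at h1
    exact ⟨_, h1, by simp [mul_assoc]⟩
  have hW : ∀ (m : G) (hm : m ∈ ℋ ⊓ Subgroup.normalizer (P : Set G)), π ⟨m, hm.1⟩ ∈ M →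
      ∀ T : Subgroup G, ∀ Ln : Subgroup G,
      ((∃ b ∈ W, b ∉ Subgroup.zpowers z ∧ Ln = Line ℰ z b) ∧ T ≤ Ln) →
      ((∃ b ∈ W, b ∉ Subgroup.zpowers z ∧ Ln.map (MulAut.conj m).toMonoidHom = Line ℰ z b) ∧
        T.map (MulAut.conj m).toMonoidHom ≤ Ln.map (MulAut.conj m).toMonoidHom) := by
    rintro m hm hmM T Ln ⟨⟨b, hb, hbz, rfl⟩, hT⟩
    refine ⟨⟨m * b * m⁻¹, F.conj_W_mem L hm hmM hb, fun hh => hbz ?_, heq m hm b⟩, Subgroup.map_mono hT⟩
    have hz : m⁻¹ * z * m = z := by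
      rw [mul_assoc, ← F.setting.comm_z hm.1, inv_mul_cancel_left]
    rcases L.hex.mem_Z.1 hh with e | e
    · rw [conj_eq_one_iff.1 e]; exact one_mem _
    · rw [show b = m⁻¹ * (m * b * m⁻¹) * m by group, e, hz]; exact Subgroup.mem_zpowers z
  have hSpt := F.isPt_map L hF hn hM (hF.isPt S hS)
  by_contra hnot
  have h3 := hF.three_lines _ hSpt hnot
  have : Nat.card {Ln : Subgroup G // (∃ b ∈ W, b ∉ Subgroup.zpowers z ∧ Ln = Line ℰ z b) ∧ S ≤ Ln} ≤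
      Nat.card {Ln : Subgroup G // (∃ b ∈ W, b ∉ Subgroup.zpowers z ∧ Ln = Line ℰ z b) ∧
        S.map (MulAut.conj n).toMonoidHom ≤ Ln} := by
    refine Nat.card_le_card_of_injective (fun l => ⟨_, hW n hn hM S l.1 l.2⟩) fun a b e => Subtype.ext ?_
    exact Subgroup.map_injective (MulAut.conj n).injective (congrArg Subtype.val e)
  rw [hF.five_lines S hS, h3] at this
  omega

/-- The elements of `H` over `M` permute the ordinary elements of `U`. -/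
theorem ordU_map {g : G} (hg : g ∈ preH π M) {d : G} (hd : d ∈ ordU ℰ W z five) :
    g * d * g⁻¹ ∈ ordU ℰ W z five := by
  obtain ⟨hgH, hgM⟩ := mem_preH.1 hg
  obtain ⟨e, he, n, hn, rfl⟩ := F.setting.exists_mul_normalizer hgH
  have hM : π ⟨n, hn.1⟩ ∈ M := by
    rw [show (⟨e * n, hgH⟩ : ↥ℋ) = ⟨e, F.setting.E_le he⟩ * ⟨n, hn.1⟩ from rfl, map_mul,
      (F.setting.pi_eq_one_iff F.ker_eq _).2 (F.setting.E_le_N he : ((⟨e, F.setting.E_le he⟩ : ↥ℋ) : G) ∈ N),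
      one_mul] at hgM
    exact hgM
  obtain ⟨hdU, hdz, hdn⟩ := hd
  have hinv : π ⟨n⁻¹, (inv_mem hn).1⟩ ∈ M := by
    rw [show (⟨n⁻¹, (inv_mem hn).1⟩ : ↥ℋ) = ⟨n, hn.1⟩⁻¹ from rfl, map_inv]
    exact inv_mem hM
  have hnd : n * d * n⁻¹ ∈ ordU ℰ W z five := by
    refine ⟨F.conj_U_mem L hn hM hdU, fun hh => hdz ?_, fun S hS hh => ?_⟩
    · have hz : n⁻¹ * z * n = z := by rw [mul_assoc, ← F.setting.comm_z hn.1, inv_mul_cancel_left]
      rcases L.hex.mem_Z.1 hh with c | c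
      · rw [conj_eq_one_iff.1 c]; exact one_mem _
      · rw [show d = n⁻¹ * (n * d * n⁻¹) * n by group, c, hz]; exact Subgroup.mem_zpowers z
    · refine hdn _ (F.five_map L hF (inv_mem hn) hinv hS) ⟨_, hh, ?_⟩
      simp [mul_assoc]
  obtain ⟨h1, h2, h3⟩ := hnd
  rw [show e * n * d * (e * n)⁻¹ = e * (n * d * n⁻¹) * e⁻¹ by group]
  rcases F.setting.conj_eq he (HexFrame.U_le h1) with c | c <;> rw [c]
  · exact ⟨h1, h2, h3⟩
  · refine ⟨mul_mem L.hex.z_U h1, L.hex.z_mul_notMem h2, fun S hS hh => h3 S hS ?_⟩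
    have := mul_mem (hF.isPt S hS).1.z_mem hh
    rwa [← mul_assoc, L.hex.z_sq, one_mul] at this

end Frame

end CfsgLib.JFour
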