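import Cfsg.Agent.Lib.JFour.Isolated
import Cfsg.Agent.Lib.Alperin.OrderFour

/-!
# Groups of Janko-four type: the Sylow 3-subgroup
-/

set_option autoImplicit false
set_option linter.style.haveILetI false
set_option linter.unusedSectionVars false

open Cfsg
open scoped commutatorElement

namespace CfsgLib.JFour

/-- In a finite group with abelian `p`-Sylow-like subgroup `R` of index prime to `p`, a central
`p`-element of `R` lying in the derived group is trivial. -/
theorem eq_one_of_central_of_commutator {K : Type*} [Group K] [Finite K] (R : Subgroup K)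
    (hab : IsMulCommutative ↥R) {p : ℕ} [Fact p.Prime] (hR : IsPGroup p ↥R) (hidx : ¬ p ∣ R.index)
    {x : K} (hxR : x ∈ R) (hxZ : x ∈ Subgroup.center K) (hxK : x ∈ commutator K) : x = 1 := by
  haveI := hab
  letI : CommGroup ↥R := { (inferInstance : Group ↥R) with mul_comm := hab.is_comm.comm }
  have key : ∀ (k : ℕ) (g₀ : K), g₀⁻¹ * x ^ k * g₀ ∈ R → g₀⁻¹ * x ^ k * g₀ = x ^ k := by
    intro k g₀ _
    rw [mul_assoc, ← Subgroup.mem_center_iff.1 (Subgroup.pow_mem _ hxZ k) g₀, inv_mul_cancel_left]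
  have h := MonoidHom.transfer_eq_pow (ϕ := MonoidHom.id ↥R) x key
  have h2 : MonoidHom.transfer (MonoidHom.id ↥R) x = 1 :=
    MonoidHom.mem_ker.1 (Abelianization.commutator_subset_ker _ hxK)
  rw [h2, MonoidHom.id_apply] at h
  have h3 : x ^ R.index = 1 := congrArg Subtype.val h.symm
  obtain ⟨k, hk⟩ := IsPGroup.iff_orderOf.1 hR ⟨x, hxR⟩
  rw [Subgroup.orderOf_mk] at hk
  rw [← orderOf_eq_one_iff]
  refine Nat.dvd_one.1 ?_
  have hcop : Nat.Coprime (p ^ k) R.index :=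
    Nat.Coprime.pow_left k ((Fact.out : p.Prime).coprime_iff_not_dvd.2 hidx)
  exact hcop ▸ Nat.dvd_gcd (hk ▸ dvd_refl _) (orderOf_dvd_of_pow_eq_one h3)

namespace Setting

variable {G : Type*} [Group G] {z : G} {P N : Subgroup G}

set_option quotPrecheck false in
local notation "ℋ" => Subgroup.centralizer (singleton z : Set G)

/-- The Sylow 3-subgroup of `C_H(P)`: extraspecial of order 27 and exponent 3. -/
theorem exists_sylow_three [Finite G] (S : Setting z P N) {M B : Subgroup (MulAut ↥Spor.M22)}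
    (hHex : HexadData (Inn ↥Spor.M22) M B) :
    ∃ R : Subgroup G, R ≤ ℋ ⊓ Subgroup.centralizer (P : Set G) ∧ P ≤ R ∧ Nat.card ↥R = 27 ∧
      IsExtraspecial 3 ↥R ∧ (∀ r ∈ R, r ^ 3 = 1) ∧
      (∀ n ∈ Subgroup.normalizer (R : Set G), n ∈ Subgroup.normalizer (P : Set G)) ∧
      Nat.card ↥(ℋ ⊓ Subgroup.normalizer (R : Set G)) = 864 ∧
      (∀ a ∈ R, a ∉ P → ∀ b ∈ R, b ∉ P → IsConj a b) := by
  classical
  haveI : Fact (Nat.Prime 3) := ⟨Nat.prime_three⟩
  obtain ⟨π, hπ, hker⟩ := S.quot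
  obtain ⟨Rb, hRbMI, hRbc, hRbexp, -, hNRb, htrans⟩ := hHex.syl_three
  have hRbI : Rb ≤ Inn ↥Spor.M22 := hRbMI.trans inf_le_right
  haveI : Finite (MulAut ↥Spor.M22) :=
    Nat.finite_of_card_ne_zero (by rw [card_mulAut_mTwentyTwo]; norm_num)
  set Cs : Subgroup G := ℋ ⊓ Subgroup.centralizer (P : Set G) with hCs
  set ρ : ↥Cs →* MulAut ↥Spor.M22 := π.comp (Subgroup.inclusion inf_le_left) with hρ
  have hρker : ρ.ker = (Subgroup.zpowers z ⊔ P).subgroupOf Cs := by
    ext c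
    rw [MonoidHom.mem_ker, Subgroup.mem_subgroupOf, ← S.N_inf_normalizer, Subgroup.mem_inf]
    show π (Subgroup.inclusion inf_le_left c) = 1 ↔ _
    rw [S.pi_eq_one_iff hker, Subgroup.coe_inclusion]
    exact (and_iff_left (Subgroup.mem_inf.1 (S.C_le_normalizer_P c.2)).2).symm
  set X : Subgroup ↥Cs := Rb.comap ρ with hX
  have hρrange : ρ.range = Inn ↥Spor.M22 := by
    refine le_antisymm ?_ fun a ha => ?_
    · rintro _ ⟨c, rfl⟩
      exact S.pi_mem_inn_of_mem_C hπ hker (h := Subgroup.inclusion inf_le_left c) (Subgroup.mem_inf.1 c.2).2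
    · obtain ⟨c, hc⟩ := S.exists_C_lift hπ hker ha
      exact ⟨c, hc⟩
  let f : ↥X →* ↥Rb := (ρ.comp X.subtype).codRestrict Rb fun x => x.2
  have hfsurj : Function.Surjective f := by
    rintro ⟨a, ha⟩
    obtain ⟨c, hc⟩ := (hρrange.symm ▸ hRbI ha : a ∈ ρ.range)
    exact ⟨⟨c, by rw [hX, Subgroup.mem_comap, hc]; exact ha⟩, Subtype.ext hc⟩
  have hfker : f.ker = ρ.ker.subgroupOf X := by
    ext x
    rw [MonoidHom.mem_ker, Subgroup.mem_subgroupOf, MonoidHom.mem_ker]
    exact ⟨fun h => congrArg Subtype.val h, fun h => Subtype.ext h⟩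
  have hXcard : Nat.card ↥X = 54 := by
    have h := Subgroup.card_eq_card_quotient_mul_card_subgroup f.ker
    rw [Nat.card_congr (QuotientGroup.quotientKerEquivOfSurjective f hfsurj).toEquiv, hRbc, hfker,
      Nat.card_congr (Subgroup.subgroupOfEquivOfLe (show ρ.ker ≤ X from fun c hc => by
        rw [hX, Subgroup.mem_comap, MonoidHom.mem_ker.1 hc]; exact one_mem _)).toEquiv, hρker,
      Nat.card_congr (Subgroup.subgroupOfEquivOfLe S.zP_le_C).toEquiv, S.card_zP] at h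
    rw [h]
  set T : Sylow 3 ↥X := default with hT
  have hfac54 : Nat.factorization 54 3 = 3 := by
    rw [show (54 : ℕ) = 2 * 3 ^ 3 by norm_num, Nat.factorization_mul (by norm_num) (by norm_num),
      Finsupp.add_apply, Nat.Prime.factorization_pow Nat.prime_three, Finsupp.single_eq_same,
      Nat.prime_two.factorization, Finsupp.single_eq_of_ne (by norm_num)]
  have hTcard : Nat.card ↥(T : Subgroup ↥X) = 27 := by
    rw [Sylow.card_eq_multiplicity, hXcard, hfac54]; norm_num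
  have hTidx : (T : Subgroup ↥X).index = 2 := by
    have h := (T : Subgroup ↥X).card_mul_index
    rw [hTcard, hXcard] at h; omega
  haveI := Subgroup.normal_of_index_eq_two hTidx
  set R : Subgroup G := ((T : Subgroup ↥X).map X.subtype).map Cs.subtype with hR
  have hRCs : R ≤ Cs := by rintro _ ⟨c, -, rfl⟩; exact c.2
  have hRcard : Nat.card ↥R = 27 := by
    rw [hR, Subgroup.card_map_of_injective Cs.subtype_injective,
      Subgroup.card_map_of_injective X.subtype_injective, hTcard]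
  have hRimg : ∀ r (hr : r ∈ R), π ⟨r, (Subgroup.mem_inf.1 (hRCs hr)).1⟩ ∈ Rb := by
    rintro _ ⟨c, ⟨x, -, rfl⟩, rfl⟩
    exact x.2
  -- every 3-element over `Rb` lies in `R`
  have hmemR : ∀ c : ↥Cs, ρ c ∈ Rb → ∀ k : ℕ, (c : G) ^ 3 ^ k = 1 → (c : G) ∈ R := by
    intro c hc k hk
    refine ⟨c, ⟨⟨c, hc⟩, ?_, rfl⟩, rfl⟩
    have h1 : (⟨c, hc⟩ : ↥X) ^ 3 ^ k = 1 := Subtype.ext (Subtype.ext (by simpa using hk))
    have h2 : ((⟨c, hc⟩ : ↥X) : ↥X ⧸ (T : Subgroup ↥X)) = 1 := by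
      rw [← orderOf_eq_one_iff]
      refine Nat.dvd_one.1 ?_
      have hcard2 : Nat.card (↥X ⧸ (T : Subgroup ↥X)) = 2 := hTidx
      exact (show Nat.Coprime (3 ^ k) 2 from Nat.Coprime.pow_left k (by norm_num)) ▸ Nat.dvd_gcd
        (orderOf_dvd_of_pow_eq_one (by rw [← QuotientGroup.mk_pow, h1, QuotientGroup.mk_one]))
        (hcard2 ▸ orderOf_dvd_natCard _)
    exact (QuotientGroup.eq_one_iff _).1 h2
  have hPR : P ≤ R := by
    intro p hp
    refine hmemR ⟨p, S.P_le_C hp⟩ ?_ 1 ?_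
    · have : ρ ⟨p, S.P_le_C hp⟩ = 1 := MonoidHom.mem_ker.1 (hρker.symm ▸
        Subgroup.mem_subgroupOf.2 (Subgroup.mem_sup_right hp))
      rw [this]; exact one_mem _
    · rw [pow_one]
      exact orderOf_dvd_iff_pow_eq_one.1 (S.cardP ▸ Subgroup.orderOf_dvd_natCard _ hp)
  have hRp : IsPGroup 3 ↥R := IsPGroup.of_card (n := 3) hRcard
  have hcomm_P : ∀ r ∈ R, ∀ p ∈ P, r * p = p * r := fun r hr p hp =>
    (Subgroup.mem_centralizer_iff.1 (Subgroup.mem_inf.1 (hRCs hr)).2 p hp).symm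
  -- `R` is not abelian: transfer in `C_H(P)`
  have hnab : ¬ IsMulCommutative ↥R := by
    intro hab
    obtain ⟨p, hp, hp1, -, -⟩ := S.exists_generator
    apply hp1
    have e := Subgroup.subgroupOfEquivOfLe hRCs
    haveI := hab
    have hab' : IsMulCommutative ↥(R.subgroupOf Cs) := ⟨⟨fun a b => e.injective (by
      rw [map_mul, map_mul]; exact hab.is_comm.comm _ _)⟩⟩
    have hidx : ¬ 3 ∣ (R.subgroupOf Cs).index := by
      have h := (R.subgroupOf Cs).card_mul_index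
      have hc' : Nat.card ↥Cs = 2661120 := S.card_C
      rw [Nat.card_congr e.toEquiv, hRcard, hc'] at h
      omega
    have hc : (⟨p, S.P_le_C hp⟩ : ↥Cs) ∈ Subgroup.center ↥Cs :=
      S.center_C.symm ▸ Subgroup.mem_subgroupOf.2 (Subgroup.mem_sup_right hp)
    have hder : (⟨p, S.P_le_C hp⟩ : ↥Cs) ∈ commutator ↥Cs := by
      have h1 : p ∈ ⁅Cs, Cs⁆ := S.P_le_derived hp
      rw [← Subgroup.range_subtype Cs, MonoidHom.range_eq_map, ← Subgroup.map_commutator,
        ← commutator_def] at h1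
      obtain ⟨c, hc, hcp⟩ := h1
      rwa [show c = ⟨p, S.P_le_C hp⟩ from Subtype.ext hcp] at hc
    exact congrArg Subtype.val (eq_one_of_central_of_commutator (R.subgroupOf Cs) hab'
      (hRp.of_equiv e.symm) hidx (Subgroup.mem_subgroupOf.2 (hPR hp)) hc hder)
  obtain ⟨hZcard, hRes⟩ := CfsgLib.Alperin.extraspecial_of_card_cube hRp hnab (by rw [hRcard]; norm_num)
  have hcenter : ∀ r (hr : r ∈ R), (⟨r, hr⟩ : ↥R) ∈ Subgroup.center ↥R ↔ r ∈ P := by
    have hle : P.subgroupOf R ≤ Subgroup.center ↥R := fun p hp => Subgroup.mem_center_iff.2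
      fun r => Subtype.ext (hcomm_P r r.2 p (Subgroup.mem_subgroupOf.1 hp))
    have heq : P.subgroupOf R = Subgroup.center ↥R := Subgroup.eq_of_le_of_card_ge hle
      (by rw [hZcard, Nat.card_congr (Subgroup.subgroupOfEquivOfLe hPR).toEquiv, S.cardP])
    intro r hr
    rw [← heq, Subgroup.mem_subgroupOf]
  have hnormP : ∀ n ∈ Subgroup.normalizer (R : Set G), n ∈ Subgroup.normalizer (P : Set G) := by
    intro n hn
    refine Subgroup.mem_normalizer_fintype fun p hp => ?_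
    have hnp : n * p * n⁻¹ ∈ R := (Subgroup.mem_normalizer_iff.1 hn p).1 (hPR hp)
    refine (hcenter _ hnp).1 (Subgroup.mem_center_iff.2 fun r => Subtype.ext ?_)
    have hr' : n⁻¹ * (r : G) * n ∈ R := (Subgroup.mem_normalizer_iff''.1 hn r).1 r.2
    show (r : G) * (n * p * n⁻¹) = n * p * n⁻¹ * r
    calc (r : G) * (n * p * n⁻¹) = n * ((n⁻¹ * r * n) * p) * n⁻¹ := by group
      _ = n * (p * (n⁻¹ * r * n)) * n⁻¹ := by rw [hcomm_P _ hr' p hp]
      _ = n * p * n⁻¹ * r := by group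
  -- the kernel in `R` is `P`
  have hkerR : ∀ r (hr : r ∈ R), π ⟨r, (Subgroup.mem_inf.1 (hRCs hr)).1⟩ = 1 → r ∈ P := by
    intro r hr h
    have h1 : r ∈ Subgroup.zpowers z ⊔ P := by
      rw [← S.N_inf_normalizer]
      exact Subgroup.mem_inf.2 ⟨(S.pi_eq_one_iff hker _).1 h, (Subgroup.mem_inf.1 (S.C_le_normalizer_P (hRCs hr))).2⟩
    have h27 : Nat.card ↥((Subgroup.zpowers z ⊔ P) ⊓ R : Subgroup G) ∣ 3 := by
      have a := Subgroup.card_dvd_of_le (inf_le_left : (Subgroup.zpowers z ⊔ P) ⊓ R ≤ _)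
      have b := Subgroup.card_dvd_of_le (inf_le_right : (Subgroup.zpowers z ⊔ P) ⊓ R ≤ _)
      rw [S.card_zP] at a; rw [hRcard] at b
      exact (show Nat.gcd 6 27 = 3 by norm_num) ▸ Nat.dvd_gcd a b
    have hle : P ≤ (Subgroup.zpowers z ⊔ P) ⊓ R := le_inf le_sup_right hPR
    rw [Subgroup.eq_of_le_of_card_ge hle (by rw [S.cardP]; exact Nat.le_of_dvd (by norm_num) h27)]
    exact Subgroup.mem_inf.2 ⟨h1, hr⟩
  -- the normaliser in `H`
  have hnorm : ℋ ⊓ Subgroup.normalizer (R : Set G) =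
      ((Subgroup.normalizer (Rb : Set (MulAut ↥Spor.M22))).comap (π.comp (Subgroup.inclusion
        (inf_le_left : ℋ ⊓ Subgroup.normalizer (P : Set G) ≤ ℋ)))).map
        (ℋ ⊓ Subgroup.normalizer (P : Set G)).subtype := by
    refine le_antisymm ?_ ?_
    · intro n hn
      obtain ⟨hnH, hnR⟩ := Subgroup.mem_inf.1 hn
      refine ⟨⟨n, Subgroup.mem_inf.2 ⟨hnH, hnormP n hnR⟩⟩, ?_, rfl⟩
      show π ⟨n, hnH⟩ ∈ Subgroup.normalizer (Rb : Set (MulAut ↥Spor.M22))
      refine Subgroup.mem_normalizer_fintype fun a ha => ?_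
      obtain ⟨⟨c, hcX⟩, hc⟩ := hfsurj ⟨a, ha⟩
      have hca : ρ c = a := congrArg Subtype.val hc
      -- a preimage inside `R`
      have h9 : ρ (c ^ 28) = a := by
        rw [map_pow, hca, show (28 : ℕ) = 3 * 9 + 1 from rfl, pow_succ, pow_mul, hRbexp a ha,
          one_pow, one_mul]
      have hc54 : c ^ 54 = 1 := by
        have : (⟨c, hcX⟩ : ↥X) ^ 54 = 1 := hXcard ▸ pow_card_eq_one'
        exact congrArg Subtype.val this
      have hr : ((c ^ 28 : ↥Cs) : G) ∈ R := by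
        refine hmemR (c ^ 28) (h9.symm ▸ ha) 3 ?_
        rw [← Subgroup.coe_pow, ← pow_mul, show 28 * 3 ^ 3 = 54 * 14 by norm_num, pow_mul, hc54,
          one_pow]
        rfl
      have hr2 : n * ((c ^ 28 : ↥Cs) : G) * n⁻¹ ∈ R := (Subgroup.mem_normalizer_iff.1 hnR _).1 hr
      have h3 := hRimg _ hr2
      have heq : π ⟨n * ((c ^ 28 : ↥Cs) : G) * n⁻¹, (Subgroup.mem_inf.1 (hRCs hr2)).1⟩ =
          π ⟨n, hnH⟩ * a * (π ⟨n, hnH⟩)⁻¹ := by
        rw [← h9]
        show _ = π ⟨n, hnH⟩ * π (Subgroup.inclusion inf_le_left (c ^ 28)) * (π ⟨n, hnH⟩)⁻¹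
        rw [← map_inv, ← map_mul, ← map_mul]
        exact congrArg π (Subtype.ext rfl)
      rw [heq] at h3
      exact h3
    · rintro _ ⟨⟨n, hn⟩, hnN, rfl⟩
      obtain ⟨hnH, hnP⟩ := Subgroup.mem_inf.1 hn
      refine Subgroup.mem_inf.2 ⟨hnH, Subgroup.mem_normalizer_fintype fun r hr => ?_⟩
      have hc : n * r * n⁻¹ ∈ Cs := by
        obtain ⟨h1, h2⟩ := Subgroup.mem_inf.1 (hRCs hr)
        refine Subgroup.mem_inf.2 ⟨mul_mem (mul_mem hnH h1) (inv_mem hnH),
          Subgroup.mem_centralizer_iff.2 fun p hp => ?_⟩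
        have hp' : n⁻¹ * p * n ∈ P := (Subgroup.mem_normalizer_iff''.1 hnP p).1 hp
        calc p * (n * r * n⁻¹) = n * ((n⁻¹ * p * n) * r) * n⁻¹ := by group
          _ = n * (r * (n⁻¹ * p * n)) * n⁻¹ := by rw [hcomm_P r hr _ hp']
          _ = n * r * n⁻¹ * p := by group
      refine hmemR ⟨_, hc⟩ ?_ 3 ?_
      · show π ⟨n * r * n⁻¹, _⟩ ∈ Rb
        have h4 := (Subgroup.mem_normalizer_iff.1 hnN _).1 (hRimg r hr)
        convert h4 using 1
        show _ = π ⟨n, hnH⟩ * _ * (π ⟨n, hnH⟩)⁻¹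
        rw [← map_inv, ← map_mul, ← map_mul]
        exact congrArg π (Subtype.ext rfl)
      · show (n * r * n⁻¹) ^ 3 ^ 3 = 1
        rw [conj_pow, show r ^ 3 ^ 3 = 1 from orderOf_dvd_iff_pow_eq_one.1
          ((show 3 ^ 3 = 27 by norm_num) ▸ hRcard ▸ Subgroup.orderOf_dvd_natCard _ hr)]
        group
  have hncard : Nat.card ↥(ℋ ⊓ Subgroup.normalizer (R : Set G)) = 864 := by
    rw [hnorm, Subgroup.card_map_of_injective (Subgroup.subtype_injective _)]
    set g := π.comp (Subgroup.inclusion (inf_le_left : ℋ ⊓ Subgroup.normalizer (P : Set G) ≤ ℋ))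
    have hi := Subgroup.index_comap_of_surjective (Subgroup.normalizer (Rb : Set (MulAut ↥Spor.M22)))
      (f := g) (S.surjective_normalizer hπ hker)
    have h1 := ((Subgroup.normalizer (Rb : Set (MulAut ↥Spor.M22))).comap g).card_mul_index
    have h2 := (Subgroup.normalizer (Rb : Set (MulAut ↥Spor.M22))).card_mul_index
    rw [hNRb, card_mulAut_mTwentyTwo] at h2
    have hidx : (Subgroup.normalizer (Rb : Set (MulAut ↥Spor.M22))).index = 6160 := by omega
    rw [hi, hidx, S.card_normalizer_P] at h1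
    omega
  -- transitivity outside `P`
  have hlift : ∀ a ∈ R, a ∉ P → ∀ b ∈ R, b ∉ P →
      ∃ c ∈ Cs, c * a * c⁻¹ ∈ R ∧ b⁻¹ * (c * a * c⁻¹) ∈ P := by
    intro a ha haP b hb hbP
    obtain ⟨g, hg, hgab⟩ := htrans _ (hRimg a ha) (fun h => haP (hkerR a ha h))
      _ (hRimg b hb) (fun h => hbP (hkerR b hb h))
    obtain ⟨hgN, hgI⟩ := Subgroup.mem_inf.1 hg
    obtain ⟨⟨c, hc⟩, hcg⟩ := S.exists_C_lift hπ hker hgI
    have hcR : c * a * c⁻¹ ∈ R := by
      have : c ∈ ℋ ⊓ Subgroup.normalizer (R : Set G) := by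
        rw [hnorm]
        refine ⟨⟨c, S.C_le_normalizer_P hc⟩, ?_, rfl⟩
        show π ⟨c, _⟩ ∈ Subgroup.normalizer (Rb : Set (MulAut ↥Spor.M22))
        exact hcg.symm ▸ hgN
      exact (Subgroup.mem_normalizer_iff.1 (Subgroup.mem_inf.1 this).2 a).1 ha
    refine ⟨c, hc, hcR, hkerR _ (mul_mem (inv_mem hb) hcR) ?_⟩
    have he : (⟨b⁻¹ * (c * a * c⁻¹), (Subgroup.mem_inf.1 (hRCs (mul_mem (inv_mem hb) hcR))).1⟩ : ↥ℋ) =
        (⟨b, (Subgroup.mem_inf.1 (hRCs hb)).1⟩ : ↥ℋ)⁻¹ *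
          (⟨c, (Subgroup.mem_inf.1 hc).1⟩ * ⟨a, (Subgroup.mem_inf.1 (hRCs ha)).1⟩ *
            (⟨c, (Subgroup.mem_inf.1 hc).1⟩ : ↥ℋ)⁻¹) := Subtype.ext rfl
    rw [he, map_mul, map_inv, map_mul, map_mul, map_inv]
    have hcg' : π ⟨c, (Subgroup.mem_inf.1 hc).1⟩ = g := hcg
    rw [hcg', hgab, inv_mul_cancel]
  have hconjR : ∀ a ∈ R, a ∉ P → ∀ b ∈ R, b ∉ P → IsConj a b := by
    intro a ha haP b hb hbP
    obtain ⟨c, -, hcR, hbc⟩ := hlift a ha haP b hb hbP
    -- conjugate inside `R` along the coset of `P`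
    have hb' : ∀ q ∈ P, IsConj b (b * q) := by
      intro q hq
      obtain ⟨⟨r, hr⟩, hne⟩ : ∃ r : ↥R, r * (⟨b, hb⟩ : ↥R) ≠ ⟨b, hb⟩ * r := by
        by_contra h
        push Not at h
        exact hbP ((hcenter b hb).1 (Subgroup.mem_center_iff.2 h))
      have hd : b⁻¹ * (r * b * r⁻¹) ∈ P := by
        refine (hcenter _ (mul_mem (inv_mem hb) (mul_mem (mul_mem hr hb) (inv_mem hr)))).1 ?_
        have h := CfsgLib.PGroups.IsExtraspecial.commutator_mem_center hRes (⟨b, hb⟩ : ↥R)⁻¹ ⟨r, hr⟩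
        have e : (⟨b⁻¹ * (r * b * r⁻¹), mul_mem (inv_mem hb) (mul_mem (mul_mem hr hb) (inv_mem hr))⟩ : ↥R) =
            ⁅(⟨b, hb⟩ : ↥R)⁻¹, (⟨r, hr⟩ : ↥R)⁆ := Subtype.ext (by
          simp [commutatorElement_def, mul_assoc])
        rwa [e]
      set d := b⁻¹ * (r * b * r⁻¹) with hddef
      have hd1 : d ≠ 1 := by
        intro h
        apply hne
        apply Subtype.ext
        have h' : r * b * r⁻¹ = b := (inv_mul_eq_one.1 h).symm
        exact mul_inv_eq_iff_eq_mul.1 h'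
      have hrb : r * b * r⁻¹ = b * d := by rw [hddef]; group
      have hrd : r * d * r⁻¹ = d := by rw [hcomm_P r hr d hd]; group
      have hpow : ∀ k : ℕ, r ^ k * b * (r ^ k)⁻¹ = b * d ^ k := by
        intro k
        induction k with
        | zero => simp
        | succ k ih =>
          rw [pow_succ' r, show r * r ^ k * b * (r * r ^ k)⁻¹ = r * (r ^ k * b * (r ^ k)⁻¹) * r⁻¹ by group,
            ih, show r * (b * d ^ k) * r⁻¹ = r * b * r⁻¹ * (r * d * r⁻¹) ^ k by rw [conj_pow]; group,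
            hrb, hrd, pow_succ', mul_assoc]
      have hq' : q ∈ Subgroup.zpowers d := S.eq_zpowers_of_mem_P hd hd1 ▸ hq
      obtain ⟨k, hk⟩ := mem_zpowers_iff_mem_range_orderOf.1 hq' |> Finset.mem_image.1
      exact isConj_iff.2 ⟨r ^ k, by rw [hpow, hk.2]⟩
    refine (isConj_iff.2 ⟨c, rfl⟩ : IsConj a (c * a * c⁻¹)).trans ?_
    have := hb' _ hbc
    rw [mul_inv_cancel_left] at this
    exact this.symm
  -- exponent three
  have hexp : ∀ r ∈ R, r ^ 3 = 1 := by
    have hPexp : ∀ p ∈ P, p ^ 3 = 1 := fun p hp =>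
      orderOf_dvd_iff_pow_eq_one.1 (S.cardP ▸ Subgroup.orderOf_dvd_natCard _ hp)
    by_contra h
    push Not at h
    obtain ⟨a, ha, ha3⟩ := h
    have haP : a ∉ P := fun h => ha3 (hPexp a h)
    have hall : ∀ b ∈ R, b ∉ P → b ^ 3 ≠ 1 := by
      intro b hb hbP h3
      obtain ⟨g, hg⟩ := isConj_iff.1 (hconjR b hb hbP a ha haP)
      exact ha3 (by rw [← hg, conj_pow, h3]; group)
    -- the cube map is a homomorphism into `P` with kernel larger than `P`
    have hcube : ∀ r (hr : r ∈ R), r ^ 3 ∈ P := by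
      intro r hr
      refine hkerR _ (Subgroup.pow_mem _ hr 3) ?_
      rw [show (⟨r ^ 3, (Subgroup.mem_inf.1 (hRCs (Subgroup.pow_mem _ hr 3))).1⟩ : ↥ℋ) =
        (⟨r, (Subgroup.mem_inf.1 (hRCs hr)).1⟩ : ↥ℋ) ^ 3 from Subtype.ext (by simp), map_pow,
        hRbexp _ (hRimg r hr)]
    have hmulcube : ∀ x y : ↥R, (x * y) ^ 3 = x ^ 3 * y ^ 3 := by
      intro x y
      have hcen : ⁅y, x⁆ ∈ Subgroup.center ↥R :=
        CfsgLib.PGroups.IsExtraspecial.commutator_mem_center hRes y x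
      set k := ⁅y, x⁆ with hk
      have hk3 : k ^ 3 = 1 := CfsgLib.PGroups.IsExtraspecial.commutator_pow_eq_one hRes y x
      have hc : ∀ w, w * k = k * w := Subgroup.mem_center_iff.1 hcen
      have hyx : y * x = k * (x * y) := by rw [hk, commutatorElement_def]; group
      calc (x * y) ^ 3 = x * (y * x) * (y * x) * y := by rw [pow_succ, pow_two]; group
        _ = (x * k) * x * (y * k) * x * y * y := by rw [hyx]; group
        _ = k * (x * x * k) * (y * x) * (y * y) := by rw [hc x, hc y]; group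
        _ = k * (x * x * k) * k * x * (y * (y * y)) := by rw [hyx]; group
        _ = k * k * (x * x * k) * x * (y * (y * y)) := by conv_lhs => rw [hc (x * x)]
                                                          group
        _ = k * k * k * (x * x * x) * (y * y * y) := by rw [hc (x * x)]; group
        _ = k ^ 3 * (x ^ 3 * y ^ 3) := by simp only [pow_succ, pow_zero, one_mul]; group
        _ = _ := by rw [hk3, one_mul]
    let cube : ↥R →* ↥P :=
      { toFun := fun r => ⟨(r : G) ^ 3, hcube r r.2⟩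
        map_one' := Subtype.ext (by simp)
        map_mul' := fun x y => Subtype.ext (by
          simpa using congrArg Subtype.val (hmulcube x y)) }
    have h := Subgroup.card_eq_card_quotient_mul_card_subgroup cube.ker
    rw [hRcard, Nat.card_congr (QuotientGroup.quotientKerEquivRange cube).toEquiv] at h
    have h3 : Nat.card ↥cube.range ≤ 3 := (Subgroup.card_le_card_group _).trans (le_of_eq S.cardP)
    have hsub : cube.ker ≤ P.subgroupOf R := by
      intro r hr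
      by_contra hrP
      exact hall r r.2 hrP (congrArg Subtype.val (MonoidHom.mem_ker.1 hr))
    have h5 := Subgroup.card_le_of_le hsub
    rw [Nat.card_congr (Subgroup.subgroupOfEquivOfLe hPR).toEquiv, S.cardP] at h5
    nlinarith
  exact ⟨R, hRCs, hPR, hRcard, hRes, hexp, hnormP, hncard, hconjR⟩

/-- If `N_G(P) ≤ H`, then that subgroup is a Sylow 3-subgroup of `G`. -/
theorem exists_sylow_of_normalizer_le [Finite G] (S : Setting z P N)
    (hNP : Subgroup.normalizer (P : Set G) ≤ ℋ) {R : Subgroup G} (hR : Nat.card ↥R = 27)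
    (hnormP : ∀ n ∈ Subgroup.normalizer (R : Set G), n ∈ Subgroup.normalizer (P : Set G))
    (hcard : Nat.card ↥(ℋ ⊓ Subgroup.normalizer (R : Set G)) = 864) :
    ∃ T : Sylow 3 G, (T : Subgroup G) = R := by
  classical
  haveI : Fact (Nat.Prime 3) := ⟨Nat.prime_three⟩
  have hp : IsPGroup 3 ↥R := IsPGroup.of_card (n := 3) hR
  obtain ⟨T, hT⟩ := hp.exists_le_sylow
  refine ⟨T, ?_⟩
  by_contra hne
  haveI : Group.IsNilpotent ↥(T : Subgroup G) := T.2.isNilpotent
  have hlt : R.subgroupOf (T : Subgroup G) < Subgroup.normalizer (R.subgroupOf (T : Subgroup G) : Set ↥(T : Subgroup G)) :=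
    Group.normalizerCondition_of_isNilpotent _ (lt_top_iff_ne_top.2 fun h =>
      hne (le_antisymm (Subgroup.subgroupOf_eq_top.1 h) hT))
  obtain ⟨⟨x, hxT⟩, hx, hxR⟩ := SetLike.exists_of_lt hlt
  have hxN : x ∈ Subgroup.normalizer (R : Set G) := by
    refine Subgroup.mem_normalizer_fintype fun r hr => ?_
    exact (Subgroup.mem_normalizer_iff.1 hx ⟨r, hT hr⟩).1 hr
  set X : Subgroup G := R ⊔ Subgroup.zpowers x
  have hXT : X ≤ (T : Subgroup G) := sup_le hT (Subgroup.zpowers_le.2 hxT)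
  have hX : X ≤ ℋ ⊓ Subgroup.normalizer (R : Set G) := by
    have : X ≤ Subgroup.normalizer (R : Set G) := sup_le Subgroup.le_normalizer (Subgroup.zpowers_le.2 hxN)
    exact le_inf (fun y hy => hNP (hnormP y (this hy))) this
  obtain ⟨k, hk⟩ := (T.2.to_le hXT).exists_card_eq
  have hd := Subgroup.card_dvd_of_le hX
  rw [hk, hcard] at hd
  have hlt' : Nat.card ↥R < Nat.card ↥X := by
    refine lt_of_le_of_ne (Subgroup.card_le_of_le le_sup_left) fun h => hxR ?_
    rw [Subgroup.mem_subgroupOf]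
    exact (Subgroup.eq_of_le_of_card_ge (le_sup_left : R ≤ X) h.ge) ▸
      Subgroup.mem_sup_right (Subgroup.mem_zpowers x)
  rw [hR, hk] at hlt'
  have hk4 : 4 ≤ k := by
    by_contra hc
    have : 3 ^ k ≤ 3 ^ 3 := Nat.pow_le_pow_right (by norm_num) (by omega)
    omega
  have : 3 ^ 4 ∣ 864 := (pow_dvd_pow 3 hk4).trans hd
  norm_num at this

end Setting

end CfsgLib.JFour
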