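import Cfsg.Agent.Lib.JFour.FusionCases
import Cfsg.Agent.Lib.Involutions.BrauerSuzuki
import Cfsg.Agent.Lib.ExtraspecialLarge.Setting

/-!
# Fusion in simple groups of Janko-four type: `z` is conjugate to another element of `V`
-/

set_option autoImplicit false
set_option linter.style.haveILetI false
set_option linter.unusedSectionVars false

open Cfsg

namespace CfsgLib.JFour

variable {G : Type*} [Group G]

namespace FusionData

variable {z : G} {P N : Subgroup G}
  {π : ↥(Subgroup.centralizer ({z} : Set G)) →* MulAut ↥Spor.M22}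
  {M B : Subgroup (MulAut ↥Spor.M22)} {Bt D V : Subgroup G}
  (F : FusionData (P := P) (N := N) π M B Bt D V)
include F

set_option quotPrecheck false in
local notation "ℋ" => Subgroup.centralizer (singleton z : Set G)
set_option quotPrecheck false in
local notation "ℰ" => twoCoreOfCentralizer z

theorem coreSetting : CfsgLib.ExtraspecialLarge.CoreSetting
    (fun x : G => twoCoreOfCentralizer x) z where
  def_Q _ := rfl
  order := F.S.orderZ
  extra := F.S.extra
  cen := fun c hc => F.S.centE (Subgroup.mem_inf.2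
    ⟨Subgroup.mem_centralizer_singleton_iff.2
      (Subgroup.mem_centralizer_iff.1 hc z F.S.z_mem_E).symm, hc⟩)

/-- The centre of a Sylow 2-subgroup containing `E` is `⟨z⟩`. -/
theorem sylow_le [Finite G] (T : Sylow 2 G) (hET : ℰ ≤ T) : (T : Subgroup G) ≤ ℋ := by
  have S := F.S
  haveI : Fact (Nat.Prime 2) := ⟨Nat.prime_two⟩
  haveI : Nontrivial ↥(T : Subgroup G) :=
    ⟨⟨⟨z, hET S.z_mem_E⟩, 1, fun h => S.z_ne_one (congrArg Subtype.val h)⟩⟩
  haveI : Nontrivial ↥(Subgroup.center ↥(T : Subgroup G)) := T.isPGroup'.center_nontrivial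
  obtain ⟨c, hc⟩ := exists_prime_orderOf_dvd_card' (G := ↥(Subgroup.center ↥(T : Subgroup G))) 2 (by
    obtain ⟨n, hn⟩ := IsPGroup.iff_card.1 (T.isPGroup'.to_subgroup (Subgroup.center ↥(T : Subgroup G)))
    rw [hn]
    refine dvd_pow_self 2 fun h => ?_
    have := Finite.one_lt_card (α := ↥(Subgroup.center ↥(T : Subgroup G)))
    rw [hn, h, pow_zero] at this
    exact lt_irrefl 1 this)
  set u : G := ((c : ↥(T : Subgroup G)) : G) with hu
  have hcomm : ∀ t ∈ (T : Subgroup G), u * t = t * u := fun t ht =>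
    (congrArg Subtype.val (Subgroup.mem_center_iff.1 c.2 ⟨t, ht⟩)).symm
  have hu2 : orderOf u = 2 := by rw [hu, Subgroup.orderOf_coe, Subgroup.orderOf_coe, hc]
  have huH : u ∈ ℋ := Subgroup.mem_centralizer_singleton_iff.2 (hcomm z (hET S.z_mem_E))
  have huC : u ∈ Subgroup.centralizer (ℰ : Set G) :=
    Subgroup.mem_centralizer_iff.2 fun e he => (hcomm e (hET he)).symm
  have huz : u ∈ Subgroup.zpowers z := by
    rw [← S.center_E]; exact ⟨S.centE ⟨huH, huC⟩, huC⟩
  rcases S.mem_zpowers_iff.1 huz with h | h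
  · rw [h, orderOf_one] at hu2; exact absurd hu2 (by norm_num)
  · intro t ht
    rw [Subgroup.mem_centralizer_singleton_iff, ← h]
    exact (hcomm t ht).symm

/-- In a simple group, `z` is conjugate to another element of `V`. -/
theorem exists_fusion [Finite G] [IsSimpleGroup G] (hG : ¬ IsMulCommutative G)
    (hfix : FixFive z P N) : ∃ v ∈ V, v ≠ z ∧ IsConj z v := by
  classical
  have S := F.S
  haveI : Fact (Nat.Prime 2) := ⟨Nat.prime_two⟩
  by_contra! hV
  have hnotV : ∀ y : G, IsConj z y → y ≠ z → ¬ InV z V y := by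
    rintro y hy hyz ⟨h, hh, hv⟩
    refine hyz ?_
    have h1 : h * y * h⁻¹ = z := by
      by_contra hne
      exact hV _ hv hne (hy.trans (isConj_iff.2 ⟨h, rfl⟩))
    calc y = h⁻¹ * (h * y * h⁻¹) * h := by group
      _ = z := by rw [h1, mul_assoc, ← S.comm_z hh, inv_mul_cancel_left]
  have hconj : ∀ h : G, IsConj z (h * z * h⁻¹) := fun h => isConj_iff.2 ⟨h, rfl⟩
  have hsq : ∀ h : G, h * z * h⁻¹ * (h * z * h⁻¹) = 1 := fun h => by
    rw [show h * z * h⁻¹ * (h * z * h⁻¹) = h * (z * z) * h⁻¹ by group, S.z_mul_self]; group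
  have hinvconj : ∀ g : G, g * z * g⁻¹ ∈ ℋ → g⁻¹ * z * g ∈ ℋ := fun g hg => by
    have h2 := (show Commute (g * z * g⁻¹) z from
      Subgroup.mem_centralizer_singleton_iff.1 hg).map (MulAut.conj g⁻¹).toMonoidHom
    simp only [MulEquiv.coe_toMonoidHom, MulAut.conj_apply, inv_inv] at h2
    rw [show g⁻¹ * (g * z * g⁻¹) * g = z by group] at h2
    exact Subgroup.mem_centralizer_singleton_iff.2 h2.symm.eq
  have hinvne : ∀ g : G, g * z * g⁻¹ ≠ z → g⁻¹ * z * g ≠ z := fun g hg h => hg (by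
    conv_lhs => rw [← h]
    group)
  -- no other conjugate of `z` lies in `E`
  have hE : ∀ g : G, g * z * g⁻¹ ∈ ℰ → g * z * g⁻¹ = z := by
    intro g hg
    by_contra hne
    have hgH := S.E_le hg
    have h1 : z ∈ twoCoreOfCentralizer (g * z * g⁻¹) := F.coreSetting.symm hg
    have hx'E : g⁻¹ * z * g ∈ ℰ := by
      have h2 := F.coreSetting.conj_mem g⁻¹ (g * z * g⁻¹) h1
      simp only [inv_inv] at h2
      rwa [show g⁻¹ * (g * z * g⁻¹) * g = z by group] at h2
    set x' := g⁻¹ * z * g with hx'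
    set U := ℰ ⊓ Subgroup.centralizer ({g * z * g⁻¹} : Set G) with hU
    have hmemU : ∀ a ∈ U, a ∈ ℰ ∧ Commute a (g * z * g⁻¹) := fun a ha =>
      ⟨ha.1, Subgroup.mem_centralizer_singleton_iff.1 ha.2⟩
    have hUcard : 2 ^ 12 ≤ Nat.card ↥U := by
      have h2 := S.card_le_two_mul (X := ℰ) (t := g * z * g⁻¹) S.E_le
        fun a ha => S.commutator_mem ha hg
      rw [S.cardE, ← hU] at h2
      omega
    have hzx : ∀ w ∈ Subgroup.zpowers z, g⁻¹ * w * g = 1 ∨ g⁻¹ * w * g = x' := fun w hw => by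
      rcases S.mem_zpowers_iff.1 hw with rfl | rfl
      · left; group
      · exact Or.inr rfl
    refine hnotV x' (by simpa using hconj g⁻¹) (hinvne g hne) (F.inV_of_mem_E hx'E
      (W := U.map (MulAut.conj g⁻¹).toMonoidHom)
      ((S.isPGroup_E.to_le inf_le_left).map _) ?_ ?_ ?_)
    · rintro _ ⟨a, ha, rfl⟩
      obtain ⟨haE, hac⟩ := hmemU a ha
      simp only [MulEquiv.coe_toMonoidHom, MulAut.conj_apply, inv_inv]
      have h2 := hac.map (MulAut.conj g⁻¹).toMonoidHom
      simp only [MulEquiv.coe_toMonoidHom, MulAut.conj_apply, inv_inv] at h2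
      rw [show g⁻¹ * (g * z * g⁻¹) * g = z by group] at h2
      have h3 := (S.z_commute (S.E_le haE)).symm.map (MulAut.conj g⁻¹).toMonoidHom
      simp only [MulEquiv.coe_toMonoidHom, MulAut.conj_apply, inv_inv] at h3
      refine ⟨Subgroup.mem_centralizer_singleton_iff.2 h2.eq, h3, ?_⟩
      rw [show g⁻¹ * a * g * (g⁻¹ * a * g) = g⁻¹ * (a * a) * g by group]
      rcases hzx _ (S.sq_mem haE) with h4 | h4 <;> rw [h4]
      · exact one_mem _
      · exact hx'E
    · rwa [Subgroup.card_map_of_injective (MulAut.conj g⁻¹).injective]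
    · rintro _ ⟨a, ha, rfl⟩ _ ⟨c, hc, rfl⟩ h2 h3
      simp only [MulEquiv.coe_toMonoidHom, MulAut.conj_apply, inv_inv] at h2 h3 ⊢
      rcases S.commute_cases h2 h3 with h4 | h4
      · exact h4
      exfalso
      have h5 : g⁻¹ * (a * c * a⁻¹ * c⁻¹) * g = z := by
        calc g⁻¹ * (a * c * a⁻¹ * c⁻¹) * g
            = (g⁻¹ * a * g * (g⁻¹ * c * g)) * (g⁻¹ * c * g * (g⁻¹ * a * g))⁻¹ := by group
          _ = _ := by rw [h4, mul_inv_cancel_right]
      rcases hzx _ (S.commutator_mem (hmemU a ha).1 (hmemU c hc).1) with h6 | h6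
      · exact S.z_ne_one (h5.symm.trans h6)
      · exact hinvne g hne (h6.symm.trans h5)
  -- no other conjugate of `z` lies over an inner automorphism
  have hout : ∀ y (hy : y ∈ ℋ), IsConj z y → y ≠ z → π ⟨y, hy⟩ ∉ Inn ↥Spor.M22 := by
    intro y hy hzy hyz hI
    obtain ⟨g, rfl⟩ := isConj_iff.1 hzy
    have hsp : Special π V (g * z * g⁻¹) :=
      ⟨hy, hsq g, hI, fun h => hyz (hE g h), hnotV _ hzy hyz⟩
    obtain ⟨p, hp, hp3, hpc⟩ := F.exists_three hsp
    obtain ⟨a₁, h₁, a₂, h₂, c₁p, c₂p, c₁, c₂, hz'⟩ := F.special_pair hfix hsp hp hp3 hpc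
    set x' := g⁻¹ * z * g with hx'
    have hx'H : x' ∈ ℋ := hinvconj g hy
    set φ := (MulAut.conj g⁻¹).toMonoidHom with hφ
    have hφapp : ∀ a, φ a = g⁻¹ * a * g := fun a => by simp [hφ]
    have hφy : φ (g * z * g⁻¹) = z := by rw [hφapp]; group
    have toH : ∀ a : G, Commute a (g * z * g⁻¹) → φ a ∈ ℋ := fun a ha => by
      have h := ha.map φ
      rw [hφy] at h
      exact Subgroup.mem_centralizer_singleton_iff.2 h.eq
    have hcomm : φ a₁ * φ a₂ * (φ a₁)⁻¹ * (φ a₂)⁻¹ = x' := by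
      rw [← map_inv, ← map_inv, ← map_mul, ← map_mul, ← map_mul, hz', mul_inv_cancel_right, hφapp]
    have hI' : π ⟨x', hx'H⟩ ∈ Inn ↥Spor.M22 := by
      rw [show (⟨x', hx'H⟩ : ↥ℋ) = ⟨φ a₁, toH a₁ c₁⟩ * ⟨φ a₂, toH a₂ c₂⟩ * (⟨φ a₁, toH a₁ c₁⟩)⁻¹ *
        (⟨φ a₂, toH a₂ c₂⟩)⁻¹ from Subtype.ext hcomm.symm, map_mul, map_mul, map_mul, map_inv,
        map_inv]
      exact F.commutator_mem_inn _ _
    have hx'c : IsConj z x' := by simpa [hx'] using hconj g⁻¹
    have hx'z : x' ≠ z := hinvne g hyz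
    have hx'2 : x' * x' = 1 := by simpa [hx'] using hsq g⁻¹
    have hsp' : Special π V x' := ⟨hx'H, hx'2, hI', fun h => hx'z (by
      have := hE g⁻¹ (by simpa [hx'] using h)
      simpa [hx'] using this), hnotV _ hx'c hx'z⟩
    set Q := (ℰ ⊓ Subgroup.centralizer ({g * z * g⁻¹} : Set G) ⊓
      Subgroup.centralizer ({p} : Set G)).map φ with hQ
    have hcx : Commute (φ p) x' := by
      rw [show x' = φ z from (hφapp z).symm]
      exact (S.z_commute hp).symm.map φ
    have hmem : ∀ a ∈ ℰ, Commute a (g * z * g⁻¹) → Commute a p → φ a ∈ Q := fun a ha hay hap =>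
      ⟨a, ⟨⟨ha, Subgroup.mem_centralizer_singleton_iff.2 hay.eq⟩,
        Subgroup.mem_centralizer_singleton_iff.2 hap.eq⟩, rfl⟩
    have := F.special_commutator hfix hsp' (p := φ p) (toH p hpc)
      (by rw [hφ, MulEquiv.coe_toMonoidHom, MulEquiv.orderOf_eq, hp3]) hcx
      (Q := Q) ((S.isPGroup_E.to_le (inf_le_left.trans inf_le_left)).map φ) (by
        rintro _ ⟨a, ⟨⟨haE, hay⟩, hap⟩, rfl⟩
        refine ⟨toH a (Subgroup.mem_centralizer_singleton_iff.1 hay),
          (show Commute a p from Subgroup.mem_centralizer_singleton_iff.1 hap).map φ, ?_⟩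
        rw [show x' = φ z from (hφapp z).symm]
        exact (S.z_commute (S.E_le haE)).symm.map φ)
      (hmem a₁ h₁ c₁ c₁p) (hmem a₂ h₂ c₂ c₂p)
    rw [hcomm] at this
    exact hsp'.not_E this
  -- `z` is not isolated
  obtain ⟨T, hT⟩ := S.isPGroup_E.exists_le_sylow
  have hTH := F.sylow_le T hT
  have hO : oddCore G = ⊥ := by
    refine CfsgLib.Cores.oddCore_eq_bot_iff.2 fun M hM hodd => ?_
    rcases IsSimpleGroup.eq_bot_or_eq_top_of_normal M hM with h | h
    · exact h
    · exfalso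
      rw [h, Subgroup.card_top] at hodd
      have h2 : 2 ∣ Nat.card G := S.orderZ ▸ orderOf_dvd_natCard z
      exact (Nat.not_even_iff_odd.2 hodd) (even_iff_two_dvd.2 h2)
  have hzc : z ∉ Subgroup.center G := fun hc => by
    rcases IsSimpleGroup.eq_bot_or_eq_top_of_normal (Subgroup.center G) inferInstance with h | h
    · rw [h, Subgroup.mem_bot] at hc; exact S.z_ne_one hc
    · exact hG ⟨⟨fun a b => (Subgroup.mem_center_iff.1 (h ▸ Subgroup.mem_top b) a)⟩⟩
  obtain ⟨g, hgT, hgz⟩ : ∃ g : G, g * z * g⁻¹ ∈ T ∧ g * z * g⁻¹ ≠ z := by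
    by_contra! hiso
    exact hzc (CfsgLib.Involutions.mem_center_of_isolated T S.orderZ hiso hO)
  exact F.false_of_outer hout (hTH hgT) hgz

end FusionData

end CfsgLib.JFour
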