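import Cfsg.Agent.Lib.JFour.FusionThree

/-!
# Fusion in groups of Janko-four type: the case inside `E` and the outer case
-/

set_option autoImplicit false
set_option linter.style.haveILetI false
set_option linter.unusedSectionVars false

open Cfsg

namespace CfsgLib.JFour

/-- A group of exponent two of even permutations of six letters has order at most four. -/
theorem card_le_four {T : Subgroup (Equiv.Perm (Fin 6))} (hT : T ≤ alternatingGroup (Fin 6))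
    (h2 : ∀ t ∈ T, t * t = 1) : Nat.card ↥T ≤ 4 := by
  classical
  haveI : Fact (Nat.Prime 2) := ⟨Nat.prime_two⟩
  set T' := T.subgroupOf (alternatingGroup (Fin 6)) with hT'
  have hcT : Nat.card ↥T' = Nat.card ↥T := Nat.card_congr (Subgroup.subgroupOfEquivOfLe hT).toEquiv
  have hp : IsPGroup 2 ↥T' := fun t => ⟨1, Subtype.ext (Subtype.ext (by
    rw [pow_one, pow_two]; exact h2 _ (Subgroup.mem_subgroupOf.1 t.2)))⟩
  obtain ⟨k, hk⟩ := IsPGroup.iff_card.1 hp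
  have h360 : Nat.card ↥(alternatingGroup (Fin 6)) = 360 := by
    rw [nat_card_alternatingGroup, Nat.card_fin]; decide
  have hdvd : 2 ^ k ∣ 360 := hk ▸ h360 ▸ Subgroup.card_subgroup_dvd_card T'
  by_contra hgt
  rw [← hcT, hk] at hgt
  have hk3 : k = 3 := by
    have h1 : 3 ≤ k := by
      by_contra h
      have : 2 ^ k ≤ 2 ^ 2 := Nat.pow_le_pow_right two_pos (by omega)
      omega
    by_contra h
    exact absurd ((pow_dvd_pow 2 (show 4 ≤ k by omega)).trans hdvd) (by norm_num)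
  obtain ⟨c, hc⟩ : ∃ c : ↥(alternatingGroup (Fin 6)), orderOf c = 4 := by
    refine ⟨⟨c[0, 1, 2, 3] * c[4, 5], ?_⟩, ?_⟩
    · rw [Equiv.Perm.mem_alternatingGroup]; decide
    · rw [Subgroup.orderOf_mk, orderOf_eq_iff (by norm_num)]
      refine ⟨by decide, fun m hm h0 => ?_⟩
      interval_cases m <;> decide
  have hfac : (Nat.card ↥(alternatingGroup (Fin 6))).factorization 2 = 3 := by
    rw [h360, show (360 : ℕ) = 2 ^ 3 * 45 from rfl, Nat.factorization_mul (by norm_num) (by norm_num),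
      Finsupp.add_apply, Nat.factorization_pow, Finsupp.smul_apply,
      Nat.Prime.factorization_self Nat.prime_two,
      Nat.factorization_eq_zero_of_not_dvd (show ¬ 2 ∣ 45 by norm_num)]
    rfl
  let R : Sylow 2 ↥(alternatingGroup (Fin 6)) := Sylow.ofCard T' (by rw [hk, hfac, hk3])
  obtain ⟨Q, hQ⟩ := IsPGroup.exists_le_sylow (p := 2) (P := Subgroup.zpowers c)
    (IsPGroup.of_card (n := 2) (by rw [Nat.card_zpowers, hc]; norm_num))
  let e := Sylow.equiv Q R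
  set u : ↥(R : Subgroup ↥(alternatingGroup (Fin 6))) := e ⟨c, hQ (Subgroup.mem_zpowers c)⟩ with hu
  have h4 : orderOf u = 4 := by rw [hu, MulEquiv.orderOf_eq, Subgroup.orderOf_mk, hc]
  have h22 : u ^ 2 = 1 := Subtype.ext (Subtype.ext (by
    rw [pow_two]; exact h2 _ (Subgroup.mem_subgroupOf.1 u.2)))
  exact absurd (h4 ▸ orderOf_dvd_of_pow_eq_one h22) (by norm_num)

variable {G : Type*} [Group G]

namespace FusionData

variable {z : G} {P N : Subgroup G}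
  {π : ↥(Subgroup.centralizer ({z} : Set G)) →* MulAut ↥Spor.M22}
  {M B : Subgroup (MulAut ↥Spor.M22)} {Bt D V : Subgroup G}
  (F : FusionData (P := P) (N := N) π M B Bt D V)
include F

set_option quotPrecheck false in
local notation "ℋ" => Subgroup.centralizer (singleton z : Set G)
set_option quotPrecheck false in
local notation "ℰ" => twoCoreOfCentralizer z

/-- Elements of `E` with a large centraliser of exponent two over `E` are conjugate into `V`. -/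
theorem inV_of_mem_E [Finite G] {x : G} (hxE : x ∈ ℰ) {W : Subgroup G} (hW2 : IsPGroup 2 ↥W)
    (hWc : ∀ a ∈ W, a ∈ ℋ ∧ Commute a x ∧ a * a ∈ ℰ)
    (hWcard : 2 ^ 12 ≤ Nat.card ↥W)
    (hWab : ∀ a ∈ W, ∀ c ∈ W, a ∈ ℰ → c ∈ ℰ → Commute a c) : InV z V x := by
  classical
  have S := F.S
  obtain ⟨n, hn⟩ := IsPGroup.iff_card.1 hW2
  haveI : Finite (MulAut ↥Spor.M22) :=
    Nat.finite_of_card_ne_zero (by rw [card_mulAut_mTwentyTwo]; norm_num)
  have hWH : W ≤ ℋ := fun a ha => (hWc a ha).1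
  let ψ : ↥W →* MulAut ↥Spor.M22 := π.comp (Subgroup.inclusion hWH)
  have hψE : ∀ a : ↥W, ψ a = 1 → (a : G) ∈ ℰ := fun a h =>
    S.mem_E_of_two ((S.pi_eq_one_iff F.frame.ker_eq (Subgroup.inclusion hWH a)).1 h) (a := n)
      (by rw [← hn, ← Subgroup.coe_pow, pow_card_eq_one']; rfl)
  have hker : Nat.card ↥ψ.ker ≤ 2 ^ 7 := by
    rw [← Subgroup.card_map_of_injective W.subtype_injective]
    refine S.card_abelian_le ?_ ?_
    · rintro _ ⟨a, ha, rfl⟩; exact hψE a (MonoidHom.mem_ker.1 ha)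
    · rintro _ ⟨a, ha, rfl⟩ _ ⟨c, hc, rfl⟩
      exact (hWab a a.2 c c.2 (hψE a (MonoidHom.mem_ker.1 ha)) (hψE c (MonoidHom.mem_ker.1 hc))).eq
  have hsq : ∀ r ∈ ψ.range, r * r = 1 := by
    rintro _ ⟨a, rfl⟩
    show π _ * π _ = 1
    rw [← map_mul]
    exact (S.pi_eq_one_iff F.frame.ker_eq _).2 (S.E_le_N (hWc a a.2).2.2)
  have hcommR : ∀ r ∈ ψ.range, ∀ r' ∈ ψ.range, Commute r r' := by
    intro r hr r' hr'
    have h := hsq _ (mul_mem hr hr')
    have e1 := inv_eq_of_mul_eq_one_right (hsq r hr)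
    have e2 := inv_eq_of_mul_eq_one_right (hsq r' hr')
    have h' := inv_eq_of_mul_eq_one_right h
    rw [mul_inv_rev, e1, e2] at h'
    exact h'.symm
  have h32 : 32 ≤ Nat.card ↥ψ.range := by
    have h1 := Subgroup.card_eq_card_quotient_mul_card_subgroup ψ.ker
    rw [Nat.card_congr (QuotientGroup.quotientKerEquivRange ψ).toEquiv] at h1
    have h2 := Nat.mul_le_mul_left (Nat.card ↥ψ.range) hker
    omega
  set R := ψ.range ⊓ Inn ↥Spor.M22 with hR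
  have h16 : 16 ≤ Nat.card ↥R := by
    haveI := Subgroup.normal_of_index_eq_two F.frame.hexad.I_index
    have h1 := ((Inn ↥Spor.M22).subgroupOf ψ.range).card_mul_index
    have hsub : (Inn ↥Spor.M22).subgroupOf ψ.range = R.subgroupOf ψ.range := by
      ext r; simp [R, Subgroup.mem_subgroupOf]
    rw [hsub, Nat.card_congr (Subgroup.subgroupOfEquivOfLe (inf_le_left : R ≤ ψ.range)).toEquiv,
      ← hsub] at h1
    have h2 : (Inn ↥Spor.M22).relIndex ψ.range ∣ 2 :=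
      F.frame.hexad.I_index ▸ Subgroup.relIndex_dvd_index_of_normal (Inn ↥Spor.M22) ψ.range
    change Nat.card ↥R * (Inn ↥Spor.M22).relIndex ψ.range = Nat.card ↥ψ.range at h1
    rcases (Nat.dvd_prime Nat.prime_two).1 h2 with h3 | h3 <;> rw [h3] at h1 <;> omega
  obtain ⟨a₀, ha₀, ha₀1⟩ : ∃ a₀ ∈ R, a₀ ≠ 1 := by
    by_contra! hall
    have h1 := Subgroup.card_le_of_le (show R ≤ ⊥ from fun r hr => Subgroup.mem_bot.2 (hall r hr))
    rw [Subgroup.card_bot] at h1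
    omega
  have ho : orderOf a₀ = 2 := orderOf_eq_prime (by rw [pow_two]; exact hsq a₀ ha₀.1) ha₀1
  obtain ⟨g, -, hgB⟩ := F.frame.hexad.conj_inv a₀ ha₀.2 ho
  obtain ⟨⟨k, hk⟩, rfl⟩ := F.frame.surj g
  set γ := π ⟨k, hk⟩ with hγ
  set R' := R.map (MulAut.conj γ).toMonoidHom with hR'
  have hR'I : R' ≤ Inn ↥Spor.M22 := by
    haveI := Subgroup.normal_of_index_eq_two F.frame.hexad.I_index
    rintro _ ⟨r, hr, rfl⟩
    exact Subgroup.Normal.conj_mem inferInstance r hr.2 γ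
  have hR'M : R' ≤ M := by
    rintro _ ⟨r, hr, rfl⟩
    refine F.frame.hexad.cen_inv _ hgB (fun h => ha₀1 (conj_eq_one_iff.1 h))
      (Subgroup.mem_centralizer_singleton_iff.2 ?_)
    exact ((hcommR r hr.1 a₀ ha₀.1).map (MulAut.conj γ).toMonoidHom).eq
  have hR'sq : ∀ r ∈ R', r * r = 1 := by
    rintro _ ⟨r, hr, rfl⟩
    rw [← map_mul, hsq r hr.1, map_one]
  have hcR' : Nat.card ↥R' = Nat.card ↥R :=
    Subgroup.card_map_of_injective (MulAut.conj γ).injective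
  obtain ⟨f, -, hfker, hfimg⟩ := F.frame.hexad.hexad
  set R'' := R'.subgroupOf M with hR''
  have hcR'' : Nat.card ↥R'' = Nat.card ↥R' :=
    Nat.card_congr (Subgroup.subgroupOfEquivOfLe hR'M).toEquiv
  have hT : Nat.card ↥(R''.map f) ≤ 4 := by
    refine card_le_four ?_ ?_
    · rintro _ ⟨m, hm, rfl⟩
      rw [← hfimg]
      exact ⟨m, Subgroup.mem_subgroupOf.2 (hR'I (Subgroup.mem_subgroupOf.1 hm)), rfl⟩
    · rintro _ ⟨m, hm, rfl⟩
      rw [← map_mul, show m * m = 1 from Subtype.ext (hR'sq _ (Subgroup.mem_subgroupOf.1 hm)),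
        map_one]
  have hB4 : 4 ≤ Nat.card ↥(R' ⊓ B : Subgroup (MulAut ↥Spor.M22)) := by
    let θ := f.comp R''.subtype
    have h1 := Subgroup.card_eq_card_quotient_mul_card_subgroup θ.ker
    rw [Nat.card_congr (QuotientGroup.quotientKerEquivRange θ).toEquiv,
      show θ.range = R''.map f by rw [MonoidHom.range_comp, Subgroup.range_subtype]] at h1
    have h2 : Nat.card ↥θ.ker ≤ Nat.card ↥(R' ⊓ B : Subgroup (MulAut ↥Spor.M22)) := by
      rw [← Subgroup.card_map_of_injective R''.subtype_injective,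
        ← Subgroup.card_map_of_injective M.subtype_injective]
      refine Subgroup.card_le_of_le ?_
      rintro _ ⟨_, ⟨m, hm, rfl⟩, rfl⟩
      refine Subgroup.mem_inf.2 ⟨Subgroup.mem_subgroupOf.1 m.2, ?_⟩
      have h : ((m : ↥M)) ∈ f.ker := hm
      rw [hfker] at h
      exact h
    have h3 : Nat.card ↥(R''.map f) * Nat.card ↥θ.ker ≤ 4 * Nat.card ↥θ.ker :=
      Nat.mul_le_mul_right _ hT
    omega
  obtain ⟨β, hβ, hβ1, β', hβ', hβ'1, hne⟩ : ∃ β ∈ R' ⊓ B, β ≠ 1 ∧ ∃ β' ∈ R' ⊓ B, β' ≠ 1 ∧ β' ≠ β := by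
    obtain ⟨β, hβ, hβ1⟩ : ∃ β ∈ R' ⊓ B, β ≠ 1 := by
      by_contra! hall
      have h1 := Subgroup.card_le_of_le
        (show R' ⊓ B ≤ ⊥ from fun r hr => Subgroup.mem_bot.2 (hall r hr))
      rw [Subgroup.card_bot] at h1
      omega
    refine ⟨β, hβ, hβ1, ?_⟩
    by_contra! hall
    have hsub : ((R' ⊓ B : Subgroup (MulAut ↥Spor.M22)) : Set (MulAut ↥Spor.M22)) ⊆ {1, β} :=
      fun r hr => by
        by_cases h : r = 1
        · exact Or.inl h
        · exact Or.inr (hall r hr h)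
    have h2 := Set.ncard_le_ncard hsub (Set.toFinite _)
    rw [← Nat.card_coe_set_eq] at h2
    have h3 : Set.ncard ({1, β} : Set (MulAut ↥Spor.M22)) ≤ 2 :=
      (Set.ncard_insert_le 1 {β}).trans (by rw [Set.ncard_singleton])
    simp only [SetLike.coe_sort_coe] at h2
    omega
  set x' := k * x * k⁻¹ with hx'
  have hx'E : x' ∈ ℰ := S.conj_mem_E hk hxE
  have lift : ∀ r ∈ R' ⊓ B, r ≠ 1 → ∃ b ∈ Bt, ∃ hb : b ∈ ℋ, π ⟨b, hb⟩ = r ∧
      b ∉ Subgroup.zpowers z ∧ Commute x' b := by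
    intro r hr hr1
    obtain ⟨b, hb, hbH, hbr⟩ := F.Bt_surj r hr.2
    refine ⟨b, hb, hbH, hbr, fun h => hr1 (hbr.symm.trans (F.pi_eq_one_of_zpowers h hbH)), ?_⟩
    obtain ⟨r₀, hr₀, hrr⟩ := hr.1
    obtain ⟨a, rfl⟩ := hr₀.1
    obtain ⟨e, he, heq⟩ := F.exists_eq_mul (w := k * a * k⁻¹) (a := n)
      (mul_mem (mul_mem hk (hWH a.2)) (inv_mem hk))
      (by rw [conj_pow, ← hn, ← Subgroup.coe_pow, pow_card_eq_one', Subgroup.coe_one]; group) hb
      (by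
        rw [hbr, ← hrr]
        show π (⟨k, hk⟩ * ⟨a, hWH a.2⟩ * (⟨k, hk⟩)⁻¹) = γ * π ⟨a, hWH a.2⟩ * γ⁻¹
        rw [map_mul, map_mul, map_inv])
    have hax : Commute (e * b) x' := heq ▸ (hWc a a.2).2.1.map (MulAut.conj k).toMonoidHom
    refine F.commute_Bt hb hx'E ?_
    have h1 : b * x' * b⁻¹ = e⁻¹ * x' * e := by
      calc b * x' * b⁻¹ = e⁻¹ * ((e * b) * x' * (e * b)⁻¹) * e := by group
        _ = _ := by rw [hax.eq, mul_inv_cancel_right]
    rw [show x' * b * x'⁻¹ * b⁻¹ = x' * (b * x' * b⁻¹)⁻¹ by group, h1,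
      show x' * (e⁻¹ * x' * e)⁻¹ = x' * e⁻¹ * x'⁻¹ * e⁻¹⁻¹ by group]
    exact S.commutator_mem hx'E (inv_mem he)
  obtain ⟨b, hb, hbH, hbr, hbz, hxb⟩ := lift β hβ hβ1
  obtain ⟨b', hb', hbH', hbr', hbz', hxb'⟩ := lift β' hβ' hβ'1
  have hprod : b' * b ∉ Subgroup.zpowers z := fun h => hne (by
    have h1 : π (⟨b', hbH'⟩ * ⟨b, hbH⟩) = 1 := F.pi_eq_one_of_zpowers h (mul_mem hbH' hbH)
    rw [map_mul, hbr', hbr] at h1
    exact mul_right_cancel (h1.trans (hR'sq β hβ.1).symm))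
  exact ⟨k, hk, F.D_le_V (F.cap b hb b' hb' hbz hbz' hprod x' hx'E hxb.eq hxb'.eq)⟩

/-- It cannot be that all the conjugates of `z` in `H` other than `z` lie over outer
automorphisms. -/
theorem false_of_outer [Finite G]
    (hout : ∀ y (hy : y ∈ ℋ), IsConj z y → y ≠ z → π ⟨y, hy⟩ ∉ Inn ↥Spor.M22)
    {g : G} (hxH : g * z * g⁻¹ ∈ ℋ) (hxz : g * z * g⁻¹ ≠ z) : False := by
  classical
  have S := F.S
  haveI := Subgroup.normal_of_index_eq_two F.frame.hexad.I_index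
  set x := g * z * g⁻¹ with hx
  have hconjz : ∀ h : G, IsConj z (h * z * h⁻¹) := fun h => isConj_iff.2 ⟨h, rfl⟩
  have hxI : π ⟨x, hxH⟩ ∉ Inn ↥Spor.M22 := hout x hxH (hconjz g) hxz
  have hxx : x * x = 1 := by
    rw [hx, show g * z * g⁻¹ * (g * z * g⁻¹) = g * (z * z) * g⁻¹ by group, S.z_mul_self]; group
  have hxi : x⁻¹ = x := inv_eq_of_mul_eq_one_right hxx
  obtain ⟨q, hq, hq1, hqo, hPq⟩ := S.exists_generator
  have hqH := S.P_le_H hq
  -- `x` inverts `q` modulo `E`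
  obtain ⟨ε, hε, hxq⟩ : ∃ ε ∈ ℰ, x * q = ε * q⁻¹ * x := by
    obtain ⟨e, he, m, hm, hxm⟩ := S.exists_mul_normalizer hxH
    obtain ⟨hmH, hmN⟩ := Subgroup.mem_inf.1 hm
    have hmC : m ∉ ℋ ⊓ Subgroup.centralizer (P : Set G) := by
      rw [← S.mem_inn_iff F.frame.surj F.frame.ker_eq hm]
      intro h
      apply hxI
      have hxe : (⟨x, hxH⟩ : ↥ℋ) = ⟨e * m, mul_mem (S.E_le he) hmH⟩ := Subtype.ext hxm
      rw [hxe, F.pi_E_mul he hmH]
      exact h
    have hmq : m * q * m⁻¹ = q⁻¹ := by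
      have h1 : m * q * m⁻¹ ∈ P := (Subgroup.mem_normalizer_iff.1 hmN q).1 hq
      have h1' : m * q * m⁻¹ ∈ Subgroup.zpowers q := hPq ▸ h1
      obtain ⟨i, hi⟩ := h1'
      replace hi : q ^ (i % 3) = m * q * m⁻¹ := by
        rw [show (3 : ℤ) = ((orderOf q : ℕ) : ℤ) by rw [hqo]; rfl, zpow_mod_orderOf]; exact hi
      have h2 : i % 3 = 0 ∨ i % 3 = 1 ∨ i % 3 = 2 := by omega
      rcases h2 with h2 | h2 | h2 <;> rw [h2] at hi
      · rw [zpow_zero] at hi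
        exact absurd (conj_eq_one_iff.1 hi.symm) hq1
      · rw [zpow_one] at hi
        refine absurd ⟨hmH, Subgroup.mem_centralizer_iff.2 fun y hy => ?_⟩ hmC
        rw [SetLike.mem_coe, hPq] at hy
        obtain ⟨j, rfl⟩ := hy
        exact (show Commute m q from mul_inv_eq_iff_eq_mul.1 hi.symm).symm.zpow_left j
      · rw [← hi, zpow_two, eq_inv_iff_mul_eq_one]
        have h3 := pow_orderOf_eq_one q
        rwa [hqo, pow_succ, pow_two] at h3
    refine ⟨e * (q⁻¹ * e⁻¹ * q⁻¹⁻¹), mul_mem he (S.conj_mem_E (inv_mem hqH) (inv_mem he)), ?_⟩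
    calc x * q = e * (m * q * m⁻¹) * m := by rw [hxm]; group
      _ = _ := by rw [hmq, hxm]; group
  -- `S₁`
  let φ : G → G := fun f => x * f * x⁻¹ * f⁻¹
  have hφE : ∀ f ∈ ℰ, φ f ∈ ℰ := fun f hf => mul_mem (S.conj_mem_E hxH hf) (inv_mem hf)
  have hφmul : ∀ f f', φ (f * f') = φ f * (f * φ f' * f⁻¹) := fun f f' => by simp only [φ]; group
  have hconjφ : ∀ f ∈ ℰ, ∀ c ∈ ℰ, ∃ w ∈ Subgroup.zpowers z, f * c * f⁻¹ = w * c :=
    fun f hf c hc => S.conj_E hf hc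
  set Z := Subgroup.zpowers z with hZ
  have hZc : ∀ w ∈ Z, ∀ h ∈ ℋ, Commute w h := fun w hw h hh => S.commute_of_mem_zpowers hw hh
  let S₁ : Subgroup G :=
    { carrier := {f | f ∈ ℰ ∧ φ f ∈ Z}
      one_mem' := ⟨one_mem _, by simp only [φ]; simp⟩
      mul_mem' := by
        rintro f f' ⟨hf, h⟩ ⟨hf', h'⟩
        refine ⟨mul_mem hf hf', ?_⟩
        rw [hφmul, ← (hZc _ h' f (S.E_le hf)).eq, mul_inv_cancel_right]
        exact mul_mem h h'
      inv_mem' := by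
        rintro f ⟨hf, h⟩
        refine ⟨inv_mem hf, ?_⟩
        have h1 := hφmul f⁻¹ f
        rw [inv_mul_cancel, inv_inv, ← (hZc _ h _ (S.E_le (inv_mem hf))).eq,
          mul_assoc (φ f), inv_mul_cancel, mul_one] at h1
        have h2 : φ f⁻¹ * φ f = 1 := h1.symm.trans (by simp only [φ]; simp)
        rw [eq_inv_of_mul_eq_one_left h2]
        exact inv_mem h }
  have hmemS₁ : ∀ f, f ∈ S₁ ↔ f ∈ ℰ ∧ φ f ∈ Z := fun f => Iff.rfl
  have hS₁E : S₁ ≤ ℰ := fun f hf => ((hmemS₁ f).1 hf).1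
  set S₂ := S₁.map (MulAut.conj q).toMonoidHom with hS₂
  have hinf : S₁ ⊓ S₂ ≤ Z := by
    rintro _ ⟨hf₁, f, hf, rfl⟩
    obtain ⟨hfE, hfφ⟩ := (hmemS₁ f).1 hf
    obtain ⟨-, hf₁φ⟩ := (hmemS₁ _).1 hf₁
    simp only [MulEquiv.coe_toMonoidHom, MulAut.conj_apply, φ] at hf₁φ ⊢
    set w := x * f * x⁻¹ * f⁻¹ with hw
    set y := q⁻¹ * f * q with hy
    have hwH : ∀ h ∈ ℋ, Commute w h := hZc w hfφ
    have hyE : y ∈ ℰ := S.conj_mem_E' hqH hfE
    obtain ⟨w', hw', he'⟩ := hconjφ ε hε y hyE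
    have h1 : x * (q * f * q⁻¹) * x⁻¹ = w * w' * y := by
      calc x * (q * f * q⁻¹) * x⁻¹ = (x * q) * f * (x * q)⁻¹ := by group
        _ = ε * (q⁻¹ * (w * f) * q) * ε⁻¹ := by rw [hxq, hw]; group
        _ = ε * (w * y) * ε⁻¹ := by
            rw [← mul_assoc q⁻¹ w f, ← (hwH _ (inv_mem hqH)).eq, hy]; group
        _ = w * (ε * y * ε⁻¹) := by rw [← mul_assoc ε w, ← (hwH ε (S.E_le hε)).eq]; group
        _ = _ := by rw [he']; group
    rw [h1] at hf₁φ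
    have h2 : y * (q * f * q⁻¹)⁻¹ ∈ Z := by
      have h3 := mul_mem (inv_mem (mul_mem hfφ hw')) hf₁φ
      rwa [show (w * w')⁻¹ * (w * w' * y * (q * f * q⁻¹)⁻¹) = y * (q * f * q⁻¹)⁻¹ by group] at h3
    have hq2 : q * q ≠ 1 := fun h => by
      have := orderOf_dvd_of_pow_eq_one (x := q) (n := 2) (by rw [pow_two]; exact h)
      rw [hqo] at this
      norm_num at this
    have hyz : y ∈ Z := S.mem_zpowers_of_comm (mul_mem hq hq) hq2 hyE (by
      rw [show q * q * y * (q * q)⁻¹ * y⁻¹ = (y * (q * f * q⁻¹)⁻¹)⁻¹ by rw [hy]; group]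
      exact inv_mem h2)
    rw [show q * f * q⁻¹ = q * q * y * (q * q)⁻¹ by rw [hy]; group,
      ← (hZc y hyz (q * q) (mul_mem hqH hqH)).eq, mul_inv_cancel_right]
    exact hyz
  have hS₁card : Nat.card ↥S₁ ≤ 2 ^ 7 := by
    have hS₂E : S₂ ≤ ℰ := by
      rintro _ ⟨f, hf, rfl⟩; exact S.conj_mem_E hqH (hS₁E hf)
    have h1 := (S₂.subgroupOf ℰ).card_mul_index
    rw [Nat.card_congr (Subgroup.subgroupOfEquivOfLe hS₂E).toEquiv, S.cardE,
      Subgroup.card_map_of_injective (MulAut.conj q).injective] at h1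
    change Nat.card ↥S₁ * S₂.relIndex ℰ = 2 ^ 13 at h1
    have h2 := (S₂.subgroupOf S₁).card_mul_index
    have hsub : S₂.subgroupOf S₁ = (S₁ ⊓ S₂).subgroupOf S₁ := by
      ext a; simp [Subgroup.mem_subgroupOf]
    rw [hsub, Nat.card_congr (Subgroup.subgroupOfEquivOfLe
      (inf_le_left : S₁ ⊓ S₂ ≤ S₁)).toEquiv, ← hsub] at h2
    change Nat.card ↥(S₁ ⊓ S₂ : Subgroup G) * S₂.relIndex S₁ = Nat.card ↥S₁ at h2
    have h3 : Nat.card ↥(S₁ ⊓ S₂ : Subgroup G) ≤ 2 := (Subgroup.card_le_of_le hinf).trans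
      (by rw [hZ, Nat.card_zpowers, S.orderZ])
    have h4 : S₂.relIndex S₁ ≤ S₂.relIndex ℰ :=
      Subgroup.relIndex_le_of_le_right hS₁E (fun h => by rw [h, mul_zero] at h1; norm_num at h1)
    by_contra hgt
    push Not at hgt
    have h5 : Nat.card ↥S₁ ≤ 2 * S₂.relIndex ℰ := by
      rw [← h2]; exact Nat.mul_le_mul h3 h4
    have h6 : Nat.card ↥S₁ * Nat.card ↥S₁ ≤ 2 * 2 ^ 13 := by
      rw [← h1, mul_left_comm]; exact Nat.mul_le_mul_left _ h5
    nlinarith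
  -- `Λ`
  let Λ : Subgroup G :=
    { carrier := {c | ∃ f ∈ ℰ, ∃ w ∈ Z, c = w * φ f}
      one_mem' := ⟨1, one_mem _, 1, one_mem _, by simp only [φ]; simp⟩
      mul_mem' := by
        rintro c c' ⟨f, hf, w, hw, rfl⟩ ⟨f', hf', w', hw', rfl⟩
        obtain ⟨v, hv, hcv⟩ := hconjφ f hf _ (hφE f' hf')
        refine ⟨f * f', mul_mem hf hf', w * w' * v⁻¹, mul_mem (mul_mem hw hw') (inv_mem hv), ?_⟩
        calc w * φ f * (w' * φ f') = w * (φ f * w') * φ f' := by group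
          _ = w * w' * (φ f * φ f') := by rw [← (hZc w' hw' _ (S.E_le (hφE f hf))).eq]; group
          _ = w * w' * v⁻¹ * (v * φ f) * φ f' := by group
          _ = w * w' * v⁻¹ * (φ f * (v * φ f')) := by
              rw [(hZc v hv _ (S.E_le (hφE f hf))).eq]; group
          _ = _ := by rw [← hcv, hφmul]
      inv_mem' := by
        rintro c ⟨f, hf, w, hw, rfl⟩
        have hcE : w * φ f ∈ ℰ := mul_mem (S.zpowers_le_E hw) (hφE f hf)
        obtain ⟨u, hu, hu'⟩ := S.inv_E hcE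
        refine ⟨f, hf, w * u, mul_mem hw hu, ?_⟩
        rw [hu', mul_assoc w u, (hZc u hu _ (S.E_le (hφE f hf))).eq, mul_assoc] }
  have hmemΛ : ∀ c, c ∈ Λ ↔ ∃ f ∈ ℰ, ∃ w ∈ Z, c = w * φ f := fun c => Iff.rfl
  have hΛE : Λ ≤ ℰ := fun c hc => by
    obtain ⟨f, hf, w, hw, rfl⟩ := (hmemΛ c).1 hc
    exact mul_mem (S.zpowers_le_E hw) (hφE f hf)
  have hinv : ∀ c ∈ Λ, x * c * x⁻¹ = c⁻¹ := by
    intro c hc
    obtain ⟨f, hf, w, hw, rfl⟩ := (hmemΛ c).1 hc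
    have h1 : x * φ f * x⁻¹ = (φ f)⁻¹ := by
      simp only [φ, hxi]
      calc x * (x * f * x * f⁻¹) * x = x * x * f * x * f⁻¹ * x := by group
        _ = f * x * f⁻¹ * x := by rw [hxx, one_mul]
        _ = _ := by simp only [mul_inv_rev, inv_inv, hxi]; group
    calc x * (w * φ f) * x⁻¹ = w * (x * φ f * x⁻¹) := by
          rw [← mul_assoc x w, ← (hZc w hw x hxH).eq]; group
      _ = w * (φ f)⁻¹ := by rw [h1]
      _ = _ := by
        rw [mul_inv_rev w (φ f), inv_eq_of_mul_eq_one_right (S.sq_of_mem_zpowers hw),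
          (hZc w hw _ (S.E_le (inv_mem (hφE f hf)))).eq]
  have hΛab : ∀ c ∈ Λ, ∀ d ∈ Λ, c * d = d * c := by
    intro c hc d hd
    have h := hinv _ (mul_mem hc hd)
    rw [show x * (c * d) * x⁻¹ = (x * c * x⁻¹) * (x * d * x⁻¹) by group, hinv c hc, hinv d hd,
      ← mul_inv_rev, inv_inj] at h
    exact h.symm
  have hΛcard : 2 ^ 7 ≤ Nat.card ↥Λ := by
    let Φ : (↥ℰ ⧸ S₁.subgroupOf ℰ) × ↥Z → ↥Λ := fun a =>
      ⟨(a.2 : G) * φ (a.1.out : G), (hmemΛ _).2 ⟨_, a.1.out.2, _, a.2.2, rfl⟩⟩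
    have hinj : Function.Injective Φ := by
      rintro ⟨s, w⟩ ⟨s', w'⟩ h
      have h1 : (w : G) * φ (s.out : G) = (w' : G) * φ (s'.out : G) := congrArg Subtype.val h
      set f := (s.out : G)
      set f' := (s'.out : G)
      have hf : f ∈ ℰ := s.out.2
      have hf' : f' ∈ ℰ := s'.out.2
      have hu : (w' : G)⁻¹ * w ∈ Z := mul_mem (inv_mem w'.2) w.2
      have hd : φ (f⁻¹ * f') ∈ Z := by
        have h2 := hφmul f (f⁻¹ * f')
        rw [mul_inv_cancel_left] at h2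
        have h3 : φ f' = (w' : G)⁻¹ * w * φ f := by rw [mul_assoc, h1, inv_mul_cancel_left]
        rw [h3, (hZc _ hu _ (S.E_le (hφE f hf))).eq] at h2
        have h4 : φ (f⁻¹ * f') = f⁻¹ * ((w' : G)⁻¹ * w) * f := by
          rw [mul_left_cancel h2]; group
        rw [h4, ← (hZc _ hu _ (S.E_le (inv_mem hf))).eq, inv_mul_cancel_right]
        exact hu
      have hs : s = s' := by
        rw [← QuotientGroup.out_eq' s, ← QuotientGroup.out_eq' s', QuotientGroup.eq,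
          Subgroup.mem_subgroupOf, Subgroup.coe_mul, Subgroup.coe_inv, hmemS₁]
        exact ⟨mul_mem (inv_mem hf) hf', hd⟩
      subst hs
      exact Prod.ext rfl (Subtype.ext (mul_right_cancel h1))
    have h1 := Nat.card_le_card_of_injective Φ hinj
    rw [Nat.card_prod, show Nat.card ↥Z = 2 by rw [hZ, Nat.card_zpowers, S.orderZ]] at h1
    have h2 := (S₁.subgroupOf ℰ).card_mul_index
    rw [Nat.card_congr (Subgroup.subgroupOfEquivOfLe hS₁E).toEquiv, S.cardE, Subgroup.index] at h2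
    have h3 := Nat.mul_le_mul_right (Nat.card (↥ℰ ⧸ S₁.subgroupOf ℰ)) hS₁card
    omega
  -- `L` and `K`
  let L : Subgroup G :=
    { carrier := {c | c ∈ Λ ∧ c * c = 1}
      one_mem' := ⟨one_mem _, one_mul 1⟩
      mul_mem' := by
        rintro a c ⟨ha, ha2⟩ ⟨hc, hc2⟩
        refine ⟨mul_mem ha hc, ?_⟩
        rw [show a * c * (a * c) = a * (c * a) * c by group, ← hΛab a ha c hc,
          show a * (a * c) * c = a * a * (c * c) by group, ha2, hc2, one_mul]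
      inv_mem' := by
        rintro a ⟨ha, ha2⟩
        refine ⟨inv_mem ha, ?_⟩
        rw [← mul_inv_rev, ha2, inv_one] }
  have hmemL : ∀ c, c ∈ L ↔ c ∈ Λ ∧ c * c = 1 := fun c => Iff.rfl
  have hLcard : 2 ^ 6 ≤ Nat.card ↥L := by
    let sq : ↥Λ →* ↥Z := MonoidHom.mk' (fun c => ⟨(c : G) * c, S.sq_mem (hΛE c.2)⟩) fun a c => by
      apply Subtype.ext
      simp only [Subgroup.coe_mul]
      rw [show (a : G) * c * (a * c) = a * ((c : G) * a) * c by group,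
        hΛab c c.2 a a.2]
      group
    have h1 := Subgroup.card_eq_card_quotient_mul_card_subgroup sq.ker
    rw [Nat.card_congr (QuotientGroup.quotientKerEquivRange sq).toEquiv] at h1
    have h2 : Nat.card ↥sq.range ≤ 2 :=
      (Subgroup.card_le_card_group _).trans (by rw [hZ, Nat.card_zpowers, S.orderZ])
    have h3 : Nat.card ↥sq.ker ≤ Nat.card ↥L := by
      rw [← Subgroup.card_map_of_injective Λ.subtype_injective]
      refine Subgroup.card_le_of_le ?_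
      rintro _ ⟨c, hc, rfl⟩
      exact (hmemL _).2 ⟨c.2, congrArg Subtype.val (MonoidHom.mem_ker.1 hc)⟩
    have h4 := Nat.mul_le_mul h2 h3
    omega
  have hLH : ∀ c ∈ L, g⁻¹ * c * g ∈ ℋ := by
    intro c hc
    obtain ⟨hcΛ, hc2⟩ := (hmemL c).1 hc
    have h1 : Commute c x := by
      have h := hinv c hcΛ
      rw [inv_eq_of_mul_eq_one_right hc2] at h
      exact (mul_inv_eq_iff_eq_mul.1 h).symm
    have h2 := h1.map (MulAut.conj g⁻¹).toMonoidHom
    simp only [MulEquiv.coe_toMonoidHom, MulAut.conj_apply, inv_inv] at h2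
    rw [hx, show g⁻¹ * (g * z * g⁻¹) * g = z by group] at h2
    exact Subgroup.mem_centralizer_singleton_iff.2 h2.eq
  let η : ↥L →* MulAut ↥Spor.M22 := MonoidHom.mk' (fun c => π ⟨g⁻¹ * c * g, hLH c c.2⟩)
    fun a c => by
      rw [← map_mul]
      exact congrArg π (Subtype.ext (show g⁻¹ * (a * c : G) * g = g⁻¹ * a * g * (g⁻¹ * c * g) by
        group))
  set K := ((Inn ↥Spor.M22).comap η).map L.subtype with hK
  have hmemK : ∀ k, k ∈ K ↔ ∃ hk : k ∈ L, π ⟨g⁻¹ * k * g, hLH k hk⟩ ∈ Inn ↥Spor.M22 := by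
    intro k
    constructor
    · rintro ⟨a, ha, rfl⟩; exact ⟨a.2, ha⟩
    · rintro ⟨hk, h⟩; exact ⟨⟨k, hk⟩, h, rfl⟩
  have hKcard : 2 ^ 5 ≤ Nat.card ↥K := by
    rw [hK, Subgroup.card_map_of_injective L.subtype_injective]
    have h1 := ((Inn ↥Spor.M22).comap η).card_mul_index
    have h2 : ((Inn ↥Spor.M22).comap η).index ∣ 2 := by
      rw [Subgroup.index_comap]
      exact F.frame.hexad.I_index ▸ Subgroup.relIndex_dvd_index_of_normal (Inn ↥Spor.M22) η.range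
    rcases (Nat.dvd_prime Nat.prime_two).1 h2 with h3 | h3 <;> rw [h3] at h1 <;> omega
  -- `x k` is not a conjugate of `x`
  have hno : ∀ k ∈ K, k ≠ 1 → ∀ f : G, φ f ≠ k := by
    intro k hk hk1 f hf
    obtain ⟨hkL, hkI⟩ := (hmemK k).1 hk
    have h1 : g⁻¹ * f * g * z * (g⁻¹ * f * g)⁻¹ = z * (g⁻¹ * k * g) := by
      calc g⁻¹ * f * g * z * (g⁻¹ * f * g)⁻¹ = g⁻¹ * (f * x * f⁻¹) * g := by rw [hx]; group
        _ = g⁻¹ * (x * (x * f * x⁻¹ * f⁻¹)) * g := by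
          rw [hxi, show x * (x * f * x * f⁻¹) = x * x * (f * x * f⁻¹) by group, hxx, one_mul]
        _ = g⁻¹ * (x * φ f) * g := rfl
        _ = _ := by rw [hf, hx]; group
    have hzH : z ∈ ℋ := S.E_le S.z_mem_E
    have hyH := mul_mem hzH (hLH k hkL)
    by_cases hy : z * (g⁻¹ * k * g) = z
    · apply hk1
      have h2 := mul_eq_left.1 hy
      calc k = g * (g⁻¹ * k * g) * g⁻¹ := by group
        _ = 1 := by rw [h2]; group
    · refine hout _ hyH (h1 ▸ hconjz _) hy ?_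
      rw [show (⟨z * (g⁻¹ * k * g), hyH⟩ : ↥ℋ) = ⟨z, hzH⟩ * ⟨g⁻¹ * k * g, hLH k hkL⟩ from rfl,
        map_mul, F.pi_eq_one_of_zpowers (Subgroup.mem_zpowers z) hzH, one_mul]
      exact hkI
  have hrep : ∀ k ∈ K, k ≠ 1 → ∃ f ∈ ℰ, φ f = z * k := by
    intro k hk hk1
    obtain ⟨hkL, -⟩ := (hmemK k).1 hk
    obtain ⟨f, hf, w, hw, hkw⟩ := (hmemΛ k).1 ((hmemL k).1 hkL).1
    rcases S.mem_zpowers_iff.1 hw with rfl | rfl
    · exact absurd (by rw [hkw, one_mul]) (hno k hk hk1 f)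
    · exact ⟨f, hf, by rw [hkw, ← mul_assoc, S.z_mul_self, one_mul]⟩
  have hKH : ∀ k ∈ K, k ∈ ℋ := fun k hk => by
    obtain ⟨hkL, -⟩ := (hmemK k).1 hk
    exact S.E_le (hΛE ((hmemL k).1 hkL).1)
  obtain ⟨k₁, hk₁, hk₁1⟩ : ∃ k ∈ K, k ≠ 1 := by
    by_contra! hall
    have h1 := Subgroup.card_le_of_le (show K ≤ ⊥ from fun r hr => Subgroup.mem_bot.2 (hall r hr))
    rw [Subgroup.card_bot] at h1
    omega
  obtain ⟨f₁, hf₁, hφ₁⟩ := hrep k₁ hk₁ hk₁1
  have hzc : ∀ h ∈ ℋ, Commute z h := fun h hh => S.z_commute hh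
  have hanti : ∀ k ∈ K, k ≠ 1 → k₁ * k ≠ 1 → f₁ * k * f₁⁻¹ = z * k := by
    intro k hk hk1 hne
    have hkE : k ∈ ℰ := hΛE ((hmemL k).1 ((hmemK k).1 hk).1).1
    rcases S.conj_eq hf₁ hkE with h | h
    · exfalso
      obtain ⟨f, hf, hφ⟩ := hrep k hk hk1
      refine hno (k₁ * k) (mul_mem hk₁ hk) hne (f₁ * f) ?_
      rw [hφmul, hφ₁, hφ, show f₁ * (z * k) * f₁⁻¹ = f₁ * z * (k * f₁⁻¹) by group,
        ← (hzc f₁ (S.E_le hf₁)).eq,
        show z * k₁ * (z * f₁ * (k * f₁⁻¹)) = z * (k₁ * z) * (f₁ * k * f₁⁻¹) by group, h,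
        ← (hzc k₁ (hKH k₁ hk₁)).eq, ← mul_assoc z z, S.z_mul_self, one_mul]
    · exact h
  obtain ⟨k₂, hk₂, hk₂n⟩ : ∃ k ∈ K, k ∉ ({1, k₁⁻¹} : Finset G) := by
    by_contra! hall
    have h1 := Set.ncard_le_ncard
      (show (K : Set G) ⊆ (({1, k₁⁻¹} : Finset G) : Set G) from hall) (Set.toFinite _)
    rw [Set.ncard_coe_finset, ← Nat.card_coe_set_eq] at h1
    simp only [SetLike.coe_sort_coe] at h1
    have h2 : ({1, k₁⁻¹} : Finset G).card ≤ 2 := Finset.card_le_two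
    omega
  obtain ⟨k₃, hk₃, hk₃n⟩ :
      ∃ k ∈ K, k ∉ ({1, k₁⁻¹, k₂⁻¹, k₂⁻¹ * k₁⁻¹} : Finset G) := by
    by_contra! hall
    have h1 := Set.ncard_le_ncard
      (show (K : Set G) ⊆ (({1, k₁⁻¹, k₂⁻¹, k₂⁻¹ * k₁⁻¹} : Finset G) : Set G) from hall)
      (Set.toFinite _)
    rw [Set.ncard_coe_finset, ← Nat.card_coe_set_eq] at h1
    simp only [SetLike.coe_sort_coe] at h1
    have h2 : ({1, k₁⁻¹, k₂⁻¹, k₂⁻¹ * k₁⁻¹} : Finset G).card ≤ 4 := Finset.card_le_four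
    omega
  simp only [Finset.mem_insert, Finset.mem_singleton, not_or] at hk₂n hk₃n
  obtain ⟨n1, n2, n3, n4⟩ := hk₃n
  have a₂ := hanti k₂ hk₂ hk₂n.1 (fun h => hk₂n.2 (eq_inv_of_mul_eq_one_right h))
  have a₃ := hanti k₃ hk₃ n1 (fun h => n2 (eq_inv_of_mul_eq_one_right h))
  have a₂₃ := hanti (k₂ * k₃) (mul_mem hk₂ hk₃) (fun h => n3 (eq_inv_of_mul_eq_one_right h))
    (fun h => n4 (by
      rw [← mul_assoc] at h
      rw [eq_inv_of_mul_eq_one_right h, mul_inv_rev]))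
  rw [show f₁ * (k₂ * k₃) * f₁⁻¹ = (f₁ * k₂ * f₁⁻¹) * (f₁ * k₃ * f₁⁻¹) by group, a₂, a₃,
    show z * k₂ * (z * k₃) = z * (k₂ * z) * k₃ by group, ← (hzc k₂ (hKH k₂ hk₂)).eq,
    show z * (z * k₂) * k₃ = z * z * (k₂ * k₃) by group, S.z_mul_self, one_mul] at a₂₃
  exact S.z_ne_one (mul_eq_right.1 a₂₃.symm)

end FusionData

end CfsgLib.JFour
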