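import Cfsg.Agent.Lib.JFour.FusionSpecial

/-!
# Fusion in groups of Janko-four type: the centraliser of a special involution and an element of
order three commuting with it
-/

set_option autoImplicit false
set_option linter.style.haveILetI false
set_option linter.unusedSectionVars false

open Cfsg

namespace CfsgLib.JFour

/-- The statement that elements of order three of `C_H(P)` outside `N` fix `2 ^ 5` points of `E`. -/
def FixFive {G : Type*} [Group G] (z : G) (P N : Subgroup G) : Prop :=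
  ∀ p ∈ Subgroup.centralizer ({z} : Set G) ⊓ Subgroup.centralizer (P : Set G),
    orderOf p = 3 → p ∉ N →
    Nat.card ↥(twoCoreOfCentralizer z ⊓ Subgroup.centralizer ({p} : Set G) : Subgroup G) = 2 ^ 5

variable {G : Type*} [Group G]

theorem orderOf_conj_eq (g x : G) : orderOf (g * x * g⁻¹) = orderOf x :=
  orderOf_injective (MulAut.conj g).toMonoidHom (MulAut.conj g).injective x

namespace FusionData

variable {z : G} {P N : Subgroup G}
  {π : ↥(Subgroup.centralizer ({z} : Set G)) →* MulAut ↥Spor.M22}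
  {M B : Subgroup (MulAut ↥Spor.M22)} {Bt D V : Subgroup G}
  (F : FusionData (P := P) (N := N) π M B Bt D V)
include F

set_option quotPrecheck false in
local notation "ℋ" => Subgroup.centralizer (singleton z : Set G)
set_option quotPrecheck false in
local notation "ℰ" => twoCoreOfCentralizer z
set_option quotPrecheck false in
local notation "𝒦" p => twoCoreOfCentralizer z ⊓ Subgroup.centralizer (singleton p : Set G)

variable {e b p : G}

theorem commute_pair [Finite G] (he : e ∈ ℰ) (hb : b ∈ Bt)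
    (hp : p ∈ ℋ ⊓ Subgroup.centralizer (P : Set G)) (hp3 : orderOf p = 3)
    (hc : Commute p (e * b)) : Commute p b ∧ Commute p e := by
  have h9 : p ^ 9 = 1 := orderOf_dvd_iff_pow_eq_one.1 (by rw [hp3]; norm_num)
  have h : π (⟨p, hp.1⟩ * ⟨e * b, mul_mem (F.S.E_le he) (F.Bt_H hb)⟩) =
      π (⟨e * b, mul_mem (F.S.E_le he) (F.Bt_H hb)⟩ * ⟨p, hp.1⟩) := congrArg π (Subtype.ext hc.eq)
  rw [map_mul, map_mul, F.pi_E_mul he (F.Bt_H hb)] at h
  have hpb := F.commute_bt hp h9 hb h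
  refine ⟨hpb, ?_⟩
  have := hc.mul_right hpb.inv_right
  rwa [mul_inv_cancel_right] at this

/-- `C_E(p)` centralises `b`. -/
theorem fix_commute_b [Finite G] (hfix : FixFive z P N) (he : e ∈ ℰ) (hb : b ∈ Bt)
    (hx : Special π V (e * b)) (hp : p ∈ ℋ ⊓ Subgroup.centralizer (P : Set G))
    (hp3 : orderOf p = 3) (hpN : p ∉ N) (hc : Commute p (e * b)) {f : G}
    (hf : f ∈ 𝒦 p) : Commute f b := by
  have S := F.S
  obtain ⟨hpb, hpe⟩ := F.commute_pair he hb hp hp3 hc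
  obtain ⟨heb, -, heD⟩ := F.form he hb hx
  obtain ⟨q, hq, hq1, -, -⟩ := S.exists_generator
  have hqp : Commute q p := Subgroup.mem_centralizer_iff.1 hp.2 q hq
  have hqb : Commute q b := Subgroup.mem_centralizer_iff.1 (F.Bt_le hb).2 q hq
  set W := 𝒦 p with hW
  have hW32 : Nat.card ↥W = 2 ^ 5 := hfix p hp hp3 hpN
  set S' := W ⊓ Subgroup.centralizer ({b} : Set G) with hS'
  have hq_mem : ∀ g ∈ W, q * g * q⁻¹ ∈ W := fun g hg =>
    ⟨S.conj_mem_E (S.P_le_H hq) hg.1, Subgroup.mem_centralizer_singleton_iff.2 (by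
      have h1 : Commute g p := Subgroup.mem_centralizer_singleton_iff.1 hg.2
      exact ((hqp.mul_left h1).mul_left hqp.inv_left).eq)⟩
  have hcent : ∀ g : G, g ∈ S' ↔ g ∈ W ∧ Commute g b := fun g => by
    rw [hS', Subgroup.mem_inf, Subgroup.mem_centralizer_singleton_iff]; rfl
  by_contra hnc
  have hconjb : ∀ g : G, Commute (q * g * q⁻¹) b → Commute g b := by
    intro g hg
    have h1 := (hqb.inv_left.mul_left hg).mul_left hqb
    rwa [show q⁻¹ * (q * g * q⁻¹) * q = g by group] at h1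
  have hf₁ : ¬ Commute (q * f * q⁻¹) b := fun h => hnc (hconjb _ h)
  have hf₂ : ¬ Commute (q * (q * f * q⁻¹) * q⁻¹) b := fun h => hf₁ (hconjb _ h)
  -- `S'` has index two
  set v := f * b * f⁻¹ * b⁻¹ with hv
  have hvD : v ∈ D := F.comm_mem_D b hb f hf.1
  have hfp : Commute f p := Subgroup.mem_centralizer_singleton_iff.1 hf.2
  have hvW : v ∈ W := ⟨F.D_le hvD, Subgroup.mem_centralizer_singleton_iff.2
    (((hfp.mul_left hpb.symm).mul_left hfp.inv_left).mul_left hpb.symm.inv_left).eq⟩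
  have hvz : v ∉ Subgroup.zpowers z := fun h => hnc (F.commute_Bt hb hf.1 h)
  have hv₁ : q * v * q⁻¹ * v⁻¹ ∉ Subgroup.zpowers z := fun h =>
    hvz (S.mem_zpowers_of_comm hq hq1 (F.D_le hvD) h)
  have hzW : z ∈ W := ⟨S.z_mem_E, Subgroup.mem_centralizer_singleton_iff.2 (S.z_commute hp.1).eq⟩
  have hmemX : ∀ g ∈ W, g ∈ D → g ∈ S' ⊓ D := fun g h1 h2 =>
    ⟨(hcent g).2 ⟨h1, F.D_Bt g h2 b hb⟩, h2⟩
  have h5 : 5 ≤ Nat.card ↥(S' ⊓ D : Subgroup G) := by
    classical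
    set v₁ := q * v * q⁻¹ with hv₁def
    have hne1 : v₁ ≠ 1 := fun h => hvz (by rw [conj_eq_one_iff.1 h]; exact one_mem _)
    have hnez : v₁ ≠ z := fun h => hvz (by
      rw [show v = q⁻¹ * v₁ * q by rw [hv₁def]; group, h,
        (S.z_commute (inv_mem (S.P_le_H hq))).eq.symm, inv_mul_cancel_right]
      exact Subgroup.mem_zpowers z)
    have hnev : v₁ ≠ v := fun h => hv₁ (by rw [h, mul_inv_cancel]; exact one_mem _)
    have hnevz : v₁ ≠ z * v := fun h => hv₁ (by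
      rw [h, mul_inv_cancel_right]; exact Subgroup.mem_zpowers z)
    have hv_ne1 : v ≠ 1 := fun h => hvz (h ▸ one_mem _)
    have hv_nez : v ≠ z := fun h => hvz (h ▸ Subgroup.mem_zpowers z)
    have hzv1 : z * v ≠ 1 := fun h => hv_nez
      ((eq_inv_of_mul_eq_one_right h).trans S.z_inv)
    have hzvz : z * v ≠ z := fun h => hv_ne1 (mul_eq_left.1 h)
    have hzvv : z * v ≠ v := fun h => S.z_ne_one (mul_eq_right.1 h)
    let s : Finset G := {1, z, v, z * v, v₁}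
    have hs : s.card = 5 := by
      simp [s, S.z_ne_one.symm, hv_ne1.symm, hzv1.symm, hne1.symm, hv_nez.symm, hzvz.symm,
        hnez.symm, hzvv.symm, hnev.symm, hnevz.symm]
    have hsub : (s : Set G) ⊆ (S' ⊓ D : Subgroup G) := by
      have hzv : z * v ∈ S' ⊓ D := hmemX _ (mul_mem hzW hvW) (mul_mem F.z_mem_D hvD)
      have hvv : v₁ ∈ S' ⊓ D := hmemX _ (hq_mem v hvW) (F.D_P q hq v hvD)
      intro g hg
      simp only [s, Finset.coe_insert, Finset.coe_singleton, Set.mem_insert_iff,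
        Set.mem_singleton_iff] at hg
      rcases hg with rfl | rfl | rfl | rfl | rfl
      · exact one_mem _
      · exact hmemX _ hzW F.z_mem_D
      · exact hmemX _ hvW hvD
      · exact hzv
      · exact hvv
    have h := Set.ncard_le_ncard hsub (Set.toFinite _)
    rw [Set.ncard_coe_finset, hs, ← Nat.card_coe_set_eq] at h
    exact h
  have heW : e ∈ W := ⟨he, Subgroup.mem_centralizer_singleton_iff.2 hpe.symm.eq⟩
  have h2 := two_mul_card_le (inf_le_left : S' ⊓ D ≤ S') ((hcent e).2 ⟨heW, heb⟩)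
    (fun h => heD h.2)
  have h4 := two_mul_card_le (X := S') (inf_le_left : S' ≤ W) hf (fun h => hnc ((hcent f).1 h).2)
  have h3 : Nat.card ↥(S' ⊓ D : Subgroup G) ∣ 2 ^ 5 :=
    hW32 ▸ Subgroup.card_dvd_of_le (inf_le_left.trans inf_le_left)
  have h8 : 8 ≤ Nat.card ↥(S' ⊓ D : Subgroup G) := by
    obtain ⟨k, -, hk⟩ := (Nat.dvd_prime_pow Nat.prime_two).1 h3
    rw [hk] at h5 ⊢
    have h6 : 3 ≤ k := by
      by_contra h
      have : 2 ^ k ≤ 2 ^ 2 := Nat.pow_le_pow_right two_pos (by omega)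
      omega
    calc 8 = 2 ^ 3 := rfl
      _ ≤ 2 ^ k := Nat.pow_le_pow_right two_pos h6
  have hcard : Nat.card ↥W = 2 * Nat.card ↥S' := by omega
  -- the product of the orbit of `f`
  have hout : ∀ g ∈ W, ¬ Commute g b → g ∉ S' := fun g _ h h' => h ((hcent g).1 h').2
  have hfW₁ := hq_mem f hf
  have hfW₂ := hq_mem _ hfW₁
  have h12 := mul_mem_of_half (inf_le_left : S' ≤ W) hcard hf hfW₁ (hout _ hf hnc)
    (hout _ hfW₁ hf₁)
  have hz' : f * (q * f * q⁻¹) * (q * (q * f * q⁻¹) * q⁻¹) ∈ S' := by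
    rcases S.mem_zpowers_iff.1 (S.triple_mem_zpowers hq hq1 hf.1) with h | h <;> rw [h]
    · exact one_mem _
    · exact (hcent z).2 ⟨hzW, S.z_commute (F.Bt_H hb)⟩
  refine hout _ hfW₂ hf₂ ?_
  have h13 := mul_mem (inv_mem h12) hz'
  rwa [inv_mul_cancel_left] at h13

/-- `C_E(p)` has centre `⟨z⟩`. -/
theorem fix_center [Finite G] (hp : p ∈ ℋ) (hp3 : orderOf p = 3) {f : G} (hf : f ∈ 𝒦 p)
    (h : ∀ g ∈ 𝒦 p, Commute f g) : f ∈ Subgroup.zpowers z := by
  have S := F.S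
  have hp3' : p ^ 3 = 1 := hp3 ▸ pow_orderOf_eq_one p
  have hfp : Commute f p := Subgroup.mem_centralizer_singleton_iff.1 hf.2
  rw [← S.center_E]
  refine ⟨hf.1, Subgroup.mem_centralizer_iff.2 fun y hy => (show Commute f y from ?_).symm⟩
  set w := f * y * f⁻¹ * y⁻¹ with hw
  have hwz : w ∈ Subgroup.zpowers z := S.commutator_mem hf.1 hy
  have hwp : Commute w p := S.commute_of_mem_zpowers hwz hp
  set y₁ := p * y * p⁻¹ with hy₁
  set y₂ := p * y₁ * p⁻¹ with hy₂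
  have hy₁E : y₁ ∈ ℰ := S.conj_mem_E hp hy
  have hy₂E : y₂ ∈ ℰ := S.conj_mem_E hp hy₁E
  have conj : ∀ y : G, f * y * f⁻¹ = w * y → f * (p * y * p⁻¹) * f⁻¹ = w * (p * y * p⁻¹) := by
    intro y hy
    calc f * (p * y * p⁻¹) * f⁻¹ = (f * p) * y * (f * p)⁻¹ := by group
      _ = p * (f * y * f⁻¹) * p⁻¹ := by rw [hfp.eq]; group
      _ = (p * w) * (y * p⁻¹) := by rw [hy]; group
      _ = _ := by rw [← hwp.eq]; group
  have h0 : f * y * f⁻¹ = w * y := by rw [hw]; group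
  have huE : y * y₁ * y₂ ∈ ℰ := mul_mem (mul_mem hy hy₁E) hy₂E
  set u := y * y₁ * y₂ with hu
  have hv := S.triple_mem hp hp3' hy
  rw [← hy₁, ← hy₂, ← hu] at hv
  set t := p * u * p⁻¹ * u⁻¹ with ht
  have htp : Commute t p := S.commute_of_mem_zpowers hv hp
  have e1 : p * u * p⁻¹ = t * u := by rw [ht]; group
  have e3 : t * t * t * u = u := by
    calc t * t * t * u = t * (t * (p * u * p⁻¹)) := by rw [e1]; group
      _ = t * ((t * p) * u * p⁻¹) := by group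
      _ = t * (p * (t * u) * p⁻¹) := by rw [htp.eq]; group
      _ = t * (p * p) * u * (p⁻¹ * p⁻¹) := by rw [← e1]; group
      _ = p * p * (t * u) * (p⁻¹ * p⁻¹) := by rw [(htp.mul_right htp).eq]; group
      _ = p ^ 3 * u * (p ^ 3)⁻¹ := by rw [← e1, pow_succ, pow_two]; group
      _ = u := by rw [hp3', inv_one, mul_one, one_mul]
  have ht1 : t = 1 := S.cube_of_mem_zpowers hv (mul_eq_right.1 e3)
  have hup : Commute u p := by
    rw [ht1, one_mul] at e1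
    exact (mul_inv_eq_iff_eq_mul.1 e1).symm
  have := S.eq_one_of_triple hwz (S.E_le hy) (S.E_le hy₁E) h0 (conj y h0) (conj y₁ (conj y h0))
    (h u ⟨huE, Subgroup.mem_centralizer_singleton_iff.2 hup.eq⟩)
  rw [hw, mul_inv_eq_one, mul_inv_eq_iff_eq_mul] at this
  exact this

/-- `C_E(p) ∩ C(x)` is not abelian. -/
theorem exists_not_commute [Finite G] (hfix : FixFive z P N) (he : e ∈ ℰ) (hb : b ∈ Bt)
    (hx : Special π V (e * b)) (hp : p ∈ ℋ ⊓ Subgroup.centralizer (P : Set G))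
    (hp3 : orderOf p = 3) (hpN : p ∉ N) (hc : Commute p (e * b)) :
    ∃ a₁ ∈ 𝒦 p, ∃ a₂ ∈ 𝒦 p, Commute a₁ (e * b) ∧ Commute a₂ (e * b) ∧
      a₁ * a₂ * a₁⁻¹ = z * a₂ := by
  have S := F.S
  set W := 𝒦 p with hW
  have hW32 : Nat.card ↥W = 2 ^ 5 := hfix p hp hp3 hpN
  set A := W ⊓ Subgroup.centralizer ({e * b} : Set G) with hA
  have hWH : W ≤ ℋ := inf_le_left.trans S.E_le
  have hAmem : ∀ a ∈ A, a ∈ W ∧ Commute a (e * b) := fun a ha =>
    ⟨ha.1, Subgroup.mem_centralizer_singleton_iff.1 ha.2⟩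
  by_contra hab
  push Not at hab
  have hAab : ∀ a ∈ A, ∀ a' ∈ A, Commute a a' := by
    intro a ha a' ha'
    rcases S.conj_eq (hAmem a ha).1.1 (hAmem a' ha').1.1 with h | h
    · exact mul_inv_eq_iff_eq_mul.1 h
    · exact absurd h (hab a ha.1 a' ha'.1 (hAmem a ha).2 (hAmem a' ha').2)
  have h16 : Nat.card ↥W ≤ 2 * Nat.card ↥A := S.card_le_two_mul hWH fun f hf => by
    have hfb := F.fix_commute_b hfix he hb hx hp hp3 hpN hc hf
    rw [show f * (e * b) * f⁻¹ * (e * b)⁻¹ = f * e * (b * f⁻¹) * b⁻¹ * e⁻¹ by group,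
      ← hfb.inv_left.eq, show f * e * (f⁻¹ * b) * b⁻¹ * e⁻¹ = f * e * f⁻¹ * e⁻¹ by group]
    exact S.commutator_mem hf.1 he
  have hz2 : ∀ X : Subgroup G, X ≤ Subgroup.zpowers z → Nat.card ↥X ≤ 2 := fun X hX =>
    (Subgroup.card_le_of_le hX).trans (by rw [Nat.card_zpowers, S.orderZ])
  obtain ⟨y, hy, hyA⟩ : ∃ y ∈ W, y ∉ A := by
    by_contra! hall
    have := hz2 W fun f hf => F.fix_center hp.1 hp3 hf fun g hg => hAab f (hall f hf) g (hall g hg)
    omega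
  have h2 := two_mul_card_le (X := A) (inf_le_left : A ≤ W) hy hyA
  have hcard : Nat.card ↥W = 2 * Nat.card ↥A := by omega
  have h8 : Nat.card ↥A ≤ 2 * Nat.card ↥(A ⊓ Subgroup.centralizer ({y} : Set G) : Subgroup G) :=
    S.card_le_two_mul (inf_le_left.trans hWH) fun a ha => S.commutator_mem ha.1.1 hy.1
  have := hz2 (A ⊓ Subgroup.centralizer ({y} : Set G)) fun a ha => by
    refine F.fix_center hp.1 hp3 ha.1.1 fun g hg => ?_
    have hay : Commute a y := Subgroup.mem_centralizer_singleton_iff.1 ha.2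
    by_cases hgA : g ∈ A
    · exact hAab a ha.1 g hgA
    · have h1 := (hAab a ha.1 _ (mul_mem_of_half (inf_le_left : A ≤ W) hcard hg hy hgA hyA)).mul_right
        hay.inv_right
      rwa [mul_inv_cancel_right] at h1
  omega

/-- A 2-element centralising `p` and `x` which lies over `B` lies over `1` or over `b`. -/
theorem over_B [Finite G] (hfix : FixFive z P N) (he : e ∈ ℰ) (hb : b ∈ Bt)
    (hx : Special π V (e * b)) (hp : p ∈ ℋ ⊓ Subgroup.centralizer (P : Set G))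
    (hp3 : orderOf p = 3) (hpN : p ∉ N) (hc : Commute p (e * b)) {a : G} (ha : a ∈ ℋ) {n : ℕ}
    (ha2 : a ^ 2 ^ n = 1) (hap : Commute a p) (hax : Commute a (e * b))
    (haB : π ⟨a, ha⟩ ∈ B) : π ⟨a, ha⟩ = 1 ∨ π ⟨a, ha⟩ = π ⟨b, F.Bt_H hb⟩ := by
  have S := F.S
  obtain ⟨b', hb', hbH, hbβ⟩ := F.Bt_surj _ haB
  obtain ⟨f, hf, haf⟩ := F.exists_eq_mul ha ha2 hb' hbβ.symm
  by_cases hb'z : b' ∈ Subgroup.zpowers z
  · left; rw [← hbβ]; exact F.pi_eq_one_of_zpowers hb'z hbH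
  obtain ⟨heb, -, heD⟩ := F.form he hb hx
  have h9 : p ^ 9 = 1 := orderOf_dvd_iff_pow_eq_one.1 (by rw [hp3]; norm_num)
  have hpa : Commute (π ⟨p, hp.1⟩) (π ⟨b', F.Bt_H hb'⟩) := by
    rw [hbβ]
    show _ = _
    rw [← map_mul, ← map_mul]
    exact congrArg π (Subtype.ext hap.symm.eq)
  have hpb' := F.commute_bt hp h9 hb' hpa
  have hfp : Commute f p := by
    have := hap.mul_left hpb'.symm.inv_left
    rwa [haf, mul_inv_cancel_right] at this
  have hfb := F.fix_commute_b hfix he hb hx hp hp3 hpN hc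
    (f := f) ⟨hf, Subgroup.mem_centralizer_singleton_iff.2 hfp.eq⟩
  have hbb : Commute b' b := F.Bt_comm hb' hb
  have h1 : f * (b' * e * b'⁻¹) * f⁻¹ = e := by
    have h2 : a * (e * b) * a⁻¹ = e * b := by rw [hax.eq, mul_inv_cancel_right]
    rw [haf] at h2
    rw [← mul_left_inj b]
    calc f * (b' * e * b'⁻¹) * f⁻¹ * b = f * (b' * e * b'⁻¹) * (b * f⁻¹) := by
          rw [← hfb.inv_left.eq]; group
      _ = f * b' * e * (b'⁻¹ * b) * f⁻¹ := by group
      _ = _ := by rw [hbb.inv_left.eq, ← h2]; group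
  have h3 : Commute e b' := F.commute_Bt hb' he (by
    have h4 : b' * e * b'⁻¹ = f⁻¹ * e * f := by
      calc b' * e * b'⁻¹ = f⁻¹ * (f * (b' * e * b'⁻¹) * f⁻¹) * f := by group
        _ = _ := by rw [h1]
    rw [show e * b' * e⁻¹ * b'⁻¹ = e * (b' * e * b'⁻¹)⁻¹ by group, h4,
      show e * (f⁻¹ * e * f)⁻¹ = e * f⁻¹ * e⁻¹ * f⁻¹⁻¹ by group]
    exact S.commutator_mem he (inv_mem hf))
  by_cases hbz : b ∈ Subgroup.zpowers z
  · exfalso
    refine hx.not_E (mul_mem he (S.zpowers_le_E hbz))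
  by_cases hprod : b' * b ∈ Subgroup.zpowers z
  · right
    have h4 : π (⟨b', F.Bt_H hb'⟩ * ⟨b, F.Bt_H hb⟩) = 1 :=
      F.pi_eq_one_of_zpowers hprod (mul_mem (F.Bt_H hb') (F.Bt_H hb))
    rw [map_mul] at h4
    rw [← hbβ]
    exact mul_right_cancel (h4.trans (F.pi_bt_mul_self hb).symm)
  · exact absurd (F.cap b hb b' hb' hbz hb'z hprod e he heb.eq h3.eq) heD

/-- Two elements of a 2-group centralising `p` and `x` commute modulo `E`. -/
theorem two_commutator_mem [Finite G] (hfix : FixFive z P N) (he : e ∈ ℰ) (hb : b ∈ Bt)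
    (hx : Special π V (e * b)) (hp : p ∈ ℋ ⊓ Subgroup.centralizer (P : Set G))
    (hp3 : orderOf p = 3) (hpN : p ∉ N) (hc : Commute p (e * b)) {Q : Subgroup G}
    (hQ : IsPGroup 2 ↥Q)
    (hQc : ∀ a ∈ Q, a ∈ ℋ ∧ Commute a p ∧ Commute a (e * b))
    {a₁ a₂ : G} (h₁ : a₁ ∈ Q) (h₂ : a₂ ∈ Q) : a₁ * a₂ * a₁⁻¹ * a₂⁻¹ ∈ ℰ := by
  classical
  have S := F.S
  haveI : Fact (Nat.Prime 2) := ⟨Nat.prime_two⟩
  obtain ⟨hpb, -⟩ := F.commute_pair he hb hp hp3 hc
  set β := π ⟨b, F.Bt_H hb⟩ with hβ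
  have hbz : b ∉ Subgroup.zpowers z := fun h => hx.not_E (mul_mem he (S.zpowers_le_E h))
  have hβB : β ∈ B := F.Bt_map b _ hb
  have hβ1 : β ≠ 1 := F.pi_bt_ne_one hb hbz
  let inc : ↥Q →* ↥ℋ := Subgroup.inclusion fun a ha => (hQc a ha).1
  have hβc : ∀ a : ↥Q, Commute (π (inc a)) β := fun a => by
    have h : π (inc a * ⟨e * b, mul_mem (S.E_le he) (F.Bt_H hb)⟩) =
        π (⟨e * b, mul_mem (S.E_le he) (F.Bt_H hb)⟩ * inc a) :=
      congrArg π (Subtype.ext (hQc a a.2).2.2.eq)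
    rw [map_mul, map_mul, F.pi_E_mul he (F.Bt_H hb)] at h
    exact h
  have hM : ∀ a : ↥Q, π (inc a) ∈ M := fun a =>
    F.frame.hexad.cen_inv β hβB hβ1 (Subgroup.mem_centralizer_singleton_iff.2 (hβc a).eq)
  have hpM : π ⟨p, hp.1⟩ ∈ M := F.frame.hexad.cen_inv β hβB hβ1
    (Subgroup.mem_centralizer_singleton_iff.2 (by
      rw [hβ, ← map_mul, ← map_mul]; exact congrArg π (Subtype.ext hpb.eq)))
  obtain ⟨f, -, hfker, -⟩ := F.frame.hexad.hexad
  have hker : ∀ m : ↥M, f m = 1 ↔ (m : MulAut ↥Spor.M22) ∈ B := fun m => by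
    rw [← MonoidHom.mem_ker, hfker, Subgroup.mem_subgroupOf]
  set σ := f ⟨_, hpM⟩ with hσ
  have hσ3 : orderOf σ = 3 := by
    haveI : Fact (Nat.Prime 3) := ⟨Nat.prime_three⟩
    refine orderOf_eq_prime ?_ ?_
    · rw [hσ, ← map_pow, show (⟨π ⟨p, hp.1⟩, hpM⟩ : ↥M) ^ 3 = 1 from Subtype.ext (by
        rw [Subgroup.coe_pow, ← map_pow, show (⟨p, hp.1⟩ : ↥ℋ) ^ 3 = 1 from
          Subtype.ext (by rw [Subgroup.coe_pow, ← hp3, pow_orderOf_eq_one]; rfl), map_one]; rfl),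
        map_one]
    · intro h
      obtain ⟨b', hb', hbH, hbβ⟩ := F.Bt_surj _ ((hker _).1 h)
      have hbβ' : π ⟨b', hbH⟩ = π ⟨p, hp.1⟩ := hbβ
      have h1 : π ⟨p, hp.1⟩ * π ⟨p, hp.1⟩ = 1 := by
        rw [← hbβ']; exact F.pi_bt_mul_self hb'
      have h3 : π ⟨p, hp.1⟩ ^ 3 = 1 := by
        rw [← map_pow, show (⟨p, hp.1⟩ : ↥ℋ) ^ 3 = 1 from
          Subtype.ext (by rw [Subgroup.coe_pow, ← hp3, pow_orderOf_eq_one]; rfl), map_one]
      rw [pow_succ, pow_two, h1, one_mul] at h3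
      exact hpN ((S.pi_eq_one_iff F.frame.ker_eq _).1 h3)
  let φ : ↥Q →* ↥M := (π.comp inc).codRestrict M hM
  set T := (f.comp φ).range with hT
  have hTσ : T ≤ Subgroup.centralizer ({σ} : Set (Equiv.Perm (Fin 6))) := by
    rintro _ ⟨a, rfl⟩
    rw [Subgroup.mem_centralizer_singleton_iff]
    show f (φ a) * f _ = f _ * f (φ a)
    rw [← map_mul, ← map_mul]
    exact congrArg f (Subtype.ext (by
      show π (inc a) * π _ = π _ * π (inc a)
      rw [← map_mul, ← map_mul]; exact congrArg π (Subtype.ext (hQc a a.2).2.1.eq)))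
  have hT2 : Nat.card ↥T ≤ 2 := by
    have h1 := card_centralizer_three hσ3 ▸ Subgroup.card_dvd_of_le hTσ
    obtain ⟨k, hk⟩ := IsPGroup.iff_card.1 (hQ.of_surjective (f.comp φ).rangeRestrict
      (MonoidHom.rangeRestrict_surjective _))
    rw [hT, hk] at h1 ⊢
    rcases k with _ | _ | k
    · norm_num
    · norm_num
    · exfalso
      exact absurd ((pow_dvd_pow 2 (by omega : 2 ≤ k + 1 + 1)).trans h1) (by norm_num)
  obtain ⟨n, hn⟩ := IsPGroup.iff_card.1 hQ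
  have hcen : ∀ a c : ↥Q, f (φ a) = 1 → Commute (π (inc a)) (π (inc c)) := by
    intro a c h
    rcases F.over_B hfix he hb hx hp hp3 hpN hc (hQc a a.2).1 (n := n)
      (by rw [← hn, ← Subgroup.coe_pow, pow_card_eq_one']; rfl) (hQc a a.2).2.1 (hQc a a.2).2.2
      ((hker _).1 h) with h' | h'
    · rw [show π (inc a) = 1 from h']; exact Commute.one_left _
    · rw [show π (inc a) = β from h']; exact (hβc c).symm
  set u₁ : ↥Q := ⟨a₁, h₁⟩
  set u₂ : ↥Q := ⟨a₂, h₂⟩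
  have hcomm : Commute (π (inc u₁)) (π (inc u₂)) := by
    by_cases hu₁ : f (φ u₁) = 1
    · exact hcen _ _ hu₁
    by_cases hu₂ : f (φ u₂) = 1
    · exact (hcen _ _ hu₂).symm
    have heq : f (φ (u₁ * u₂⁻¹)) = 1 := by
      rw [map_mul, map_inv, map_mul, map_inv, mul_inv_eq_one]
      by_contra hne
      have h3 : ({1, f (φ u₁), f (φ u₂)} : Finset (Equiv.Perm (Fin 6))).card = 3 := by
        rw [Finset.card_insert_of_notMem, Finset.card_pair hne]
        simp [Ne.symm hu₁, Ne.symm hu₂]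
      have hsub : (({1, f (φ u₁), f (φ u₂)} : Finset (Equiv.Perm (Fin 6))) : Set _) ⊆ SetLike.coe T := by
        intro g hg
        simp only [Finset.coe_insert, Finset.coe_singleton, Set.mem_insert_iff,
          Set.mem_singleton_iff] at hg
        rcases hg with rfl | rfl | rfl
        · exact one_mem _
        · exact ⟨u₁, rfl⟩
        · exact ⟨u₂, rfl⟩
      have h4 := Set.ncard_le_ncard hsub (Set.toFinite _)
      rw [Set.ncard_coe_finset, h3, ← Nat.card_coe_set_eq] at h4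
      exact absurd (h4.trans hT2) (by norm_num)
    have h5 := (hcen _ u₂ heq).mul_left (Commute.refl (π (inc u₂)))
    rwa [← map_mul, ← map_mul, inv_mul_cancel_right] at h5
  refine S.mem_E_of_two ((S.pi_eq_one_iff F.frame.ker_eq (inc (u₁ * u₂ * u₁⁻¹ * u₂⁻¹))).1 ?_)
    (a := n) ?_
  · rw [map_mul, map_mul, map_mul, map_inv, map_inv, map_mul, map_mul, map_mul, map_inv, map_inv,
      hcomm.eq, mul_inv_cancel_right, mul_inv_cancel]
  · show ((u₁ * u₂ * u₁⁻¹ * u₂⁻¹ : ↥Q) : G) ^ 2 ^ n = 1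
    rw [← hn, ← Subgroup.coe_pow, pow_card_eq_one']; rfl

theorem exists_standard [Finite G] {x p : G} (hx : Special π V x) (hp : p ∈ ℋ)
    (hp3 : orderOf p = 3) (hc : Commute p x) :
    ∃ h ∈ ℋ, ∃ e ∈ ℰ, ∃ b ∈ Bt, h * x * h⁻¹ = e * b ∧ Special π V (e * b) ∧
      h * p * h⁻¹ ∈ ℋ ⊓ Subgroup.centralizer (P : Set G) ∧ orderOf (h * p * h⁻¹) = 3 ∧
      h * p * h⁻¹ ∉ N ∧ Commute (h * p * h⁻¹) (e * b) := by
  have S := F.S
  obtain ⟨k, hk, e, he, b, hb, -, hkx⟩ := F.exists_form hx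
  have hp' : k * p * k⁻¹ ∈ ℋ := mul_mem (mul_mem hk hp) (inv_mem hk)
  have hp3' : (k * p * k⁻¹) ^ 3 = 1 := by
    rw [← hp3, ← orderOf_conj_eq k p]; exact pow_orderOf_eq_one _
  obtain ⟨f, hf, c, hcC, hfc⟩ := F.exists_conj_C hp' hp3' (F.mem_inn_of_cube (by
    rw [← map_pow, show (⟨k * p * k⁻¹, hp'⟩ : ↥ℋ) ^ 3 = 1 from Subtype.ext hp3', map_one]))
  have hh : f⁻¹ * k ∈ ℋ := mul_mem (inv_mem (S.E_le hf)) hk
  have hcp : f⁻¹ * k * p * (f⁻¹ * k)⁻¹ = c := by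
    rw [show f⁻¹ * k * p * (f⁻¹ * k)⁻¹ = f⁻¹ * (k * p * k⁻¹) * f by group, hfc]; group
  have hxe : f⁻¹ * k * x * (f⁻¹ * k)⁻¹ = f⁻¹ * e * (b * f * b⁻¹) * b := by
    rw [show f⁻¹ * k * x * (f⁻¹ * k)⁻¹ = f⁻¹ * (k * x * k⁻¹) * f by group, hkx]; group
  have he' : f⁻¹ * e * (b * f * b⁻¹) ∈ ℰ :=
    mul_mem (mul_mem (inv_mem hf) he) (S.conj_mem_E (F.Bt_H hb) hf)
  have hx' := F.special_conj hh hx
  have hc' : Commute (f⁻¹ * k * p * (f⁻¹ * k)⁻¹) (f⁻¹ * k * x * (f⁻¹ * k)⁻¹) :=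
    hc.map (MulAut.conj (f⁻¹ * k)).toMonoidHom
  have ho : orderOf (f⁻¹ * k * p * (f⁻¹ * k)⁻¹) = 3 := (orderOf_conj_eq _ _).trans hp3
  have hN := F.not_mem_N hx' ho hc'
  rw [hxe] at hx' hc'
  exact ⟨_, hh, _, he', b, hb, hxe, hx', hcp.symm ▸ hcC, ho, hN, hc'⟩

/-- The transported statement of `exists_not_commute`. -/
theorem special_pair [Finite G] (hfix : FixFive z P N) {x p : G} (hx : Special π V x) (hp : p ∈ ℋ)
    (hp3 : orderOf p = 3) (hc : Commute p x) :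
    ∃ a₁ ∈ ℰ, ∃ a₂ ∈ ℰ, Commute a₁ p ∧ Commute a₂ p ∧ Commute a₁ x ∧ Commute a₂ x ∧
      a₁ * a₂ * a₁⁻¹ = z * a₂ := by
  have S := F.S
  obtain ⟨h, hh, e, he, b, hb, hhx, hx', hpC, ho, hN, hc'⟩ := F.exists_standard hx hp hp3 hc
  obtain ⟨a₁, h₁, a₂, h₂, c₁, c₂, hz⟩ := F.exists_not_commute hfix he hb hx' hpC ho hN hc'
  rw [← hhx] at c₁ c₂
  have back : ∀ a g : G, Commute a (h * g * h⁻¹) → Commute (h⁻¹ * a * h) g := fun a g hag => by
    have h1 := hag.map (MulAut.conj h⁻¹).toMonoidHom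
    simp only [MulEquiv.coe_toMonoidHom, MulAut.conj_apply, inv_inv] at h1
    rwa [show h⁻¹ * (h * g * h⁻¹) * h = g by group] at h1
  refine ⟨h⁻¹ * a₁ * h, S.conj_mem_E' hh h₁.1, h⁻¹ * a₂ * h, S.conj_mem_E' hh h₂.1,
    back _ _ (Subgroup.mem_centralizer_singleton_iff.1 h₁.2),
    back _ _ (Subgroup.mem_centralizer_singleton_iff.1 h₂.2), back _ _ c₁, back _ _ c₂, ?_⟩
  rw [show h⁻¹ * a₁ * h * (h⁻¹ * a₂ * h) * (h⁻¹ * a₁ * h)⁻¹ = h⁻¹ * (a₁ * a₂ * a₁⁻¹) * h by group,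
    hz, ← mul_assoc h⁻¹ z, ← (S.z_commute (inv_mem hh)).eq]
  group

/-- The transported statement of `two_commutator_mem`. -/
theorem special_commutator [Finite G] (hfix : FixFive z P N) {x p : G} (hx : Special π V x)
    (hp : p ∈ ℋ) (hp3 : orderOf p = 3) (hc : Commute p x) {Q : Subgroup G} (hQ : IsPGroup 2 ↥Q)
    (hQc : ∀ a ∈ Q, a ∈ ℋ ∧ Commute a p ∧ Commute a x) {a₁ a₂ : G} (h₁ : a₁ ∈ Q) (h₂ : a₂ ∈ Q) :
    a₁ * a₂ * a₁⁻¹ * a₂⁻¹ ∈ ℰ := by
  have S := F.S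
  obtain ⟨h, hh, e, he, b, hb, hhx, hx', hpC, ho, hN, hc'⟩ := F.exists_standard hx hp hp3 hc
  have := F.two_commutator_mem hfix he hb hx' hpC ho hN hc'
    (hQ.map (MulAut.conj h).toMonoidHom) (by
      rintro _ ⟨a, ha, rfl⟩
      obtain ⟨haH, hap, hax⟩ := hQc a ha
      refine ⟨mul_mem (mul_mem hh haH) (inv_mem hh), hap.map (MulAut.conj h).toMonoidHom, ?_⟩
      rw [← hhx]; exact hax.map (MulAut.conj h).toMonoidHom)
    (Subgroup.mem_map_of_mem _ h₁) (Subgroup.mem_map_of_mem _ h₂)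
  simp only [← map_mul, ← map_inv] at this
  have h1 := S.conj_mem_E' hh this
  simpa [MulAut.conj_apply, mul_assoc] using h1

end FusionData

end CfsgLib.JFour
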