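import Cfsg.Agent.Lib.JFour.Basic
import Cfsg.Agent.Lib.JFour.Three
import Cfsg.Agent.Lib.JFour.Kernels
import Cfsg.Agent.Lib.ThompsonJ.Replacement

/-!
The hexad data give a `HexTransitive` inside a group of Janko-four type: the preimages in `C_H(P)`
of a Sylow 3-subgroup, of the hexad group and of its normalizer.
-/

set_option autoImplicit false
set_option linter.unusedSectionVars false
set_option linter.style.haveILetI false

open Cfsg

namespace CfsgLib.JFour

variable {G : Type*} [Group G] {z : G} {P N : Subgroup G}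

/-- The elements of `C_H(P)` lying over `X`. -/
def preC (P : Subgroup G) (π : ↥(Subgroup.centralizer ({z} : Set G)) →* MulAut ↥Spor.M22)
    (X : Subgroup (MulAut ↥Spor.M22)) : Subgroup G :=
  (X.comap π).map (Subgroup.centralizer ({z} : Set G)).subtype ⊓ Subgroup.centralizer (P : Set G)

theorem mem_preC {π : ↥(Subgroup.centralizer ({z} : Set G)) →* MulAut ↥Spor.M22}
    {X : Subgroup (MulAut ↥Spor.M22)} {g : G} :
    g ∈ preC P π X ↔ (∃ hg : g ∈ Subgroup.centralizer ({z} : Set G), π ⟨g, hg⟩ ∈ X) ∧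
      g ∈ Subgroup.centralizer (P : Set G) := by
  rw [preC, Subgroup.mem_inf]
  refine and_congr_left fun _ => ?_
  constructor
  · rintro ⟨x, hx, rfl⟩
    exact ⟨x.2, hx⟩
  · rintro ⟨hg, hx⟩
    exact ⟨⟨g, hg⟩, hx, rfl⟩

theorem preC_le {π : ↥(Subgroup.centralizer ({z} : Set G)) →* MulAut ↥Spor.M22}
    {X : Subgroup (MulAut ↥Spor.M22)} :
    preC P π X ≤ Subgroup.centralizer ({z} : Set G) ⊓ Subgroup.centralizer (P : Set G) := fun g hg => by
  obtain ⟨⟨h1, -⟩, h2⟩ := mem_preC.1 hg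
  exact ⟨h1, h2⟩

theorem preC_mono {π : ↥(Subgroup.centralizer ({z} : Set G)) →* MulAut ↥Spor.M22}
    {X Y : Subgroup (MulAut ↥Spor.M22)} (hXY : X ≤ Y) : preC P π X ≤ preC P π Y := fun g hg => by
  obtain ⟨⟨h1, h2⟩, h3⟩ := mem_preC.1 hg
  exact mem_preC.2 ⟨⟨h1, hXY h2⟩, h3⟩

namespace Frame

variable {π : ↥(Subgroup.centralizer ({z} : Set G)) →* MulAut ↥Spor.M22}
  {M B : Subgroup (MulAut ↥Spor.M22)} [Finite G] (F : Frame (P := P) (N := N) π M B)
include F

theorem zP_le_preC (X : Subgroup (MulAut ↥Spor.M22)) : Subgroup.zpowers z ⊔ P ≤ preC P π X := by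
  intro g hg
  have hC := F.setting.zP_le_C hg
  refine mem_preC.2 ⟨⟨hC.1, ?_⟩, hC.2⟩
  have hN : g ∈ N := by
    rw [← F.setting.N_inf_normalizer] at hg
    exact hg.1
  rw [(F.setting.pi_eq_one_iff F.ker_eq ⟨g, hC.1⟩).2 hN]
  exact one_mem X

theorem exists_preC_lift {X : Subgroup (MulAut ↥Spor.M22)} (hX : X ≤ Inn ↥Spor.M22)
    {a : MulAut ↥Spor.M22} (ha : a ∈ X) :
    ∃ g, ∃ hg : g ∈ Subgroup.centralizer ({z} : Set G), g ∈ preC P π X ∧ π ⟨g, hg⟩ = a := by
  obtain ⟨⟨c, hc⟩, hca⟩ := F.setting.exists_C_lift F.surj F.ker_eq (hX ha)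
  refine ⟨c, hc.1, mem_preC.2 ⟨⟨hc.1, ?_⟩, hc.2⟩, hca⟩
  rw [show π ⟨c, hc.1⟩ = a from hca]
  exact ha

theorem card_preC {X : Subgroup (MulAut ↥Spor.M22)} (hX : X ≤ Inn ↥Spor.M22) :
    Nat.card ↥(preC P π X) = 6 * Nat.card ↥X := by
  let f : ↥(preC P π X) →* ↥X :=
    { toFun := fun g => ⟨π ⟨g, (preC_le g.2).1⟩, by
        obtain ⟨⟨h1, h2⟩, -⟩ := mem_preC.1 g.2
        exact h2⟩
      map_one' := Subtype.ext (map_one π)
      map_mul' := fun a b => Subtype.ext (map_mul π ⟨(a : G), _⟩ ⟨(b : G), _⟩) }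
  have hs : Function.Surjective f := by
    rintro ⟨a, ha⟩
    obtain ⟨g, hg, hgX, hga⟩ := F.exists_preC_lift hX ha
    exact ⟨⟨g, hgX⟩, Subtype.ext hga⟩
  have hk : f.ker = (Subgroup.zpowers z ⊔ P).subgroupOf (preC P π X) := by
    ext g
    rw [MonoidHom.mem_ker, Subgroup.mem_subgroupOf, ← F.setting.N_inf_normalizer, Subgroup.mem_inf,
      ← F.setting.pi_eq_one_iff F.ker_eq ⟨(g : G), (preC_le g.2).1⟩]
    refine ⟨fun h => ⟨congrArg Subtype.val h, Subgroup.centralizer_le_normalizer _ (preC_le g.2).2⟩,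
      fun h => Subtype.ext h.1⟩
  have h := Subgroup.card_eq_card_quotient_mul_card_subgroup f.ker
  rw [Nat.card_congr (QuotientGroup.quotientKerEquivOfSurjective f hs).toEquiv, hk,
    Nat.card_congr (Subgroup.subgroupOfEquivOfLe (F.zP_le_preC X)).toEquiv, F.setting.card_zP] at h
  rw [h, mul_comm]

theorem preC_conj {X Y : Subgroup (MulAut ↥Spor.M22)}
    (hXY : ∀ a ∈ X, ∀ b ∈ Y, a * b * a⁻¹ ∈ Y) {m x : G} (hm : m ∈ preC P π X)
    (hx : x ∈ preC P π Y) : m * x * m⁻¹ ∈ preC P π Y := by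
  obtain ⟨⟨hm1, hm2⟩, hm3⟩ := mem_preC.1 hm
  obtain ⟨⟨hx1, hx2⟩, hx3⟩ := mem_preC.1 hx
  refine mem_preC.2 ⟨⟨mul_mem (mul_mem hm1 hx1) (inv_mem hm1), ?_⟩, mul_mem (mul_mem hm3 hx3) (inv_mem hm3)⟩
  have : π ⟨m * x * m⁻¹, mul_mem (mul_mem hm1 hx1) (inv_mem hm1)⟩ =
      π ⟨m, hm1⟩ * π ⟨x, hx1⟩ * (π ⟨m, hm1⟩)⁻¹ := by
    rw [← map_inv, ← map_mul, ← map_mul]; rfl
  rw [this]
  exact hXY _ hm2 _ hx2

/-- The hexad data lift to `C_H(P)`. -/
theorem exists_hexTransitive :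
    ∃ R W : Subgroup G,
      HexTransitive (twoCoreOfCentralizer z) R P W (preC P π (M ⊓ Inn ↥Spor.M22)) z ∧
      W ≤ preC P π B ∧ (∀ g ∈ preC P π B, ∃ w ∈ W, ∃ p ∈ P, g = w * p) ∧
      (∀ x, x ∈ W ↔ x ∈ preC P π B ∧ x ^ 32 = 1) ∧
      (∀ b ∈ B, ∃ w, ∃ hw : w ∈ Subgroup.centralizer ({z} : Set G), w ∈ W ∧ π ⟨w, hw⟩ = b) := by
  classical
  haveI : Fact (Nat.Prime 2) := ⟨Nat.prime_two⟩
  haveI : Fact (Nat.Prime 3) := ⟨Nat.prime_three⟩
  haveI : Finite (MulAut ↥Spor.M22) :=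
    Nat.finite_of_card_ne_zero (by rw [card_mulAut_mTwentyTwo]; norm_num)
  have S := F.setting
  have hH := F.hexad
  set I : Subgroup (MulAut ↥Spor.M22) := Inn ↥Spor.M22 with hI
  set E : Subgroup G := twoCoreOfCentralizer z with hE
  set M0 : Subgroup G := preC P π (M ⊓ I) with hM0def
  set XB : Subgroup G := preC P π B with hXB
  have hBM : B ≤ M ⊓ I := le_inf (hH.M_eq ▸ Subgroup.le_normalizer) hH.B_le
  have hPc : ∀ g ∈ Subgroup.centralizer (P : Set G), ∀ p ∈ P, g * p = p * g := fun g hg p hp =>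
    (Subgroup.mem_centralizer_iff.1 hg p hp).symm
  have hgz : ∀ g ∈ Subgroup.centralizer ({z} : Set G), g * z = z * g := fun g hg =>
    (Subgroup.mem_centralizer_iff.1 hg z rfl).symm
  have hp3 : ∀ p ∈ P, p ^ 3 = 1 := fun p hp => by
    have : (⟨p, hp⟩ : ↥P) ^ Nat.card ↥P = 1 := pow_card_eq_one'
    rw [S.cardP] at this
    simpa using congrArg Subtype.val this
  have hPXB : P ≤ XB := le_trans le_sup_right (F.zP_le_preC B)
  -- the Sylow 2-subgroup `W` of the preimage of the hexad group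
  have hXBcard : Nat.card ↥XB = 96 := by rw [hXB, F.card_preC hH.B_le, hH.B_card]
  set T : Sylow 2 ↥XB := default
  set W : Subgroup G := (T : Subgroup ↥XB).map XB.subtype with hWdef
  have hWXB : W ≤ XB := Subgroup.map_subtype_le _
  have hWcard : Nat.card ↥W = 32 := by
    rw [hWdef, Subgroup.card_map_of_injective XB.subtype_injective, Sylow.card_eq_multiplicity, hXBcard,
      show (96 : ℕ) = 2 ^ 5 * 3 by norm_num, Nat.factorization_mul (by norm_num) (by norm_num),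
      Finsupp.add_apply, Nat.Prime.factorization_pow Nat.prime_two, Finsupp.single_eq_same,
      Nat.prime_three.factorization, Finsupp.single_eq_of_ne (by norm_num)]
    norm_num
  have hW32 : ∀ w ∈ W, w ^ 32 = 1 := fun w hw => by
    have : (⟨w, hw⟩ : ↥W) ^ Nat.card ↥W = 1 := pow_card_eq_one'
    rw [hWcard] at this
    simpa using congrArg Subtype.val this
  have hWP : W ≤ Subgroup.normalizer (P : Set G) :=
    fun w hw => Subgroup.centralizer_le_normalizer _ (preC_le (hWXB hw)).2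
  have hXBeq : W ⊔ P = XB := by
    refine Subgroup.eq_of_le_of_card_ge (sup_le hWXB hPXB) ?_
    have h1 := CfsgLib.ThompsonJ.card_sup_mul_card_inf W P hWP
    have h2 : W ⊓ P = ⊥ := by
      refine Subgroup.inf_eq_bot_of_coprime ?_
      rw [hWcard, S.cardP]; norm_num
    rw [h2, Subgroup.card_bot, mul_one, hWcard, S.cardP] at h1
    rw [hXBcard]
    omega
  have hsplit : ∀ g ∈ XB, ∃ w ∈ W, ∃ p ∈ P, g = w * p := by
    intro g hg
    rw [← hXBeq, ← SetLike.mem_coe, Subgroup.coe_mul_of_left_le_normalizer_right _ _ hWP] at hg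
    obtain ⟨w, hw, p, hp, rfl⟩ := hg
    exact ⟨w, hw, p, hp, rfl⟩
  have hmemW : ∀ x, x ∈ W ↔ x ∈ XB ∧ x ^ 32 = 1 := by
    refine fun x => ⟨fun hx => ⟨hWXB hx, hW32 x hx⟩, fun ⟨hx, hx32⟩ => ?_⟩
    obtain ⟨w, hw, p, hp, rfl⟩ := hsplit x hx
    have hc : Commute w p := hPc w (preC_le (hWXB hw)).2 p hp
    rw [hc.mul_pow, hW32 w hw, one_mul] at hx32
    have : p = 1 := by
      have h2 : p ^ 2 = 1 := by
        rw [show (32 : ℕ) = 3 * 10 + 2 from rfl, pow_add, pow_mul, hp3 p hp, one_pow, one_mul] at hx32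
        exact hx32
      have h3 := hp3 p hp
      rwa [pow_succ, h2, one_mul] at h3
    rw [this, mul_one]; exact hw
  have hM0C : M0 ≤ Subgroup.centralizer ({z} : Set G) ⊓ Subgroup.centralizer (P : Set G) := preC_le
  have hXB_M0 : XB ≤ M0 := preC_mono hBM
  have hMconj : ∀ a ∈ M ⊓ I, ∀ b ∈ B, a * b * a⁻¹ ∈ B := fun a ha b hb =>
    (Subgroup.mem_normalizer_iff.1 (hH.M_eq ▸ ha.1 : a ∈ Subgroup.normalizer (B : Set _)) b).1 hb
  have hWconj : ∀ m ∈ M0, ∀ w ∈ W, m * w * m⁻¹ ∈ W := by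
    intro m hm w hw
    refine (hmemW _).2 ⟨F.preC_conj hMconj hm (hWXB hw), ?_⟩
    rw [conj_pow, hW32 w hw, mul_one, mul_inv_cancel]
  have hzW : z ∈ W := by
    refine (hmemW z).2 ⟨F.zP_le_preC B (Subgroup.mem_sup_left (Subgroup.mem_zpowers z)), ?_⟩
    rw [show (32 : ℕ) = 2 * 16 from rfl, pow_mul, pow_two, S.z_mul_self, one_pow]
  -- `π` on `W`
  have hWlift : ∀ b ∈ B, ∃ w, ∃ hw : w ∈ Subgroup.centralizer ({z} : Set G), w ∈ W ∧ π ⟨w, hw⟩ = b := by
    intro b hb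
    obtain ⟨g, hg, hgX, hgb⟩ := F.exists_preC_lift hH.B_le hb
    obtain ⟨w, hw, p, hp, rfl⟩ := hsplit g hgX
    refine ⟨w, (preC_le (hWXB hw)).1, hw, ?_⟩
    have hp1 : π ⟨p, S.P_le_H hp⟩ = 1 := (S.pi_eq_one_iff F.ker_eq _).2 (S.P_le hp)
    rw [← hgb, show (⟨w * p, hg⟩ : ↥(Subgroup.centralizer ({z} : Set G))) =
      ⟨w, (preC_le (hWXB hw)).1⟩ * ⟨p, S.P_le_H hp⟩ from rfl, map_mul, hp1, mul_one]
  have hker : ∀ w ∈ W, ∀ hw : w ∈ Subgroup.centralizer ({z} : Set G), π ⟨w, hw⟩ = 1 →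
      w ∈ Subgroup.zpowers z := by
    intro w hw hwH hw1
    have hN : w ∈ N ⊓ Subgroup.normalizer (P : Set G) :=
      ⟨(S.pi_eq_one_iff F.ker_eq _).1 hw1, hWP hw⟩
    rw [S.N_inf_normalizer] at hN
    have hle : P ≤ Subgroup.normalizer (Subgroup.zpowers z : Set G) := by
      intro p hp
      refine Subgroup.centralizer_le_normalizer _ (Subgroup.mem_centralizer_iff.2 fun x hx => ?_)
      rcases S.mem_zpowers_iff.1 hx with rfl | rfl
      · simp
      · exact (hgz p (S.P_le_H hp)).symm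
    rw [← SetLike.mem_coe, Subgroup.coe_mul_of_right_le_normalizer_left _ _ hle] at hN
    obtain ⟨y, hy, p, hp, hypw⟩ := hN
    have hw2 := hW32 w hw
    rw [← hypw] at hw2
    have hc : Commute y p := by
      rcases S.mem_zpowers_iff.1 hy with rfl | rfl
      · exact Commute.one_left p
      · exact (hgz p (S.P_le_H hp)).symm
    have hy32 : y ^ 32 = 1 := by
      rcases S.mem_zpowers_iff.1 hy with rfl | rfl
      · simp
      · rw [show (32 : ℕ) = 2 * 16 from rfl, pow_mul, pow_two, S.z_mul_self, one_pow]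
    rw [hc.mul_pow, hy32, one_mul, show (32 : ℕ) = 3 * 10 + 2 from rfl, pow_add, pow_mul,
      hp3 p hp, one_pow, one_mul] at hw2
    have h3 := hp3 p hp
    rw [pow_succ, hw2, one_mul] at h3
    rw [← hypw, h3]
    simpa using hy
  have hπW : ∀ w ∈ W, ∀ hw : w ∈ Subgroup.centralizer ({z} : Set G), π ⟨w, hw⟩ ∈ B := fun w hw _ => by
    obtain ⟨⟨_, h2⟩, -⟩ := mem_preC.1 (hWXB hw)
    exact h2
  have hsqz : ∀ w ∈ W, w * w = 1 ∨ w * w = z := by
    intro w hw
    have hwH := (preC_le (hWXB hw)).1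
    refine S.mem_zpowers_iff.1 (hker (w * w) (mul_mem hw hw) (mul_mem hwH hwH) ?_)
    rw [show (⟨w * w, mul_mem hwH hwH⟩ : ↥(Subgroup.centralizer ({z} : Set G))) =
      ⟨w, hwH⟩ * ⟨w, hwH⟩ from rfl, map_mul, ← pow_two]
    exact hH.B_elem.2 _ (hπW w hw hwH)
  have hWz : ∀ w ∈ W, w * z = z * w := fun w hw => hgz w (preC_le (hWXB hw)).1
  have htrans : ∀ a ∈ W, a ∉ Subgroup.zpowers z → ∀ b ∈ W, b ∉ Subgroup.zpowers z →
      ∃ m ∈ M0, m * a * m⁻¹ = b ∨ m * a * m⁻¹ = z * b := by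
    intro a ha haz b hb hbz
    have haH := (preC_le (hWXB ha)).1
    have hbH := (preC_le (hWXB hb)).1
    obtain ⟨g, hg, hgab⟩ := hH.conj_B _ (hπW a ha haH) (fun e => haz (hker a ha haH e))
      _ (hπW b hb hbH) (fun e => hbz (hker b hb hbH e))
    obtain ⟨m, hmH, hmM, hmg⟩ := F.exists_preC_lift (X := M ⊓ I) inf_le_right hg
    refine ⟨m, hmM, ?_⟩
    have hcW : m * a * m⁻¹ * b⁻¹ ∈ W := mul_mem (hWconj m hmM a ha) (inv_mem hb)
    have hcH : m * a * m⁻¹ * b⁻¹ ∈ Subgroup.centralizer ({z} : Set G) := (preC_le (hWXB hcW)).1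
    have h1 : π ⟨m * a * m⁻¹ * b⁻¹, hcH⟩ = 1 := by
      rw [show (⟨m * a * m⁻¹ * b⁻¹, hcH⟩ : ↥(Subgroup.centralizer ({z} : Set G))) =
        ⟨m, hmH⟩ * ⟨a, haH⟩ * ⟨m, hmH⟩⁻¹ * ⟨b, hbH⟩⁻¹ from rfl, map_mul, map_mul, map_mul, map_inv,
        map_inv, hmg, hgab, mul_inv_cancel]
    rcases S.mem_zpowers_iff.1 (hker _ hcW hcH h1) with e | e
    · exact Or.inl (mul_inv_eq_one.1 e)
    · exact Or.inr (mul_inv_eq_iff_eq_mul.1 e)
  -- a square root
  have hroot : ∃ v ∈ M0, v * v ∈ W ∧ v * v ∉ Subgroup.zpowers z := by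
    obtain ⟨v₀, hv₀, hv₀4⟩ := hH.exists_four
    have h2 : orderOf (v₀ ^ 2) = 2 := by
      rw [orderOf_pow, hv₀4]; norm_num
    obtain ⟨g, hg, hgB⟩ := hH.conj_inv _ (pow_mem hv₀ 2) h2
    have hne : g * v₀ ^ 2 * g⁻¹ ≠ 1 := by
      rw [Ne, conj_eq_one_iff]
      intro e; rw [e, orderOf_one] at h2; norm_num at h2
    have hv₁ : g * v₀ * g⁻¹ ∈ M ⊓ I := by
      refine ⟨hH.cen_inv _ hgB hne (Subgroup.mem_centralizer_singleton_iff.2 ?_),
        I.mul_mem (I.mul_mem hg hv₀) (I.inv_mem hg)⟩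
      rw [pow_two]; group
    obtain ⟨v, hvH, hvM, hvv⟩ := F.exists_preC_lift (X := M ⊓ I) inf_le_right hv₁
    have hπv : π ⟨v * v, mul_mem hvH hvH⟩ = g * v₀ ^ 2 * g⁻¹ := by
      rw [show (⟨v * v, mul_mem hvH hvH⟩ : ↥(Subgroup.centralizer ({z} : Set G))) =
        ⟨v, hvH⟩ * ⟨v, hvH⟩ from rfl, map_mul, hvv, pow_two]
      group
    have hvXB : v * v ∈ XB :=
      mem_preC.2 ⟨⟨mul_mem hvH hvH, by rw [hπv]; exact hgB⟩, mul_mem (hM0C hvM).2 (hM0C hvM).2⟩
    have h6 : v ^ 3 * v ^ 3 ∈ W := by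
      refine (hmemW _).2 ⟨?_, ?_⟩
      · rw [← pow_add, show 3 + 3 = 2 * 3 from rfl, pow_mul, pow_two]
        exact pow_mem hvXB 3
      · have h96 : (⟨v * v, hvXB⟩ : ↥XB) ^ Nat.card ↥XB = 1 := pow_card_eq_one'
        rw [hXBcard] at h96
        have := congrArg Subtype.val h96
        rw [← pow_add, show 3 + 3 = 2 * 3 from rfl, pow_mul, ← pow_mul, pow_two]
        simpa using this
    refine ⟨v ^ 3, pow_mem hvM 3, h6, fun hz => hne ?_⟩
    have hz1 : π ⟨v ^ 3 * v ^ 3, mul_mem (pow_mem hvH 3) (pow_mem hvH 3)⟩ = 1 :=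
      (S.pi_eq_one_iff F.ker_eq _).2 (S.E_le_N (Subgroup.zpowers_le.2 S.z_mem_E hz))
    have h3 : π ⟨v ^ 3 * v ^ 3, mul_mem (pow_mem hvH 3) (pow_mem hvH 3)⟩ = (g * v₀ ^ 2 * g⁻¹) ^ 3 := by
      rw [← hπv, ← map_pow]
      congr 1
      apply Subtype.ext
      show v ^ 3 * v ^ 3 = (v * v) ^ 3
      rw [← pow_add, ← pow_two, ← pow_mul]
    have hb2 : (g * v₀ ^ 2 * g⁻¹) ^ 2 = 1 := hH.B_elem.2 _ hgB
    rw [hz1, pow_succ, hb2, one_mul] at h3
    exact h3.symm
  -- exponent two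
  have hWsq : ∀ w ∈ W, w * w = 1 := by
    by_contra hcon
    push Not at hcon
    obtain ⟨w₀, hw₀, hne⟩ := hcon
    have hw₀z : w₀ * w₀ = z := (hsqz w₀ hw₀).resolve_left hne
    have hw₀Z : w₀ ∉ Subgroup.zpowers z := by
      intro h
      rcases S.mem_zpowers_iff.1 h with e | e <;> rw [e] at hne
      · exact hne (one_mul 1)
      · exact hne S.z_mul_self
    have hall : ∀ w ∈ W, w ∉ Subgroup.zpowers z → w * w = z := by
      intro w hw hwz
      obtain ⟨m, hm, hmw⟩ := htrans w₀ hw₀ hw₀Z w hw hwz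
      have hmz : m * z * m⁻¹ = z := mul_inv_eq_iff_eq_mul.2 (hgz m (hM0C hm).1)
      have h1 : (m * w₀ * m⁻¹) * (m * w₀ * m⁻¹) = z := by
        calc (m * w₀ * m⁻¹) * (m * w₀ * m⁻¹) = m * (w₀ * w₀) * m⁻¹ := by group
          _ = z := by rw [hw₀z, hmz]
      rcases hmw with e | e <;> rw [e] at h1
      · exact h1
      · rw [show z * w * (z * w) = z * (w * z) * w by group, hWz w hw,
          show z * (z * w) * w = (z * z) * (w * w) by group, S.z_mul_self, one_mul] at h1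
        exact h1
    have hanti : ∀ a ∈ W, ∀ b ∈ W, a ∉ Subgroup.zpowers z → b ∉ Subgroup.zpowers z →
        a * b ∉ Subgroup.zpowers z → b * a = z * (a * b) := by
      intro a ha b hb h1 h2 h3
      have e3 := hall _ (mul_mem ha hb) h3
      calc b * a = a⁻¹ * (a * b * (a * b)) * b⁻¹ := by group
        _ = a⁻¹ * z * b⁻¹ := by rw [e3]
        _ = a⁻¹ * ((a * a) * ((a * a) * (b * b))) * b⁻¹ := by
          rw [hall a ha h1, hall b hb h2, S.z_mul_self, mul_one]
        _ = a⁻¹ * (a * a) * a * (a * b) := by group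
        _ = z * (a * b) := by
          rw [← hall a ha h1]
          group
    -- three independent elements
    have hex : ∀ L : Finset G, L.card ≤ 8 → ∃ w ∈ W, w ∉ L := by
      intro L hL
      by_contra hcon
      push Not at hcon
      haveI := Fintype.ofFinite G
      have h32 : Nat.card ↥W ≤ L.card := by
        rw [Nat.card_eq_fintype_card, ← Fintype.card_coe]
        exact Fintype.card_le_of_injective (fun w => (⟨(w : G), hcon _ w.2⟩ : ↥L))
          fun x y e => Subtype.ext (congrArg (fun t : ↥L => (t : G)) e)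
      omega
    obtain ⟨b, hb, hbL⟩ := hex {1, z, w₀, w₀ * z} (Finset.card_le_four.trans (by norm_num))
    simp only [Finset.mem_insert, Finset.mem_singleton, not_or] at hbL
    have hzi : z⁻¹ = z := S.z_inv
    have hbz : b ∉ Subgroup.zpowers z := fun h => by
      rcases S.mem_zpowers_iff.1 h with e | e
      · exact hbL.1 e
      · exact hbL.2.1 e
    have hw₀i : w₀⁻¹ = w₀ * z := by
      refine inv_eq_of_mul_eq_one_right ?_
      rw [← mul_assoc, hw₀z, S.z_mul_self]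
    have hab : w₀ * b ∉ Subgroup.zpowers z := fun h => by
      rcases S.mem_zpowers_iff.1 h with e | e
      · exact hbL.2.2.2 ((eq_inv_of_mul_eq_one_right e).trans hw₀i)
      · refine hbL.2.2.1 ?_
        calc b = w₀⁻¹ * (w₀ * b) := (inv_mul_cancel_left _ _).symm
          _ = w₀ * z * z := by rw [e, hw₀i]
          _ = w₀ := by rw [mul_assoc, S.z_mul_self, mul_one]
    obtain ⟨c, hc, hcL⟩ := hex {1, z, w₀, w₀ * z, b, b * z, w₀ * b, w₀ * b * z} ((Finset.card_insert_le _ _).trans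
      (Nat.succ_le_succ ((Finset.card_insert_le _ _).trans (Nat.succ_le_succ
        ((Finset.card_insert_le _ _).trans (Nat.succ_le_succ ((Finset.card_insert_le _ _).trans
          (Nat.succ_le_succ Finset.card_le_four))))))))
    simp only [Finset.mem_insert, Finset.mem_singleton, not_or] at hcL
    obtain ⟨hc1, hcz', hca, hcaz, hcb, hcbz, hcab, hcabz⟩ := hcL
    have hcz : c ∉ Subgroup.zpowers z := fun h => by
      rcases S.mem_zpowers_iff.1 h with e | e
      · exact hc1 e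
      · exact hcz' e
    have hmulz : ∀ x ∈ W, x ∉ Subgroup.zpowers z → ∀ y, x * y ∈ Subgroup.zpowers z → y = x ∨ y = x * z := by
      intro x hx hxz y hy
      have hxi : x⁻¹ = x * z := by
        refine inv_eq_of_mul_eq_one_right ?_
        rw [← mul_assoc, hall x hx hxz, S.z_mul_self]
      rcases S.mem_zpowers_iff.1 hy with e | e
      · exact Or.inr ((eq_inv_of_mul_eq_one_right e).trans hxi)
      · left
        calc y = x⁻¹ * (x * y) := (inv_mul_cancel_left _ _).symm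
          _ = x * z * z := by rw [e, hxi]
          _ = x := by rw [mul_assoc, S.z_mul_self, mul_one]
    have hac : w₀ * c ∉ Subgroup.zpowers z := fun h =>
      (hmulz w₀ hw₀ hw₀Z c h).elim hca hcaz
    have hbc : b * c ∉ Subgroup.zpowers z := fun h => (hmulz b hb hbz c h).elim hcb hcbz
    have habc : w₀ * (b * c) ∉ Subgroup.zpowers z := by
      rw [← mul_assoc]
      exact fun h => (hmulz (w₀ * b) (mul_mem hw₀ hb) hab c h).elim hcab hcabz
    have e1 := hanti w₀ hw₀ b hb hw₀Z hbz hab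
    have e2 := hanti w₀ hw₀ c hc hw₀Z hcz hac
    have e3 := hanti w₀ hw₀ (b * c) (mul_mem hb hc) hw₀Z hbc habc
    have e4 : b * c * w₀ = w₀ * (b * c) := by
      calc b * c * w₀ = b * (z * (w₀ * c)) := by rw [mul_assoc, e2]
        _ = (b * z) * w₀ * c := by group
        _ = z * (b * w₀) * c := by rw [hWz b hb]; group
        _ = w₀ * (b * c) := by rw [e1, ← mul_assoc z z, S.z_mul_self, one_mul, mul_assoc]
    rw [e4] at e3
    exact S.z_ne_one (by simpa using e3.symm)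
  -- the Sylow 3-subgroup
  obtain ⟨Rb, hRb, hRbc, hRbexp, -, -, -⟩ := hH.syl_three
  set XR : Subgroup G := preC P π Rb
  have hXRcard : Nat.card ↥XR = 54 := by rw [F.card_preC (hRb.trans inf_le_right), hRbc]
  set T3 : Sylow 3 ↥XR := default
  set R : Subgroup G := (T3 : Subgroup ↥XR).map XR.subtype with hRdef
  have hRXR : R ≤ XR := Subgroup.map_subtype_le _
  have hRcard : Nat.card ↥R = 27 := by
    rw [hRdef, Subgroup.card_map_of_injective XR.subtype_injective, Sylow.card_eq_multiplicity, hXRcard,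
      show (54 : ℕ) = 2 * 3 ^ 3 by norm_num, Nat.factorization_mul (by norm_num) (by norm_num),
      Finsupp.add_apply, Nat.Prime.factorization_pow Nat.prime_three, Finsupp.single_eq_same,
      Nat.prime_two.factorization, Finsupp.single_eq_of_ne (by norm_num)]
    norm_num
  have hPR : P ≤ R := by
    have hPX : P ≤ XR := le_trans le_sup_right (F.zP_le_preC Rb)
    have hn : R ≤ Subgroup.normalizer (P : Set G) := fun r hr =>
      Subgroup.centralizer_le_normalizer _ (preC_le (hRXR hr)).2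
    have h1 := CfsgLib.ThompsonJ.card_sup_mul_card_inf R P hn
    have h2 : Nat.card ↥(R ⊔ P) ∣ 54 := hXRcard ▸ Subgroup.card_dvd_of_le (sup_le hRXR hPX)
    have h3 : 27 ∣ Nat.card ↥(R ⊔ P) := hRcard ▸ Subgroup.card_dvd_of_le le_sup_left
    have h4 : Nat.card ↥(R ⊓ P) ∣ 3 := S.cardP ▸ Subgroup.card_dvd_of_le inf_le_right
    rw [hRcard, S.cardP] at h1
    have h5 : Nat.card ↥(R ⊓ P) = 3 := by
      rcases (Nat.dvd_prime Nat.prime_three).1 h4 with e | e
      · rw [e, mul_one] at h1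
        rw [h1] at h2
        norm_num at h2
      · exact e
    exact (Subgroup.eq_of_le_of_card_ge inf_le_right (by rw [h5, S.cardP])).ge.trans inf_le_left
  have hRM0 : R ≤ M0 := hRXR.trans (preC_mono hRb)
  have hRC : R ≤ Subgroup.centralizer ({z} : Set G) ⊓ Subgroup.centralizer (P : Set G) :=
    hRM0.trans hM0C
  have hcentre : ∀ r ∈ R, (∀ s ∈ R, r * s = s * r) → r ∈ P := by
    obtain ⟨R', hR'C, hPR', hR'card, hR'ex, -, -, -, -⟩ := S.exists_sylow_three hH
    set Cs := Subgroup.centralizer ({z} : Set G) ⊓ Subgroup.centralizer (P : Set G)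
    have hfac : (Nat.card ↥Cs).factorization 3 = 3 := by
      rw [S.card_C, show (2661120 : ℕ) = 98560 * 3 ^ 3 by norm_num,
        Nat.factorization_mul (by norm_num) (by norm_num), Finsupp.add_apply,
        Nat.Prime.factorization_pow Nat.prime_three, Finsupp.single_eq_same,
        Nat.factorization_eq_zero_of_not_dvd (by norm_num : ¬ 3 ∣ 98560)]
    let S1 : Sylow 3 ↥Cs := Sylow.ofCard (R.subgroupOf Cs)
      (by rw [Nat.card_congr (Subgroup.subgroupOfEquivOfLe hRC).toEquiv, hRcard, hfac]; norm_num)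
    let S2 : Sylow 3 ↥Cs := Sylow.ofCard (R'.subgroupOf Cs)
      (by rw [Nat.card_congr (Subgroup.subgroupOfEquivOfLe hR'C).toEquiv, hR'card, hfac]; norm_num)
    obtain ⟨c, hc⟩ := MulAction.exists_smul_eq ↥Cs S1 S2
    have hmem : ∀ x : G, ∀ hx : x ∈ Cs, x ∈ R ↔ (c : G) * x * (c : G)⁻¹ ∈ R' := by
      intro x hx
      have h1 : (⟨x, hx⟩ : ↥Cs) ∈ (S1 : Subgroup ↥Cs) ↔ MulAut.conj c ⟨x, hx⟩ ∈ (S2 : Subgroup ↥Cs) := by
        rw [← hc, Sylow.coe_subgroup_smul]
        exact (Subgroup.smul_mem_pointwise_smul_iff (a := MulAut.conj c)).symm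
      exact h1
    have hcP : ∀ p ∈ P, (c : G) * p * (c : G)⁻¹ = p := fun p hp =>
      mul_inv_eq_iff_eq_mul.2 (hPc _ c.2.2 p hp)
    have hcen : Subgroup.center ↥R' = P.subgroupOf R' := by
      symm
      refine Subgroup.eq_of_le_of_card_ge (fun p hp => Subgroup.mem_center_iff.2 fun y => Subtype.ext ?_) ?_
      · exact hPc y (hR'C y.2).2 p hp
      · rw [hR'ex.2, Nat.card_congr (Subgroup.subgroupOfEquivOfLe hPR').toEquiv, S.cardP]
    intro r hr hcomm
    have hr' : (c : G) * r * (c : G)⁻¹ ∈ R' := (hmem r (hRC hr)).1 hr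
    have hzr : (⟨_, hr'⟩ : ↥R') ∈ Subgroup.center ↥R' := by
      refine Subgroup.mem_center_iff.2 fun y => Subtype.ext ?_
      show (y : G) * ((c : G) * r * (c : G)⁻¹) = (c : G) * r * (c : G)⁻¹ * y
      have hy : (c : G)⁻¹ * y * c ∈ Cs := mul_mem (mul_mem (inv_mem c.2) (hR'C y.2)) c.2
      have hyR : (c : G)⁻¹ * y * c ∈ R := (hmem _ hy).2 (by
        rw [show (c : G) * ((c : G)⁻¹ * y * c) * (c : G)⁻¹ = y by group]
        exact y.2)
      calc (y : G) * ((c : G) * r * (c : G)⁻¹) = c * (((c : G)⁻¹ * y * c) * r) * (c : G)⁻¹ := by group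
        _ = c * (r * ((c : G)⁻¹ * y * c)) * (c : G)⁻¹ := by rw [hcomm _ hyR]
        _ = (c : G) * r * (c : G)⁻¹ * y := by group
    rw [hcen, Subgroup.mem_subgroupOf] at hzr
    have h2 : r = (c : G) * r * (c : G)⁻¹ := by
      have := hcP _ hzr
      have h3 : (c : G) * r * (c : G)⁻¹ = r := by simpa using this
      exact h3.symm
    rw [h2]; exact hzr
  -- small actions
  have hsmall : ∀ n < 6, ∀ f : ↥M0 →* Equiv.Perm (Fin n),
      (∀ m : ↥M0, (m : G) ∈ W → f m = 1) → (∀ m : ↥M0, (m : G) ∈ P → f m = 1) → f = 1 := by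
    intro n hn f hfW hfP
    obtain ⟨q, hqs, hqker, hqalt⟩ := hH.hexad
    have hmI : ∀ m : ↥M0, π ⟨(m : G), (hM0C m.2).1⟩ ∈ M ⊓ I := fun m => by
      obtain ⟨⟨_, h2⟩, -⟩ := mem_preC.1 m.2
      exact h2
    let g : ↥M0 →* ↥(alternatingGroup (Fin 6)) :=
      { toFun := fun m => ⟨q ⟨π ⟨(m : G), (hM0C m.2).1⟩, (hmI m).1⟩, by
          rw [← hqalt]
          exact ⟨_, (hmI m).2, rfl⟩⟩
        map_one' := Subtype.ext (by
          show q ⟨π ⟨(1 : G), _⟩, _⟩ = 1
          rw [← map_one q]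
          congr 1
          exact Subtype.ext (map_one π))
        map_mul' := fun a b => Subtype.ext (by
          show q ⟨π ⟨((a * b : ↥M0) : G), _⟩, _⟩ = q _ * q _
          rw [← map_mul]
          congr 1
          exact Subtype.ext (map_mul π ⟨(a : G), (hM0C a.2).1⟩ ⟨(b : G), (hM0C b.2).1⟩)) }
    have hgs : Function.Surjective g := by
      rintro ⟨a, ha⟩
      rw [← hqalt] at ha
      obtain ⟨⟨x, hxM⟩, hxI, rfl⟩ := ha
      obtain ⟨m, hmH, hmM, hmx⟩ := F.exists_preC_lift (X := M ⊓ I) inf_le_right ⟨hxM, hxI⟩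
      exact ⟨⟨m, hmM⟩, Subtype.ext (congrArg q (Subtype.ext hmx))⟩
    have hgker : g.ker ≤ f.ker := by
      intro m hm
      have h1 : q ⟨π ⟨(m : G), (hM0C m.2).1⟩, (hmI m).1⟩ = 1 := congrArg Subtype.val hm
      rw [← MonoidHom.mem_ker, hqker, Subgroup.mem_subgroupOf] at h1
      obtain ⟨w, hw, p, hp, hwp⟩ := hsplit (m : G) (mem_preC.2 ⟨⟨_, h1⟩, (hM0C m.2).2⟩)
      have hwM : w ∈ M0 := hXB_M0 (hWXB hw)
      have hpM : p ∈ M0 := hXB_M0 (hPXB hp)
      rw [MonoidHom.mem_ker, show m = (⟨w, hwM⟩ : ↥M0) * ⟨p, hpM⟩ from Subtype.ext hwp, map_mul,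
        hfW ⟨w, hwM⟩ hw, hfP ⟨p, hpM⟩ hp, one_mul]
    let h : ↥(alternatingGroup (Fin 6)) →* Equiv.Perm (Fin n) :=
      (g.liftOfSurjective hgs) ⟨f, hgker⟩
    haveI : IsSimpleGroup ↥(alternatingGroup (Fin 6)) := alternatingGroup.isSimpleGroup (by simp)
    have hh : ∀ a, h a = 1 := by
      rcases IsSimpleGroup.eq_bot_or_eq_top_of_normal h.ker inferInstance with e | e
      · exfalso
        have hle := Nat.card_le_card_of_injective h (h.ker_eq_bot_iff.1 e)
        rw [nat_card_alternatingGroup, Nat.card_perm, Nat.card_fin, Nat.card_fin] at hle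
        have h120 : Nat.factorial n ≤ Nat.factorial 5 := Nat.factorial_le (by omega)
        have e5 : Nat.factorial 5 = 120 := rfl
        have e6 : Nat.factorial 6 = 720 := rfl
        omega
      · intro a
        exact MonoidHom.mem_ker.1 (e ▸ Subgroup.mem_top a)
    ext1 m
    have h2 : h (g m) = f m := g.liftOfRightInverse_comp_apply _ _ ⟨f, hgker⟩ m
    rw [← h2, hh, MonoidHom.one_apply]
  refine ⟨R, W, ?_, hWXB, hsplit, hmemW, hWlift⟩
  refine
    { z_ne := S.z_ne_one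
      z_sq := S.z_mul_self
      z_mem := S.z_mem_E
      card_E := S.cardE
      P_le := hPR
      card_R := hRcard
      card_P := S.cardP
      centre := hcentre
      P_central := fun p hp s hs => (hPc s (hRC hs).2 p hp).symm
      R_norm := fun r hr e he => S.conj_mem_E (hRC hr).1 he
      R_z := fun r hr => hgz r (hRC hr).1
      fix := ?_
      comm_E := ?_
      sq_E := fun a ha => S.mem_zpowers_iff.1 (S.sq_mem ha)
      center_E := ?_
      z_W := hzW
      card_W := hWcard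
      W_norm := fun w hw e he => S.conj_mem_E (preC_le (hWXB hw)).1 he
      W_z := hWz
      W_P := fun w hw p hp => hPc w (preC_le (hWXB hw)).2 p hp
      R_W := fun r hr w hw => hWconj r (hRM0 hr) w hw
      W_faith := ?_
      W_sq := hWsq
      R_M0 := hRM0
      W_M0 := hWXB.trans hXB_M0
      M0_P := fun m hm p hp => hPc m (hM0C hm).2 p hp
      M0_z := fun m hm => hgz m (hM0C hm).1
      M0_E := fun m hm e he => S.conj_mem_E (hM0C hm).1 he
      M0_W := hWconj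
      root := hroot
      trans := htrans
      small := hsmall }
  · intro e he hc
    refine S.mem_zpowers_iff.1 ?_
    rw [← S.fixP]
    exact ⟨he, Subgroup.mem_centralizer_iff.2 hc⟩
  · intro a ha b hb
    rw [commutatorElement_def]
    exact S.mem_zpowers_iff.1 (S.commutator_mem ha hb)
  · intro a ha hc
    refine S.mem_zpowers_iff.1 ?_
    rw [← S.center_E]
    exact ⟨ha, Subgroup.mem_centralizer_iff.2 fun b hb => (hc b hb).symm⟩
  · intro w hw hc
    have hwE : w ∈ E := S.centE ⟨(preC_le (hWXB hw)).1,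
      Subgroup.mem_centralizer_iff.2 fun e he => (hc e he).symm⟩
    refine S.mem_zpowers_iff.1 ?_
    rw [← S.fixP]
    exact ⟨hwE, (preC_le (hWXB hw)).2⟩

end Frame

end CfsgLib.JFour
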