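import Cfsg.Agent.Lib.JFour.Basic
import Cfsg.Agent.Lib.Cores.PCore

/-!
# The fixed points on `E` of the elements of order three of `C_H(P)`

An element `p` of order three in `C_H(P)` outside `P` is conjugate to every element of `p P` inside
`C_H(P)`, and a group of order nine acting on `E / ⟨z⟩` then gives `|C_E(p)| = 2 ^ 5`.
-/

set_option autoImplicit false
set_option linter.style.haveILetI false
set_option linter.unusedSectionVars false

open Cfsg
open scoped Pointwise

namespace CfsgLib.JFour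

namespace NineFix

variable {W : Type*} [CommGroup W]

/-- The decomposition of a group of exponent two under two commuting automorphisms of order three,
one of them without fixed points. -/
theorem card_eq_prod (hsq : ∀ w : W, w * w = 1) (a b : MulAut W) (ha : ∀ w, a (a (a w)) = w)
    (hb : ∀ w, b (b (b w)) = w) (hab : ∀ w, a (b w) = b (a w)) (hfix : ∀ w, b w = w → w = 1) :
    Nat.card W = Nat.card {w : W // a w = w} * Nat.card {w : W // a (b w) = w} *
      Nat.card {w : W // a (b (b w)) = w} := by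
  let c : MulAut W := a * b
  let d : MulAut W := a * b * b
  have hc_apply : ∀ w, c w = a (b w) := fun w => rfl
  have hd_apply : ∀ w, d w = a (b (b w)) := fun w => rfl
  have hb0 : ∀ w, w * b w * b (b w) = 1 := by
    intro w
    apply hfix
    simp only [map_mul, hb]
    ac_rfl
  have hc : ∀ w, c (c (c w)) = w := by
    intro w
    simp only [hc_apply, ← hab, ha, hb]
  have hd : ∀ w, d (d (d w)) = w := by
    intro w
    simp only [hd_apply, ← hab, ha, hb]
  have hw3 : ∀ w : W, w * w * w = w := fun w => by rw [hsq, one_mul]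
  let e : MulAut W → W → W := fun g w => w * g w * g (g w)
  have hemul : ∀ (g : MulAut W) (v w : W), e g (v * w) = e g v * e g w := by
    intro g v w
    simp only [e, map_mul]
    ac_rfl
  have hefix : ∀ g : MulAut W, (∀ w, g (g (g w)) = w) → ∀ w, g (e g w) = e g w := by
    intro g hg w
    simp only [e, map_mul, hg]
    ac_rfl
  have heself : ∀ (g : MulAut W) (w : W), g w = w → e g w = w := by
    intro g w hw
    simp only [e, hw, hw3]
  -- the three projections kill each other's images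
  have hbb : ∀ w, b w * b (b w) = w := fun w => by
    have h := congrArg (w * ·) (hb0 w)
    simp only [← mul_assoc, hsq, one_mul, mul_one] at h
    exact h
  have hzero : ∀ w g : W, g = w * b w * b (b w) → g = 1 := fun w g h => h.trans (hb0 w)
  have inv_b : ∀ v u, b v = u → v = b (b u) := fun v u h => by rw [← h, hb]
  have hac : ∀ w, c w = w → e a w = 1 := by
    intro w hw
    rw [hc_apply] at hw
    have h1 : a w = b (b w) := by
      apply inv_b
      rw [← hab, hw]
    have h2 : a (a w) = b w := by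
      rw [h1, hab, hab, h1, hb]
    refine hzero w _ ?_
    simp only [e]
    rw [h2, h1]
    ac_rfl
  have had : ∀ w, d w = w → e a w = 1 := by
    intro w hw
    rw [hd_apply] at hw
    have h1 : a w = b w := by
      have h := inv_b (b (a w)) w (by rw [← hab, ← hab, hw])
      have h' := inv_b (a w) _ h
      rw [h', hb]
    have h2 : a (a w) = b (b w) := by rw [h1, hab, h1]
    refine hzero w _ ?_
    simp only [e]
    rw [h2, h1]
  have hca : ∀ w, a w = w → e c w = 1 := by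
    intro w hw
    refine hzero w _ ?_
    simp only [e, hc_apply, hab, hw]
  have hcd : ∀ w, d w = w → e c w = 1 := by
    intro w hw
    rw [hd_apply] at hw
    have h1 : a w = b w := by
      have h := inv_b (b (a w)) w (by rw [← hab, ← hab, hw])
      have h' := inv_b (a w) _ h
      rw [h', hb]
    refine hzero w _ ?_
    simp only [e, hc_apply, hab, h1, hb]
    ac_rfl
  have hda : ∀ w, a w = w → e d w = 1 := by
    intro w hw
    refine hzero w _ ?_
    simp only [e, hd_apply, hab, hw, hb]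
    ac_rfl
  have hdc : ∀ w, c w = w → e d w = 1 := by
    intro w hw
    rw [hc_apply] at hw
    have h1 : a w = b (b w) := by
      apply inv_b
      rw [← hab, hw]
    refine hzero w _ ?_
    simp only [e, hd_apply, hab, h1, hb]
  have hsum : ∀ w, e a w * e c w * e d w = w := by
    intro w
    simp only [e, hc_apply, hd_apply, hab, hb]
    have h1 := hb0 (a w)
    have h2 := hb0 (a (a w))
    calc _ = (w * w * w) * (a w * b (a w) * b (b (a w))) *
          (a (a w) * b (a (a w)) * b (b (a (a w)))) := by ac_rfl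
      _ = w := by rw [h1, h2, hw3, mul_one, mul_one]
  let f : {w : W // a w = w} × {w : W // a (b w) = w} × {w : W // a (b (b w)) = w} → W :=
    fun x => x.1.1 * x.2.1.1 * x.2.2.1
  have hf : Function.Bijective f := by
    constructor
    · rintro ⟨⟨x₁, h1⟩, ⟨x₂, h2⟩, ⟨x₃, h3⟩⟩ ⟨⟨y₁, k1⟩, ⟨y₂, k2⟩, ⟨y₃, k3⟩⟩ h
      change x₁ * x₂ * x₃ = y₁ * y₂ * y₃ at h
      have A := congrArg (e a) h
      have C := congrArg (e c) h
      have D := congrArg (e d) h
      simp only [hemul] at A C D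
      rw [heself a _ h1, heself a _ k1, hac _ h2, hac _ k2, had _ h3, had _ k3, mul_one, mul_one,
        mul_one, mul_one] at A
      rw [hca _ h1, hca _ k1, heself c _ h2, heself c _ k2, hcd _ h3, hcd _ k3, mul_one, mul_one,
        one_mul, one_mul] at C
      rw [hda _ h1, hda _ k1, hdc _ h2, hdc _ k2, heself d _ h3, heself d _ k3] at D
      simp only [one_mul] at D
      subst A C D
      rfl
    · intro w
      exact ⟨(⟨e a w, hefix a ha w⟩, ⟨e c w, hefix c hc w⟩, ⟨e d w, hefix d hd w⟩), hsum w⟩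
  rw [← Nat.card_congr (Equiv.ofBijective f hf), Nat.card_prod, Nat.card_prod, mul_assoc]

end NineFix

namespace Setting

variable {G : Type*} [Group G] {z : G} {P N : Subgroup G}

set_option quotPrecheck false in
local notation "ℋ" => Subgroup.centralizer (singleton z : Set G)
set_option quotPrecheck false in
local notation "ℰ" => twoCoreOfCentralizer z
set_option quotPrecheck false in
local notation "𝒞" => Subgroup.centralizer (singleton z : Set G) ⊓ Subgroup.centralizer (P : Set G)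

/-- An element of order three of `C_H(P)` outside `P` is conjugate to all of `p P` in `C_H(P)`. -/
theorem exists_conj_eq_mul [Finite G] (S : Setting z P N) {p : G} (hpC : p ∈ 𝒞)
    (hp3 : orderOf p = 3) (hpP : p ∉ P) {q : G} (hq : q ∈ P) :
    ∃ r ∈ 𝒞, r * p * r⁻¹ = p * q := by
  classical
  haveI : Fact (Nat.Prime 3) := ⟨Nat.prime_three⟩
  obtain ⟨R, hR⟩ := (IsPGroup.of_card (n := 1) (show Nat.card
    ↥(Subgroup.zpowers (⟨p, hpC⟩ : ↥𝒞)) = 3 ^ 1 by
      rw [Nat.card_zpowers, Subgroup.orderOf_mk, hp3, pow_one])).exists_le_sylow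
  set Pc : Subgroup ↥𝒞 := P.subgroupOf 𝒞 with hPc
  have hPcc : ∀ x ∈ Pc, ∀ c : ↥𝒞, x * c = c * x := fun x hx c => Subtype.ext
    (Subgroup.mem_centralizer_iff.1 (Subgroup.mem_inf.1 c.2).2 (x : G) (Subgroup.mem_subgroupOf.1 hx))
  have hPcard : Nat.card ↥Pc = 3 := by
    rw [hPc, Nat.card_congr (Subgroup.subgroupOfEquivOfLe S.P_le_C).toEquiv, S.cardP]
  haveI : Pc.Normal := ⟨fun x hx g => by
    rw [← hPcc x hx g, mul_inv_cancel_right]; exact hx⟩
  have hPR : Pc ≤ (R : Subgroup ↥𝒞) := by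
    have h := R.is_maximal' (IsPGroup.to_sup_of_normal_left
      (IsPGroup.of_card (p := 3) (n := 1) (by rw [hPcard, pow_one])) R.isPGroup')
      (le_sup_right : (R : Subgroup ↥𝒞) ≤ Pc ⊔ R)
    exact h ▸ le_sup_left
  have hR27 : Nat.card ↥(R : Subgroup ↥𝒞) = 27 := by
    rw [Sylow.card_eq_multiplicity, S.card_C,
      show (2661120 : ℕ) = 3 ^ 3 * 98560 by norm_num,
      Nat.factorization_mul (by norm_num) (by norm_num), Finsupp.add_apply,
      Nat.Prime.factorization_pow Nat.prime_three, Finsupp.single_eq_same,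
      Nat.factorization_eq_zero_of_not_dvd (show ¬ 3 ∣ 98560 by norm_num)]
    norm_num
  -- `R` is not commutative
  have hnc : ¬ ∀ x y : ↥(R : Subgroup ↥𝒞), x * y = y * x := by
    intro hcomm
    let _ : CommGroup ↥(R : Subgroup ↥𝒞) :=
      { (inferInstance : Group ↥(R : Subgroup ↥𝒞)) with mul_comm := hcomm }
    let T := MonoidHom.transfer (MonoidHom.id ↥(R : Subgroup ↥𝒞))
    have hcm : commutator ↥𝒞 ≤ T.ker := Abelianization.commutator_subset_ker T
    obtain ⟨g, hgP, hg1, hg3, -⟩ := S.exists_generator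
    have hgC : g ∈ 𝒞 := S.P_le_C hgP
    have hgd : (⟨g, hgC⟩ : ↥𝒞) ∈ commutator ↥𝒞 := by
      have h := S.P_le_derived hgP
      rw [← Subgroup.map_subtype_commutator] at h
      obtain ⟨x, hx, hxg⟩ := h
      have : x = ⟨g, hgC⟩ := Subtype.ext hxg
      exact this ▸ hx
    have hgPc : (⟨g, hgC⟩ : ↥𝒞) ∈ Pc := Subgroup.mem_subgroupOf.2 hgP
    have key : ∀ (k : ℕ) (g₀ : ↥𝒞), g₀⁻¹ * (⟨g, hgC⟩ : ↥𝒞) ^ k * g₀ ∈ (R : Subgroup ↥𝒞) →
        g₀⁻¹ * (⟨g, hgC⟩ : ↥𝒞) ^ k * g₀ = (⟨g, hgC⟩ : ↥𝒞) ^ k := fun k g₀ _ => by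
      rw [mul_assoc, hPcc _ (pow_mem hgPc k) g₀, inv_mul_cancel_left]
    have h := MonoidHom.transfer_eq_pow (MonoidHom.id ↥(R : Subgroup ↥𝒞)) _ key
    rw [MonoidHom.mem_ker.1 (hcm hgd), MonoidHom.id_apply] at h
    have h' : g ^ (R : Subgroup ↥𝒞).index = 1 := by
      have := congrArg (fun x : ↥(R : Subgroup ↥𝒞) => ((x : ↥𝒞) : G)) h.symm
      simpa using this
    have hd : orderOf g ∣ (R : Subgroup ↥𝒞).index := orderOf_dvd_of_pow_eq_one h'
    simp only [hg3] at hd
    exact R.not_dvd_index hd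
  -- hence its centre is `P`
  have hZ : Subgroup.center ↥(R : Subgroup ↥𝒞) = Pc.subgroupOf (R : Subgroup ↥𝒞) := by
    have hle : Pc.subgroupOf (R : Subgroup ↥𝒞) ≤ Subgroup.center ↥(R : Subgroup ↥𝒞) := fun x hx =>
      Subgroup.mem_center_iff.2 fun y =>
        Subtype.ext (hPcc _ (Subgroup.mem_subgroupOf.1 hx) (y : ↥𝒞)).symm
    refine (Subgroup.eq_of_le_of_card_ge hle ?_).symm
    rw [Nat.card_congr (Subgroup.subgroupOfEquivOfLe hPR).toEquiv, hPcard]
    have hmul := Subgroup.card_eq_card_quotient_mul_card_subgroup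
      (Subgroup.center ↥(R : Subgroup ↥𝒞))
    rw [hR27] at hmul
    obtain ⟨i, hi, hci⟩ := (Nat.dvd_prime_pow (m := 3) Nat.prime_three).1
      (show Nat.card ↥(Subgroup.center ↥(R : Subgroup ↥𝒞)) ∣ 3 ^ 3 from
        (show (3 : ℕ) ^ 3 = 27 by norm_num) ▸ hR27 ▸ Subgroup.card_subgroup_dvd_card _)
    by_contra hlt
    have hq3 : Nat.card (↥(R : Subgroup ↥𝒞) ⧸ Subgroup.center ↥(R : Subgroup ↥𝒞)) ∣ 3 := by
      rw [hci] at hmul hlt
      have hi2 : i = 2 ∨ i = 3 := by
        rcases (show i = 0 ∨ i = 1 ∨ i = 2 ∨ i = 3 by omega) with rfl | rfl | rfl | rfl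
        · exact absurd (by norm_num) hlt
        · exact absurd (by norm_num) hlt
        · exact Or.inl rfl
        · exact Or.inr rfl
      rcases hi2 with rfl | rfl
      · exact ⟨1, by norm_num at hmul ⊢; omega⟩
      · exact ⟨3, by norm_num at hmul ⊢; omega⟩
    haveI : IsCyclic (↥(R : Subgroup ↥𝒞) ⧸ Subgroup.center ↥(R : Subgroup ↥𝒞)) := by
      rcases (Nat.dvd_prime Nat.prime_three).1 hq3 with h1 | h3
      · haveI := (Nat.card_eq_one_iff_unique.1 h1).1
        infer_instance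
      · exact isCyclic_of_prime_card h3
    exact hnc (commutative_of_cyclic_center_quotient
      (QuotientGroup.mk' (Subgroup.center ↥(R : Subgroup ↥𝒞))) (by rw [QuotientGroup.ker_mk']))
  have hpR : (⟨p, hpC⟩ : ↥𝒞) ∈ (R : Subgroup ↥𝒞) := hR (Subgroup.mem_zpowers _)
  set pR : ↥(R : Subgroup ↥𝒞) := ⟨⟨p, hpC⟩, hpR⟩
  have hpZ : pR ∉ Subgroup.center ↥(R : Subgroup ↥𝒞) := by
    rw [hZ]
    exact fun h => hpP (Subgroup.mem_subgroupOf.1 (Subgroup.mem_subgroupOf.1 h))
  obtain ⟨r, hr⟩ : ∃ r : ↥(R : Subgroup ↥𝒞), r * pR ≠ pR * r := by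
    by_contra hno
    push Not at hno
    exact hpZ (Subgroup.mem_center_iff.2 hno)
  have hcommQ : ∀ x y : ↥(R : Subgroup ↥𝒞) ⧸ Subgroup.center ↥(R : Subgroup ↥𝒞), x * y = y * x := by
    refine IsPGroup.commutative_of_card_eq_prime_sq (p := 3) ?_
    have hmul := Subgroup.card_eq_card_quotient_mul_card_subgroup
      (Subgroup.center ↥(R : Subgroup ↥𝒞))
    have h3 : Nat.card ↥(Subgroup.center ↥(R : Subgroup ↥𝒞)) = 3 := by
      rw [hZ, Nat.card_congr (Subgroup.subgroupOfEquivOfLe hPR).toEquiv, hPcard]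
    rw [hR27, h3] at hmul
    norm_num
    omega
  have hcP : ((r : ↥𝒞) : G) * p * ((r : ↥𝒞) : G)⁻¹ * p⁻¹ ∈ P := by
    have h1 : r * pR * r⁻¹ * pR⁻¹ ∈ Subgroup.center ↥(R : Subgroup ↥𝒞) := by
      rw [← QuotientGroup.eq_one_iff]
      simp only [QuotientGroup.mk_mul, QuotientGroup.mk_inv]
      rw [hcommQ (r : ↥(R : Subgroup ↥𝒞) ⧸ _)]
      group
    rw [hZ] at h1
    have := Subgroup.mem_subgroupOf.1 (Subgroup.mem_subgroupOf.1 h1)
    simpa [pR] using this
  set c : G := ((r : ↥𝒞) : G) * p * ((r : ↥𝒞) : G)⁻¹ * p⁻¹ with hc_def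
  have hc1 : c ≠ 1 := by
    intro h
    apply hr
    apply Subtype.ext
    apply Subtype.ext
    have h' : ((r : ↥𝒞) : G) * p = p * ((r : ↥𝒞) : G) := by
      rw [← mul_inv_eq_one, ← h, hc_def]
      group
    simpa [pR] using h'
  have hPc' : P = Subgroup.zpowers c := S.eq_zpowers_of_mem_P hcP hc1
  rw [hPc'] at hq
  obtain ⟨n, rfl⟩ := hq
  have hconj : ((r : ↥𝒞) : G) * p * ((r : ↥𝒞) : G)⁻¹ = c * p := by rw [hc_def]; group
  have hrc : ((r : ↥𝒞) : G) * c = c * ((r : ↥𝒞) : G) :=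
    (Subgroup.mem_centralizer_iff.1 (Subgroup.mem_inf.1 (r : ↥𝒞).2).2 c hcP).symm
  have hcp : Commute c p := Subgroup.mem_centralizer_iff.1 (Subgroup.mem_inf.1 hpC).2 c hcP
  have hpown : ∀ m : ℕ, ((r : ↥𝒞) : G) ^ m * p * (((r : ↥𝒞) : G) ^ m)⁻¹ = p * c ^ m := by
    intro m
    induction m with
    | zero => simp
    | succ m ih =>
      rw [pow_succ', mul_inv_rev,
        show ((r : ↥𝒞) : G) * ((r : ↥𝒞) : G) ^ m * p * ((((r : ↥𝒞) : G) ^ m)⁻¹ * ((r : ↥𝒞) : G)⁻¹)
          = ((r : ↥𝒞) : G) * (((r : ↥𝒞) : G) ^ m * p * (((r : ↥𝒞) : G) ^ m)⁻¹) * ((r : ↥𝒞) : G)⁻¹ by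
          group,
        ih, show ((r : ↥𝒞) : G) * (p * c ^ m) * ((r : ↥𝒞) : G)⁻¹ =
          (((r : ↥𝒞) : G) * p * ((r : ↥𝒞) : G)⁻¹) * (((r : ↥𝒞) : G) * c ^ m * ((r : ↥𝒞) : G)⁻¹) by
          group,
        hconj, (show Commute ((r : ↥𝒞) : G) c from hrc).pow_right m |>.eq, mul_inv_cancel_right,
        hcp.eq, mul_assoc, pow_succ']
  obtain ⟨m, hm⟩ : ∃ m : ℕ, c ^ m = c ^ n := by
    have hfin : IsOfFinOrder c := isOfFinOrder_of_finite c
    have hmem : c ^ n ∈ Subgroup.zpowers c := ⟨n, rfl⟩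
    rw [← hfin.mem_powers_iff_mem_zpowers] at hmem
    exact hmem
  refine ⟨((r : ↥𝒞) : G) ^ m, pow_mem (r : ↥𝒞).2 m, ?_⟩
  rw [hpown m, hm]

/-- An element of order three of `C_H(P)` outside `P` fixes `2 ^ 5` elements of `E`. -/
theorem card_E_inf_centralizer [Finite G] (S : Setting z P N) {p : G}
    (hpH : p ∈ ℋ) (hpP' : p ∈ Subgroup.centralizer (P : Set G)) (hp3 : orderOf p = 3)
    (hpP : p ∉ P) : Nat.card ↥(ℰ ⊓ Subgroup.centralizer ({p} : Set G)) = 2 ^ 5 := by
  classical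
  haveI := CfsgLib.Cores.pCore_characteristic 2 ↥ℋ
  have hpC : p ∈ 𝒞 := Subgroup.mem_inf.2 ⟨hpH, hpP'⟩
  obtain ⟨q, hqP, hq1, hq3, -⟩ := S.exists_generator
  have hqH : q ∈ ℋ := S.P_le_H hqP
  have hpq : Commute p q := (Subgroup.mem_centralizer_iff.1 hpP' q hqP).symm
  -- equal fixed points on the conjugates
  have hsame : ∀ q' ∈ P, Nat.card ↥(ℰ ⊓ Subgroup.centralizer ({p * q'} : Set G)) =
      Nat.card ↥(ℰ ⊓ Subgroup.centralizer ({p} : Set G)) := by
    intro q' hq'
    obtain ⟨r, hr, hrp⟩ := S.exists_conj_eq_mul hpC hp3 hpP hq'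
    have hrH : r ∈ ℋ := (Subgroup.mem_inf.1 hr).1
    have himg : (ℰ ⊓ Subgroup.centralizer ({p} : Set G)).map (MulAut.conj r).toMonoidHom =
        ℰ ⊓ Subgroup.centralizer ({p * q'} : Set G) := by
      ext y
      simp only [Subgroup.mem_map, MulEquiv.coe_toMonoidHom, MulAut.conj_apply, Subgroup.mem_inf,
        Subgroup.mem_centralizer_singleton_iff]
      constructor
      · rintro ⟨x, ⟨hx, hxp⟩, rfl⟩
        refine ⟨S.conj_mem_E hrH hx, ?_⟩
        rw [← hrp, show r * x * r⁻¹ * (r * p * r⁻¹) = r * (x * p) * r⁻¹ by group, hxp]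
        group
      · rintro ⟨hy, hyp⟩
        refine ⟨r⁻¹ * y * r, ⟨S.conj_mem_E' hrH hy, ?_⟩, by group⟩
        rw [← hrp] at hyp
        rw [show r⁻¹ * y * r * p = r⁻¹ * (y * (r * p * r⁻¹)) * r by group, hyp]
        group
    rw [← himg, Subgroup.card_map_of_injective (MulAut.conj r).injective]
  -- the quotient by `⟨z⟩`
  set E' : Subgroup ↥ℋ := pCore 2 ↥ℋ with hE'
  have hEmap : E'.map (Subgroup.subtype _) = ℰ := rfl
  set zH : ↥ℋ := ⟨z, S.E_le S.z_mem_E⟩ with hzH
  haveI hZn : (Subgroup.zpowers zH).Normal := ⟨fun x hx g => by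
    obtain ⟨k, rfl⟩ := hx
    have hgz : Commute g zH := Subtype.ext (S.comm_z g.2)
    show g * zH ^ k * g⁻¹ ∈ Subgroup.zpowers zH
    rw [(hgz.zpow_right k).eq, mul_inv_cancel_right]
    exact ⟨k, rfl⟩⟩
  have hzE' : zH ∈ E' := by
    obtain ⟨x, hx, hxz⟩ := hEmap.symm ▸ S.z_mem_E
    exact (Subtype.ext hxz : x = zH) ▸ hx
  have hmemE : ∀ x : ↥ℋ, x ∈ E' ↔ (x : G) ∈ ℰ := fun x =>
    ⟨fun hx => ⟨x, hx, rfl⟩, fun ⟨y, hy, hyx⟩ => (Subtype.ext hyx : y = x) ▸ hy⟩
  set f : ↥ℋ →* ↥ℋ ⧸ Subgroup.zpowers zH := QuotientGroup.mk' _ with hf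
  set W : Subgroup (↥ℋ ⧸ Subgroup.zpowers zH) := E'.map f with hW
  haveI hWn : W.Normal := Subgroup.Normal.map inferInstance f (QuotientGroup.mk'_surjective _)
  have hker : ∀ x : ↥ℋ, f x = 1 ↔ (x : G) ∈ Subgroup.zpowers z := fun x => by
    rw [hf, QuotientGroup.mk'_apply, QuotientGroup.eq_one_iff]
    constructor
    · rintro ⟨k, rfl⟩
      exact ⟨k, by simp [hzH]⟩
    · rintro ⟨k, hk⟩
      exact ⟨k, Subtype.ext (by simpa [hzH] using hk)⟩
  have hWsq : ∀ w : ↥W, w * w = 1 := by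
    rintro ⟨w, e, he, rfl⟩
    apply Subtype.ext
    show f e * f e = 1
    rw [← map_mul, hker]
    exact S.sq_mem ((hmemE e).1 he)
  have hWcomm : ∀ v w : ↥W, v * w = w * v := fun v w => by
    have hv : v⁻¹ = v := inv_eq_of_mul_eq_one_left (hWsq v)
    have hw : w⁻¹ = w := inv_eq_of_mul_eq_one_left (hWsq w)
    have hvw : (v * w)⁻¹ = v * w := inv_eq_of_mul_eq_one_left (hWsq (v * w))
    rw [mul_inv_rev, hv, hw] at hvw
    exact hvw.symm
  let _ : CommGroup ↥W := { (inferInstance : Group ↥W) with mul_comm := hWcomm }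
  let act : ↥ℋ → MulAut ↥W := fun x => MulAut.conjNormal (f x)
  have hact : ∀ (x : ↥ℋ) (w : ↥W), (act x w : ↥ℋ ⧸ Subgroup.zpowers zH) = f x * w * (f x)⁻¹ :=
    fun x w => MulAut.conjNormal_apply _ _
  have hactmul : ∀ (x y : ↥ℋ) (w : ↥W), act (x * y) w = act x (act y w) := fun x y w => by
    simp only [act, map_mul, MulAut.mul_apply]
  have hact3 : ∀ x : ↥ℋ, orderOf (x : G) = 3 → ∀ w, act x (act x (act x w)) = w := by
    intro x hx w
    rw [← hactmul, ← hactmul]
    have : x * x * x = 1 := by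
      rw [← pow_three', ← hx, orderOf_submonoid x, pow_orderOf_eq_one]
    rw [this]
    simp [act]
  -- fixed points upstairs
  have hcard : ∀ x : ↥ℋ, (x : G) ^ 3 = 1 →
      Nat.card ↥(ℰ ⊓ Subgroup.centralizer ({(x : G)} : Set G)) =
        2 * Nat.card {w : ↥W // act x w = w} := by
    intro x hx
    set T : Subgroup ↥ℋ := E' ⊓ Subgroup.centralizer ({x} : Set ↥ℋ) with hT
    have hTmap : T.map (Subgroup.subtype _) = ℰ ⊓ Subgroup.centralizer ({(x : G)} : Set G) := by
      ext y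
      simp only [Subgroup.mem_map, Subgroup.mem_inf, Subgroup.mem_centralizer_singleton_iff, hT,
        Subgroup.coe_subtype]
      constructor
      · rintro ⟨u, ⟨hu, hux⟩, rfl⟩
        exact ⟨(hmemE u).1 hu, congrArg Subtype.val hux⟩
      · rintro ⟨hy, hyx⟩
        exact ⟨⟨y, S.E_le hy⟩, ⟨(hmemE _).2 hy, Subtype.ext hyx⟩, rfl⟩
    rw [← hTmap, Subgroup.card_map_of_injective (Subgroup.subtype_injective _)]
    let g : ↥T →* ↥ℋ ⧸ Subgroup.zpowers zH := f.comp T.subtype
    have hgker : g.ker = (Subgroup.zpowers zH).subgroupOf T := by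
      ext u
      simp [g, hf, Subgroup.mem_subgroupOf, QuotientGroup.eq_one_iff]
    have hzT : Subgroup.zpowers zH ≤ T := by
      rw [Subgroup.zpowers_le, hT, Subgroup.mem_inf, Subgroup.mem_centralizer_singleton_iff]
      exact ⟨hzE', Subtype.ext (S.comm_z x.2).symm⟩
    have h := Subgroup.card_eq_card_quotient_mul_card_subgroup g.ker
    rw [Nat.card_congr (QuotientGroup.quotientKerEquivRange g).toEquiv, hgker,
      Nat.card_congr (Subgroup.subgroupOfEquivOfLe hzT).toEquiv, Nat.card_zpowers,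
      show orderOf zH = 2 from (Subgroup.orderOf_mk z _).trans S.orderZ] at h
    rw [h, mul_comm]
    congr 1
    let k : {w : ↥W // act x w = w} → ↥g.range := fun w =>
      ⟨(w.1 : ↥ℋ ⧸ Subgroup.zpowers zH), by
        obtain ⟨⟨w, u, hu, rfl⟩, hw⟩ := w
        have hw' : f x * f u * (f x)⁻¹ = f u := by
          have := congrArg Subtype.val hw
          rwa [hact] at this
        have hcen : (x : G) * (u : G) * (x : G)⁻¹ * (u : G)⁻¹ ∈ Subgroup.zpowers z := by
          have h1 : f (x * u * x⁻¹ * u⁻¹) = 1 := by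
            rw [map_mul, map_mul, map_mul, map_inv, map_inv, hw', mul_inv_cancel]
          simpa using (hker _).1 h1
        have hxu : (x : G) * (u : G) * (x : G)⁻¹ = u := by
          rcases S.mem_zpowers_iff.1 hcen with h | h
          · exact mul_inv_eq_one.1 h
          · exfalso
            have h1 : (x : G) * u * (x : G)⁻¹ = z * u := mul_inv_eq_iff_eq_mul.1 h
            have hxz : (x : G) * z * (x : G)⁻¹ = z := by rw [S.comm_z x.2]; group
            have step : (x : G) ^ 3 * u * ((x : G) ^ 3)⁻¹ =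
                x * (x * (x * u * (x : G)⁻¹) * (x : G)⁻¹) * (x : G)⁻¹ := by
              rw [pow_succ, pow_two]; group
            rw [hx, one_mul, inv_one, mul_one, h1] at step
            have h5 : (x : G) * (z * u) * (x : G)⁻¹ = u := by
              rw [show (x : G) * (z * u) * (x : G)⁻¹ =
                  ((x : G) * z * (x : G)⁻¹) * ((x : G) * u * (x : G)⁻¹) by group,
                hxz, h1, ← mul_assoc, S.z_mul_self, one_mul]
            rw [h5, h1] at step
            exact S.z_ne_one (mul_eq_right.1 step.symm)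
        have huT : u ∈ T := by
          rw [hT, Subgroup.mem_inf, Subgroup.mem_centralizer_singleton_iff]
          exact ⟨hu, Subtype.ext (mul_inv_eq_iff_eq_mul.1 hxu).symm⟩
        exact ⟨⟨u, huT⟩, rfl⟩⟩
    refine (Nat.card_eq_of_bijective k ⟨fun v w hvw => ?_, ?_⟩).symm
    · exact Subtype.ext (Subtype.ext (congrArg Subtype.val hvw :))
    · rintro ⟨_, u, rfl⟩
      obtain ⟨huE, huc⟩ := Subgroup.mem_inf.1 u.2
      refine ⟨⟨⟨f u, Subgroup.mem_map_of_mem f huE⟩, ?_⟩, rfl⟩
      apply Subtype.ext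
      rw [hact]
      show f x * f (u : ↥ℋ) * (f x)⁻¹ = f u
      rw [← map_mul, ← Subgroup.mem_centralizer_singleton_iff.1 huc, map_mul, mul_inv_cancel_right]
  set a : ↥ℋ := ⟨p, hpH⟩ with ha
  set b : ↥ℋ := ⟨q, hqH⟩ with hb
  have hp1 : p ^ 3 = 1 := by rw [← hp3, pow_orderOf_eq_one]
  have hq1' : q ^ 3 = 1 := by rw [← hq3, pow_orderOf_eq_one]
  have hfix : ∀ w, act b w = w → w = 1 := by
    rintro ⟨w, u, hu, rfl⟩ hw
    have hw' : f b * f u * (f b)⁻¹ = f u := by
      have := congrArg Subtype.val hw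
      rwa [hact] at this
    have h1 : f (b * u * b⁻¹ * u⁻¹) = 1 := by
      rw [map_mul, map_mul, map_mul, map_inv, map_inv, hw', mul_inv_cancel]
    have h2 : (q : G) * (u : G) * q⁻¹ * (u : G)⁻¹ ∈ Subgroup.zpowers z := by
      simpa [hb] using (hker _).1 h1
    apply Subtype.ext
    exact (hker u).2 (S.mem_zpowers_of_comm hqP hq1 ((hmemE u).1 hu) h2)
  have hmain := NineFix.card_eq_prod hWsq (act a) (act b) (hact3 a hp3) (hact3 b hq3)
    (fun w => by
      rw [← hactmul, ← hactmul, show a * b = b * a from Subtype.ext hpq.eq])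
    hfix
  simp only [← hactmul] at hmain
  have hA := hcard a hp1
  have hB := hcard (a * b) (by
    show (p * q) ^ 3 = 1
    rw [hpq.mul_pow, hp1, hq1', one_mul])
  have hC := hcard (a * (b * b)) (by
    show (p * (q * q)) ^ 3 = 1
    rw [(hpq.mul_right hpq).mul_pow, (Commute.refl q).mul_pow, hp1, hq1', one_mul, one_mul])
  rw [show ((a * b : ↥ℋ) : G) = p * q from rfl, hsame q hqP] at hB
  rw [show ((a * (b * b) : ↥ℋ) : G) = p * (q * q) from rfl, hsame _ (mul_mem hqP hqP)] at hC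
  rw [show ((a : ↥ℋ) : G) = p from rfl] at hA
  have hEW : Nat.card ↥ℰ = 2 * Nat.card ↥W := by
    have h := hcard 1 (by simp)
    have h1 : Nat.card ↥(ℰ ⊓ Subgroup.centralizer ({((1 : ↥ℋ) : G)} : Set G)) = Nat.card ↥ℰ := by
      rw [inf_eq_left.2]
      intro y _
      simp [Subgroup.mem_centralizer_singleton_iff]
    rw [h1] at h
    rw [h]
    congr 1
    exact Nat.card_congr (Equiv.subtypeUnivEquiv fun w => by simp [act])
  rw [S.cardE] at hEW
  set n := Nat.card ↥(ℰ ⊓ Subgroup.centralizer ({p} : Set G)) with hn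
  have hn3 : n ^ 3 = (2 ^ 5) ^ 3 := by
    calc n ^ 3 = n * n * n := by ring
      _ = (2 * Nat.card {w : ↥W // act a w = w}) * (2 * Nat.card {w : ↥W // act (a * b) w = w}) *
          (2 * Nat.card {w : ↥W // act (a * (b * b)) w = w}) := by
        conv_lhs => arg 1; arg 1; rw [hA]
        conv_lhs => arg 1; arg 2; rw [hB]
        conv_lhs => arg 2; rw [hC]
      _ = 4 * (2 * Nat.card ↥W) := by rw [hmain]; ring
      _ = (2 ^ 5) ^ 3 := by rw [← hEW]; norm_num
  exact Nat.pow_left_injective (by norm_num) hn3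

/-- An element of order three of `C_H(P)` outside `N` fixes `2 ^ 5` elements of `E`. -/
theorem card_E_inf_centralizer_of_notMem [Finite G] (S : Setting z P N) {p : G}
    (hpC : p ∈ ℋ ⊓ Subgroup.centralizer (P : Set G)) (hp3 : orderOf p = 3) (hpN : p ∉ N) :
    Nat.card ↥(ℰ ⊓ Subgroup.centralizer ({p} : Set G)) = 2 ^ 5 :=
  S.card_E_inf_centralizer (Subgroup.mem_inf.1 hpC).1 (Subgroup.mem_inf.1 hpC).2 hp3
    fun h => hpN (S.P_le h)

end Setting

end CfsgLib.JFour
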