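import Cfsg.Agent.Lib.JFour.Fusion
import Cfsg.Agent.Lib.JFour.HexInst
import Cfsg.Agent.Lib.JFour.NineFix

/-!
# Fusion in simple groups of Janko-four type, from the hexad data
-/

set_option autoImplicit false
set_option linter.style.haveILetI false
set_option linter.unusedSectionVars false

open Cfsg

namespace CfsgLib.JFour

variable {G : Type*} [Group G] [Finite G] {z : G} {P N : Subgroup G}

theorem Setting.fixFive (S : Setting z P N) : FixFive z P N :=
  fun _ hp hp3 hpN => S.card_E_inf_centralizer_of_notMem hp hp3 hpN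

namespace Frame

variable {π : ↥(Subgroup.centralizer ({z} : Set G)) →* MulAut ↥Spor.M22}
  {M B : Subgroup (MulAut ↥Spor.M22)} (F : Frame (P := P) (N := N) π M B)
include F

/-- The hexad lift gives the fusion data. -/
theorem fusionData {R W : Subgroup G}
    (T : HexTransitive (twoCoreOfCentralizer z) R P W (preC P π (M ⊓ Inn ↥Spor.M22)) z)
    (hWB : W ≤ preC P π B)
    (hsurj : ∀ b ∈ B, ∃ w, ∃ hw : w ∈ Subgroup.centralizer ({z} : Set G), w ∈ W ∧ π ⟨w, hw⟩ = b) :
    FusionData (P := P) (N := N) π M B W (HexFrame.U (twoCoreOfCentralizer z) W)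
      (HexFrame.U (twoCoreOfCentralizer z) W ⊔ W) where
  frame := F
  Bt_le := hWB.trans preC_le
  z_mem_Bt := T.z_W
  Bt_sq := T.W_sq
  Bt_map b _ hw := by
    obtain ⟨⟨_, h⟩, -⟩ := mem_preC.1 (hWB hw)
    exact h
  Bt_surj β hβ := by
    obtain ⟨w, hw, hwW, h⟩ := hsurj β hβ
    exact ⟨w, hwW, hw, h⟩
  D_le := inf_le_left
  z_mem_D := T.toHexFrame.z_U
  D_card := T.toHexFrame.card_U
  D_comm _ ha _ hc := T.toHexFrame.U_comm_U ha hc
  D_P q hq _ ha := T.toHexFrame.U_norm (T.P_le hq) ha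
  D_Bt _ ha _ hb := (HexFrame.U_comm ha hb).symm
  comm_mem_D b hb f hf := by
    have h := inv_mem (T.toHexFrame.comm_mem_U hb hf)
    rwa [show (b * f * b⁻¹ * f⁻¹)⁻¹ = f * b * f⁻¹ * b⁻¹ by group] at h
  card_cen := T.main.1
  cap b hb c hc hbz hcz hcb f hf hfb hfc := by
    refine T.main.2 b hb c hc hbz hcz (fun h => hcb ?_) f hf hfb.symm hfc.symm
    have h1 : c * b = (b * c)⁻¹ := by
      rw [mul_inv_rev, inv_eq_of_mul_eq_one_right (T.W_sq b hb),
        inv_eq_of_mul_eq_one_right (T.W_sq c hc)]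
    rw [h1]
    exact inv_mem h
  D_le_V := le_sup_left
  Bt_le_V := le_sup_right

/-- In a simple group, `z` is conjugate to another element of the group `U W` of order `2 ^ 11`. -/
theorem exists_fusion [IsSimpleGroup G] (hG : ¬ IsMulCommutative G) {R W : Subgroup G}
    (T : HexTransitive (twoCoreOfCentralizer z) R P W (preC P π (M ⊓ Inn ↥Spor.M22)) z)
    (hWB : W ≤ preC P π B)
    (hsurj : ∀ b ∈ B, ∃ w, ∃ hw : w ∈ Subgroup.centralizer ({z} : Set G), w ∈ W ∧ π ⟨w, hw⟩ = b) :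
    ∃ v ∈ HexFrame.U (twoCoreOfCentralizer z) W ⊔ W, v ≠ z ∧ IsConj z v :=
  (F.fusionData T hWB hsurj).exists_fusion hG F.setting.fixFive

end Frame

end CfsgLib.JFour
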