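import Cfsg.Agent.Lib.JFour.FusionBasic

/-!
# Fusion in groups of Janko-four type: involutions of `E C_H(P)` outside `E` and outside `V`
-/

set_option autoImplicit false
set_option linter.style.haveILetI false
set_option linter.unusedSectionVars false

open Cfsg

namespace CfsgLib.JFour

theorem eq_sq_mul {A : Type*} [Group A] {a : A} (h : a ^ 3 = 1) : a = a ^ 2 * a ^ 2 := by
  rw [← pow_add, show 2 + 2 = 3 + 1 from rfl, pow_add, h, one_mul, pow_one]

/-- A proper subgroup has at most half the order. -/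
theorem two_mul_card_le {A : Type*} [Group A] [Finite A] {X Y : Subgroup A} (h : X ≤ Y)
    {y : A} (hy : y ∈ Y) (hyX : y ∉ X) : 2 * Nat.card ↥X ≤ Nat.card ↥Y := by
  obtain ⟨k, hk⟩ := Subgroup.card_dvd_of_le h
  have hY : 0 < Nat.card ↥Y := Nat.card_pos
  rcases k with _ | _ | k
  · omega
  · exact absurd (Subgroup.eq_of_le_of_card_ge h (by omega) ▸ hy) hyX
  · rw [hk]; nlinarith

/-- Two elements outside a subgroup of index two have their product inside. -/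
theorem mul_mem_of_half {A : Type*} [Group A] [Finite A] {X Y : Subgroup A} (h : X ≤ Y)
    (hc : Nat.card ↥Y = 2 * Nat.card ↥X) {a b : A} (ha : a ∈ Y) (hb : b ∈ Y)
    (ha' : a ∉ X) (hb' : b ∉ X) : a * b ∈ X := by
  have hi : (X.subgroupOf Y).index = 2 := by
    have h1 := (X.subgroupOf Y).card_mul_index
    rw [Nat.card_congr (Subgroup.subgroupOfEquivOfLe h).toEquiv, hc, mul_comm 2] at h1
    exact Nat.eq_of_mul_eq_mul_left Nat.card_pos h1
  have h2 := Subgroup.mul_mem_iff_of_index_two hi (a := ⟨a, ha⟩) (b := ⟨b, hb⟩)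
  simp only [Subgroup.mem_subgroupOf, Subgroup.coe_mul] at h2
  exact h2.2 ⟨fun h => absurd h ha', fun h => absurd h hb'⟩

variable {G : Type*} [Group G]

/-- An involution of `E C_H(P)`, outside `E`, which is not conjugate into `V`. -/
structure Special {z : G} (π : ↥(Subgroup.centralizer ({z} : Set G)) →* MulAut ↥Spor.M22)
    (V : Subgroup G) (x : G) : Prop where
  mem_H : x ∈ Subgroup.centralizer ({z} : Set G)
  mul_self : x * x = 1
  inn : π ⟨x, mem_H⟩ ∈ Inn ↥Spor.M22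
  not_E : x ∉ twoCoreOfCentralizer z
  not_V : ¬ InV z V x

namespace Setting

variable {z : G} {P N : Subgroup G} (S : Setting z P N)
include S

theorem eq_one_of_triple {f y y₁ y₂ w : G} (hw : w ∈ Subgroup.zpowers z)
    (hy : y ∈ Subgroup.centralizer ({z} : Set G)) (hy₁ : y₁ ∈ Subgroup.centralizer ({z} : Set G))
    (h : f * y * f⁻¹ = w * y) (h₁ : f * y₁ * f⁻¹ = w * y₁) (h₂ : f * y₂ * f⁻¹ = w * y₂)
    (hu : Commute f (y * y₁ * y₂)) : w = 1 := by
  have key : f * (y * y₁ * y₂) * f⁻¹ = w * w * w * (y * y₁ * y₂) := by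
    calc f * (y * y₁ * y₂) * f⁻¹ = (f * y * f⁻¹) * (f * y₁ * f⁻¹) * (f * y₂ * f⁻¹) := by group
      _ = w * (y * w) * y₁ * (w * y₂) := by rw [h, h₁, h₂]; group
      _ = w * w * (y * y₁ * w) * y₂ := by
          rw [← (S.commute_of_mem_zpowers hw hy).eq]; group
      _ = w * w * w * (y * y₁ * y₂) := by
          rw [← (S.commute_of_mem_zpowers hw (mul_mem hy hy₁)).eq]; group
  rw [hu.eq, mul_inv_cancel_right] at key
  exact S.cube_of_mem_zpowers hw (mul_eq_right.1 key.symm)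

/-- If `X` centralises `t` modulo `⟨z⟩`, at least half of it centralises `t`. -/
theorem card_le_two_mul [Finite G] {X : Subgroup G} {t : G}
    (hX : X ≤ Subgroup.centralizer ({z} : Set G))
    (h : ∀ a ∈ X, a * t * a⁻¹ * t⁻¹ ∈ Subgroup.zpowers z) :
    Nat.card ↥X ≤ 2 * Nat.card ↥(X ⊓ Subgroup.centralizer ({t} : Set G) : Subgroup G) := by
  let φ : ↥X →* ↥(Subgroup.zpowers z) :=
    MonoidHom.mk' (fun a => ⟨(a : G) * t * (a : G)⁻¹ * t⁻¹, h a a.2⟩) fun a b => by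
      apply Subtype.ext
      have hc := (S.commute_of_mem_zpowers (h b b.2) (hX a.2)).eq
      simp only [Subgroup.coe_mul, mul_inv_rev]
      calc (a : G) * (b : G) * t * ((b : G)⁻¹ * (a : G)⁻¹) * t⁻¹
          = (a : G) * ((b : G) * t * (b : G)⁻¹ * t⁻¹) * (t * (a : G)⁻¹ * t⁻¹) := by group
        _ = ((b : G) * t * (b : G)⁻¹ * t⁻¹) * ((a : G) * t * (a : G)⁻¹ * t⁻¹) := by rw [← hc]; group
        _ = _ := (S.commute_of_mem_zpowers (h b b.2)
            (S.E_le (S.zpowers_le_E (h a a.2)))).eq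
  have hk : φ.ker.map X.subtype ≤ X ⊓ Subgroup.centralizer ({t} : Set G) := by
    rintro _ ⟨a, ha, rfl⟩
    refine Subgroup.mem_inf.2 ⟨a.2, Subgroup.mem_centralizer_singleton_iff.2 ?_⟩
    have h1 : (a : G) * t * (a : G)⁻¹ * t⁻¹ = 1 := congrArg Subtype.val (MonoidHom.mem_ker.1 ha)
    exact mul_inv_eq_iff_eq_mul.1 (mul_inv_eq_one.1 h1)
  have h1 : Nat.card ↥φ.ker ≤ Nat.card ↥(X ⊓ Subgroup.centralizer ({t} : Set G) : Subgroup G) := by
    rw [← Subgroup.card_map_of_injective X.subtype_injective]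
    exact Subgroup.card_le_of_le hk
  have h2 : Nat.card (↥X ⧸ φ.ker) ≤ 2 := by
    rw [Nat.card_congr (QuotientGroup.quotientKerEquivRange φ).toEquiv]
    calc Nat.card ↥φ.range ≤ Nat.card ↥(Subgroup.zpowers z) := Subgroup.card_le_card_group _
      _ = 2 := by rw [Nat.card_zpowers, S.orderZ]
  rw [Subgroup.card_eq_card_quotient_mul_card_subgroup φ.ker]
  exact Nat.mul_le_mul h2 h1

end Setting

theorem card_centralizer_three {σ : Equiv.Perm (Fin 6)} (h : orderOf σ = 3) :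
    Nat.card ↥(Subgroup.centralizer ({σ} : Set (Equiv.Perm (Fin 6)))) = 18 := by
  obtain ⟨n, hn⟩ := Equiv.Perm.cycleType_prime_order (h ▸ Nat.prime_three)
  rw [h] at hn
  have hs := Equiv.Perm.sum_cycleType σ ▸ σ.support.card_le_univ
  rw [hn, Multiset.sum_replicate, Fintype.card_fin, smul_eq_mul] at hs
  rw [Equiv.Perm.nat_card_centralizer, hn, Multiset.sum_replicate, Multiset.prod_replicate,
    Fintype.card_fin, smul_eq_mul]
  obtain rfl | rfl : n = 0 ∨ n = 1 := by omega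
  · decide
  · decide

namespace FusionData

variable {z : G} {P N : Subgroup G}
  {π : ↥(Subgroup.centralizer ({z} : Set G)) →* MulAut ↥Spor.M22}
  {M B : Subgroup (MulAut ↥Spor.M22)} {Bt D V : Subgroup G}
  (F : FusionData (P := P) (N := N) π M B Bt D V)
include F

set_option quotPrecheck false in
local notation "ℋ" => Subgroup.centralizer (singleton z : Set G)
set_option quotPrecheck false in
local notation "ℰ" => twoCoreOfCentralizer z
set_option quotPrecheck false in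
local notation "𝕀" => Inn ↥Spor.M22

theorem mem_inn_of_cube {a : MulAut ↥Spor.M22} (h : a ^ 3 = 1) : a ∈ 𝕀 := by
  have h2 := Subgroup.sq_mem_of_index_two F.frame.hexad.I_index a
  rw [eq_sq_mul h]
  exact mul_mem h2 h2

theorem commutator_mem_inn (a c : MulAut ↥Spor.M22) : a * c * a⁻¹ * c⁻¹ ∈ 𝕀 := by
  have hi := F.frame.hexad.I_index
  simp only [Subgroup.mul_mem_iff_of_index_two hi, inv_mem_iff]
  tauto

theorem pi_E {e : G} (he : e ∈ ℰ) : π ⟨e, F.S.E_le he⟩ = 1 :=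
  (F.S.pi_eq_one_iff F.frame.ker_eq _).2 (F.S.E_le_N he)

theorem pi_E_mul {e h : G} (he : e ∈ ℰ) (hh : h ∈ ℋ) :
    π ⟨e * h, mul_mem (F.S.E_le he) hh⟩ = π ⟨h, hh⟩ := by
  rw [← one_mul (π ⟨h, hh⟩), ← F.pi_E he, ← map_mul]
  rfl

theorem pi_bt_mul_self {b : G} (hb : b ∈ Bt) :
    π ⟨b, F.Bt_H hb⟩ * π ⟨b, F.Bt_H hb⟩ = 1 := by
  rw [← map_mul, show (⟨b, F.Bt_H hb⟩ : ↥ℋ) * ⟨b, F.Bt_H hb⟩ = 1 from Subtype.ext (F.Bt_sq b hb),
    map_one]

theorem special_conj {x k : G} (hk : k ∈ ℋ) (hx : Special π V x) :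
    Special π V (k * x * k⁻¹) where
  mem_H := mul_mem (mul_mem hk hx.mem_H) (inv_mem hk)
  mul_self := by
    rw [show k * x * k⁻¹ * (k * x * k⁻¹) = k * (x * x) * k⁻¹ by group, hx.mul_self]
    group
  inn := by
    haveI := Subgroup.normal_of_index_eq_two F.frame.hexad.I_index
    rw [show (⟨k * x * k⁻¹, mul_mem (mul_mem hk hx.mem_H) (inv_mem hk)⟩ : ↥ℋ) =
      ⟨k, hk⟩ * ⟨x, hx.mem_H⟩ * (⟨k, hk⟩)⁻¹ from rfl, map_mul, map_mul, map_inv]
    exact Subgroup.Normal.conj_mem inferInstance _ hx.inn _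
  not_E h := hx.not_E (by simpa [mul_assoc] using F.S.conj_mem_E' hk h)
  not_V h := hx.not_V (h.of_conj hk)

theorem exists_form [Finite G] {x : G} (hx : Special π V x) :
    ∃ k ∈ ℋ, ∃ e ∈ ℰ, ∃ b ∈ Bt, b ∉ Subgroup.zpowers z ∧ k * x * k⁻¹ = e * b := by
  have ha1 : π ⟨x, hx.mem_H⟩ ≠ 1 := fun h => hx.not_E
    (F.S.mem_E_of_two ((F.S.pi_eq_one_iff F.frame.ker_eq _).1 h) (a := 1)
      (by rw [pow_one, pow_two]; exact hx.mul_self))
  have ha2 : π ⟨x, hx.mem_H⟩ ^ 2 = 1 := by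
    rw [pow_two, ← map_mul, show (⟨x, hx.mem_H⟩ : ↥ℋ) * ⟨x, hx.mem_H⟩ = 1 from
      Subtype.ext hx.mul_self, map_one]
  obtain ⟨g, -, hg⟩ := F.frame.hexad.conj_inv _ hx.inn (orderOf_eq_prime ha2 ha1)
  obtain ⟨⟨k, hk⟩, rfl⟩ := F.frame.surj g
  obtain ⟨b, hb, hbH, hbβ⟩ := F.Bt_surj _ hg
  have hx' := F.special_conj hk hx
  obtain ⟨e, he, heq⟩ := F.exists_eq_mul hx'.mem_H (a := 1)
    (by rw [pow_one, pow_two]; exact hx'.mul_self) hb (by
      rw [hbβ, show (⟨k * x * k⁻¹, hx'.mem_H⟩ : ↥ℋ) = ⟨k, hk⟩ * ⟨x, hx.mem_H⟩ * (⟨k, hk⟩)⁻¹ from rfl,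
        map_mul, map_mul, map_inv])
  refine ⟨k, hk, e, he, b, hb, fun hbz => ha1 ?_, heq⟩
  rw [F.pi_eq_one_of_zpowers hbz hbH] at hbβ
  exact conj_eq_one_iff.1 hbβ.symm

theorem form [Finite G] {e b : G} (he : e ∈ ℰ) (hb : b ∈ Bt) (hx : Special π V (e * b)) :
    Commute e b ∧ e * e = 1 ∧ e ∉ D := by
  have hb2 := F.Bt_inv hb
  have h1 : b * e * b⁻¹ = e⁻¹ := by
    rw [eq_comm, inv_eq_iff_mul_eq_one, ← hx.mul_self, hb2]
    group
  have hc : Commute e b := F.commute_Bt hb he (by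
    rw [show e * b * e⁻¹ * b⁻¹ = e * (b * e * b⁻¹)⁻¹ by group, h1, inv_inv]
    exact F.S.sq_mem he)
  refine ⟨hc, ?_, fun hD => hx.not_V ⟨1, one_mem _, ?_⟩⟩
  · have h2 := hx.mul_self
    rwa [show e * b * (e * b) = e * (b * e) * b by group, ← hc.eq,
      show e * (e * b) * b = e * e * (b * b) by group, F.Bt_sq b hb, mul_one] at h2
  · simpa using F.V_mem_mul hD hb

theorem not_mem_N [Finite G] {x p : G} (hx : Special π V x) (hp3 : orderOf p = 3)
    (hc : Commute p x) : p ∉ N := by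
  have S := F.S
  intro hpN
  obtain ⟨n, hn, hnp⟩ := S.exists_conj_P hpN hp3
  have hne : n * p * n⁻¹ ≠ 1 := fun h => by
    rw [conj_eq_one_iff.1 h, orderOf_one] at hp3
    exact absurd hp3 (by norm_num)
  have hx₁ := F.special_conj (S.N_le hn) hx
  set x₁ := n * x * n⁻¹ with hx₁def
  have hcen : x₁ ∈ Subgroup.centralizer (P : Set G) := by
    refine Subgroup.mem_centralizer_iff.2 fun q hq => ?_
    rw [SetLike.mem_coe, S.eq_zpowers_of_mem_P hnp hne] at hq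
    obtain ⟨i, rfl⟩ := hq
    exact (hc.map (MulAut.conj n).toMonoidHom).zpow_left i
  have ha1 : π ⟨x₁, hx₁.mem_H⟩ ≠ 1 := fun h => hx₁.not_E
    (S.mem_E_of_two ((S.pi_eq_one_iff F.frame.ker_eq _).1 h) (a := 1)
      (by rw [pow_one, pow_two]; exact hx₁.mul_self))
  have ha2 : π ⟨x₁, hx₁.mem_H⟩ ^ 2 = 1 := by
    rw [pow_two, ← map_mul, show (⟨x₁, hx₁.mem_H⟩ : ↥ℋ) * ⟨x₁, hx₁.mem_H⟩ = 1 from
      Subtype.ext hx₁.mul_self, map_one]
  obtain ⟨g, hgI, hg⟩ := F.frame.hexad.conj_inv _ hx₁.inn (orderOf_eq_prime ha2 ha1)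
  obtain ⟨c, rfl⟩ := S.exists_C_lift F.frame.surj F.frame.ker_eq hgI
  have hx₂ := F.special_conj c.2.1 hx₁
  obtain ⟨b, hb, hbH, hbβ⟩ := F.Bt_surj _ hg
  obtain ⟨e, he, heq⟩ := F.exists_eq_mul hx₂.mem_H (a := 1)
    (by rw [pow_one, pow_two]; exact hx₂.mul_self) hb (by
      rw [hbβ, show (⟨(c : G) * x₁ * (c : G)⁻¹, hx₂.mem_H⟩ : ↥ℋ) =
        Subgroup.inclusion inf_le_left c * ⟨x₁, hx₁.mem_H⟩ *
          (Subgroup.inclusion inf_le_left c)⁻¹ from rfl, map_mul, map_mul, map_inv])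
  rw [heq] at hx₂
  refine (F.form he hb hx₂).2.2 (Subgroup.zpowers_le.2 F.z_mem_D ?_)
  rw [← S.fixP]
  refine ⟨he, ?_⟩
  rw [show e = (c : G) * x₁ * (c : G)⁻¹ * b⁻¹ by rw [heq, mul_inv_cancel_right]]
  exact mul_mem (mul_mem (mul_mem c.2.2 hcen) (Subgroup.inv_mem _ c.2.2)) (Subgroup.inv_mem _ (F.Bt_le hb).2)

theorem exists_conj_C [Finite G] {p : G} (hp : p ∈ ℋ) (hp3 : p ^ 3 = 1)
    (hI : π ⟨p, hp⟩ ∈ 𝕀) :
    ∃ f ∈ ℰ, ∃ c ∈ ℋ ⊓ Subgroup.centralizer (P : Set G), p = f * c * f⁻¹ := by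
  have S := F.S
  obtain ⟨e, he, c, hc, h⟩ := S.exists_mul_C F.frame.surj F.frame.ker_eq hI
  obtain ⟨e', he', hpow⟩ := S.exists_pow_eq he hc.1 3
  rw [← h, hp3] at hpow
  have hw : c ^ 3 ∈ Subgroup.zpowers z := by
    rw [← S.fixP]
    exact ⟨by rw [eq_inv_of_mul_eq_one_right hpow.symm]; exact Subgroup.inv_mem _ he', pow_mem hc.2 3⟩
  set w := c ^ 3 with hwdef
  have hwc : Commute w c := S.commute_of_mem_zpowers hw hc.1
  have hw2 := S.sq_of_mem_zpowers hw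
  set d := c * w with hd
  set g := e * w with hg
  have hgE : g ∈ ℰ := mul_mem he (S.zpowers_le_E hw)
  have hdC : d ∈ ℋ ⊓ Subgroup.centralizer (P : Set G) :=
    mul_mem hc (S.zP_le_C (Subgroup.mem_sup_left hw))
  have hd3 : d ^ 3 = 1 := by
    rw [hd, hwc.symm.mul_pow, ← hwdef, pow_succ, pow_two, hw2, one_mul, hw2]
  have hpd : p = g * d := by
    rw [hg, hd, show e * w * (c * w) = e * (w * c) * w by group, hwc.eq,
      show e * (c * w) * w = e * c * (w * w) by group, hw2, mul_one]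
    exact h
  refine ⟨d * g * d⁻¹, S.conj_mem_E hdC.1 hgE, d, hdC, ?_⟩
  set f := d * g * d⁻¹ with hf
  have hfE : f ∈ ℰ := S.conj_mem_E hdC.1 hgE
  have h3 : g * f * (d * f * d⁻¹) = 1 := by
    calc g * f * (d * f * d⁻¹) = p * p * p * (d ^ 3)⁻¹ := by rw [hf, hpd, pow_succ, pow_two]; group
      _ = 1 := by rw [hd3, inv_one, mul_one, ← hp3, pow_succ, pow_two]
  have hv : f * g * f * g⁻¹ ∈ Subgroup.zpowers z := by
    have h1 := mul_mem (S.sq_mem hfE) (S.commutator_mem (inv_mem hfE) hgE)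
    rwa [show f * f * (f⁻¹ * g * f⁻¹⁻¹ * g⁻¹) = f * g * f * g⁻¹ by group] at h1
  have h4 : f * d * f⁻¹ = f * g * f * g⁻¹ * p := by
    calc f * d * f⁻¹ = f * (d * f * d⁻¹)⁻¹ * d := by group
      _ = f * (g * f) * d := by rw [eq_inv_of_mul_eq_one_right h3, inv_inv]
      _ = _ := by rw [hpd]; group
  have hvp := S.commute_of_mem_zpowers hv hp
  have h5 : (f * d * f⁻¹) ^ 3 = 1 := by rw [conj_pow, hd3]; group
  rw [h4, hvp.mul_pow, hp3, mul_one, pow_succ, pow_two] at h5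
  rw [h4, S.cube_of_mem_zpowers hv h5, one_mul]

/-- An element of `C_H(P)` of order dividing 9 commutes with `b` if it does so over `M22`. -/
theorem commute_bt [Finite G] {c b : G} (hc : c ∈ ℋ ⊓ Subgroup.centralizer (P : Set G))
    (h9 : c ^ 9 = 1) (hb : b ∈ Bt)
    (h : Commute (π ⟨c, hc.1⟩) (π ⟨b, F.Bt_H hb⟩)) : Commute c b := by
  have S := F.S
  set t := c * b * c⁻¹ * b⁻¹ with ht
  have hbC := F.Bt_le hb
  have htC : t ∈ ℋ ⊓ Subgroup.centralizer (P : Set G) :=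
    mul_mem (mul_mem (mul_mem hc hbC) (inv_mem hc)) (inv_mem hbC)
  have htN : t ∈ N := by
    refine (S.pi_eq_one_iff F.frame.ker_eq ⟨t, htC.1⟩).1 ?_
    rw [show (⟨t, htC.1⟩ : ↥ℋ) = ⟨c, hc.1⟩ * ⟨b, hbC.1⟩ * (⟨c, hc.1⟩)⁻¹ * (⟨b, hbC.1⟩)⁻¹ from rfl,
      map_mul, map_mul, map_mul, map_inv, map_inv, h.eq, mul_inv_cancel_right, mul_inv_cancel]
  have hzP : t ∈ Subgroup.zpowers z ⊔ P :=
    S.N_inf_normalizer ▸ ⟨htN, (S.C_le_normalizer_P htC).2⟩
  have hcen : ∀ d ∈ ℋ ⊓ Subgroup.centralizer (P : Set G), Commute t d := by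
    intro d hd
    have h1 : (⟨t, htC⟩ : ↥(ℋ ⊓ Subgroup.centralizer (P : Set G))) ∈
        Subgroup.center ↥(ℋ ⊓ Subgroup.centralizer (P : Set G)) := by
      rw [S.center_C, Subgroup.mem_subgroupOf]; exact hzP
    exact (congrArg Subtype.val (Subgroup.mem_center_iff.1 h1 ⟨d, hd⟩)).symm
  have htb : c * b * c⁻¹ = t * b := by rw [ht]; group
  have ht2 : t * t = 1 := by
    have h1 : (c * b * c⁻¹) * (c * b * c⁻¹) = 1 := by
      rw [show c * b * c⁻¹ * (c * b * c⁻¹) = c * (b * b) * c⁻¹ by group, F.Bt_sq b hb]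
      group
    rwa [htb, show t * b * (t * b) = t * (b * t) * b by group, ← (hcen b hbC).eq,
      show t * (t * b) * b = t * t * (b * b) by group, F.Bt_sq b hb, mul_one] at h1
  have hpow : ∀ n : ℕ, c ^ n * b * (c ^ n)⁻¹ = t ^ n * b := by
    intro n
    induction n with
    | zero => simp
    | succ n ih =>
      rw [pow_succ' c, show c * c ^ n * b * (c * c ^ n)⁻¹ = c * (c ^ n * b * (c ^ n)⁻¹) * c⁻¹ by group,
        ih, show c * (t ^ n * b) * c⁻¹ = (c * t ^ n * c⁻¹) * (c * b * c⁻¹) by group, htb,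
        ← ((hcen c hc).pow_left n).eq, mul_inv_cancel_right, pow_succ]
      group
  have h1 := hpow 9
  rw [h9, one_mul, inv_one, mul_one, eq_comm, mul_eq_right,
    show (9 : ℕ) = 2 * 4 + 1 from rfl, pow_succ, pow_mul, pow_two, ht2, one_pow, one_mul] at h1
  rw [ht, mul_inv_eq_one, mul_inv_eq_iff_eq_mul] at h1
  exact h1

end FusionData

end CfsgLib.JFour
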