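import Cfsg.Agent.Lib.JFour.FusionCentral
import Cfsg.Agent.Lib.CoprimeAction.Basic

/-!
# Fusion in groups of Janko-four type: a special involution commutes with an element of order three
-/

set_option autoImplicit false
set_option linter.style.haveILetI false
set_option linter.unusedSectionVars false

open Cfsg

namespace CfsgLib.JFour

theorem exists_three_commute {A : Type*} [Group A] [Finite A] {I M B : Subgroup A}
    (h : HexadData I M B) (hA : Nat.card A = 887040) {β : A} (hβ : β ∈ B) (hβ1 : β ≠ 1) :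
    ∃ r ∈ M ⊓ I, orderOf r = 3 ∧ Commute r β := by
  classical
  haveI : Fact (Nat.Prime 3) := ⟨Nat.prime_three⟩
  haveI := Subgroup.normal_of_index_eq_two h.I_index
  set L := M ⊓ I with hL
  have hconj : ∀ g : ↥L, ∀ x : A, x ∈ B → (g : A) * x * (g : A)⁻¹ ∈ B := fun g x hx => by
    have h1 : (g : A) ∈ Subgroup.normalizer (B : Set A) := h.M_eq ▸ (Subgroup.mem_inf.1 g.2).1
    exact (Subgroup.mem_normalizer_iff.1 h1 x).1 hx
  letI : MulAction ↥L A :=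
    MulAction.compHom A (ConjAct.toConjAct.toMonoidHom.comp L.subtype)
  have hsmul : ∀ (g : ↥L) (x : A), g • x = (g : A) * x * (g : A)⁻¹ := fun g x => rfl
  have horb : MulAction.orbit ↥L β = (B : Set A) \ {1} := by
    ext x
    constructor
    · rintro ⟨g, rfl⟩
      refine ⟨hconj g β hβ, fun h1 => hβ1 ?_⟩
      exact conj_eq_one_iff.1 h1
    · rintro ⟨hx, hx1⟩
      obtain ⟨g, hg, hgx⟩ := h.conj_B β hβ hβ1 x hx hx1
      exact ⟨⟨g, hg⟩, hgx⟩
  have hi : (MulAction.stabilizer ↥L β).index = 15 := by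
    rw [MulAction.index_stabilizer, horb,
      Set.ncard_sdiff_singleton_of_mem (show (1 : A) ∈ (B : Set A) from one_mem B),
      ← Nat.card_coe_set_eq]
    exact congrArg (· - 1) h.B_card
  have hcard : 45 ∣ Nat.card ↥L := by
    have hM := M.card_mul_index
    rw [h.M_index, hA] at hM
    have h1 := (I.subgroupOf M).card_mul_index
    have hsub : I.subgroupOf M = L.subgroupOf M := by
      ext x; simp [L, Subgroup.mem_subgroupOf]
    rw [hsub, Nat.card_congr (Subgroup.subgroupOfEquivOfLe (inf_le_left : L ≤ M)).toEquiv,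
      ← hsub] at h1
    have h2 : I.relIndex M ∣ 2 := h.I_index ▸ Subgroup.relIndex_dvd_index_of_normal I M
    change Nat.card ↥L * I.relIndex M = Nat.card ↥M at h1
    rcases (Nat.dvd_prime Nat.prime_two).1 h2 with h3 | h3 <;> rw [h3] at h1 <;> omega
  have h3 : 3 ∣ Nat.card ↥(MulAction.stabilizer ↥L β) := by
    have := (MulAction.stabilizer ↥L β).card_mul_index
    rw [hi] at this
    omega
  obtain ⟨r, hr⟩ := exists_prime_orderOf_dvd_card' 3 h3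
  refine ⟨((r : ↥L) : A), (r : ↥L).2, by rwa [Subgroup.orderOf_coe, Subgroup.orderOf_coe], ?_⟩
  exact mul_inv_eq_iff_eq_mul.1 (MulAction.mem_stabilizer_iff.1 r.2)

variable {G : Type*} [Group G]

namespace Setting

variable {z : G} {P N : Subgroup G} (S : Setting z P N)
include S

/-- An element of `E` centralising `g` modulo `⟨z⟩` conjugates it like its commutator. -/
theorem conj_E {e f : G} (he : e ∈ twoCoreOfCentralizer z) (hf : f ∈ twoCoreOfCentralizer z) :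
    ∃ w ∈ Subgroup.zpowers z, e * f * e⁻¹ = w * f :=
  ⟨_, S.commutator_mem he hf, by group⟩

end Setting

namespace FusionData

variable {z : G} {P N : Subgroup G}
  {π : ↥(Subgroup.centralizer ({z} : Set G)) →* MulAut ↥Spor.M22}
  {M B : Subgroup (MulAut ↥Spor.M22)} {Bt D V : Subgroup G}
  (F : FusionData (P := P) (N := N) π M B Bt D V)
include F

set_option quotPrecheck false in
local notation "ℋ" => Subgroup.centralizer (singleton z : Set G)
set_option quotPrecheck false in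
local notation "ℰ" => twoCoreOfCentralizer z

/-- A lift in `C_H(P)` of an element of order three of `M` centralising `π b`. -/
theorem exists_lift_three [Finite G] {b : G} (hb : b ∈ Bt) (hbz : b ∉ Subgroup.zpowers z) :
    ∃ p ∈ ℋ ⊓ Subgroup.centralizer (P : Set G), ∃ hp : p ∈ ℋ, p ^ 9 = 1 ∧ Commute p b ∧
      π ⟨p, hp⟩ ≠ 1 ∧ π ⟨p, hp⟩ ^ 3 = 1 ∧ π ⟨p, hp⟩ ∈ M := by
  have S := F.S
  haveI : Finite (MulAut ↥Spor.M22) :=
    Nat.finite_of_card_ne_zero (by rw [card_mulAut_mTwentyTwo]; norm_num)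
  obtain ⟨r, hr, hr3, hrβ⟩ := exists_three_commute F.frame.hexad card_mulAut_mTwentyTwo
    (F.Bt_map b (F.Bt_H hb) hb) (F.pi_bt_ne_one hb hbz)
  obtain ⟨hrM, hrI⟩ := Subgroup.mem_inf.1 hr
  obtain ⟨c, hc⟩ := S.exists_C_lift F.frame.surj F.frame.ker_eq hrI
  have hr1 : r ^ 3 = 1 := hr3 ▸ pow_orderOf_eq_one r
  have h3 : (c : G) ^ 3 ∈ Subgroup.zpowers z ⊔ P := by
    rw [← S.N_inf_normalizer]
    have h1 : ((Subgroup.inclusion inf_le_left (c ^ 3) : ↥ℋ) : G) ∈ N :=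
      (S.pi_eq_one_iff F.frame.ker_eq _).1 (by rw [map_pow, map_pow, hc, hr1])
    exact Subgroup.mem_inf.2 ⟨h1, (S.C_le_normalizer_P (c ^ 3).2).2⟩
  have h18 : (c : G) ^ 18 = 1 := by
    rw [show 18 = 3 * 6 from rfl, pow_mul, ← orderOf_dvd_iff_pow_eq_one, ← S.card_zP]
    exact Subgroup.orderOf_dvd_natCard _ h3
  have hp : (c : G) ^ 10 ∈ ℋ ⊓ Subgroup.centralizer (P : Set G) := (c ^ 10).2
  have hpi : π ⟨(c : G) ^ 10, hp.1⟩ = r := by
    rw [show (⟨(c : G) ^ 10, hp.1⟩ : ↥ℋ) = Subgroup.inclusion inf_le_left c ^ 10 from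
      Subtype.ext rfl, map_pow, hc, show 10 = 3 * 3 + 1 from rfl, pow_succ, pow_mul, hr1, one_pow,
      one_mul]
  have h9 : ((c : G) ^ 10) ^ 9 = 1 := by
    rw [← pow_mul, show 10 * 9 = 18 * 5 from rfl, pow_mul, h18, one_pow]
  refine ⟨_, hp, hp.1, h9, F.commute_bt hp h9 hb (by rw [hpi]; exact hrβ), ?_, by rw [hpi, hr1],
    by rw [hpi]; exact hrM⟩
  rw [hpi]
  intro h
  rw [h, orderOf_one] at hr3
  exact absurd hr3 (by norm_num)

/-- Elements of `C_H(P)` over `M` normalise `D`. -/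
theorem conj_mem_D [Finite G] {p : G} (hp : p ∈ ℋ ⊓ Subgroup.centralizer (P : Set G))
    (hM : π ⟨p, hp.1⟩ ∈ M) {a : G} (ha : a ∈ D) : p * a * p⁻¹ ∈ D := by
  have S := F.S
  refine F.mem_D_iff.2 ⟨S.conj_mem_E hp.1 (F.D_le ha), fun b hb => ?_⟩
  have hwC : p⁻¹ * b * p ∈ ℋ ⊓ Subgroup.centralizer (P : Set G) :=
    mul_mem (mul_mem (inv_mem hp) (F.Bt_le hb)) hp
  have hwB : π ⟨p⁻¹ * b * p, hwC.1⟩ ∈ B := by
    rw [show (⟨p⁻¹ * b * p, hwC.1⟩ : ↥ℋ) = (⟨p, hp.1⟩)⁻¹ * ⟨b, F.Bt_H hb⟩ * ⟨p, hp.1⟩ from rfl,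
      map_mul, map_mul, map_inv]
    have h1 : π ⟨p, hp.1⟩ ∈ Subgroup.normalizer (B : Set (MulAut ↥Spor.M22)) :=
      F.frame.hexad.M_eq ▸ hM
    exact (Subgroup.mem_normalizer_iff''.1 h1 _).1 (F.Bt_map b _ hb)
  obtain ⟨b', hb', hbH, hbβ⟩ := F.Bt_surj _ hwB
  obtain ⟨e, he, heq⟩ := F.exists_eq_mul hwC.1 (a := 1) (by
    rw [pow_one, pow_two, show p⁻¹ * b * p * (p⁻¹ * b * p) = p⁻¹ * (b * b) * p by group,
      F.Bt_sq b hb]
    group) hb' hbβ.symm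
  have hez : e ∈ Subgroup.zpowers z := by
    rw [← S.fixP]
    refine ⟨he, ?_⟩
    rw [show e = p⁻¹ * b * p * b'⁻¹ by rw [heq, mul_inv_cancel_right]]
    exact mul_mem hwC.2 (Subgroup.inv_mem _ (F.Bt_le hb').2)
  have hab : Commute a (p⁻¹ * b * p) := by
    rw [heq]
    exact (S.commute_of_mem_zpowers hez (S.E_le (F.D_le ha))).symm.mul_right (F.D_Bt a ha b' hb')
  have := hab.map (MulAut.conj p).toMonoidHom
  simp only [MulEquiv.coe_toMonoidHom, MulAut.conj_apply] at this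
  rwa [show p * (p⁻¹ * b * p) * p⁻¹ = b by group] at this

/-- `K = C_E(C_E(b))`: it has order `2 ^ 5`, lies in `D`, and consists of commutators with `b`. -/
theorem cen_cen [Finite G] {b : G} (hb : b ∈ Bt) (hbz : b ∉ Subgroup.zpowers z) :
    ∃ K : Subgroup G, K ≤ D ∧ Nat.card ↥K = 2 ^ 5 ∧ z ∈ K ∧
      (∀ k, k ∈ K ↔ k ∈ ℰ ∧ ∀ g ∈ ℰ, Commute g b → Commute k g) ∧
      (∀ k ∈ K, ∃ f ∈ ℰ, ∃ w ∈ Subgroup.zpowers z, k = w * (f * b * f⁻¹ * b⁻¹)) := by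
  classical
  have S := F.S
  set Cb := ℰ ⊓ Subgroup.centralizer ({b} : Set G) with hCb
  have hmemCb : ∀ g, g ∈ Cb ↔ g ∈ ℰ ∧ Commute g b := fun g => by
    rw [hCb, Subgroup.mem_inf, Subgroup.mem_centralizer_singleton_iff]; rfl
  set K := ℰ ⊓ Subgroup.centralizer (Cb : Set G) with hK
  have hmemK : ∀ k, k ∈ K ↔ k ∈ ℰ ∧ ∀ g ∈ ℰ, Commute g b → Commute k g := fun k => by
    rw [hK, Subgroup.mem_inf, Subgroup.mem_centralizer_iff]
    exact and_congr_right fun _ => ⟨fun h g hg hgb => (h g ((hmemCb g).2 ⟨hg, hgb⟩)).symm,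
      fun h g hg => (h g ((hmemCb g).1 hg).1 ((hmemCb g).1 hg).2).symm⟩
  have hzCb : z ∈ Cb := (hmemCb z).2 ⟨S.z_mem_E, S.z_commute (F.Bt_H hb)⟩
  have hcardK : Nat.card ↥K = 2 ^ 5 := by
    have h := CfsgLib.ClassK.card_inf_centralizer_mul_card S.extra (D := Cb)
      (S.center_le ▸ Subgroup.zpowers_le.2 hzCb) inf_le_left
    rw [F.card_cen b hb hbz, S.cardE, ← hK] at h
    omega
  have hzK : z ∈ K := (hmemK z).2 ⟨S.z_mem_E, fun g hg _ => S.z_commute (S.E_le hg)⟩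
  have hKD : K ≤ D := fun k hk => F.D_self ((hmemK k).1 hk).1 fun a ha =>
    (((hmemK k).1 hk).2 a (F.D_le ha) (F.D_Bt a ha b hb)).eq
  have hcomm : ∀ f ∈ ℰ, f * b * f⁻¹ * b⁻¹ ∈ K := by
    intro f hf
    refine (hmemK _).2 ⟨F.D_le (F.comm_mem_D b hb f hf), fun g hg hgb => ?_⟩
    obtain ⟨w, hw, hgf⟩ := S.conj_E hg hf
    have hwb : Commute w b := S.commute_of_mem_zpowers hw (F.Bt_H hb)
    have h1 : g * (f * b * f⁻¹ * b⁻¹) * g⁻¹ = f * b * f⁻¹ * b⁻¹ := by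
      calc g * (f * b * f⁻¹ * b⁻¹) * g⁻¹
          = (g * f * g⁻¹) * (g * b * g⁻¹) * (g * f * g⁻¹)⁻¹ * (g * b * g⁻¹)⁻¹ := by group
        _ = w * (f * b * f⁻¹) * w⁻¹ * b⁻¹ := by
            rw [hgf, show g * b * g⁻¹ = b by rw [hgb.eq, mul_inv_cancel_right]]; group
        _ = _ := by
            rw [(S.commute_of_mem_zpowers hw (mul_mem (mul_mem (S.E_le hf) (F.Bt_H hb))
              (inv_mem (S.E_le hf)))).eq, mul_inv_cancel_right]
    exact (mul_inv_eq_iff_eq_mul.1 h1).symm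
  refine ⟨K, hKD, hcardK, hzK, hmemK, fun k hk => ?_⟩
  let Φ : (↥ℰ ⧸ Cb.subgroupOf ℰ) × ↥(Subgroup.zpowers z) → ↥K := fun x =>
    ⟨(x.2 : G) * ((x.1.out : G) * b * (x.1.out : G)⁻¹ * b⁻¹),
      mul_mem (Subgroup.zpowers_le.2 hzK x.2.2) (hcomm _ x.1.out.2)⟩
  have hinj : Function.Injective Φ := by
    rintro ⟨s, w⟩ ⟨s', w'⟩ h
    have h1 : (w : G) * ((s.out : G) * b * (s.out : G)⁻¹ * b⁻¹) =
        (w' : G) * ((s'.out : G) * b * (s'.out : G)⁻¹ * b⁻¹) := congrArg Subtype.val h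
    set f := (s.out : G)
    set f' := (s'.out : G)
    have hf : f ∈ ℰ := s.out.2
    have hf' : f' ∈ ℰ := s'.out.2
    have hu : (w : G)⁻¹ * w' ∈ Subgroup.zpowers z := mul_mem (inv_mem w.2) w'.2
    have h2 : f * b * f⁻¹ = (w : G)⁻¹ * w' * (f' * b * f'⁻¹) := by
      calc f * b * f⁻¹ = (w : G)⁻¹ * ((w : G) * (f * b * f⁻¹ * b⁻¹)) * b := by group
        _ = _ := by rw [h1]; group
    have hg : f'⁻¹ * f ∈ ℰ := mul_mem (inv_mem hf') hf
    have h3 : f'⁻¹ * f * b * (f'⁻¹ * f)⁻¹ * b⁻¹ = (w : G)⁻¹ * w' := by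
      calc f'⁻¹ * f * b * (f'⁻¹ * f)⁻¹ * b⁻¹ = f'⁻¹ * (f * b * f⁻¹) * f' * b⁻¹ := by group
        _ = f'⁻¹ * ((w : G)⁻¹ * w') * (f' * b * b⁻¹) := by rw [h2]; group
        _ = _ := by
            rw [← (S.commute_of_mem_zpowers hu (inv_mem (S.E_le hf'))).eq, mul_inv_cancel_right,
              inv_mul_cancel_right]
    have hc : Commute (f'⁻¹ * f) b := F.commute_Bt hb hg (by rw [h3]; exact hu)
    rw [hc.eq, mul_inv_cancel_right, mul_inv_cancel, eq_comm, inv_mul_eq_one] at h3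
    have hs : s' = s := by
      rw [← QuotientGroup.out_eq' s, ← QuotientGroup.out_eq' s', QuotientGroup.eq,
        Subgroup.mem_subgroupOf, Subgroup.coe_mul, Subgroup.coe_inv]
      exact (hmemCb _).2 ⟨hg, hc⟩
    rw [hs, Subtype.ext h3]
  have hbij : Function.Bijective Φ := (Nat.bijective_iff_injective_and_card Φ).2 ⟨hinj, by
    have h1 := (Cb.subgroupOf ℰ).card_mul_index
    rw [Nat.card_congr (Subgroup.subgroupOfEquivOfLe (inf_le_left : Cb ≤ ℰ)).toEquiv,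
      F.card_cen b hb hbz, S.cardE, Subgroup.index] at h1
    rw [Nat.card_prod, Nat.card_zpowers, S.orderZ, hcardK]
    omega⟩
  obtain ⟨⟨s, w⟩, hsw⟩ := hbij.2 ⟨k, hk⟩
  exact ⟨_, s.out.2, _, w.2, (congrArg Subtype.val hsw).symm⟩

/-- A suitable element of order dividing 9 centralises `D / K`. -/
theorem exists_trivial_on_D [Finite G] {b : G} (hb : b ∈ Bt) (hbz : b ∉ Subgroup.zpowers z)
    {K : Subgroup G} (hKD : K ≤ D) (hcK : Nat.card ↥K = 2 ^ 5) (hzK : z ∈ K)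
    (hmem : ∀ k, k ∈ K ↔ k ∈ ℰ ∧ ∀ g ∈ ℰ, Commute g b → Commute k g) :
    ∃ p ∈ ℋ ⊓ Subgroup.centralizer (P : Set G), ∃ hp : p ∈ ℋ, p ^ 9 = 1 ∧ Commute p b ∧
      π ⟨p, hp⟩ ≠ 1 ∧ π ⟨p, hp⟩ ^ 3 = 1 ∧ ∀ d ∈ D, p * d * p⁻¹ * d⁻¹ ∈ K := by
  classical
  have S := F.S
  obtain ⟨p₀, hp₀, hp₀H, h9, hpb, hπ1, hπ3, hπM⟩ := F.exists_lift_three hb hbz
  obtain ⟨q, hq, hq1, hqo, -⟩ := S.exists_generator
  have hq3 : q ^ 3 = 1 := hqo ▸ pow_orderOf_eq_one q
  have hqH := S.P_le_H hq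
  have hqb : Commute q b := Subgroup.mem_centralizer_iff.1 (F.Bt_le hb).2 q hq
  have hqp : Commute q p₀ := Subgroup.mem_centralizer_iff.1 hp₀.2 q hq
  have hKconj : ∀ h ∈ ℋ, Commute h b → ∀ k ∈ K, h * k * h⁻¹ ∈ K := by
    intro h hh hhb k hk
    refine (hmem _).2 ⟨S.conj_mem_E hh ((hmem k).1 hk).1, fun g hg hgb => ?_⟩
    have h1 := (((hmem k).1 hk).2 (h⁻¹ * g * h) (S.conj_mem_E' hh hg)
      ((hhb.inv_left.mul_left hgb).mul_left hhb)).map (MulAut.conj h).toMonoidHom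
    simp only [MulEquiv.coe_toMonoidHom, MulAut.conj_apply] at h1
    rwa [show h * (h⁻¹ * g * h) * h⁻¹ = g by group] at h1
  have hsqK : ∀ d ∈ D, d * d ∈ K := fun d hd =>
    Subgroup.zpowers_le.2 hzK (S.sq_mem (F.D_le hd))
  obtain ⟨u, huD, huK⟩ : ∃ u ∈ D, u ∉ K := by
    by_contra! hall
    have h1 := Subgroup.card_le_of_le (show D ≤ K from hall)
    rw [F.D_card, hcK] at h1
    norm_num at h1
  set u₁ := q * u * q⁻¹ with hu₁
  set u₂ := q * u₁ * q⁻¹ with hu₂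
  have hu₁D : u₁ ∈ D := F.D_P q hq u huD
  have hu₂D : u₂ ∈ D := F.D_P q hq u₁ hu₁D
  have htri : u * u₁ * u₂ ∈ K :=
    Subgroup.zpowers_le.2 hzK (S.triple_mem_zpowers hq hq1 (F.D_le huD))
  have hu₁K : u₁ ∉ K := fun h => huK (by
    have := hKconj q⁻¹ (inv_mem hqH) hqb.inv_left _ h
    rwa [hu₁, show q⁻¹ * (q * u * q⁻¹) * q⁻¹⁻¹ = u by group] at this)
  have huu₁K : u * u₁ ∉ K := fun h => hu₁K (by
    have h2 : u₂ ∈ K := by have := mul_mem (inv_mem h) htri; rwa [inv_mul_cancel_left] at this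
    have := hKconj q⁻¹ (inv_mem hqH) hqb.inv_left _ h2
    rwa [hu₂, show q⁻¹ * (q * u₁ * q⁻¹) * q⁻¹⁻¹ = u₁ by group] at this)
  have hdiff : u * u₁⁻¹ ∉ K := fun h => by
    -- then all three conjugates agree modulo `K`
    have h' := hKconj q hqH hqb _ h
    rw [show q * (u * u₁⁻¹) * q⁻¹ = (q * u * q⁻¹) * (q * u₁ * q⁻¹)⁻¹ by group, ← hu₁, ← hu₂] at h'
    have h3 : u * u * u ∈ K := by
      have e : u * u * u = u * u₁ * u₂ * ((u * u₁⁻¹) * (u₁ * u₂⁻¹)) * (u * u₁⁻¹) := by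
        have c1 : Commute u u₁ := F.D_comm u huD u₁ hu₁D
        have c2 : Commute u u₂ := F.D_comm u huD u₂ hu₂D
        calc u * u * u = u * (u * u * u₁) * u₁⁻¹ := by group
          _ = u * u₁ * (u * u₂) * u₂⁻¹ * u * u₁⁻¹ := by rw [(c1.mul_left c1).eq]; group
          _ = _ := by rw [c2.eq]; group
      rw [e]
      exact mul_mem (mul_mem htri (mul_mem h h')) h
    have := mul_mem (inv_mem (hsqK u huD)) h3
    rw [inv_mul_cancel_left] at this
    exact huK this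
  -- the four cosets of `K` in `D`
  let t : Fin 4 → G := ![1, u, u₁, u * u₁]
  have ht : ∀ i, t i ∈ D := by
    intro i; fin_cases i
    · exact one_mem D
    · exact huD
    · exact hu₁D
    · exact mul_mem huD hu₁D
  have hsep : ∀ i j, i ≠ j → t i * (t j)⁻¹ ∉ K := by
    have c1 : Commute u u₁ := F.D_comm u huD u₁ hu₁D
    have a1 : u * (u * u₁)⁻¹ = u₁⁻¹ := by rw [c1.eq]; group
    have a2 : u₁ * (u * u₁)⁻¹ = u⁻¹ := by group
    have b1 : u⁻¹ ∉ K := fun h => huK (by simpa using inv_mem h)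
    have b2 : u₁⁻¹ ∉ K := fun h => hu₁K (by simpa using inv_mem h)
    intro i j hij hmemK
    have hmemK' : t j * (t i)⁻¹ ∈ K := by simpa using inv_mem hmemK
    fin_cases i <;> fin_cases j <;> simp only [t, Matrix.cons_val, Fin.zero_eta, Fin.mk_one,
        Fin.reduceFinMk, inv_one, one_mul, mul_one] at hij hmemK hmemK'
    all_goals first
      | exact hij rfl
      | exact huK hmemK | exact huK hmemK'
      | exact hu₁K hmemK | exact hu₁K hmemK'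
      | exact huu₁K hmemK | exact huu₁K hmemK'
      | exact hdiff hmemK | exact hdiff hmemK'
      | (rw [a1] at hmemK; exact b2 hmemK) | (rw [a1] at hmemK'; exact b2 hmemK')
      | (rw [a2] at hmemK; exact b1 hmemK) | (rw [a2] at hmemK'; exact b1 hmemK')
  let Φ : ↥K × Fin 4 → ↥D := fun x => ⟨(x.1 : G) * t x.2, mul_mem (hKD x.1.2) (ht x.2)⟩
  have hinj : Function.Injective Φ := by
    rintro ⟨⟨k, hk⟩, i⟩ ⟨⟨k', hk'⟩, j⟩ h
    have h1 : k * t i = k' * t j := congrArg Subtype.val h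
    have hij : i = j := by
      by_contra hne
      refine hsep i j hne ?_
      rw [show t i * (t j)⁻¹ = k⁻¹ * (k * t i) * (t j)⁻¹ by group, h1, ← mul_assoc,
        mul_inv_cancel_right]
      exact mul_mem (inv_mem hk) hk'
    subst hij
    simp [mul_right_cancel h1]
  have hbij : Function.Bijective Φ := (Nat.bijective_iff_injective_and_card Φ).2 ⟨hinj, by
    rw [Nat.card_prod, hcK, Nat.card_fin, F.D_card]; norm_num⟩
  have hdec : ∀ d ∈ D, ∃ k ∈ K, ∃ i, d = k * t i := fun d hd => by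
    obtain ⟨⟨k, i⟩, h⟩ := hbij.2 ⟨d, hd⟩
    exact ⟨k, k.2, i, (congrArg Subtype.val h).symm⟩
  -- a multiple of `p₀` fixing `u K`
  have hp₀D : p₀ * u * p₀⁻¹ ∈ D := F.conj_mem_D hp₀ hπM huD
  obtain ⟨k, hk, i, hi⟩ := hdec _ hp₀D
  obtain ⟨s, hs, hfix⟩ : ∃ s ∈ P, (s * p₀) * u * (s * p₀)⁻¹ * u⁻¹ ∈ K := by
    have e : ∀ s : G, s * p₀ * u * (s * p₀)⁻¹ * u⁻¹ =
        (s * k * s⁻¹) * (s * t i * s⁻¹ * u⁻¹) := fun s => by
      rw [show s * p₀ * u * (s * p₀)⁻¹ = s * (p₀ * u * p₀⁻¹) * s⁻¹ by group, hi]; group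
    fin_cases i
    · exfalso
      refine huK ?_
      have h1 := hKconj p₀⁻¹ (inv_mem hp₀H) hpb.inv_left _
        (show p₀ * u * p₀⁻¹ ∈ K by rw [hi]; exact mul_mem hk (one_mem K))
      rwa [show p₀⁻¹ * (p₀ * u * p₀⁻¹) * p₀⁻¹⁻¹ = u by group] at h1
    · refine ⟨1, one_mem P, ?_⟩
      rw [e]
      simpa [t] using hk
    · refine ⟨q⁻¹, inv_mem hq, ?_⟩
      rw [e]
      refine mul_mem (hKconj _ (inv_mem hqH) hqb.inv_left k hk) ?_
      show q⁻¹ * u₁ * q⁻¹⁻¹ * u⁻¹ ∈ K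
      rw [hu₁, show q⁻¹ * (q * u * q⁻¹) * q⁻¹⁻¹ * u⁻¹ = 1 by group]
      exact one_mem K
    · refine ⟨q, hq, ?_⟩
      rw [e]
      refine mul_mem (hKconj _ hqH hqb k hk) ?_
      show q * (u * u₁) * q⁻¹ * u⁻¹ ∈ K
      rw [show q * (u * u₁) * q⁻¹ * u⁻¹ = u⁻¹ * (u * u₁ * u₂) * u⁻¹ by rw [hu₂, hu₁]; group]
      rw [show u⁻¹ * (u * u₁ * u₂) * u⁻¹ = (u * u₁ * u₂) * (u * u)⁻¹ by
        rw [(show Commute u⁻¹ (u * u₁ * u₂) from (F.D_comm _ (inv_mem huD) _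
          (mul_mem (mul_mem huD hu₁D) hu₂D))).eq]
        group]
      exact mul_mem htri (inv_mem (hsqK u huD))
  have hsC : s ∈ ℋ ⊓ Subgroup.centralizer (P : Set G) := S.P_le_C hs
  have hs3 : s ^ 3 = 1 :=
    orderOf_dvd_iff_pow_eq_one.1 (S.cardP ▸ Subgroup.orderOf_dvd_natCard _ hs)
  have hsp : Commute s p₀ := Subgroup.mem_centralizer_iff.1 hp₀.2 s hs
  have hπp : π ⟨s * p₀, mul_mem hsC.1 hp₀H⟩ = π ⟨p₀, hp₀H⟩ := by
    rw [show (⟨s * p₀, mul_mem hsC.1 hp₀H⟩ : ↥ℋ) = ⟨s, hsC.1⟩ * ⟨p₀, hp₀H⟩ from rfl, map_mul,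
      (S.pi_eq_one_iff F.frame.ker_eq ⟨s, hsC.1⟩).2 (S.P_le hs), one_mul]
  have hsb : Commute (s * p₀) b :=
    Commute.mul_left (Subgroup.mem_centralizer_iff.1 (F.Bt_le hb).2 s hs) hpb
  refine ⟨s * p₀, mul_mem hsC hp₀, mul_mem hsC.1 hp₀H, ?_, hsb, by rwa [hπp], by rwa [hπp], ?_⟩
  · rw [hsp.mul_pow, h9, mul_one, show 9 = 3 * 3 from rfl, pow_mul, hs3, one_pow]
  set p := s * p₀ with hpdef
  have hpH : p ∈ ℋ := mul_mem hsC.1 hp₀H
  have hqp' : Commute q p := (Subgroup.mem_centralizer_iff.1 (mul_mem hsC hp₀).2 q hq)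
  have hfix₁ : p * u₁ * p⁻¹ * u₁⁻¹ ∈ K := by
    have h1 := hKconj q hqH hqb _ hfix
    rwa [show q * (p * u * p⁻¹ * u⁻¹) * q⁻¹ = (q * p) * u * (q * p)⁻¹ * (q * u * q⁻¹)⁻¹ by group,
      hqp'.eq, show p * q * u * (p * q)⁻¹ = p * (q * u * q⁻¹) * p⁻¹ by group, ← hu₁] at h1
  have hmul : ∀ a c, a ∈ D → p * a * p⁻¹ * a⁻¹ ∈ K → p * c * p⁻¹ * c⁻¹ ∈ K →
      p * (a * c) * p⁻¹ * (a * c)⁻¹ ∈ K := by
    intro a c ha h1 h2
    rw [show p * (a * c) * p⁻¹ * (a * c)⁻¹ =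
      (p * a * p⁻¹ * a⁻¹) * (a * (p * c * p⁻¹ * c⁻¹) * a⁻¹) by group]
    refine mul_mem h1 ?_
    rw [F.D_comm a ha _ (hKD h2), mul_inv_cancel_right]
    exact h2
  intro d hd
  obtain ⟨k, hk, i, rfl⟩ := hdec d hd
  refine hmul k (t i) (hKD hk) (mul_mem (hKconj p hpH hsb k hk) (inv_mem hk)) ?_
  fin_cases i
  · simpa [t] using one_mem K
  · exact hfix
  · exact hfix₁
  · exact hmul u u₁ huD hfix hfix₁

/-- A special involution commutes with an element of order three. -/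
theorem exists_three [Finite G] {x : G} (hx : Special π V x) :
    ∃ p ∈ ℋ, orderOf p = 3 ∧ Commute p x := by
  classical
  have S := F.S
  obtain ⟨k₀, hk₀, e, he, b, hb, hbz, hkx⟩ := F.exists_form hx
  have hx₀ : Special π V (e * b) := hkx ▸ F.special_conj hk₀ hx
  suffices ∃ p ∈ ℋ, orderOf p = 3 ∧ Commute p (e * b) by
    obtain ⟨p, hp, ho, hc⟩ := this
    refine ⟨k₀⁻¹ * p * k₀, mul_mem (mul_mem (inv_mem hk₀) hp) hk₀, ?_, ?_⟩
    · have h := orderOf_conj_eq k₀⁻¹ p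
      rw [inv_inv] at h
      rw [h, ho]
    · rw [← hkx] at hc
      have h1 := hc.map (MulAut.conj k₀⁻¹).toMonoidHom
      simp only [MulEquiv.coe_toMonoidHom, MulAut.conj_apply, inv_inv] at h1
      rwa [show k₀⁻¹ * (k₀ * x * k₀⁻¹) * k₀ = x by group] at h1
  obtain ⟨heb, -, heD⟩ := F.form he hb hx₀
  obtain ⟨K, hKD, hcK, hzK, hmem, hgen⟩ := F.cen_cen hb hbz
  obtain ⟨p, hpC, hpH, h9, hpb, hπ1, hπ3, hD⟩ := F.exists_trivial_on_D hb hbz hKD hcK hzK hmem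
  set Cb := ℰ ⊓ Subgroup.centralizer ({b} : Set G) with hCb
  have hmemCb : ∀ g, g ∈ Cb ↔ g ∈ ℰ ∧ Commute g b := fun g => by
    rw [hCb, Subgroup.mem_inf, Subgroup.mem_centralizer_singleton_iff]; rfl
  have hKCb : K ≤ Cb := fun k hk => (hmemCb k).2 ⟨((hmem k).1 hk).1, F.D_Bt k (hKD hk) b hb⟩
  have hKconj : ∀ k ∈ K, p * k * p⁻¹ ∈ K := by
    intro k hk
    refine (hmem _).2 ⟨S.conj_mem_E hpH ((hmem k).1 hk).1, fun g hg hgb => ?_⟩
    have h1 := (((hmem k).1 hk).2 (p⁻¹ * g * p) (S.conj_mem_E' hpH hg)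
      ((hpb.inv_left.mul_left hgb).mul_left hpb)).map (MulAut.conj p).toMonoidHom
    simp only [MulEquiv.coe_toMonoidHom, MulAut.conj_apply] at h1
    rwa [show p * (p⁻¹ * g * p) * p⁻¹ = g by group] at h1
  -- `p` centralises `Cb / K`
  have hall : ∀ g ∈ Cb, ∀ n : ℕ, p ^ n * g * (p ^ n)⁻¹ * g⁻¹ ∈ K := by
    intro g hg
    obtain ⟨hgE, hgb⟩ := (hmemCb g).1 hg
    set g' := p * g * p⁻¹ with hg'
    have hg'E : g' ∈ ℰ := S.conj_mem_E hpH hgE
    have hg'b : Commute g' b := (hpb.mul_left hgb).mul_left hpb.inv_left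
    have hmid : g⁻¹ * g' ∈ D := by
      refine F.D_self (mul_mem (inv_mem hgE) hg'E) fun d hd => ?_
      obtain ⟨v, hv, hgd⟩ := S.conj_E hgE (F.D_le hd)
      set k := p * d * p⁻¹ * d⁻¹ with hk
      have hkc : g' * k * g'⁻¹ = k := by
        rw [← ((hmem k).1 (hD d hd)).2 g' hg'E hg'b, mul_inv_cancel_right]
      have h1 : g' * (k * d) * g'⁻¹ = v * (k * d) := by
        rw [show k * d = p * d * p⁻¹ by rw [hk]; group, hg',
          show p * g * p⁻¹ * (p * d * p⁻¹) * (p * g * p⁻¹)⁻¹ = p * (g * d * g⁻¹) * p⁻¹ by group,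
          hgd, ← mul_assoc p v, ← (S.commute_of_mem_zpowers hv hpH).eq]
        group
      have h2 : g' * d * g'⁻¹ = v * d := by
        have h3 : k * (g' * d * g'⁻¹) = k * (v * d) := by
          calc k * (g' * d * g'⁻¹) = (g' * k * g'⁻¹) * (g' * d * g'⁻¹) := by rw [hkc]
            _ = g' * (k * d) * g'⁻¹ := by group
            _ = _ := by
              rw [h1, ← mul_assoc, (S.commute_of_mem_zpowers hv (S.E_le (F.D_le (hKD (hD d hd))))).eq,
                mul_assoc]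
        exact mul_left_cancel h3
      rw [← hgd] at h2
      calc g⁻¹ * g' * d = g⁻¹ * (g' * d * g'⁻¹) * g' := by group
        _ = _ := by rw [h2]; group
    set w := g' * g⁻¹ with hw
    have hwD : w ∈ D := by
      obtain ⟨v, hv, hcv⟩ := S.conj_E hgE (F.D_le hmid)
      rw [hw, show g' * g⁻¹ = g * (g⁻¹ * g') * g⁻¹ by group, hcv]
      exact mul_mem (Subgroup.zpowers_le.2 F.z_mem_D hv) hmid
    have hpow : ∀ n : ℕ, p ^ n * g * (p ^ n)⁻¹ * g⁻¹ * (w ^ n)⁻¹ ∈ K := by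
      intro n
      induction n with
      | zero => simp
      | succ n ih =>
        set k := p ^ n * g * (p ^ n)⁻¹ * g⁻¹ * (w ^ n)⁻¹ with hk
        set c := p * w ^ n * p⁻¹ * (w ^ n)⁻¹ with hc
        have hc' : c ∈ K := hD _ (pow_mem hwD n)
        have e : p ^ (n + 1) * g * (p ^ (n + 1))⁻¹ * g⁻¹ * (w ^ (n + 1))⁻¹ = p * k * p⁻¹ * c := by
          rw [pow_succ' p, pow_succ w,
            show p * p ^ n * g * (p * p ^ n)⁻¹ * g⁻¹ * (w ^ n * w)⁻¹ =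
              p * (p ^ n * g * (p ^ n)⁻¹ * g⁻¹ * (w ^ n)⁻¹) * p⁻¹ *
                ((p * w ^ n * p⁻¹) * (p * g * p⁻¹ * g⁻¹) * (w ^ n * w)⁻¹) by group,
            ← hk, ← hg', ← hw, hc]
          group
        rw [e]
        exact mul_mem (hKconj k ih) hc'
    have hw9 := hpow 9
    rw [h9, one_mul, inv_one, mul_one, mul_inv_cancel, one_mul, inv_mem_iff] at hw9
    have hwK : w ∈ K := by
      have h8 : w ^ 8 ∈ K := by
        rw [show 8 = 2 * 4 from rfl, pow_mul, pow_two]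
        exact pow_mem (Subgroup.zpowers_le.2 hzK (S.sq_mem (F.D_le hwD))) 4
      rw [show w = (w ^ 8)⁻¹ * w ^ 9 by group]
      exact mul_mem (inv_mem h8) hw9
    intro n
    have := mul_mem (hpow n) (pow_mem hwK n)
    rwa [inv_mul_cancel_right] at this
  -- a fixed point in `e K`
  have hecb : e ∈ Cb := (hmemCb e).2 ⟨he, heb⟩
  have hpn : Subgroup.zpowers p ≤ Subgroup.normalizer (K : Set G) :=
    Subgroup.zpowers_le.2 (Subgroup.mem_normalizer_fintype hKconj)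
  have hCbn : Cb ≤ Subgroup.normalizer (K : Set G) := fun g hg =>
    Subgroup.mem_normalizer_fintype fun k hk => by
      rw [← (((hmem k).1 hk).2 g ((hmemCb g).1 hg).1 ((hmemCb g).1 hg).2).eq, mul_inv_cancel_right]
      exact hk
  have hcop : (Nat.card ↥(Subgroup.zpowers p)).Coprime (Nat.card ↥Cb) := by
    rw [Nat.card_zpowers, F.card_cen b hb hbz]
    exact Nat.Coprime.coprime_dvd_left (orderOf_dvd_of_pow_eq_one h9) (by norm_num)
  obtain ⟨c, hc, hcK'⟩ := CfsgLib.CoprimeAction.exists_centralizer_mem_coset_of_commutator hcop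
    (Or.inl (CfsgLib.CoprimeAction.isSolvable_zpowers p)) hKCb hCbn hpn hecb (fun a ha => by
      obtain ⟨n, rfl⟩ := mem_powers_iff_mem_zpowers.2 ha
      exact hall e hecb n)
  set k₀' := e⁻¹ * c with hk₀'
  obtain ⟨f, hf, w₁, hw₁, hkf⟩ := hgen k₀' hcK'
  obtain ⟨w₂, hw₂, hfe⟩ := S.conj_E hf he
  set v := f * b * f⁻¹ * b⁻¹ with hv
  have hvc : Commute v e := by
    have h1 : v = w₁⁻¹ * k₀' := by rw [hkf]; group
    rw [h1]
    exact (S.commute_of_mem_zpowers (inv_mem hw₁) (S.E_le he)).mul_left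
      (((hmem k₀').1 hcK').2 e he heb)
  have hx' : c * b = w₂⁻¹ * w₁ * (f * (e * b) * f⁻¹) := by
    have hw2e : Commute w₁ e := S.commute_of_mem_zpowers hw₁ (S.E_le he)
    calc c * b = e * (w₁ * v) * b := by rw [← hkf, hk₀', mul_inv_cancel_left]
      _ = w₁ * (v * e) * b := by rw [hvc.eq, ← mul_assoc e w₁, ← hw2e.eq]; group
      _ = w₁ * w₂⁻¹ * (w₂ * (v * e)) * b := by group
      _ = w₁ * w₂⁻¹ * ((w₂ * e) * (v * b)) := by rw [hvc.eq]; group
      _ = _ := by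
        rw [← hfe, (S.commute_of_mem_zpowers hw₁ (inv_mem (S.E_le (S.zpowers_le_E hw₂)))).eq,
          show v * b = f * b * f⁻¹ by rw [hv]; group]
        group
  obtain ⟨g, hgE, hgb, hge⟩ : ∃ g ∈ ℰ, Commute g b ∧ ¬ Commute e g := by
    by_contra! hall'
    exact heD (hKD ((hmem e).2 ⟨he, hall'⟩))
  have hconj : ∃ h ∈ ℋ, h * (e * b) * h⁻¹ = c * b := by
    rcases S.mem_zpowers_iff.1 (mul_mem (inv_mem hw₂) hw₁) with h1 | h1
    · exact ⟨f, S.E_le hf, by rw [hx', h1, one_mul]⟩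
    · refine ⟨f * g, S.E_le (mul_mem hf hgE), ?_⟩
      have hgeq : g * e * g⁻¹ = z * e := by
        rcases S.conj_eq hgE he with h | h
        · exact absurd (mul_inv_eq_iff_eq_mul.1 h).symm hge
        · exact h
      rw [hx', h1, show f * g * (e * b) * (f * g)⁻¹ = f * ((g * e * g⁻¹) * (g * b * g⁻¹)) * f⁻¹ by group,
        hgeq, show g * b * g⁻¹ = b by rw [hgb.eq, mul_inv_cancel_right],
        show f * (z * e * b) * f⁻¹ = f * z * (e * b * f⁻¹) by group, ← (S.z_commute (S.E_le hf)).eq]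
      group
  obtain ⟨h, hh, hhx⟩ := hconj
  have hxs : Special π V (c * b) := hhx ▸ F.special_conj hh hx₀
  have hpc : Commute p (c * b) :=
    Commute.mul_right (Subgroup.mem_centralizer_iff.1 hc.2 p (Subgroup.mem_zpowers p)) hpb
  have hp3 : p ^ 3 = 1 := by
    by_contra hne
    haveI : Fact (Nat.Prime 3) := ⟨Nat.prime_three⟩
    have ho : orderOf (p ^ 3) = 3 := orderOf_eq_prime (by rw [← pow_mul]; exact h9) hne
    refine F.not_mem_N hxs ho (hpc.pow_left 3) ((S.pi_eq_one_iff F.frame.ker_eq ⟨_, pow_mem hpH 3⟩).1 ?_)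
    rw [show (⟨p ^ 3, pow_mem hpH 3⟩ : ↥ℋ) = ⟨p, hpH⟩ ^ 3 from rfl, map_pow, hπ3]
  have hp1 : p ≠ 1 := fun h => hπ1 (by
    rw [show (⟨p, hpH⟩ : ↥ℋ) = 1 from Subtype.ext h, map_one])
  haveI : Fact (Nat.Prime 3) := ⟨Nat.prime_three⟩
  refine ⟨h⁻¹ * p * h, mul_mem (mul_mem (inv_mem hh) hpH) hh, ?_, ?_⟩
  · have h2 := orderOf_conj_eq h⁻¹ p
    rw [inv_inv] at h2
    rw [h2, orderOf_eq_prime hp3 hp1]
  · rw [← hhx] at hpc
    have h1 := hpc.map (MulAut.conj h⁻¹).toMonoidHom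
    simp only [MulEquiv.coe_toMonoidHom, MulAut.conj_apply, inv_inv] at h1
    rwa [show h⁻¹ * (h * (e * b) * h⁻¹) * h = e * b by group] at h1

end FusionData

end CfsgLib.JFour
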