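import Cfsg.Agent.Lib.JFour.HexadTables
import Cfsg.Agent.Lib.JFour.MTwentyTwo
import Cfsg.Agent.Lib.McLInv.Perms

/-!
A hexad group of `M22` inside the stabiliser of two points: permutations of the 24 points.
-/

set_option autoImplicit false
set_option maxRecDepth 100000

namespace CfsgLib.JFour.HexadPerm

open Cfsg CfsgLib.Golay CfsgLib.JFour.HexadTables
open scoped Pointwise

local notation "PP" => Equiv.Perm GolayPt

/-- The stabiliser of the unordered pair. -/
def pairStab : Subgroup PP := stabK [pairMask]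

/-- The stabiliser of the octad in it. -/
def hexStab : Subgroup PP := stabK [pairMask, hexMask]

/-- The pointwise stabiliser of the six points. -/
def hexGrp : Subgroup PP := stabK hexFix

/-- The stabiliser of the two points. -/
def twoFix : Subgroup PP := Spor.M22

theorem unmask_pair : unmask pairMask = {pt 0, pt 23} := by
  rw [show pairMask = 2 ^ 0 ||| 2 ^ 23 from rfl, unmask_or, unmask_two_pow_of_lt (by norm_num),
    unmask_two_pow_of_lt (by norm_num)]
  rfl

theorem pt_zero_ne : (pt 0 : GolayPt) ≠ pt 23 := by decide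

theorem mem_pairStab {g : PP} : g ∈ pairStab ↔ g ∈ M24 ∧
    ((g (pt 0) = pt 0 ∧ g (pt 23) = pt 23) ∨ (g (pt 0) = pt 23 ∧ g (pt 23) = pt 0)) := by
  rw [pairStab, mem_stabK]
  refine and_congr_right fun _ => ?_
  simp only [List.mem_singleton, forall_eq, unmask_pair, Finset.smul_finset_insert,
    Finset.smul_finset_singleton, Equiv.Perm.smul_def]
  constructor
  · intro h
    have h0 : g (pt 0) ∈ ({pt 0, pt 23} : Finset GolayPt) := h ▸ Finset.mem_insert_self _ _
    have h1 : g (pt 23) ∈ ({pt 0, pt 23} : Finset GolayPt) :=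
      h ▸ Finset.mem_insert_of_mem (Finset.mem_singleton_self _)
    have hne : g (pt 0) ≠ g (pt 23) := fun e => pt_zero_ne (g.injective e)
    simp only [Finset.mem_insert, Finset.mem_singleton] at h0 h1
    rcases h0 with h0 | h0 <;> rcases h1 with h1 | h1
    · exact absurd (h0.trans h1.symm) hne
    · exact Or.inl ⟨h0, h1⟩
    · exact Or.inr ⟨h0, h1⟩
    · exact absurd (h0.trans h1.symm) hne
  · rintro (⟨h0, h1⟩ | ⟨h0, h1⟩) <;> rw [h0, h1]
    exact Finset.pair_comm _ _

theorem mem_twoFix {g : PP} : g ∈ twoFix ↔ g ∈ pairStab ∧ g (pt 0) = pt 0 := by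
  rw [twoFix, mem_pairStab]
  constructor
  · rintro ⟨⟨h, h23⟩, h0⟩
    exact ⟨⟨h, Or.inl ⟨h0, h23⟩⟩, h0⟩
  · rintro ⟨⟨h, h'⟩, h0⟩
    rcases h' with ⟨-, h23⟩ | ⟨h0', -⟩
    · exact ⟨⟨h, h23⟩, h0⟩
    · exact absurd (h0.symm.trans h0') pt_zero_ne

theorem twoFix_le : twoFix ≤ pairStab := fun _ h => (mem_twoFix.1 h).1

theorem mem_hexStab {g : PP} : g ∈ hexStab ↔ g ∈ pairStab ∧ g • unmask hexMask = unmask hexMask := by
  rw [hexStab, pairStab, mem_stabK, mem_stabK]
  simp only [List.mem_cons, List.not_mem_nil, or_false, forall_eq_or_imp, forall_eq]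
  tauto

theorem hexStab_le : hexStab ≤ pairStab := fun _ h => (mem_hexStab.1 h).1

/-- The six points. -/
def six (i : Fin 6) : GolayPt := pt (hexPts.getD i.val 0)

theorem six_mask : ∀ i : Fin 6, unmask (2 ^ hexPts.getD i.val 0) = {six i} := fun i =>
  unmask_two_pow_of_lt (by revert i; decide +kernel)

theorem hexGrp_eq {g : PP} : g ∈ hexGrp ↔ g ∈ pairStab ∧ ∀ i, g (six i) = six i := by
  rw [hexGrp, pairStab, mem_stabK, mem_stabK]
  simp only [hexFix, List.mem_cons, List.not_mem_nil, or_false, forall_eq_or_imp, forall_eq, List.mem_map,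
    forall_exists_index, and_imp, forall_apply_eq_imp_iff₂]
  have key : (∀ a ∈ hexPts, g • unmask (2 ^ a) = unmask (2 ^ a)) ↔ ∀ i, g (six i) = six i := by
    constructor
    · intro h i
      have := h _ ((show ∀ i : Fin 6, hexPts.getD i.val 0 ∈ hexPts by decide +kernel) i)
      rwa [six_mask, Finset.smul_finset_singleton, Finset.singleton_inj] at this
    · intro h a ha
      obtain ⟨i, rfl⟩ := (show ∀ a ∈ hexPts, ∃ i : Fin 6, hexPts.getD i.val 0 = a by decide +kernel) a ha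
      rw [six_mask, Finset.smul_finset_singleton, Equiv.Perm.smul_def, h]
  tauto

theorem six_inj : Function.Injective six := by decide +kernel

theorem hex_eq : unmask hexMask = unmask pairMask ∪ Finset.univ.image six := by decide +kernel

theorem mem_hex_iff (p : GolayPt) :
    p ∈ unmask hexMask ↔ p ∈ unmask pairMask ∨ ∃ i, six i = p := by
  rw [hex_eq, Finset.mem_union, Finset.mem_image]
  simp

theorem six_notMem : ∀ i, six i ∉ unmask pairMask := by decide +kernel

theorem hexGrp_le : hexGrp ≤ hexStab := by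
  intro g hg
  rw [hexGrp_eq] at hg
  refine mem_hexStab.2 ⟨hg.1, ?_⟩
  have hp : g • unmask pairMask = unmask pairMask := (mem_stabK.1 hg.1).2 _ (List.mem_cons_self ..)
  rw [hex_eq, Finset.smul_finset_union, hp]
  congr 1
  refine Finset.eq_of_subset_of_card_le ?_ (by rw [Finset.card_smul_finset])
  intro x hx
  obtain ⟨y, hy, rfl⟩ := Finset.mem_smul_finset.1 hx
  obtain ⟨i, -, rfl⟩ := Finset.mem_image.1 hy
  rw [Equiv.Perm.smul_def, hg.2 i]
  exact Finset.mem_image_of_mem _ (Finset.mem_univ i)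

theorem exists_six {g : PP} (hg : g ∈ hexStab) (i : Fin 6) : ∃ j, g (six i) = six j := by
  obtain ⟨hp, hh⟩ := mem_hexStab.1 hg
  have hp' : g • unmask pairMask = unmask pairMask := (mem_stabK.1 hp).2 _ (List.mem_cons_self ..)
  have h1 : g (six i) ∈ unmask hexMask := by
    rw [← hh]
    exact Finset.smul_mem_smul_finset ((mem_hex_iff _).2 (Or.inr ⟨i, rfl⟩))
  rcases (mem_hex_iff _).1 h1 with h | ⟨j, hj⟩
  · rw [← hp'] at h
    exact absurd ((Finset.smul_mem_smul_finset_iff g).1 h) (six_notMem i)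
  · exact ⟨j, hj.symm⟩

/-- The action on the six points. -/
noncomputable def sixMap (g : hexStab) (i : Fin 6) : Fin 6 := (exists_six g.2 i).choose

theorem sixMap_spec (g : hexStab) (i : Fin 6) : (g : PP) (six i) = six (sixMap g i) :=
  (exists_six g.2 i).choose_spec

/-- The action on the six points as a homomorphism. -/
noncomputable def sixHom : hexStab →* Equiv.Perm (Fin 6) :=
  MonoidHom.mk' (fun g => Equiv.ofBijective (sixMap g) (Finite.injective_iff_bijective.1 fun i j h =>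
      six_inj ((g : PP).injective (by rw [sixMap_spec, sixMap_spec, h]))))
    fun a b => Equiv.ext fun i => six_inj (by
      rw [Equiv.Perm.mul_apply]
      show six (sixMap (a * b) i) = six (sixMap a (sixMap b i))
      rw [← sixMap_spec, ← sixMap_spec, Subgroup.coe_mul, Equiv.Perm.mul_apply, sixMap_spec b])

theorem sixHom_spec (g : hexStab) (i : Fin 6) : (g : PP) (six i) = six (sixHom g i) := sixMap_spec g i

theorem ker_sixHom : sixHom.ker = hexGrp.subgroupOf hexStab := by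
  ext g
  rw [MonoidHom.mem_ker, Subgroup.mem_subgroupOf, hexGrp_eq]
  constructor
  · intro h
    exact ⟨hexStab_le g.2, fun i => by rw [sixHom_spec, h]; rfl⟩
  · intro h
    exact Equiv.ext fun i => six_inj (by rw [← sixHom_spec, h.2 i]; rfl)

theorem sixHom_eq {g : PP} {t : ℕ} (hg : IsTbl g t) (hm : g ∈ hexStab) (σ : Equiv.Perm (Fin 6))
    {p : List ℕ} (ha : actsAs t p = true) (hσ : ∀ i : Fin 6, p.getD i.val 0 = (σ i).val) :
    sixHom ⟨g, hm⟩ = σ := by
  simp only [actsAs, List.all_eq_true, List.mem_range, beq_iff_eq] at ha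
  refine Equiv.ext fun i => six_inj (idx_injective ?_)
  rw [← sixHom_spec]
  show idx (g (six i)) = idx (six (σ i))
  rw [hg]
  have hlt : ∀ i : Fin 6, hexPts.getD i.val 0 < 24 := by decide +kernel
  rw [six, idx_pt (hlt i), ha i.val i.2, hσ, six, idx_pt (hlt (σ i))]

theorem mem_of_inMt {g : PP} {t : ℕ} (hg : IsTbl g t) (h : inMt t = true) : g ∈ hexStab := by
  simp only [inMt, Bool.and_eq_true, beq_iff_eq] at h
  exact mem_stabK_of_isTbl hg h.1.1 fun n hn => by
    simp only [List.mem_cons, List.not_mem_nil, or_false] at hn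
    rcases hn with rfl | rfl
    · exact h.1.2
    · exact h.2

theorem inMt_of_inMi {t : ℕ} (h : inMi t = true) : inMt t = true := by
  simp only [inMi, inMt, Bool.and_eq_true] at h ⊢
  exact h.1

theorem exists_inMi {t : ℕ} (h : inMi t = true) : ∃ g : PP, IsTbl g t ∧ g ∈ hexStab ⊓ twoFix := by
  have h' := h
  simp only [inMi, Bool.and_eq_true, beq_iff_eq] at h'
  obtain ⟨g, hg⟩ := exists_isTbl (t := t) (by
    have := h'.1.1.1; simp only [inM24, Bool.and_eq_true] at this; exact this.1)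
  have hm := mem_of_inMt hg (inMt_of_inMi h)
  refine ⟨g, hg, hm, mem_twoFix.2 ⟨hexStab_le hm, idx_injective ?_⟩⟩
  rw [hg]
  exact h'.2

theorem exists_inMt {t : ℕ} (h : inMt t = true) : ∃ g : PP, IsTbl g t ∧ g ∈ hexStab := by
  have h' := h
  simp only [inMt, Bool.and_eq_true, beq_iff_eq] at h'
  obtain ⟨g, hg⟩ := exists_isTbl (t := t) (by
    have := h'.1.1; simp only [inM24, Bool.and_eq_true] at this; exact this.1)
  exact ⟨g, hg, mem_of_inMt hg h⟩

/-- An element exchanging the two points and preserving the octad. -/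
theorem exists_swap : ∃ g ∈ hexStab, g ∉ twoFix := by
  obtain ⟨h1, h2, -, -, -⟩ := gens_ok
  obtain ⟨g, hg, hm⟩ := exists_inMt h1
  refine ⟨g, hm, fun h => pt_zero_ne ?_⟩
  have e := (mem_twoFix.1 h).2
  have hk := hg (pt 0)
  rw [e] at hk
  have h23 : idx (pt 23) = idx (pt 0) := by
    rw [hk]
    show (23 : ℕ) = tblAt transT 0
    exact h2.symm
  exact (idx_injective h23).symm

theorem card_twoFix : Nat.card twoFix = 443520 := card_mTwentyTwo

theorem card_pairStab : Nat.card pairStab = 887040 := by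
  classical
  obtain ⟨s, hs, hs2⟩ := exists_swap
  have hinf : pairStab ⊓ MulAction.stabilizer PP (pt 0) = twoFix := by
    ext g
    rw [Subgroup.mem_inf, mem_twoFix]
    rfl
  rw [card_subgroup_mul (p := pt 0) (O := ({pt 0, pt 23} : Finset GolayPt)), hinf, card_twoFix,
    Finset.card_pair pt_zero_ne]
  · intro g hg
    rcases (mem_pairStab.1 hg).2 with h | h <;> rw [h.1] <;> simp
  · intro q hq
    simp only [Finset.mem_insert, Finset.mem_singleton] at hq
    rcases hq with rfl | rfl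
    · exact ⟨1, one_mem _, rfl⟩
    · rcases (mem_pairStab.1 (hexStab_le hs)).2 with h | h
      · exact absurd (mem_twoFix.2 ⟨hexStab_le hs, h.1⟩) hs2
      · exact ⟨s, hexStab_le hs, h.1⟩

theorem card_hexStab : Nat.card hexStab = 11520 := (card_stabK chainM_ok.1).trans chainM_ok.2

theorem card_hexGrp : Nat.card hexGrp = 16 := (card_stabK chainB_ok.1).trans chainB_ok.2

theorem hexB_mem {g : PP} {t : ℕ} (ht : t ∈ hexB) (hg : IsTbl g t) : g ∈ hexGrp := by
  have h := List.all_eq_true.1 hexB_ok.1 t ht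
  simp only [Bool.and_eq_true, List.all_eq_true, beq_iff_eq] at h
  exact mem_stabK_of_isTbl hg h.1 h.2

theorem hexB_all : ∀ g ∈ hexGrp, ∃ t ∈ hexB, IsTbl g t :=
  exists_tbl_of_card (List.all_eq_true.2 fun t ht => by
      have h := List.all_eq_true.1 hexB_ok.1 t ht
      simp only [Bool.and_eq_true, inM24] at h
      exact h.1.1)
    hexB_ok.2.2.1 (fun t ht g hg => hexB_mem ht hg) card_hexGrp

theorem exists_hexB {t : ℕ} (ht : t ∈ hexB) : ∃ g ∈ hexGrp, IsTbl g t := by
  have h := List.all_eq_true.1 hexB_ok.1 t ht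
  simp only [Bool.and_eq_true, inM24] at h
  obtain ⟨g, hg⟩ := exists_isTbl h.1.1
  exact ⟨g, hexB_mem ht hg, hg⟩

theorem commute_of_commTbl {g g' : PP} {a b : ℕ} (hg : IsTbl g a) (hg' : IsTbl g' b) :
    commTbl a b = true ↔ g * g' = g' * g := by
  simp only [commTbl, List.all_eq_true, List.mem_range, beq_iff_eq]
  constructor
  · intro h
    refine Equiv.ext fun p => idx_injective ?_
    rw [Equiv.Perm.mul_apply, Equiv.Perm.mul_apply, hg, hg', hg', hg, h _ (idx_lt p)]
  · intro h i hi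
    have e := congrArg (fun x : PP => idx (x (pt i))) h
    simp only [Equiv.Perm.mul_apply] at e
    rw [hg, hg', hg', hg, idx_pt hi] at e
    exact e

theorem hexGrp_comm {a b : PP} (ha : a ∈ hexGrp) (hb : b ∈ hexGrp) : a * b = b * a := by
  obtain ⟨s, hs, has⟩ := hexB_all a ha
  obtain ⟨t, ht, hbt⟩ := hexB_all b hb
  exact (commute_of_commTbl has hbt).1 (List.all_eq_true.1 (List.all_eq_true.1 hexB_ok.2.2.2.1 s hs) t ht)

theorem hexGrp_sq {a : PP} (ha : a ∈ hexGrp) : a * a = 1 := by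
  obtain ⟨s, hs, has⟩ := hexB_all a ha
  have h := List.all_eq_true.1 hexB_ok.2.2.2.2.1 s hs
  simp only [List.all_eq_true, List.mem_range, beq_iff_eq] at h
  refine Equiv.ext fun p => idx_injective ?_
  rw [Equiv.Perm.mul_apply, has, has, h _ (idx_lt p)]
  rfl

theorem hexGrp_le_twoFix : hexGrp ≤ twoFix := by
  intro g hg
  refine mem_twoFix.2 ⟨hexStab_le (hexGrp_le hg), ?_⟩
  obtain ⟨t, ht, hgt⟩ := hexB_all g hg
  rcases eq_or_ne g 1 with rfl | hne
  · rfl
  have htail : t ∈ hexB.tail := by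
    rcases List.mem_cons.1 (show t ∈ hexB.getD 0 0 :: hexB.tail from ht) with rfl | h
    · exact absurd (hgt.isIdTbl_iff.1 hexB_ok.2.1) hne
    · exact h
  have h := List.all_eq_true.1 hexB_ok.2.2.2.2.2.1 t htail
  simp only [List.all_eq_true, List.mem_range, beq_iff_eq] at h
  refine idx_injective ?_
  rw [hgt]
  have h0 := h 0 (by norm_num)
  rw [show hexMask.testBit 0 = true by decide +kernel, beq_iff_eq] at h0
  exact h0

/-- The fixed points of a nontrivial element are the octad. -/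
theorem fix_iff {b : PP} (hb : b ∈ hexGrp) (hb1 : b ≠ 1) (p : GolayPt) : b p = p ↔ p ∈ unmask hexMask := by
  obtain ⟨t, ht, hbt⟩ := hexB_all b hb
  have htail : t ∈ hexB.tail := by
    rcases List.mem_cons.1 (show t ∈ hexB.getD 0 0 :: hexB.tail from ht) with rfl | h
    · exact absurd (hbt.isIdTbl_iff.1 hexB_ok.2.1) hb1
    · exact h
  have h := List.all_eq_true.1 hexB_ok.2.2.2.2.2.1 t htail
  simp only [List.all_eq_true, List.mem_range, beq_iff_eq] at h
  rw [mem_unmask, ← h _ (idx_lt p), beq_iff_eq, ← hbt]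
  exact ⟨fun e => by rw [e], fun e => idx_injective e⟩

theorem hexB_get : ∀ i : Fin 16, hexB.getD i.val 0 ∈ hexB := by decide +kernel

theorem exists_ne_one : ∃ b ∈ hexGrp, b ≠ 1 := by
  by_contra h
  push Not at h
  have := card_hexGrp
  rw [show hexGrp = ⊥ from (Subgroup.eq_bot_iff_forall _).2 h, Subgroup.card_bot] at this
  norm_num at this

theorem cent_inv_le {b g : PP} (hb : b ∈ hexGrp) (hb1 : b ≠ 1) (hg : g ∈ pairStab) (hgb : g * b = b * g) :
    g ∈ hexStab := by
  refine mem_hexStab.2 ⟨hg, Finset.eq_of_subset_of_card_le ?_ (by rw [Finset.card_smul_finset])⟩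
  intro x hx
  obtain ⟨y, hy, rfl⟩ := Finset.mem_smul_finset.1 hx
  rw [← fix_iff hb hb1] at hy ⊢
  rw [Equiv.Perm.smul_def, ← Equiv.Perm.mul_apply, ← hgb, Equiv.Perm.mul_apply, hy]

theorem mem_hexStab_iff_normalizes {g : PP} (hg : g ∈ pairStab) :
    g ∈ hexStab ↔ ∀ b, b ∈ hexGrp ↔ g * b * g⁻¹ ∈ hexGrp := by
  constructor
  · intro hm b
    have key : ∀ k ∈ hexStab, ∀ b ∈ hexGrp, k * b * k⁻¹ ∈ hexGrp := by
      intro k hk b hb
      have h := (MonoidHom.normal_ker sixHom).conj_mem ⟨b, hexGrp_le hb⟩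
        (by rw [ker_sixHom]; exact hb) ⟨k, hk⟩
      rw [ker_sixHom] at h
      exact h
    refine ⟨key g hm b, fun h => ?_⟩
    have := key g⁻¹ (inv_mem hm) _ h
    simpa [mul_assoc] using this
  · intro h
    obtain ⟨b, hb, hb1⟩ := exists_ne_one
    refine mem_hexStab.2 ⟨hg, Finset.eq_of_subset_of_card_le ?_ (by rw [Finset.card_smul_finset])⟩
    intro x hx
    obtain ⟨y, hy, rfl⟩ := Finset.mem_smul_finset.1 hx
    have hb' : g⁻¹ * b * g ∈ hexGrp := by
      rw [h]
      simpa [mul_assoc] using hb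
    have hb1' : g⁻¹ * b * g ≠ 1 := fun e => hb1 (by
      calc b = g * (g⁻¹ * b * g) * g⁻¹ := by group
        _ = 1 := by rw [e]; group)
    rw [← fix_iff hb hb1]
    have hy' := (fix_iff hb' hb1' y).2 hy
    rw [Equiv.Perm.smul_def]
    calc b (g y) = g ((g⁻¹ * b * g) y) := by simp [Equiv.Perm.mul_apply]
      _ = g y := by rw [hy']

theorem cent_hexGrp {g : PP} (hg : g ∈ pairStab) (hgB : ∀ b ∈ hexGrp, g * b = b * g) : g ∈ hexGrp := by
  classical
  obtain ⟨b₀, hb₀, hb₀1⟩ := exists_ne_one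
  have hm := cent_inv_le hb₀ hb₀1 hg (hgB b₀ hb₀)
  obtain ⟨q₀, hq₀⟩ : ∃ q, q = pt (outPts.headD 0) := ⟨_, rfl⟩
  have horb : ∀ q, q ∉ unmask hexMask → ∃ c ∈ hexGrp, c q₀ = q := by
    intro q hq
    have hmem : idx q ∈ outPts := by
      have : ∀ i : Fin 24, hexMask.testBit i.val = false → i.val ∈ outPts := by decide +kernel
      exact this ⟨idx q, idx_lt q⟩ (by rwa [mem_unmask, Bool.not_eq_true] at hq)
    have h := List.all_eq_true.1 hexB_ok.2.2.2.2.2.2 _ hmem
    simp only [List.any_eq_true, Bool.and_eq_true, beq_iff_eq] at h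
    obtain ⟨t, ht, -, he⟩ := h
    obtain ⟨c, hc, hct⟩ := exists_hexB ht
    refine ⟨c, hc, idx_injective ?_⟩
    rw [hct, hq₀, idx_pt (by decide +kernel), he]
  have hq₀' : q₀ ∉ unmask hexMask := by rw [hq₀]; decide +kernel
  have hgq : g q₀ ∉ unmask hexMask := by
    rw [← fix_iff hb₀ hb₀1, ← Equiv.Perm.mul_apply, ← hgB b₀ hb₀, Equiv.Perm.mul_apply]
    exact fun e => hq₀' ((fix_iff hb₀ hb₀1 q₀).1 (g.injective e))
  obtain ⟨b, hb, hbq⟩ := horb _ hgq
  have hd : b⁻¹ * g ∈ stabK outFix := by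
    have hdm : b⁻¹ * g ∈ pairStab := mul_mem (inv_mem (hexStab_le (hexGrp_le hb))) hg
    refine mem_stabK.2 ⟨(mem_stabK.1 hdm).1, fun n hn => ?_⟩
    rcases List.mem_cons.1 hn with rfl | hn
    · exact (mem_stabK.1 hdm).2 _ (List.mem_cons_self ..)
    · obtain ⟨i, hi, rfl⟩ := List.mem_map.1 hn
      have hi24 : i < 24 := (show ∀ i ∈ outPts, i < 24 by decide +kernel) i hi
      have hout : pt i ∉ unmask hexMask := by
        rw [pt_mem_unmask hi24, Bool.not_eq_true]
        exact (show ∀ i ∈ outPts, hexMask.testBit i = false by decide +kernel) i hi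
      obtain ⟨c, hc, hcq⟩ := horb _ hout
      rw [unmask_two_pow_of_lt hi24, Finset.smul_finset_singleton, Finset.singleton_inj, Equiv.Perm.smul_def,
        ← hcq, ← Equiv.Perm.mul_apply,
        show b⁻¹ * g * c = c * (b⁻¹ * g) by
          rw [mul_assoc, hgB c hc, ← mul_assoc, ← mul_assoc, hexGrp_comm (inv_mem hb) hc],
        Equiv.Perm.mul_apply, Equiv.Perm.mul_apply, ← hbq]
      exact congrArg c (b.symm_apply_apply _)
  rw [stabK_eq_bot out_ok, Subgroup.mem_bot, inv_mul_eq_one] at hd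
  exact hd ▸ hb

theorem conj_transitive {a b : PP} (ha : a ∈ hexGrp) (ha1 : a ≠ 1) (hb : b ∈ hexGrp) (hb1 : b ≠ 1) :
    ∃ g ∈ hexStab ⊓ twoFix, g * a * g⁻¹ = b := by
  obtain ⟨b₁, hb₁, hb₁t⟩ := exists_hexB (t := hexB.getD 1 0) (hexB_get 1)
  have key : ∀ c ∈ hexGrp, c ≠ 1 → ∃ g ∈ hexStab ⊓ twoFix, g * b₁ * g⁻¹ = c := by
    intro c hc hc1
    obtain ⟨t, ht, hct⟩ := hexB_all c hc
    obtain ⟨k, hk, hkt⟩ : ∃ k, k < 15 ∧ hexB.getD (k + 1) 0 = t := by
      obtain ⟨i, hi⟩ := (show ∀ t ∈ hexB, ∃ i : Fin 16, hexB.getD i.val 0 = t by decide +kernel) t ht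
      rcases Nat.eq_zero_or_pos i.val with h0 | h0
      · exact absurd (hct.isIdTbl_iff.1 (by rw [← hi, h0]; exact hexB_ok.2.1)) hc1
      · exact ⟨i.val - 1, by omega, by rw [Nat.sub_add_cancel h0]; exact hi⟩
    have h := List.all_eq_true.1 conjG_ok.2 k (List.mem_range.2 hk)
    simp only [Bool.and_eq_true] at h
    obtain ⟨g, hg, hgm⟩ := exists_inMi h.1
    exact ⟨g, hgm, hg.conj hb₁t hct (hkt ▸ h.2)⟩
  obtain ⟨g, hg, rfl⟩ := key a ha ha1
  obtain ⟨k, hk, rfl⟩ := key b hb hb1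
  exact ⟨k * g⁻¹, mul_mem hk (inv_mem hg), by group⟩

theorem mem_baseFix {g : M24} (hg : g ∈ CfsgLib.GolayStructure.baseFix) : (g : PP) ∈ twoFix := by
  obtain ⟨h1, h2⟩ := hg
  refine ⟨⟨g.2, ?_⟩, ?_⟩
  · exact h1
  · exact h2

open CfsgLib.FusionSub.Mathieu in
theorem conj_involutions {a b : PP} (ha : a ∈ twoFix) (ha2 : a * a = 1) (ha1 : a ≠ 1)
    (hb : b ∈ twoFix) (hb2 : b * b = 1) (hb1 : b ≠ 1) : ∃ g ∈ twoFix, g * a * g⁻¹ = b := by
  haveI : Fact (Nat.Prime 2) := ⟨Nat.prime_two⟩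
  have hle : certM22.grp ≤ twoFix := by
    rw [twoFix, CfsgLib.OutMathieu.M22_eq_stabK]
    exact SylCert.grp_le certM22_els
  let P : Sylow 2 twoFix := Sylow.ofCard (certM22.grp.subgroupOf twoFix) (by
    rw [Nat.card_congr (Subgroup.subgroupOfEquivOfLe hle).toEquiv, SylCert.card_grp certM22_els, card_twoFix,
      show certM22.gens.length = 7 by decide +kernel,
      show (443520 : ℕ) = 2 ^ 7 * 3465 by norm_num, Nat.factorization_mul (by norm_num) (by norm_num)]
    rw [Finsupp.add_apply, Nat.prime_two.factorization_pow, Finsupp.single_eq_same,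
      Nat.factorization_eq_zero_of_not_dvd (show ¬ 2 ∣ 3465 by norm_num), Nat.add_zero])
  have key : ∀ x : PP, x ∈ twoFix → x * x = 1 → x ≠ 1 →
      ∃ g ∈ twoFix, ∃ y : M24, y = CfsgLib.McLInv.sigma ∧ g * x * g⁻¹ = y := by
    intro x hx hx2 hx1
    have hp : IsPGroup 2 (Subgroup.zpowers (⟨x, hx⟩ : twoFix)) := by
      refine IsPGroup.of_card (n := 1) ?_
      rw [Nat.card_zpowers, pow_one, orderOf_eq_prime_iff]
      exact ⟨Subtype.ext (by rw [pow_two]; exact hx2), fun e => hx1 (congrArg Subtype.val e)⟩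
    obtain ⟨Q, hQ⟩ := hp.exists_le_sylow
    obtain ⟨h, hh⟩ := MulAction.exists_smul_eq twoFix Q P
    have hmem : h * ⟨x, hx⟩ * h⁻¹ ∈ (P : Subgroup twoFix) := by
      rw [← hh, Sylow.coe_subgroup_smul]
      exact Subgroup.mem_map.2 ⟨⟨x, hx⟩, hQ (Subgroup.mem_zpowers _), rfl⟩
    rw [show (P : Subgroup twoFix) = certM22.grp.subgroupOf twoFix from Sylow.coe_ofCard ..,
      Subgroup.mem_subgroupOf] at hmem
    have hy : (h : PP) * x * (h : PP)⁻¹ ∈ M24 := (hle hmem).1.1
    obtain ⟨g, hg, hgy⟩ := CfsgLib.McLInv.conj_of_mem_grp (y := ⟨_, hy⟩) hmem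
      (Subtype.ext (by
        show (h : PP) * x * (h : PP)⁻¹ * ((h : PP) * x * (h : PP)⁻¹) = 1
        calc _ = (h : PP) * (x * x) * (h : PP)⁻¹ := by group
          _ = 1 := by rw [hx2]; group))
      (fun e => hx1 (by
        have e' : (h : PP) * x * (h : PP)⁻¹ = 1 := congrArg Subtype.val e
        rwa [mul_inv_eq_one, mul_eq_left] at e'))
    refine ⟨(g : PP)⁻¹ * h, mul_mem (inv_mem (mem_baseFix hg)) h.2, _, rfl, ?_⟩
    have e' : (g : PP) * (CfsgLib.McLInv.sigma : PP) * (g : PP)⁻¹ = (h : PP) * x * (h : PP)⁻¹ :=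
      congrArg Subtype.val hgy
    calc (g : PP)⁻¹ * h * x * ((g : PP)⁻¹ * h)⁻¹ = (g : PP)⁻¹ * ((h : PP) * x * (h : PP)⁻¹) * g := by group
      _ = _ := by rw [← e']; group
  obtain ⟨g, hg, y, rfl, e⟩ := key a ha ha2 ha1
  obtain ⟨k, hk, y, rfl, e'⟩ := key b hb hb2 hb1
  refine ⟨k⁻¹ * g, mul_mem (inv_mem hk) hg, ?_⟩
  calc k⁻¹ * g * a * (k⁻¹ * g)⁻¹ = k⁻¹ * (g * a * g⁻¹) * k := by group
    _ = b := by rw [e, ← e']; group

theorem exists_four : ∃ v ∈ twoFix, orderOf v = 4 := by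
  obtain ⟨h1, h2, h3⟩ := fourT_ok
  obtain ⟨g, hg, hgm⟩ := exists_inMi h1
  simp only [List.all_eq_true, List.mem_range, beq_iff_eq, iterTblFour] at h2
  have h4 : g ^ 4 = 1 := Equiv.ext fun p => idx_injective (by
    show idx (g (g (g (g p)))) = idx p
    rw [hg, hg, hg, hg]
    exact h2 _ (idx_lt p))
  have hn : ¬ g ^ 2 = 1 := fun e => by
    rw [Bool.eq_false_iff, ne_eq, List.all_eq_true] at h3
    refine h3 fun i hi => ?_
    rw [List.mem_range] at hi
    have := congrArg (fun x : PP => idx (x (pt i))) e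
    simp only [pow_two, Equiv.Perm.mul_apply, Equiv.Perm.one_apply] at this
    rw [hg, hg, idx_pt hi] at this
    exact beq_iff_eq.2 this
  exact ⟨g, hgm.2, orderOf_eq_prime_pow (p := 2) (n := 1) hn h4⟩

theorem sixHom_surjective : Function.Surjective sixHom := by
  obtain ⟨h1, -, h3, h4, h5⟩ := gens_ok
  obtain ⟨a, ha, ham⟩ := exists_inMt h1
  obtain ⟨c, hc, hcm⟩ := exists_inMt h4
  have ea := sixHom_eq ha ham (Equiv.swap 0 1) h3 (by decide +kernel)
  have ec := sixHom_eq hc hcm (finRotate 6) h5 (by decide +kernel)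
  rw [← MonoidHom.range_eq_top, eq_top_iff,
    ← Equiv.Perm.closure_cycle_adjacent_swap (σ := finRotate 6) (isCycle_finRotate_of_le (by norm_num))
      (support_finRotate_of_le (by norm_num)) 0,
    Subgroup.closure_le]
  rintro x (rfl | rfl)
  · exact ⟨_, ec⟩
  · exact ⟨_, ea.trans (by decide +kernel)⟩

theorem image_even : (twoFix.subgroupOf hexStab).map sixHom = alternatingGroup (Fin 6) := by
  classical
  obtain ⟨s, hs, hs2⟩ := exists_swap
  refine Equiv.Perm.eq_alternatingGroup_of_index_eq_two ?_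
  have hker : sixHom.ker ≤ twoFix.subgroupOf hexStab := by
    rw [ker_sixHom]
    exact fun g hg => hexGrp_le_twoFix hg
  have hidx : (twoFix.subgroupOf hexStab).index = 2 := by
    refine Subgroup.index_eq_two_iff.2 ⟨⟨s, hs⟩, fun g => ?_⟩
    have hmem : ∀ x : hexStab, x ∈ twoFix.subgroupOf hexStab ↔ (x : PP) (pt 0) = pt 0 := fun x => by
      rw [Subgroup.mem_subgroupOf, mem_twoFix]
      exact and_iff_right (hexStab_le x.2)
    have hs0 : s (pt 23) = pt 0 := by
      rcases (mem_pairStab.1 (hexStab_le hs)).2 with h | h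
      · exact absurd (mem_twoFix.2 ⟨hexStab_le hs, h.1⟩) hs2
      · exact h.2
    have hsne : s (pt 0) ≠ pt 0 := fun h => hs2 (mem_twoFix.2 ⟨hexStab_le hs, h⟩)
    rw [hmem, hmem]
    show Xor' ((g : PP) (s (pt 0)) = pt 0) ((g : PP) (pt 0) = pt 0)
    have hs1 : s (pt 0) = pt 23 := by
      rcases (mem_pairStab.1 (hexStab_le hs)).2 with h | h
      · exact absurd h.1 hsne
      · exact h.1
    rw [hs1]
    rcases (mem_pairStab.1 (hexStab_le g.2)).2 with h | h <;> rw [h.1, h.2]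
    · exact Or.inr ⟨rfl, pt_zero_ne.symm⟩
    · exact Or.inl ⟨rfl, pt_zero_ne.symm⟩
  rw [Subgroup.index_map, sup_eq_left.2 hker, hidx, MonoidHom.range_eq_top.2 sixHom_surjective,
    Subgroup.index_top, mul_one]

theorem conj_even {σ π c : Equiv.Perm (Fin 6)} (h : σ.cycleType = π.cycleType) (hc : c * π = π * c)
    (hodd : Equiv.Perm.sign c = -1) : ∃ τ ∈ alternatingGroup (Fin 6), τ * σ * τ⁻¹ = π := by
  obtain ⟨τ, hτ⟩ := isConj_iff.1 (Equiv.Perm.isConj_iff_cycleType_eq.2 h)
  rcases Int.units_eq_one_or (Equiv.Perm.sign τ) with hs | hs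
  · exact ⟨τ, Equiv.Perm.mem_alternatingGroup.2 hs, hτ⟩
  · refine ⟨c * τ, Equiv.Perm.mem_alternatingGroup.2 (by rw [map_mul, hodd, hs]; rfl), ?_⟩
    calc c * τ * σ * (c * τ)⁻¹ = c * (τ * σ * τ⁻¹) * c⁻¹ := by group
      _ = π := by rw [hτ, hc, mul_inv_cancel_right]

/-- The count of commuting elements only depends on the image. -/
theorem count_eq {a : PP} (ha : a ∈ hexStab) (haI : a ∈ twoFix) {t : ℕ} (ht : inMi t = true) {p : List ℕ}
    (hp : actsAs t p = true) {π c : Equiv.Perm (Fin 6)} (hπ : ∀ i : Fin 6, p.getD i.val 0 = (π i).val)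
    (hσ : (sixHom ⟨a, ha⟩).cycleType = π.cycleType) (hc : c * π = π * c) (hodd : Equiv.Perm.sign c = -1)
    {n : ℕ} (hn : (hexB.filter fun b => commTbl t b).length = n) :
    Nat.card ↥(hexGrp ⊓ Subgroup.centralizer ({a} : Set PP)) = n := by
  classical
  obtain ⟨g, hg, hgm⟩ := exists_inMi ht
  have eg := sixHom_eq hg hgm.1 π hp hπ
  obtain ⟨τ, hτ, hτe⟩ := conj_even hσ hc hodd
  rw [← image_even] at hτ
  obtain ⟨k, hk, rfl⟩ := hτ
  have hkm : (k : PP) ∈ hexStab := k.2
  have hrel : (k : PP) * a * (k : PP)⁻¹ * g⁻¹ ∈ hexGrp := by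
    have h : k * ⟨a, ha⟩ * k⁻¹ * (⟨g, hgm.1⟩ : hexStab)⁻¹ ∈ sixHom.ker := by
      rw [MonoidHom.mem_ker, map_mul, map_mul, map_mul, map_inv, map_inv, hτe, eg, mul_inv_cancel]
    rwa [ker_sixHom] at h
  have hiff : ∀ b ∈ hexGrp, (a * b = b * a ↔
      g * ((k : PP) * b * (k : PP)⁻¹) = ((k : PP) * b * (k : PP)⁻¹) * g) := by
    intro b hb
    obtain ⟨d, hd, hde⟩ : ∃ d ∈ hexGrp, (k : PP) * a * (k : PP)⁻¹ = d * g := ⟨_, hrel, by group⟩
    have hb' := (mem_hexStab_iff_normalizes (hexStab_le hkm)).1 hkm b |>.1 hb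
    constructor
    · intro h
      have h2 : d * g * ((k : PP) * b * (k : PP)⁻¹) = ((k : PP) * b * (k : PP)⁻¹) * (d * g) := by
        rw [← hde]
        calc (k : PP) * a * (k : PP)⁻¹ * ((k : PP) * b * (k : PP)⁻¹) = k * (a * b) * (k : PP)⁻¹ := by group
          _ = k * (b * a) * (k : PP)⁻¹ := by rw [h]
          _ = _ := by group
      rw [← mul_assoc _ d g, hexGrp_comm hb' hd, mul_assoc, mul_assoc] at h2
      exact mul_left_cancel h2
    · intro h
      have h2 : (k : PP) * (a * b) * (k : PP)⁻¹ = (k : PP) * (b * a) * (k : PP)⁻¹ := by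
        calc (k : PP) * (a * b) * (k : PP)⁻¹ = ((k : PP) * a * (k : PP)⁻¹) * ((k : PP) * b * (k : PP)⁻¹) := by
              group
          _ = ((k : PP) * b * (k : PP)⁻¹) * ((k : PP) * a * (k : PP)⁻¹) := by
              rw [hde, mul_assoc, h, ← mul_assoc, hexGrp_comm hd hb', mul_assoc]
          _ = _ := by group
      exact mul_left_cancel (mul_right_cancel h2)
  let e : ↥(hexGrp ⊓ Subgroup.centralizer ({a} : Set PP)) ≃ ↥(hexGrp ⊓ Subgroup.centralizer ({g} : Set PP)) :=
    { toFun := fun b => ⟨(k : PP) * b * (k : PP)⁻¹, ((mem_hexStab_iff_normalizes (hexStab_le hkm)).1 hkm _).1 b.2.1,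
        Subgroup.mem_centralizer_singleton_iff.2 ((hiff b b.2.1).1
          (Subgroup.mem_centralizer_singleton_iff.1 b.2.2).symm).symm⟩
      invFun := fun b => ⟨(k : PP)⁻¹ * b * k, by
          show (k : PP)⁻¹ * b * k ∈ hexGrp
          rw [(mem_hexStab_iff_normalizes (hexStab_le hkm)).1 hkm]
          rw [show (k : PP) * ((k : PP)⁻¹ * b * k) * (k : PP)⁻¹ = b by group]
          exact b.2.1, Subgroup.mem_centralizer_singleton_iff.2 (by
          have hb : (k : PP)⁻¹ * b * k ∈ hexGrp := by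
            rw [(mem_hexStab_iff_normalizes (hexStab_le hkm)).1 hkm]
            rw [show (k : PP) * ((k : PP)⁻¹ * b * k) * (k : PP)⁻¹ = b by group]
            exact b.2.1
          refine ((hiff _ hb).2 ?_).symm
          rw [show (k : PP) * ((k : PP)⁻¹ * b * k) * (k : PP)⁻¹ = b by group]
          exact (Subgroup.mem_centralizer_singleton_iff.1 b.2.2).symm)⟩
      left_inv := fun b => Subtype.ext (by show (k : PP)⁻¹ * ((k : PP) * b * (k : PP)⁻¹) * k = b; group)
      right_inv := fun b => Subtype.ext (by show (k : PP) * ((k : PP)⁻¹ * b * k) * (k : PP)⁻¹ = b; group) }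
  rw [Nat.card_congr e]
  let L := hexB.filter fun b => commTbl t b
  have hex : ∀ i : Fin L.length, ∃ b ∈ hexGrp, IsTbl b (L.get i) := fun i =>
    exists_hexB (List.mem_of_mem_filter (List.get_mem L i))
  choose f hf hft using hex
  have hb : Function.Bijective fun i : Fin L.length =>
      (⟨f i, hf i, Subgroup.mem_centralizer_singleton_iff.2 ((commute_of_commTbl hg (hft i)).1
        (List.mem_filter.1 (List.get_mem L i)).2).symm⟩ : ↥(hexGrp ⊓ Subgroup.centralizer ({g} : Set PP))) := by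
    refine ⟨fun i j h => ?_, fun b => ?_⟩
    · have hnd : (L.map tblKey).Nodup := (hexB_ok.2.2.1).sublist (List.filter_sublist.map _)
      exact Fin.ext ((List.Nodup.getElem_inj_iff hnd).1
        (show (L.map tblKey)[i.val]'(by simp) = (L.map tblKey)[j.val]'(by simp) by
          have e : f i = f j := congrArg Subtype.val h
          have := (hft i).key_eq (show IsTbl (f i) (L.get j) from e ▸ hft j)
          simpa using this))
    · obtain ⟨s, hs, hbs⟩ := hexB_all b b.2.1
      have hmem : s ∈ L := List.mem_filter.2 ⟨hs, (commute_of_commTbl hg hbs).2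
        (Subgroup.mem_centralizer_singleton_iff.1 b.2.2).symm⟩
      obtain ⟨i, hi⟩ := List.get_of_mem hmem
      exact ⟨i, Subtype.ext ((hi ▸ hft i : IsTbl (f i) s).ext hbs)⟩
  rw [← Nat.card_eq_of_bijective _ hb, Nat.card_fin]
  exact hn

theorem fix_two {a : PP} (ha : a ∈ hexStab) (haI : a ∈ twoFix) (hB : a ∉ hexGrp) (h2 : a * a ∈ hexGrp) :
    Nat.card ↥(hexGrp ⊓ Subgroup.centralizer ({a} : Set PP)) = 4 := by
  classical
  have hne : sixHom ⟨a, ha⟩ ≠ 1 := fun e => hB (by
    have h : (⟨a, ha⟩ : hexStab) ∈ sixHom.ker := e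
    rwa [ker_sixHom] at h)
  have hsq : sixHom ⟨a, ha⟩ ^ 2 = 1 := by
    rw [← map_pow, ← MonoidHom.mem_ker, ker_sixHom, Subgroup.mem_subgroupOf, SubgroupClass.coe_pow, pow_two]
    exact h2
  have ho : orderOf (sixHom ⟨a, ha⟩) = 2 := orderOf_eq_prime hsq hne
  obtain ⟨n, hn⟩ := Equiv.Perm.cycleType_prime_order (ho ▸ Nat.prime_two)
  rw [ho] at hn
  have hle := Equiv.Perm.sum_cycleType_le (sixHom ⟨a, ha⟩)
  rw [hn, Multiset.sum_replicate, Fintype.card_fin, smul_eq_mul] at hle
  have hev : sixHom ⟨a, ha⟩ ∈ alternatingGroup (Fin 6) := image_even ▸ ⟨⟨a, ha⟩, haI, rfl⟩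
  rw [Equiv.Perm.mem_alternatingGroup, Equiv.Perm.sign_of_cycleType, hn, Multiset.sum_replicate,
    Multiset.card_replicate, smul_eq_mul] at hev
  have hn1 : n = 1 := by
    rcases (show n = 0 ∨ n = 1 ∨ n = 2 by omega) with rfl | rfl | rfl
    · exact absurd hev (by decide)
    · rfl
    · exact absurd hev (by decide)
  obtain ⟨h1, h2', h3, -⟩ := reps_ok
  refine count_eq ha haI h1 h2' (π := Equiv.swap 0 1 * Equiv.swap 2 3) (c := Equiv.swap 0 1) (by decide +kernel)
    ?_ (by decide +kernel) (by decide +kernel) h3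
  rw [hn, hn1, Equiv.Perm.Disjoint.cycleType_mul, Equiv.Perm.IsCycle.cycleType, Equiv.Perm.IsCycle.cycleType,
    Equiv.Perm.card_support_swap, Equiv.Perm.card_support_swap]
  · rfl
  all_goals first
    | decide
    | exact Equiv.Perm.isCycle_swap (by decide)
    | (intro x; revert x; decide +kernel)

theorem fix_three {p : PP} (hp : p ∈ hexStab) (hpI : p ∈ twoFix) (ho3 : orderOf p = 3) :
    Nat.card ↥(hexGrp ⊓ Subgroup.centralizer ({p} : Set PP)) = 1 ∨
      Nat.card ↥(hexGrp ⊓ Subgroup.centralizer ({p} : Set PP)) = 4 := by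
  classical
  have hne : sixHom ⟨p, hp⟩ ≠ 1 := fun e => by
    have h : (⟨p, hp⟩ : hexStab) ∈ sixHom.ker := e
    rw [ker_sixHom] at h
    have h2 := hexGrp_sq (show p ∈ hexGrp from h)
    have := orderOf_dvd_of_pow_eq_one (show p ^ 2 = 1 by rw [pow_two]; exact h2)
    rw [ho3] at this
    norm_num at this
  have hcube : sixHom ⟨p, hp⟩ ^ 3 = 1 := by
    rw [← map_pow, show (⟨p, hp⟩ : hexStab) ^ 3 = 1 from Subtype.ext (by
      show p ^ 3 = 1
      rw [← ho3, pow_orderOf_eq_one]), map_one]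
  haveI : Fact (Nat.Prime 3) := ⟨Nat.prime_three⟩
  have ho : orderOf (sixHom ⟨p, hp⟩) = 3 := orderOf_eq_prime hcube hne
  obtain ⟨n, hn⟩ := Equiv.Perm.cycleType_prime_order (ho ▸ Nat.prime_three)
  rw [ho] at hn
  have hle := Equiv.Perm.sum_cycleType_le (sixHom ⟨p, hp⟩)
  rw [hn, Multiset.sum_replicate, Fintype.card_fin, smul_eq_mul] at hle
  obtain ⟨-, -, -, h4, h5, h6, h7, h8, h9⟩ := reps_ok
  rcases (show n = 0 ∨ n = 1 by omega) with rfl | rfl
  · left
    refine count_eq hp hpI h4 h5 (π := Equiv.swap 0 2 * Equiv.swap 0 1) (c := Equiv.swap 3 4) (by decide +kernel)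
      ?_ (by decide +kernel) (by decide +kernel) h6
    have hc : (Equiv.swap (0 : Fin 6) 2 * Equiv.swap 0 1).IsThreeCycle :=
      Equiv.Perm.isThreeCycle_swap_mul_swap_same (by decide) (by decide) (by decide)
    rw [hn, hc.cycleType]
    rfl
  · right
    refine count_eq hp hpI h7 h8 (π := Equiv.swap 0 2 * Equiv.swap 0 1 * (Equiv.swap 3 5 * Equiv.swap 3 4))
      (c := Equiv.swap 0 3 * Equiv.swap 1 4 * Equiv.swap 2 5) (by decide +kernel)
      ?_ (by decide +kernel) (by decide +kernel) h9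
    have hc : (Equiv.swap (0 : Fin 6) 2 * Equiv.swap 0 1).IsThreeCycle :=
      Equiv.Perm.isThreeCycle_swap_mul_swap_same (by decide) (by decide) (by decide)
    have hc' : (Equiv.swap (3 : Fin 6) 5 * Equiv.swap 3 4).IsThreeCycle :=
      Equiv.Perm.isThreeCycle_swap_mul_swap_same (by decide) (by decide) (by decide)
    rw [hn, Equiv.Perm.Disjoint.cycleType_mul (by intro x; revert x; decide +kernel), hc.cycleType, hc'.cycleType]
    rfl

theorem three_group : ∃ R : Subgroup PP, R ≤ hexStab ⊓ twoFix ∧ Nat.card ↥R = 9 ∧ (∀ r ∈ R, r ^ 3 = 1) ∧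
    (∀ g ∈ pairStab, (∀ r ∈ R, g * r = r * g) → g ∈ R) ∧
    Nat.card ↥(pairStab ⊓ Subgroup.normalizer (R : Set PP)) = 144 ∧
    ∀ a ∈ R, a ≠ 1 → ∀ b ∈ R, b ≠ 1 → ∃ g, g ∈ Subgroup.normalizer (R : Set PP) ∧ g ∈ twoFix ∧
      g * a * g⁻¹ = b := by
  classical
  obtain ⟨hlen, hnd, hid, hin, hmul, hfree, hfix, horb, hfp⟩ := rList_ok
  have hget : ∀ i : Fin 9, rList.getD i.val 0 ∈ rList := by decide +kernel
  have hmemget : ∀ t ∈ rList, ∃ i : Fin 9, rList.getD i.val 0 = t := by decide +kernel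
  have hex : ∀ i : Fin 9, ∃ g : PP, IsTbl g (rList.getD i.val 0) ∧ g ∈ hexStab ⊓ twoFix := fun i =>
    exists_inMi (List.all_eq_true.1 hin _ (hget i))
  choose f hf hfm using hex
  have hf0 : f 0 = 1 := (hf 0).isIdTbl_iff.1 hid
  have hfmul : ∀ a b, f a * f b = f (rIdx a b) := fun a b => ((hf a).mul (hf b) (hmul a b)).ext (hf _)
  have hinv : ∀ a, (f a)⁻¹ = f (rIdx a a) := fun a => inv_eq_of_mul_eq_one_right (by
    rw [hfmul, (show ∀ a : Fin 9, rIdx a (rIdx a a) = 0 by decide +kernel) a, hf0])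
  let R : Subgroup PP :=
    { carrier := Set.range f
      one_mem' := ⟨0, hf0⟩
      mul_mem' := by rintro _ _ ⟨a, rfl⟩ ⟨b, rfl⟩; exact ⟨_, (hfmul a b).symm⟩
      inv_mem' := by rintro _ ⟨a, rfl⟩; exact ⟨_, (hinv a).symm⟩ }
  have hinj : Function.Injective f := fun i j h => by
    have hk := (hf i).key_eq (h ▸ hf j)
    have : ∀ i j : Fin 9, tblKey (rList.getD i.val 0) = tblKey (rList.getD j.val 0) → i = j := by decide +kernel
    exact this i j hk
  have hRle : R ≤ hexStab ⊓ twoFix := by rintro _ ⟨i, rfl⟩; exact hfm i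
  have hcube : ∀ r ∈ R, r ^ 3 = 1 := by
    rintro _ ⟨i, rfl⟩
    rw [pow_succ, pow_two, hfmul, hfmul,
      (show ∀ a : Fin 9, rIdx (rIdx a a) a = 0 by decide +kernel) i, hf0]
  simp only [List.all_eq_true, List.mem_range, beq_iff_eq] at hfree hfix horb hfp
  have hfree' : ∀ p : GolayPt, p ∈ unmask freeMask ↔ ∀ r ∈ R, r ≠ 1 → r p ≠ p := by
    intro p
    rw [mem_unmask, ← hfree _ (idx_lt p), List.all_eq_true]
    constructor
    · intro h r hr hr1 e
      obtain ⟨i, rfl⟩ := hr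
      have ht : rList.getD i.val 0 ∈ rList.tail := by
        have : ∀ i : Fin 9, i = 0 ∨ rList.getD i.val 0 ∈ rList.tail := by decide +kernel
        rcases this i with rfl | h'
        · exact absurd hf0 hr1
        · exact h'
      have := h _ ht
      rw [bne_iff_ne, ← hf i] at this
      exact this (by rw [e])
    · intro h t ht
      obtain ⟨i, rfl⟩ := hmemget t (List.mem_of_mem_tail ht)
      rw [bne_iff_ne, ← hf i]
      refine fun e => h (f i) ⟨i, rfl⟩ (fun e1 => ?_) (idx_injective e)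
      have : ∀ i : Fin 9, rList.getD i.val 0 ∈ rList.tail → i ≠ 0 := by decide +kernel
      exact this i ht (hinj (e1.trans hf0.symm))
  have hfix' : ∀ p : GolayPt, p ∈ unmask (pairMask ||| 2 ^ wPt) ↔ ∀ r ∈ R, r p = p := by
    intro p
    rw [mem_unmask, ← hfix _ (idx_lt p), List.all_eq_true]
    constructor
    · intro h r hr
      obtain ⟨i, rfl⟩ := hr
      have := h _ (hget i)
      rw [beq_iff_eq, ← hf i] at this
      exact idx_injective this
    · intro h t ht
      obtain ⟨i, rfl⟩ := hmemget t ht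
      rw [beq_iff_eq, ← hf i, h _ ⟨i, rfl⟩]
  have hnorm : pairStab ⊓ Subgroup.normalizer (R : Set PP) ≤ stabK normSets := by
    rintro g ⟨hg, hgN⟩
    have hgN' : ∀ r, r ∈ R ↔ g * r * g⁻¹ ∈ R := Subgroup.mem_normalizer_iff.1 hgN
    have himg : ∀ (r : PP) (p : GolayPt), r (g p) = g ((g⁻¹ * r * g) p) := fun r p => by
      simp [Equiv.Perm.mul_apply]
    have hback : ∀ r ∈ R, g⁻¹ * r * g ∈ R := fun r hr => by rw [hgN']; simpa [mul_assoc] using hr
    have hfr : g • unmask freeMask = unmask freeMask := by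
      refine Finset.eq_of_subset_of_card_le ?_ (by rw [Finset.card_smul_finset])
      intro x hx
      obtain ⟨y, hy, rfl⟩ := Finset.mem_smul_finset.1 hx
      rw [hfree'] at hy ⊢
      intro r hr hr1 e
      rw [Equiv.Perm.smul_def, himg] at e
      refine hy _ (hback r hr) (fun k => hr1 ?_) (g.injective e)
      calc r = g * (g⁻¹ * r * g) * g⁻¹ := by group
        _ = 1 := by rw [k]; group
    have hfx : g • unmask (pairMask ||| 2 ^ wPt) = unmask (pairMask ||| 2 ^ wPt) := by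
      refine Finset.eq_of_subset_of_card_le ?_ (by rw [Finset.card_smul_finset])
      intro x hx
      obtain ⟨y, hy, rfl⟩ := Finset.mem_smul_finset.1 hx
      rw [hfix'] at hy ⊢
      intro r hr
      rw [Equiv.Perm.smul_def, himg, hy _ (hback r hr)]
    have hp := (mem_stabK.1 hg).2 pairMask (List.mem_cons_self ..)
    refine mem_stabK.2 ⟨(mem_stabK.1 hg).1, fun n hn => ?_⟩
    simp only [normSets, List.mem_cons, List.not_mem_nil, or_false] at hn
    rcases hn with rfl | rfl | rfl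
    · exact hp
    · rw [show (2 : ℕ) ^ wPt = (pairMask ||| 2 ^ wPt) ^^^ pairMask by decide +kernel, unmask_xor,
        Finset.smul_finset_symmDiff, hfx, hp]
    · exact hfr
  have hN : stabK normSets ≤ pairStab ⊓ Subgroup.normalizer (R : Set PP) := by
    refine le_inf (fun g hg => mem_stabK.2 ⟨(mem_stabK.1 hg).1, fun n hn => ?_⟩) ?_
    · rw [List.mem_singleton.1 hn]
      exact (mem_stabK.1 hg).2 _ (List.mem_cons_self ..)
    refine stabK_le chainN_ok.1 fun l hl t ht g hg => ?_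
    rw [Subgroup.mem_normalizer_iff]
    have hc := List.all_eq_true.1 (List.all_eq_true.1 chainN_normalises l hl) t ht
    simp only [List.all_eq_true, List.any_eq_true] at hc
    have hsub : ∀ r ∈ R, g * r * g⁻¹ ∈ R := by
      rintro _ ⟨i, rfl⟩
      obtain ⟨s, hs, hst⟩ := hc _ (hget i)
      obtain ⟨j, rfl⟩ := hmemget s hs
      exact ⟨j, (hg.conj (hf i) (hf j) hst).symm⟩
    intro r
    refine ⟨hsub r, fun h => ?_⟩
    have hmap : R.map (MulAut.conj g).toMonoidHom = R := by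
      refine Subgroup.eq_of_le_of_card_ge ?_ (by
        rw [Subgroup.card_map_of_injective (MulAut.conj g).injective])
      rintro _ ⟨x, hx, rfl⟩
      exact hsub x hx
    rw [← hmap] at h
    obtain ⟨x, hx, hxe⟩ := h
    change g * x * g⁻¹ = g * r * g⁻¹ at hxe
    rwa [← mul_left_cancel (mul_right_cancel hxe)]
  have hfl : ∀ i ∈ freePts, i < 24 := by decide +kernel
  obtain ⟨q₀, hq₀⟩ : ∃ q, q = pt (freePts.headD 0) := ⟨_, rfl⟩
  have hreg : ∀ q ∈ unmask freeMask, ∃ r ∈ R, r q₀ = q := by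
    intro q hq
    have hmem : idx q ∈ freePts := by
      rw [mem_unmask, ← hfp _ (idx_lt q), List.contains_iff_mem] at hq
      exact hq
    have h := horb _ hmem
    rw [List.any_eq_true] at h
    obtain ⟨t, ht, he⟩ := h
    obtain ⟨i, rfl⟩ := hmemget t ht
    refine ⟨f i, ⟨i, rfl⟩, idx_injective ?_⟩
    rw [hf, hq₀, idx_pt (hfl _ (by decide +kernel)), beq_iff_eq.1 he]
  refine ⟨R, hRle, ?_, hcube, ?_, ?_, ?_⟩
  · exact (Nat.card_range_of_injective hinj).trans (Nat.card_fin 9)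
  · intro g hg hgR
    have hgN : g ∈ Subgroup.normalizer (R : Set PP) := by
      rw [Subgroup.mem_normalizer_iff]
      intro r
      refine ⟨fun hr => by rw [hgR r hr, mul_inv_cancel_right]; exact hr, fun h => ?_⟩
      have e := hgR _ h
      have : g * r * g⁻¹ = r := by
        calc g * r * g⁻¹ = g⁻¹ * (g * (g * r * g⁻¹)) := by group
          _ = g⁻¹ * ((g * r * g⁻¹) * g) := by rw [e]
          _ = r := by group
      rwa [this] at h
    have hin' := hnorm ⟨hg, hgN⟩
    have hq : q₀ ∈ unmask freeMask := by rw [hq₀]; decide +kernel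
    obtain ⟨r, hr, hrq⟩ := hreg (g q₀) (by
      rw [← (mem_stabK.1 hin').2 freeMask (by simp [normSets])]
      exact Finset.smul_mem_smul_finset hq)
    have hd : r⁻¹ * g ∈ stabK (pairMask :: 2 ^ wPt :: freePts.map (2 ^ ·)) := by
      have hd' : r⁻¹ * g ∈ stabK normSets :=
        mul_mem (inv_mem (hnorm ⟨hexStab_le (hRle hr).1, Subgroup.le_normalizer hr⟩)) hin'
      refine mem_stabK.2 ⟨(mem_stabK.1 hd').1, fun n hn => ?_⟩
      rcases List.mem_cons.1 hn with rfl | hn
      · exact (mem_stabK.1 hd').2 _ (by simp [normSets])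
      rcases List.mem_cons.1 hn with rfl | hn
      · exact (mem_stabK.1 hd').2 _ (by simp [normSets])
      obtain ⟨i, hi, rfl⟩ := List.mem_map.1 hn
      obtain ⟨c, hc, hcq⟩ := hreg (pt i) (by
        rw [pt_mem_unmask (hfl i hi), ← hfp i (hfl i hi), List.contains_iff_mem]
        exact hi)
      have hrc : r⁻¹ * c = c * r⁻¹ := by
        obtain ⟨a, rfl⟩ := hr
        obtain ⟨b, rfl⟩ := hc
        rw [hinv, hfmul, hfmul, (show ∀ a b : Fin 9, rIdx a b = rIdx b a by decide +kernel) (rIdx a a) b]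
      rw [unmask_two_pow_of_lt (hfl i hi), Finset.smul_finset_singleton, Finset.singleton_inj,
        Equiv.Perm.smul_def, ← hcq, ← Equiv.Perm.mul_apply,
        show r⁻¹ * g * c = c * (r⁻¹ * g) by rw [mul_assoc, hgR c hc, ← mul_assoc, ← mul_assoc, hrc],
        Equiv.Perm.mul_apply, Equiv.Perm.mul_apply, ← hrq]
      exact congrArg c (r.symm_apply_apply _)
    rw [stabK_eq_bot free_ok, Subgroup.mem_bot, inv_mul_eq_one] at hd
    exact hd ▸ hr
  · rw [le_antisymm hnorm hN]
    exact (card_stabK chainN_ok.1).trans chainN_ok.2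
  · have key : ∀ b ∈ R, b ≠ 1 → ∃ g ∈ Subgroup.normalizer (R : Set PP), g ∈ twoFix ∧ g * f 3 * g⁻¹ = b := by
      rintro _ ⟨i, rfl⟩ hi1
      have hi0 : i.val ≠ 0 := fun h => hi1 (by rw [show i = 0 from Fin.ext h]; exact hf0)
      have h := List.all_eq_true.1 transR_ok.2 (i.val - 1) (List.mem_range.2 (by omega))
      simp only [Bool.and_eq_true, beq_iff_eq, List.all_eq_true, List.any_eq_true] at h
      obtain ⟨⟨⟨⟨h24, hp⟩, h0⟩, hc3⟩, hcn⟩ := h
      rw [Nat.sub_add_cancel (Nat.pos_of_ne_zero hi0)] at hc3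
      obtain ⟨g, hg⟩ := exists_isTbl (t := transR.getD (i.val - 1) 0) (by
        simp only [inM24, Bool.and_eq_true] at h24; exact h24.1)
      have hgp : g ∈ pairStab := mem_stabK_of_isTbl hg h24 fun n hn => by rw [List.mem_singleton.1 hn]; exact hp
      refine ⟨g, ?_, mem_twoFix.2 ⟨hgp, idx_injective (by rw [hg]; exact h0)⟩, hg.conj (hf 3) (hf i) hc3⟩
      have hsub : ∀ r ∈ R, g * r * g⁻¹ ∈ R := by
        rintro _ ⟨j, rfl⟩
        obtain ⟨s, hs, hst⟩ := hcn _ (hget j)
        obtain ⟨m, rfl⟩ := hmemget s hs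
        exact ⟨m, (hg.conj (hf j) (hf m) hst).symm⟩
      rw [Subgroup.mem_normalizer_iff]
      intro r
      refine ⟨hsub r, fun h => ?_⟩
      have hmap : R.map (MulAut.conj g).toMonoidHom = R := by
        refine Subgroup.eq_of_le_of_card_ge ?_ (by
          rw [Subgroup.card_map_of_injective (MulAut.conj g).injective])
        rintro _ ⟨x, hx, rfl⟩
        exact hsub x hx
      rw [← hmap] at h
      obtain ⟨x, hx, hxe⟩ := h
      change g * x * g⁻¹ = g * r * g⁻¹ at hxe
      rwa [← mul_left_cancel (mul_right_cancel hxe)]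
    intro a ha ha1 b hb hb1
    obtain ⟨g, hgN, hgI, rfl⟩ := key a ha ha1
    obtain ⟨k, hkN, hkI, rfl⟩ := key b hb hb1
    exact ⟨k * g⁻¹, mul_mem hkN (inv_mem hgN), mul_mem hkI (inv_mem hgI), by group⟩

end CfsgLib.JFour.HexadPerm
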