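import Cfsg.Agent.Lib.JFour.Basic
import Cfsg.Agent.Lib.Involutions.BrauerSuzuki
import Cfsg.Agent.Lib.ClassK.Extraspecial

/-!
# Groups of Janko-four type: `z` is isolated in `C_G(P)`
-/

set_option autoImplicit false
set_option linter.style.haveILetI false
set_option linter.unusedSectionVars false

open Cfsg

namespace CfsgLib.JFour

/-! ## An operator of order four on an elementary abelian group with a fixed-point-free element of
order three -/

theorem card_eq_four_pow_of_fpf {V : Type*} [Group V] [Finite V] (h2 : IsPGroup 2 V) (b : MulAut V)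
    (hb3 : ∀ v, b (b (b v)) = v) (hb : ∀ v, b v = v → v = 1) :
    ∃ k : ℕ, Nat.card V = 4 ^ k := by
  classical
  haveI := Fintype.ofFinite V
  haveI : Fact (Nat.Prime 3) := ⟨Nat.prime_three⟩
  let σ : Equiv.Perm V := b.toEquiv
  have hσ : σ ^ 3 ^ 1 = 1 := by
    ext v
    simp [σ, pow_succ, hb3]
  have h := Equiv.Perm.card_compl_support_modEq hσ
  have hsupp : σ.supportᶜ = {1} := by
    ext v
    simp only [Finset.mem_compl, Equiv.Perm.mem_support, not_not, Finset.mem_singleton, σ,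
      MulEquiv.toEquiv_eq_coe, EquivLike.coe_coe]
    exact ⟨hb v, fun h => by rw [h, map_one]⟩
  rw [hsupp, Finset.card_singleton, ← Nat.card_eq_fintype_card] at h
  haveI : Fact (Nat.Prime 2) := ⟨Nat.prime_two⟩
  obtain ⟨n, hn⟩ := h2.exists_card_eq
  rw [hn] at h
  rcases Nat.even_or_odd' n with ⟨k, rfl | rfl⟩
  · exact ⟨k, by rw [hn, pow_mul]; norm_num⟩
  · exfalso
    unfold Nat.ModEq at h
    rw [pow_succ, pow_mul, Nat.mul_mod, Nat.pow_mod] at h
    norm_num at h

/-- If `a⁴ = 1` on an elementary abelian group of order `2¹²` and `a` commutes with a fixed-point-free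
automorphism of order three, then the fixed points of `a²` number at least `2⁸`. -/
theorem card_fixed_sq_ge {V : Type*} [CommGroup V] [Finite V] (hcard : Nat.card V = 2 ^ 12)
    (hsq : ∀ v : V, v * v = 1) (a b : MulAut V) (ha : ∀ v, a (a (a (a v))) = v)
    (hab : ∀ v, a (b v) = b (a v)) (hb3 : ∀ v, b (b (b v)) = v) (hb : ∀ v, b v = v → v = 1) :
    2 ^ 8 ≤ Nat.card {v : V // a (a v) = v} := by
  let f : V →* V := a.toMonoidHom * MonoidHom.id V
  have hf : ∀ v, f v = a v * v := fun v => rfl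
  have hff : ∀ v, f (f v) = a (a v) * v := by
    intro v
    rw [hf, hf, map_mul]
    calc a (a v) * a v * (a v * v) = a (a v) * (a v * a v) * v := by ac_rfl
      _ = a (a v) * v := by rw [hsq, mul_one]
  have hffff : ∀ v, f (f (f (f v))) = 1 := by
    intro v
    rw [hff, hff, map_mul, map_mul, ha]
    calc v * a (a v) * (a (a v) * v) = (v * v) * (a (a v) * a (a v)) := by ac_rfl
      _ = 1 := by rw [hsq, hsq, one_mul]
  have hfb : ∀ v, f (b v) = b (f v) := fun v => by rw [hf, hf, map_mul, hab]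
  have h2 : IsPGroup 2 V := fun v => ⟨1, by rw [pow_one, pow_two, hsq]⟩
  -- invariant subgroups have order a power of four
  have inv4 : ∀ W : Subgroup V, (∀ w ∈ W, b w ∈ W) → ∃ k, Nat.card ↥W = 4 ^ k := by
    intro W hW
    let bW : MulAut ↥W :=
      { toFun := fun w => ⟨b w.1, hW _ w.2⟩
        invFun := fun w => ⟨b (b w.1), hW _ (hW _ w.2)⟩
        left_inv := fun w => Subtype.ext (hb3 _)
        right_inv := fun w => Subtype.ext (hb3 _)
        map_mul' := fun x y => Subtype.ext (map_mul b _ _) }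
    exact card_eq_four_pow_of_fpf (h2.to_subgroup W) bW (fun w => Subtype.ext (hb3 _))
      (fun w hw => Subtype.ext (hb _ (congrArg Subtype.val hw)))
  let R : ℕ → Subgroup V := fun n => Nat.rec (motive := fun _ => Subgroup V) ⊤ (fun _ W => W.map f) n
  have hRb : ∀ n, ∀ w ∈ R n, b w ∈ R n := by
    intro n
    induction n with
    | zero => exact fun w _ => trivial
    | succ n ih =>
      rintro _ ⟨w, hw, rfl⟩
      exact ⟨b w, ih w hw, hfb w⟩
  have hRanti : ∀ n, R (n + 1) ≤ R n := by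
    intro n
    induction n with
    | zero => exact le_top
    | succ n ih => exact Subgroup.map_mono ih
  have hKb : ∀ n, ∀ w ∈ R n ⊓ f.ker, b w ∈ R n ⊓ f.ker := by
    intro n w hw
    obtain ⟨h1, h2'⟩ := Subgroup.mem_inf.1 hw
    refine Subgroup.mem_inf.2 ⟨hRb n w h1, ?_⟩
    rw [MonoidHom.mem_ker] at h2' ⊢
    rw [hfb, h2', map_one]
  have hstep : ∀ n, Nat.card ↥(R n) = Nat.card ↥(R (n + 1)) * Nat.card ↥(R n ⊓ f.ker) := by
    intro n
    have h := Subgroup.card_eq_card_quotient_mul_card_subgroup (f.subgroupMap (R n)).ker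
    rw [Nat.card_congr (QuotientGroup.quotientKerEquivOfSurjective _
      (f.subgroupMap_surjective (R n))).toEquiv] at h
    rw [h]
    congr 1
    have hk : (f.subgroupMap (R n)).ker = (R n ⊓ f.ker).subgroupOf (R n) := by
      ext w
      rw [MonoidHom.mem_ker, Subgroup.mem_subgroupOf, Subgroup.mem_inf, MonoidHom.mem_ker]
      exact ⟨fun h => ⟨w.2, congrArg Subtype.val h⟩, fun h => Subtype.ext h.2⟩
    rw [hk, Nat.card_congr (Subgroup.subgroupOfEquivOfLe inf_le_left).toEquiv]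
  have h4 : Nat.card ↥(R 4) = 1 := by
    rw [Subgroup.card_eq_one, eq_bot_iff]
    rintro _ ⟨_, ⟨_, ⟨_, ⟨w, -, rfl⟩, rfl⟩, rfl⟩, rfl⟩
    exact Subgroup.mem_bot.2 (hffff w)
  obtain ⟨s0, hs0⟩ := inv4 _ (hKb 0)
  obtain ⟨s1, hs1⟩ := inv4 _ (hKb 1)
  obtain ⟨s2, hs2⟩ := inv4 _ (hKb 2)
  obtain ⟨s3, hs3⟩ := inv4 _ (hKb 3)
  have mono : ∀ n m k, Nat.card ↥(R n ⊓ f.ker) = 4 ^ m → Nat.card ↥(R (n + 1) ⊓ f.ker) = 4 ^ k →
      k ≤ m := by
    intro n m k hm hk
    have := Subgroup.card_le_of_le (inf_le_inf (hRanti n) (le_refl f.ker))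
    rw [hm, hk] at this
    exact (Nat.pow_le_pow_iff_right (by norm_num)).1 this
  have m0 := mono 0 s0 s1 hs0 hs1
  have m1 := mono 1 s1 s2 hs1 hs2
  have m2 := mono 2 s2 s3 hs2 hs3
  have e0 : Nat.card ↥(R 0) = Nat.card ↥(R 1) * Nat.card ↥(R 0 ⊓ f.ker) := hstep 0
  have e1 : Nat.card ↥(R 1) = Nat.card ↥(R 2) * Nat.card ↥(R 1 ⊓ f.ker) := hstep 1
  have e2 : Nat.card ↥(R 2) = Nat.card ↥(R 3) * Nat.card ↥(R 2 ⊓ f.ker) := hstep 2
  have e3 : Nat.card ↥(R 3) = Nat.card ↥(R 4) * Nat.card ↥(R 3 ⊓ f.ker) := hstep 3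
  rw [h4, one_mul, hs3] at e3
  rw [e3, hs2, ← pow_add] at e2
  rw [e2, hs1, ← pow_add] at e1
  rw [e1, hs0, ← pow_add, show Nat.card ↥(R 0) = 4 ^ 6 from by
    rw [show R 0 = ⊤ from rfl, Subgroup.card_top, hcard]; norm_num] at e0
  have hsum : 6 = s3 + s2 + s1 + s0 := Nat.pow_right_injective (by norm_num) e0
  have hr2 : Nat.card ↥(R 2) ≤ 2 ^ 4 := by
    rw [e2, show (2 : ℕ) ^ 4 = 4 ^ 2 by norm_num]
    exact Nat.pow_le_pow_right (by norm_num) (by omega)
  have hq := Subgroup.card_eq_card_quotient_mul_card_subgroup (f.comp f).ker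
  rw [Nat.card_congr (QuotientGroup.quotientKerEquivRange (f.comp f)).toEquiv, hcard] at hq
  have hrange : (f.comp f).range = R 2 := by
    rw [MonoidHom.range_eq_map, ← Subgroup.map_map]; rfl
  rw [hrange] at hq
  have hker : Nat.card ↥(f.comp f).ker = Nat.card {v : V // a (a v) = v} := by
    refine Nat.card_congr (Equiv.subtypeEquivRight fun v => ?_)
    rw [MonoidHom.mem_ker, MonoidHom.comp_apply, hff]
    constructor
    · intro h
      exact ((inv_eq_of_mul_eq_one_right h).symm.trans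
        (inv_eq_of_mul_eq_one_right (hsq (a (a v))))).symm
    · intro h
      rw [h, hsq]
  rw [← hker]
  by_contra hlt
  push Not at hlt
  have : Nat.card ↥(R 2) * Nat.card ↥(f.comp f).ker < 2 ^ 4 * 2 ^ 8 :=
    Nat.mul_lt_mul_of_le_of_lt hr2 hlt (by norm_num)
  rw [← hq] at this
  norm_num at this

/-! ## Isolated involutions with the centraliser condition -/

/-- An involution that commutes with no other conjugate gives odd commutators. -/
theorem oddComm_of_commuting_isolated {K : Type*} [Group K] [Finite K] {t : K} (ht : orderOf t = 2)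
    (hiso : ∀ g : K, Commute (g * t * g⁻¹) t → g * t * g⁻¹ = t) :
    CfsgLib.Involutions.OddComm t := by
  intro g
  have htt : t * t = 1 := by rw [← pow_two, ← ht, pow_orderOf_eq_one]
  have ht1 : t⁻¹ = t := inv_eq_of_mul_eq_one_right htt
  set y := g * t * g⁻¹ with hy
  have hyy : y * y = 1 := by
    rw [hy, show g * t * g⁻¹ * (g * t * g⁻¹) = g * (t * t) * g⁻¹ by group, htt]; group
  have hw : t * g * t⁻¹ * g⁻¹ = t * y := by rw [ht1, hy]; group
  rw [hw]
  set w := t * y with hwdef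
  rcases Nat.even_or_odd (orderOf w) with hev | hodd
  swap
  · exact hodd
  exfalso
  obtain ⟨j, hj⟩ := hev
  have hn0 : 0 < orderOf w := orderOf_pos w
  have hu1 : w ^ j ≠ 1 := pow_ne_one_of_lt_orderOf (by omega) (by omega)
  have hu2 : w ^ j * w ^ j = 1 := by rw [← pow_add, ← hj, pow_orderOf_eq_one]
  have htw : ∀ i : ℕ, t * w ^ i * t⁻¹ = (w ^ i)⁻¹ := by
    intro i
    rw [← conj_pow, ← inv_pow]
    congr 1
    rw [hwdef, ht1, mul_inv_rev, inv_eq_of_mul_eq_one_right hyy, ht1, ← mul_assoc, htt, one_mul]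
  have hyw : ∀ i : ℕ, y * w ^ i * y⁻¹ = (w ^ i)⁻¹ := by
    intro i
    rw [← conj_pow, ← inv_pow]
    congr 1
    rw [hwdef, inv_eq_of_mul_eq_one_right hyy, mul_inv_rev, inv_eq_of_mul_eq_one_right hyy, ht1,
      mul_assoc y, mul_assoc t, hyy, mul_one]
  have hcomm : Commute (t * w ^ j) t := by
    have h1 : t * w ^ j * t⁻¹ = w ^ j := by rw [htw, inv_eq_of_mul_eq_one_right hu2]
    have h2 : t * w ^ j = w ^ j * t := mul_inv_eq_iff_eq_mul.1 h1
    show t * w ^ j * t = t * (t * w ^ j)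
    rw [mul_assoc, ← h2]
  have hne : t * w ^ j ≠ t := fun h => hu1 (mul_eq_left.1 h)
  rcases Nat.even_or_odd' j with ⟨i, hi | hi⟩
  · have he : (w ^ i)⁻¹ * t * (w ^ i)⁻¹⁻¹ = t * w ^ j := by
      rw [inv_inv, hi, two_mul, pow_add, ← htw i]
      group
    exact hne (he ▸ hiso (w ^ i)⁻¹ (he.symm ▸ hcomm))
  · have he : ((w ^ i)⁻¹ * g) * t * ((w ^ i)⁻¹ * g)⁻¹ = t * w ^ j := by
      have htwy : t * w = y := by rw [hwdef, ← mul_assoc, htt, one_mul]
      rw [show (w ^ i)⁻¹ * g * t * ((w ^ i)⁻¹ * g)⁻¹ = (w ^ i)⁻¹ * y * w ^ i by rw [hy]; group,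
        ← hyw i, inv_eq_of_mul_eq_one_right hyy, hi,
        show 2 * i + 1 = 1 + (i + i) by omega, pow_add, pow_add, pow_one, ← mul_assoc t w, htwy]
      calc y * w ^ i * y * y * w ^ i = y * w ^ i * (y * y) * w ^ i := by group
        _ = y * (w ^ i * w ^ i) := by rw [hyy]; group
    exact hne (he ▸ hiso _ (he.symm ▸ hcomm))

/-- If `t` is an involution isolated in this sense, then every element is a product of an element
of the odd core and one centralising `t`. -/
theorem exists_oddCore_mul_centralizer {K : Type*} [Group K] [Finite K] {t : K} (ht : orderOf t = 2)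
    (h : CfsgLib.Involutions.OddComm t) (g : K) :
    ∃ o ∈ oddCore K, Commute (o⁻¹ * g) t := by
  have htt : t * t = 1 := by rw [← pow_two, ← ht, pow_orderOf_eq_one]
  have ht1 : t⁻¹ = t := inv_eq_of_mul_eq_one_right htt
  set w := t * g * t⁻¹ * g⁻¹ with hwdef
  have hw : w ∈ oddCore K := CfsgLib.Involutions.zstar_theorem ht h g
  obtain ⟨i, hi⟩ := h g
  refine ⟨w ^ i, Subgroup.pow_mem _ hw i, ?_⟩
  have htw : t * w * t⁻¹ = w⁻¹ := by
    rw [hwdef, ht1]
    calc t * (t * g * t * g⁻¹) * t = (t * t) * (g * t * g⁻¹ * t) := by group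
      _ = (t * g * t * g⁻¹)⁻¹ := by rw [htt, mul_inv_rev, mul_inv_rev, mul_inv_rev, inv_inv, ht1]; group
  have htwi : t * w ^ i * t⁻¹ = (w ^ i)⁻¹ := by rw [← conj_pow, htw, inv_pow]
  have hgt : g * t * g⁻¹ = t * w := by
    rw [hwdef, ht1, ← mul_assoc, ← mul_assoc, ← mul_assoc, htt, one_mul]
  have hw1 : w ^ i * w ^ i = w⁻¹ := by
    apply eq_inv_of_mul_eq_one_left
    rw [← pow_add, ← pow_succ, ← pow_orderOf_eq_one w, hwdef, hi, two_mul]
  have key : (w ^ i)⁻¹ * (g * t * g⁻¹) * w ^ i = t := by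
    rw [hgt, show (w ^ i)⁻¹ = t * w ^ i * t⁻¹ from htwi.symm, ht1]
    calc t * w ^ i * t * (t * w) * w ^ i = t * w ^ i * ((t * t) * (w * w ^ i)) := by group
      _ = t * (w ^ i * (w * w ^ i)) := by rw [htt, one_mul, mul_assoc]
      _ = t * ((w ^ i * w ^ i) * w) := by
          rw [(Commute.pow_right (Commute.refl w) i).eq, mul_assoc (w ^ i)]
      _ = t := by rw [hw1, inv_mul_cancel, mul_one]
  show (w ^ i)⁻¹ * g * t = t * ((w ^ i)⁻¹ * g)
  conv_rhs => rw [← key]
  group

/-! ## The isolation -/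

namespace Setting

variable {G : Type*} [Group G] {z : G} {P N : Subgroup G}

set_option quotPrecheck false in
local notation "ℋ" => Subgroup.centralizer (singleton z : Set G)
set_option quotPrecheck false in
local notation "ℰ" => twoCoreOfCentralizer z

/-- A `2`-element of `N` lies in `E`. -/
theorem mem_E_of_pow [Finite G] (S : Setting z P N) {x : G} (hx : x ∈ N) {k : ℕ}
    (hk : x ^ 2 ^ k = 1) : x ∈ ℰ := by
  obtain ⟨e, he, p, hp, rfl⟩ := S.mem_N_iff.1 hx
  have hpow : ∀ n : ℕ, (e * p) ^ n * (p ^ n)⁻¹ ∈ ℰ := by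
    intro n
    induction n with
    | zero => simp
    | succ n ih =>
      rw [pow_succ, pow_succ, mul_inv_rev,
        show (e * p) ^ n * (e * p) * (p⁻¹ * (p ^ n)⁻¹) =
          ((e * p) ^ n * (p ^ n)⁻¹) * (p ^ n * e * (p ^ n)⁻¹) by group]
      exact mul_mem ih (S.conj_mem_E (Subgroup.pow_mem _ (S.P_le_H hp) n) he)
  have h1 := hpow (2 ^ k)
  rw [hk, one_mul, inv_mem_iff] at h1
  have h2 : p ^ 2 ^ k = 1 := by
    have : p ^ 2 ^ k ∈ (⊥ : Subgroup G) :=
      S.E_inf_P ▸ Subgroup.mem_inf.2 ⟨h1, Subgroup.pow_mem _ hp _⟩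
    exact Subgroup.mem_bot.1 this
  have h3 : orderOf p ∣ 3 := S.cardP ▸ Subgroup.orderOf_dvd_natCard _ hp
  have h4 : orderOf p ∣ 1 :=
    (show Nat.Coprime (2 ^ k) 3 from Nat.Coprime.pow_left k (by norm_num)) ▸
      Nat.dvd_gcd (orderOf_dvd_of_pow_eq_one h2) h3
  rw [orderOf_eq_one_iff.1 (Nat.dvd_one.1 h4), mul_one]
  exact he

/-- An involution of `C_H(P)` centralises at least `2⁸` elements of `E`. -/
theorem card_centralizer_ge [Finite G] (S : Setting z P N) {M B : Subgroup (MulAut ↥Spor.M22)}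
    (hHex : HexadData (Inn ↥Spor.M22) M B) {x : G}
    (hx : x ∈ ℋ ⊓ Subgroup.centralizer (P : Set G)) (hx2 : x * x = 1) :
    2 ^ 8 ≤ Nat.card ↥(ℰ ⊓ Subgroup.centralizer ({x} : Set G)) := by
  classical
  obtain ⟨π, hπ, hker⟩ := S.quot
  haveI : Fact (Nat.Prime 2) := ⟨Nat.prime_two⟩
  obtain ⟨q, hq, hq1, hq3, hPq⟩ := S.exists_generator
  -- the quotient `E / ⟨z⟩`
  set Z : Subgroup ↥ℰ := (Subgroup.zpowers z).subgroupOf ℰ with hZ
  haveI hZn : Z.Normal := by
    refine ⟨fun n hn g => ?_⟩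
    rw [hZ, Subgroup.mem_subgroupOf] at hn ⊢
    rcases S.mem_zpowers_iff.1 hn with h | h <;>
      simp only [Subgroup.coe_mul, Subgroup.coe_inv, h]
    · simp
    · rw [S.comm_z (S.E_le g.2)]; simp
  have hcardZ : Nat.card ↥Z = 2 := by
    rw [hZ, Nat.card_congr (Subgroup.subgroupOfEquivOfLe (Subgroup.zpowers_le.2 S.z_mem_E)).toEquiv,
      Nat.card_zpowers, S.orderZ]
  have hcardV : Nat.card (↥ℰ ⧸ Z) = 2 ^ 12 := by
    have := Subgroup.card_eq_card_quotient_mul_card_subgroup Z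
    rw [hcardZ, S.cardE] at this
    omega
  have hcomm : ∀ u v : ↥ℰ ⧸ Z, u * v = v * u := by
    intro u v
    induction u using QuotientGroup.induction_on with | _ u => ?_
    induction v using QuotientGroup.induction_on with | _ v => ?_
    rw [← QuotientGroup.mk_mul, ← QuotientGroup.mk_mul, QuotientGroup.eq, hZ, Subgroup.mem_subgroupOf]
    have := S.commutator_mem (inv_mem v.2) (inv_mem u.2)
    simpa [mul_assoc] using this
  letI : CommGroup (↥ℰ ⧸ Z) := { (inferInstance : Group (↥ℰ ⧸ Z)) with mul_comm := hcomm }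
  have hsq : ∀ v : ↥ℰ ⧸ Z, v * v = 1 := by
    intro v
    induction v using QuotientGroup.induction_on with | _ v => ?_
    rw [← QuotientGroup.mk_mul, QuotientGroup.eq_one_iff, hZ, Subgroup.mem_subgroupOf]
    exact S.sq_mem v.2
  -- the action of an element of `H`
  have hconj : ∀ h : ↥ℋ, ∃ α : MulAut (↥ℰ ⧸ Z),
      ∀ e : ↥ℰ, α (e : ↥ℰ ⧸ Z) = ((⟨(h : G) * e * (h : G)⁻¹, S.conj_mem_E h.2 e.2⟩ : ↥ℰ) : ↥ℰ ⧸ Z) := by
    intro h
    let c : ↥ℰ ≃* ↥ℰ :=
      { toFun := fun e => ⟨(h : G) * e * (h : G)⁻¹, S.conj_mem_E h.2 e.2⟩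
        invFun := fun e => ⟨(h : G)⁻¹ * e * h, S.conj_mem_E' h.2 e.2⟩
        left_inv := fun e => Subtype.ext (by simp [mul_assoc])
        right_inv := fun e => Subtype.ext (by simp [mul_assoc])
        map_mul' := fun a b => Subtype.ext (by simp [mul_assoc]) }
    refine ⟨QuotientGroup.congr Z Z c ?_, fun e => rfl⟩
    ext e
    simp only [Subgroup.mem_map, hZ, Subgroup.mem_subgroupOf, MulEquiv.coe_toMonoidHom]
    constructor
    · rintro ⟨f, hf, rfl⟩
      show (h : G) * f * (h : G)⁻¹ ∈ Subgroup.zpowers z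
      rcases S.mem_zpowers_iff.1 hf with e' | e' <;> rw [e']
      · simp
      · rw [S.comm_z h.2]; simp
    · intro he
      refine ⟨c.symm e, ?_, c.apply_symm_apply e⟩
      show (h : G)⁻¹ * e * h ∈ Subgroup.zpowers z
      rcases S.mem_zpowers_iff.1 he with e' | e' <;> rw [e']
      · simp
      · rw [mul_assoc, ← S.comm_z h.2]; simp
  choose α hα using hconj
  have hmulH : ∀ (h k : ↥ℋ) (v : ↥ℰ ⧸ Z), α h (α k v) = α (h * k) v := by
    intro h k v
    induction v using QuotientGroup.induction_on with | _ v => ?_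
    rw [hα, hα, hα]
    exact congrArg QuotientGroup.mk (Subtype.ext (by simp [mul_assoc]))
  have htriv : ∀ h : ↥ℋ, (h : G) ∈ Subgroup.zpowers z → ∀ v, α h v = v := by
    intro h hh v
    induction v using QuotientGroup.induction_on with | _ v => ?_
    rw [hα]
    refine congrArg QuotientGroup.mk (Subtype.ext ?_)
    rcases S.mem_zpowers_iff.1 hh with e | e <;> simp only [e]
    · simp
    · rw [← S.comm_z (S.E_le v.2)]; simp
  set qH : ↥ℋ := ⟨q, S.P_le_H hq⟩ with hqH
  have hb3 : ∀ v, α qH (α qH (α qH v)) = v := by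
    intro v
    rw [hmulH, hmulH]
    refine htriv _ ?_ v
    have : ((qH * qH * qH : ↥ℋ) : G) = q ^ 3 := by simp [hqH, pow_succ]
    rw [this, ← hq3, pow_orderOf_eq_one]
    exact Subgroup.one_mem _
  have hb : ∀ v, α qH v = v → v = 1 := by
    intro v
    induction v using QuotientGroup.induction_on with | _ v => ?_
    intro hv
    rw [hα, QuotientGroup.eq, hZ, Subgroup.mem_subgroupOf] at hv
    rw [QuotientGroup.eq_one_iff, hZ, Subgroup.mem_subgroupOf]
    apply S.mem_zpowers_of_comm hq hq1 v.2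
    have h2 := inv_mem hv
    simp only [Subgroup.coe_mul, Subgroup.coe_inv, mul_inv_rev, inv_inv, hqH] at h2
    have : q * (v : G) * q⁻¹ * (v : G)⁻¹ = (v : G) * ((v : G)⁻¹ * (q * v * q⁻¹)) * (v : G)⁻¹ := by group
    rw [this]
    rcases S.mem_zpowers_iff.1 h2 with e | e <;> rw [e]
    · simp
    · rw [S.comm_z (S.E_le v.2)]; simp
  have hxC : x ∈ Subgroup.centralizer (P : Set G) := (Subgroup.mem_inf.1 hx).2
  set xH : ↥ℋ := ⟨x, (Subgroup.mem_inf.1 hx).1⟩ with hxH
  -- at least `2⁸` fixed points in the quotient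
  have hfix : 2 ^ 8 ≤ Nat.card {v : ↥ℰ ⧸ Z // α xH v = v} := by
    by_cases h1 : π xH = 1
    · have hxN := (S.pi_eq_one_iff hker xH).1 h1
      have hxE : x ∈ ℰ := S.mem_E_of_pow hxN (k := 1) (by rw [pow_one, pow_two, hx2])
      have hxz : x ∈ Subgroup.zpowers z := S.fixP ▸ Subgroup.mem_inf.2 ⟨hxE, hxC⟩
      rw [Nat.card_congr (Equiv.subtypeUnivEquiv fun v => htriv xH hxz v), hcardV]
      norm_num
    · have hxI := S.pi_mem_inn_of_mem_C hπ hker (h := xH) hxC
      have hord : orderOf (π xH) = 2 := by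
        refine orderOf_eq_prime ?_ h1
        rw [← map_pow, show xH ^ 2 = 1 from Subtype.ext (by simpa [pow_two] using hx2), map_one]
      obtain ⟨v, hvI, hv4⟩ := hHex.exists_four
      have hv2 : orderOf (v * v) = 2 := by
        rw [← pow_two, orderOf_pow_of_dvd (by norm_num) (by rw [hv4]; norm_num), hv4]
      obtain ⟨g₁, hg₁I, hg₁⟩ := hHex.conj_inv _ hxI hord
      obtain ⟨g₂, hg₂I, hg₂⟩ := hHex.conj_inv _ (mul_mem hvI hvI) hv2
      have hne₁ : g₁ * π xH * g₁⁻¹ ≠ 1 := fun h => h1 (conj_eq_one_iff.1 h)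
      have hne₂ : g₂ * (v * v) * g₂⁻¹ ≠ 1 := fun h => by
        rw [conj_eq_one_iff.1 h, orderOf_one] at hv2; norm_num at hv2
      obtain ⟨g₃, hg₃, hg₃e⟩ := hHex.conj_B _ hg₂ hne₂ _ hg₁ hne₁
      set g := g₁⁻¹ * g₃ * g₂ with hgdef
      have hgI : g ∈ Inn ↥Spor.M22 :=
        mul_mem (mul_mem (inv_mem hg₁I) (Subgroup.mem_inf.1 hg₃).2) hg₂I
      have hgv : g * (v * v) * g⁻¹ = π xH := by
        rw [hgdef, show g₁⁻¹ * g₃ * g₂ * (v * v) * (g₁⁻¹ * g₃ * g₂)⁻¹ =
          g₁⁻¹ * (g₃ * (g₂ * (v * v) * g₂⁻¹) * g₃⁻¹) * g₁ by group, hg₃e]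
        group
      obtain ⟨⟨c, hc⟩, hcπ⟩ := S.exists_C_lift hπ hker (mul_mem (mul_mem hgI hvI) (inv_mem hgI))
      set u₀ : ↥ℋ := Subgroup.inclusion inf_le_left ⟨c, hc⟩
      have hu4 : π u₀ ^ 4 = 1 := by
        rw [hcπ, conj_pow, ← hv4, pow_orderOf_eq_one]; group
      have hc4 : c ^ 4 ∈ Subgroup.zpowers z ⊔ P := by
        rw [← S.N_inf_normalizer]
        refine Subgroup.mem_inf.2 ⟨?_, Subgroup.pow_mem _ (Subgroup.mem_inf.1 (S.C_le_normalizer_P hc)).2 4⟩
        exact (S.pi_eq_one_iff hker (u₀ ^ 4)).1 (by rw [map_pow, hu4])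
      have hcz : c ^ 36 ∈ Subgroup.zpowers z := by
        rw [← SetLike.mem_coe, Subgroup.coe_mul_of_left_le_normalizer_right _ _
          (S.zpowers_le_centralizer_P.trans (Subgroup.centralizer_le_normalizer _))] at hc4
        obtain ⟨i, hi, r, hr, hir⟩ := Set.mem_mul.1 hc4
        have hcom : Commute i r := by
          exact (Subgroup.mem_centralizer_iff.1 (S.zpowers_le_centralizer_P hi) r hr).symm
        rw [show c ^ 36 = (c ^ 4) ^ 9 by rw [← pow_mul], ← hir, hcom.mul_pow,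
          show r ^ 9 = 1 from orderOf_dvd_iff_pow_eq_one.1
            ((S.cardP ▸ Subgroup.orderOf_dvd_natCard _ hr).trans (by norm_num)), mul_one]
        exact Subgroup.pow_mem _ hi 9
      set u : ↥ℋ := u₀ ^ 9 with hu
      have hπu : π (u * u) = π xH := by
        rw [map_mul, hu, map_pow, show (9 : ℕ) = 4 + 4 + 1 from rfl, pow_succ, pow_add, hu4, one_mul,
          one_mul, hcπ, ← hgv]
        group
      have hdiff : x⁻¹ * ((u * u : ↥ℋ) : G) ∈ Subgroup.zpowers z ⊔ P := by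
        rw [← S.N_inf_normalizer]
        refine Subgroup.mem_inf.2 ⟨?_, ?_⟩
        · exact (S.pi_eq_one_iff hker (xH⁻¹ * (u * u))).1 (by rw [map_mul, map_inv, hπu, inv_mul_cancel])
        · refine mul_mem (inv_mem (Subgroup.centralizer_le_normalizer _ hxC)) ?_
          have : c ∈ Subgroup.normalizer (P : Set G) := (Subgroup.mem_inf.1 (S.C_le_normalizer_P hc)).2
          simp only [hu, Subgroup.coe_mul, Subgroup.coe_pow]
          exact mul_mem (Subgroup.pow_mem _ this 9) (Subgroup.pow_mem _ this 9)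
      have hxz : x⁻¹ * ((u * u : ↥ℋ) : G) ∈ Subgroup.zpowers z := by
        rw [← SetLike.mem_coe, Subgroup.coe_mul_of_left_le_normalizer_right _ _
          (S.zpowers_le_centralizer_P.trans (Subgroup.centralizer_le_normalizer _))] at hdiff
        obtain ⟨i, hi, r, hr, hir⟩ := Set.mem_mul.1 hdiff
        have hr1 : r = 1 := by
          have hirc : Commute i r := (Subgroup.mem_centralizer_iff.1 (S.zpowers_le_centralizer_P hi) r hr).symm
          have hxr : Commute x (i * r) := by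
            refine Commute.mul_right ?_ (Subgroup.mem_centralizer_iff.1 hxC r hr).symm
            rcases S.mem_zpowers_iff.1 hi with e | e <;> rw [e]
            · exact Commute.one_right x
            · exact S.comm_z (Subgroup.mem_inf.1 hx).1
          have huu : ((u * u : ↥ℋ) : G) = x * (i * r) := by rw [hir]; group
          have h36 : ((u * u : ↥ℋ) : G) ^ 2 = c ^ 36 := by
            simp only [hu, Subgroup.coe_mul, Subgroup.coe_pow]
            rw [← pow_add, ← pow_mul]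
            rfl
          have h4 : r ^ 2 ∈ Subgroup.zpowers z := by
            rw [← h36, huu, hxr.mul_pow, pow_two x, hx2, one_mul, hirc.mul_pow] at hcz
            have := mul_mem (inv_mem (Subgroup.pow_mem _ hi 2)) hcz
            rwa [inv_mul_cancel_left] at this
          have h5 : r ^ 2 ∈ (⊥ : Subgroup G) := S.E_inf_P ▸ Subgroup.mem_inf.2
            ⟨Subgroup.zpowers_le.2 S.z_mem_E h4, Subgroup.pow_mem _ hr 2⟩
          rw [← orderOf_eq_one_iff]
          refine Nat.dvd_one.1 ((show Nat.Coprime 2 3 by norm_num) ▸ Nat.dvd_gcd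
            (orderOf_dvd_of_pow_eq_one (Subgroup.mem_bot.1 h5)) (S.cardP ▸ Subgroup.orderOf_dvd_natCard _ hr))
        rw [← hir, hr1, mul_one]; exact hi
      have hsame : ∀ v, α u (α u v) = α xH v := by
        intro v
        rw [hmulH, show u * u = xH * (xH⁻¹ * (u * u)) by group, ← hmulH]
        congr 1
        exact htriv _ hxz v
      have hu4' : ∀ v, α u (α u (α u (α u v))) = v := by
        intro v
        rw [hmulH, hmulH, hmulH]
        refine htriv _ ?_ v
        simp only [hu, Subgroup.coe_mul, Subgroup.coe_pow]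
        rw [← pow_add, ← pow_add, ← pow_add]
        exact hcz
      have hab : ∀ v, α u (α qH v) = α qH (α u v) := by
        intro v
        rw [hmulH, hmulH]
        congr 2
        apply Subtype.ext
        simp only [hu, hqH, Subgroup.coe_mul, Subgroup.coe_pow]
        exact ((show Commute c q from (Subgroup.mem_centralizer_iff.1 (Subgroup.mem_inf.1 hc).2 q hq).symm).pow_left 9)
      have := card_fixed_sq_ge hcardV hsq (α u) (α qH) hu4' hab hb3 hb
      rwa [Nat.card_congr (Equiv.subtypeEquivRight fun v => by rw [hsame v] :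
        {v : ↥ℰ ⧸ Z // α u (α u v) = v} ≃ {v // α xH v = v})] at this
  -- back to `E`
  have hx1 : ∀ e : ↥ℰ, α xH (e : ↥ℰ ⧸ Z) = e ↔ x * e * x⁻¹ * (e : G)⁻¹ ∈ Subgroup.zpowers z := by
    intro e
    rw [hα, QuotientGroup.eq, hZ, Subgroup.mem_subgroupOf]
    simp only [Subgroup.coe_mul, Subgroup.coe_inv, hxH]
    constructor <;> intro h
    · rcases S.mem_zpowers_iff.1 h with e' | e'
      · have : x * (e : G) * x⁻¹ = e := inv_mul_eq_one.1 e'
        rw [this]; simp
      · have : x * (e : G) * x⁻¹ = (e : G) * z⁻¹ := by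
          calc x * (e : G) * x⁻¹ = (e : G) * ((x * e * x⁻¹)⁻¹ * e)⁻¹ := by group
            _ = _ := congrArg (fun w => (e : G) * w⁻¹) e'
        rw [this, S.z_inv, S.comm_z (S.E_le e.2)]; simp
    · rcases S.mem_zpowers_iff.1 h with e' | e'
      · rw [mul_inv_eq_one.1 e']; simp
      · rw [mul_inv_eq_iff_eq_mul.1 e', mul_inv_rev, mul_assoc, S.z_inv,
          ← S.comm_z (S.E_le e.2)]
        simp
  set W : Subgroup ↥ℰ := Subgroup.comap (QuotientGroup.mk' Z)
    { carrier := {v | α xH v = v}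
      one_mem' := map_one _
      mul_mem' := fun {a b} ha hb => by simp only [Set.mem_setOf_eq] at *; rw [map_mul, ha, hb]
      inv_mem' := fun {a} ha => by simp only [Set.mem_setOf_eq] at *; rw [map_inv, ha] } with hW
  have hWcard : 2 ^ 9 ≤ Nat.card ↥W := by
    have hZW : Z ≤ W := by
      intro w hw
      simp only [hW, Subgroup.mem_comap, QuotientGroup.mk'_apply, (QuotientGroup.eq_one_iff w).2 hw]
      exact Subgroup.one_mem _
    have h1 := Subgroup.card_mul_index (Z.subgroupOf W)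
    rw [Nat.card_congr (Subgroup.subgroupOfEquivOfLe hZW).toEquiv, hcardZ] at h1
    have h2 : Nat.card {v : ↥ℰ ⧸ Z // α xH v = v} = (Z.subgroupOf W).index := by
      have h3 : Z = (⊥ : Subgroup (↥ℰ ⧸ Z)).comap (QuotientGroup.mk' Z) := by
        rw [MonoidHom.comap_bot, QuotientGroup.ker_mk']
      have h4 : (Z.subgroupOf W).index =
          ((⊥ : Subgroup (↥ℰ ⧸ Z)).comap (QuotientGroup.mk' Z)).relIndex W :=
        congrArg (fun K => Subgroup.relIndex K W) h3
      rw [h4, Subgroup.relIndex_comap, hW,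
        Subgroup.map_comap_eq_self_of_surjective (QuotientGroup.mk'_surjective Z),
        Subgroup.relIndex_bot_left]
      rfl
    rw [← h2] at h1
    omega
  have hmemW : ∀ e : ↥ℰ, e ∈ W ↔ x * e * x⁻¹ * (e : G)⁻¹ ∈ Subgroup.zpowers z := fun e => hx1 e
  let δ : ↥W →* ↥(Subgroup.zpowers z) :=
    { toFun := fun e => ⟨x * e.1 * x⁻¹ * (e.1 : G)⁻¹, (hmemW e.1).1 e.2⟩
      map_one' := Subtype.ext (by simp)
      map_mul' := fun a b => Subtype.ext (by
        have hbz := (hmemW b.1).1 b.2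
        show x * ((a.1 : G) * (b.1 : G)) * x⁻¹ * ((a.1 : G) * (b.1 : G))⁻¹ =
          x * (a.1 : G) * x⁻¹ * (a.1 : G)⁻¹ * (x * (b.1 : G) * x⁻¹ * (b.1 : G)⁻¹)
        rcases S.mem_zpowers_iff.1 hbz with e | e
        · rw [e, mul_one, show x * ((a.1 : G) * (b.1 : G)) * x⁻¹ = x * a.1 * x⁻¹ * (x * b.1 * x⁻¹) by group,
            mul_inv_eq_one.1 e]
          group
        · rw [e, show x * ((a.1 : G) * (b.1 : G)) * x⁻¹ = x * a.1 * x⁻¹ * (x * b.1 * x⁻¹) by group,
            mul_inv_eq_iff_eq_mul.1 e, mul_inv_rev]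
          calc x * (a.1 : G) * x⁻¹ * (z * b.1) * ((b.1 : G)⁻¹ * (a.1 : G)⁻¹)
              = x * (a.1 : G) * x⁻¹ * (z * (a.1 : G)⁻¹) := by group
            _ = x * (a.1 : G) * x⁻¹ * ((a.1 : G)⁻¹ * z) := by rw [S.comm_z (S.E_le (inv_mem a.1.2))]
            _ = _ := by group) }
  have hδ := Subgroup.card_eq_card_quotient_mul_card_subgroup δ.ker
  have hδr : Nat.card (↥W ⧸ δ.ker) ≤ 2 := by
    rw [Nat.card_congr (QuotientGroup.quotientKerEquivRange δ).toEquiv]
    exact (Subgroup.card_le_card_group _).trans (by rw [Nat.card_zpowers, S.orderZ])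
  have hle : Nat.card ↥δ.ker ≤ Nat.card ↥(ℰ ⊓ Subgroup.centralizer ({x} : Set G)) := by
    refine Nat.card_le_card_of_injective (fun w => ⟨((w.1).1 : G), Subgroup.mem_inf.2 ⟨(w.1).1.2,
      Subgroup.mem_centralizer_iff.2 ?_⟩⟩) ?_
    · rintro y rfl
      have := congrArg Subtype.val (MonoidHom.mem_ker.1 w.2)
      exact mul_inv_eq_iff_eq_mul.1 (mul_inv_eq_one.1 this)
    · intro a b h
      have h' := congrArg Subtype.val h
      exact Subtype.ext (Subtype.ext (Subtype.ext h'))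
  have := Nat.mul_le_mul hδr hle
  omega

/-- No conjugate of `z` by an element normalising `P` lies in `H`, other than `z`. -/
theorem eq_of_conj_mem [Finite G] (S : Setting z P N) {M B : Subgroup (MulAut ↥Spor.M22)}
    (hHex : HexadData (Inn ↥Spor.M22) M B) {g : G} (hg : g ∈ Subgroup.normalizer (P : Set G))
    (hgH : g * z * g⁻¹ ∈ ℋ) : g * z * g⁻¹ = z := by
  classical
  by_contra hne
  set x := g * z * g⁻¹ with hxdef
  have hxK : x ∈ Subgroup.centralizer (P : Set G) := by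
    rw [Subgroup.mem_centralizer_iff]
    intro p hp
    have h1 : g⁻¹ * p * g ∈ P := (Subgroup.mem_normalizer_iff''.1 hg p).1 hp
    calc p * x = g * ((g⁻¹ * p * g) * z) * g⁻¹ := by rw [hxdef]; group
      _ = g * (z * (g⁻¹ * p * g)) * g⁻¹ := by rw [S.comm_z (S.P_le_H h1)]
      _ = x * p := by rw [hxdef]; group
  have hx2 : x * x = 1 := by
    rw [hxdef, show g * z * g⁻¹ * (g * z * g⁻¹) = g * (z * z) * g⁻¹ by group, S.z_mul_self]; group
  set y := g⁻¹ * z * g with hydef
  have hyH : y ∈ ℋ := by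
    refine Subgroup.mem_centralizer_iff.2 fun w hw => ?_
    rw [Set.mem_singleton_iff.1 hw]
    have h := S.comm_z hgH
    calc z * y = g⁻¹ * (x * z) * g := by rw [hxdef, hydef]; group
      _ = g⁻¹ * (z * x) * g := by rw [h]
      _ = y * z := by rw [hxdef, hydef]; group
  have hyE : y ∉ ℰ := by
    intro hy
    have hyC : y ∈ Subgroup.centralizer (P : Set G) := by
      rw [Subgroup.mem_centralizer_iff]
      intro p hp
      have h1 : g * p * g⁻¹ ∈ P := (Subgroup.mem_normalizer_iff.1 hg p).1 hp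
      calc p * y = g⁻¹ * ((g * p * g⁻¹) * z) * g := by rw [hydef]; group
        _ = g⁻¹ * (z * (g * p * g⁻¹)) * g := by rw [S.comm_z (S.P_le_H h1)]
        _ = y * p := by rw [hydef]; group
    have hyz : y ∈ Subgroup.zpowers z := S.fixP ▸ Subgroup.mem_inf.2 ⟨hy, hyC⟩
    rcases S.mem_zpowers_iff.1 hyz with e | e
    · exact S.z_ne_one (by rw [show z = g * y * g⁻¹ by rw [hydef]; group, e]; group)
    · refine hne ?_
      calc x = g * y * g⁻¹ := by rw [e]
        _ = z := by rw [hydef]; group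
  set D : Subgroup G := ℰ ⊓ (Subgroup.map (MulAut.conj g).toMonoidHom ℰ) with hD
  have hmemD : ∀ d, d ∈ D → d ∈ ℰ ∧ g⁻¹ * d * g ∈ ℰ := by
    intro d hd
    obtain ⟨h1, h2⟩ := Subgroup.mem_inf.1 hd
    obtain ⟨e, he, rfl⟩ := h2
    refine ⟨h1, ?_⟩
    simpa [mul_assoc] using he
  have hzD : z ∉ D := fun h => hyE (hmemD z h).2
  have hDz : ∀ d, d ∈ D → d ∈ Subgroup.zpowers z → d = 1 := by
    intro d hd hdz
    rcases S.mem_zpowers_iff.1 hdz with e | e
    · exact e
    · exact absurd (e ▸ hd) hzD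
  have hDcomm : ∀ a ∈ D, ∀ b ∈ D, a * b = b * a := by
    intro a ha b hb
    have h := hDz _ (mul_mem (mul_mem (mul_mem ha hb) (inv_mem ha)) (inv_mem hb))
      (S.commutator_mem (hmemD a ha).1 (hmemD b hb).1)
    exact mul_inv_eq_iff_eq_mul.1 (mul_inv_eq_one.1 h)
  -- `D ⟨z⟩` is abelian, so `|D| ≤ 2⁶`
  set A : Subgroup G := D ⊔ Subgroup.zpowers z with hA
  have hAE : A ≤ ℰ := sup_le inf_le_left (Subgroup.zpowers_le.2 S.z_mem_E)
  have hAc : A ≤ Subgroup.centralizer (A : Set G) := by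
    rw [Subgroup.le_centralizer_iff]
    refine sup_le ?_ ?_ <;> rw [Subgroup.le_centralizer_iff] <;> refine sup_le ?_ ?_
    · exact fun a ha => Subgroup.mem_centralizer_iff.2 fun b hb => hDcomm b hb a ha
    · rw [Subgroup.zpowers_le]
      exact Subgroup.mem_centralizer_iff.2 fun b hb => S.comm_z (S.E_le (hmemD b hb).1)
    · exact fun a ha => Subgroup.mem_centralizer_iff.2 fun b hb => by
        rcases S.mem_zpowers_iff.1 hb with e | e <;> rw [e]
        · simp
        · exact (S.comm_z (S.E_le (hmemD a ha).1)).symm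
    · rw [Subgroup.zpowers_le]
      exact Subgroup.mem_centralizer_iff.2 fun b hb => by
        rcases S.mem_zpowers_iff.1 hb with e | e <;> rw [e]
        simp
  have hcenter : (Subgroup.center ↥ℰ).map (Subgroup.subtype ℰ) ≤ A := by
    rintro _ ⟨c, hc, rfl⟩
    apply Subgroup.mem_sup_right
    rw [← S.center_E]
    exact Subgroup.mem_inf.2 ⟨c.2, Subgroup.mem_centralizer_iff.2 fun v hv =>
      congrArg Subtype.val (Subgroup.mem_center_iff.1 hc ⟨v, hv⟩)⟩
  have hA1 := CfsgLib.ClassK.card_inf_centralizer_mul_card S.extra hcenter hAE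
  have hA2 : Nat.card ↥A ≤ Nat.card ↥(ℰ ⊓ Subgroup.centralizer (A : Set G) : Subgroup G) :=
    Subgroup.card_le_of_le (le_inf hAE hAc)
  rw [S.cardE] at hA1
  have hA3 : Nat.card ↥A * Nat.card ↥A ≤ 2 * 2 ^ 13 := hA1 ▸ Nat.mul_le_mul_right _ hA2
  have hD6 : Nat.card ↥D * 2 ≤ 2 ^ 7 := by
    have hDA : Nat.card ↥D * 2 ≤ Nat.card ↥A := by
      obtain ⟨k, hk⟩ := Subgroup.card_dvd_of_le (le_sup_left : D ≤ A)
      have hlt : Nat.card ↥D < Nat.card ↥A := by
        refine lt_of_le_of_ne (Subgroup.card_le_of_le le_sup_left) fun h => hzD ?_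
        rw [Subgroup.eq_of_le_of_card_ge (le_sup_left : D ≤ A) h.ge]
        exact Subgroup.mem_sup_right (Subgroup.mem_zpowers z)
      rw [← hA] at hk
      rw [hk] at hlt ⊢
      have : 2 ≤ k := by
        by_contra h
        push Not at h
        interval_cases k <;> simp at hlt
      exact Nat.mul_le_mul_left _ this
    have : Nat.card ↥A ≤ 2 ^ 7 := by
      by_contra h
      push Not at h
      have := Nat.mul_le_mul (Nat.succ_le_of_lt h) (Nat.succ_le_of_lt h)
      norm_num at this hA3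
      omega
    omega
  -- the map `w ↦ [p, w]` from `C_E(x)` into `D`
  obtain ⟨q, hq, hq1, -, -⟩ := S.exists_generator
  set W : Subgroup G := ℰ ⊓ Subgroup.centralizer ({x} : Set G) with hW
  have hqN : g⁻¹ * q * g ∈ N := S.P_le ((Subgroup.mem_normalizer_iff''.1 hg q).1 hq)
  have hWD : ∀ w ∈ W, q * w * q⁻¹ * w⁻¹ ∈ D := by
    intro w hw
    obtain ⟨hwE, hwx⟩ := Subgroup.mem_inf.1 hw
    have h1 : q * w * q⁻¹ * w⁻¹ ∈ ℰ := mul_mem (S.conj_mem_E (S.P_le_H hq) hwE) (inv_mem hwE)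
    refine Subgroup.mem_inf.2 ⟨h1, g⁻¹ * (q * w * q⁻¹ * w⁻¹) * g, ?_, by simp [mul_assoc]⟩
    have hwH : g⁻¹ * w * g ∈ ℋ := by
      refine Subgroup.mem_centralizer_iff.2 fun v hv => ?_
      rw [Set.mem_singleton_iff.1 hv]
      have h := (Subgroup.mem_centralizer_iff.1 hwx x (Set.mem_singleton x))
      calc z * (g⁻¹ * w * g) = g⁻¹ * (x * w) * g := by rw [hxdef]; group
        _ = g⁻¹ * (w * x) * g := by rw [h]
        _ = g⁻¹ * w * g * z := by rw [hxdef]; group
    have h2 : g⁻¹ * (q * w * q⁻¹ * w⁻¹) * g ∈ N := by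
      rw [show g⁻¹ * (q * w * q⁻¹ * w⁻¹) * g =
        (g⁻¹ * q * g) * ((g⁻¹ * w * g) * (g⁻¹ * q * g)⁻¹ * (g⁻¹ * w * g)⁻¹) by group]
      exact mul_mem hqN ((Subgroup.mem_normalizer_iff.1 (S.normN hwH) _).1 (inv_mem hqN))
    refine S.mem_E_of_pow h2 (k := 13) ?_
    have := conj_pow (i := 2 ^ 13) (a := g⁻¹) (b := q * w * q⁻¹ * w⁻¹)
    rw [inv_inv] at this
    rw [this, show (q * w * q⁻¹ * w⁻¹) ^ 2 ^ 13 = 1 by
      rw [← S.cardE]; exact orderOf_dvd_iff_pow_eq_one.1 (Subgroup.orderOf_dvd_natCard _ h1)]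
    group
  have hWle : Nat.card ↥W ≤ Nat.card ↥D * 2 := by
    classical
    haveI := Fintype.ofFinite ↥W
    haveI := Fintype.ofFinite ↥D
    let F : ↥W → ↥D := fun w => ⟨_, hWD w w.2⟩
    rw [Nat.card_eq_fintype_card, Nat.card_eq_fintype_card, mul_comm, ← Finset.card_univ, ← Finset.card_univ]
    refine Finset.card_le_mul_card_image_of_maps_to (f := F) (fun _ _ => Finset.mem_univ _) 2 ?_
    intro d _
    rcases Finset.eq_empty_or_nonempty (Finset.univ.filter fun w => F w = d) with h | ⟨w₀, hw₀⟩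
    · simp [h]
    refine le_trans (Finset.card_le_card_of_injOn (fun w : ↥W => (w₀ : G)⁻¹ * (w : G))
      (t := ({1, z} : Finset G)) ?_ ?_) Finset.card_le_two
    · intro w hw
      have e1 := congrArg Subtype.val (Finset.mem_filter.1 hw₀).2
      have e2 := congrArg Subtype.val (Finset.mem_filter.1 hw).2
      have e3 : q * (w₀ : G) * q⁻¹ * (w₀ : G)⁻¹ = q * (w : G) * q⁻¹ * (w : G)⁻¹ := e1.trans e2.symm
      have e4 : (w₀ : G)⁻¹ * (w : G) ∈ Subgroup.zpowers z := by
        refine S.mem_zpowers_of_comm hq hq1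
          (mul_mem (inv_mem (Subgroup.mem_inf.1 w₀.2).1) (Subgroup.mem_inf.1 w.2).1) ?_
        have : q * ((w₀ : G)⁻¹ * (w : G)) * q⁻¹ * ((w₀ : G)⁻¹ * (w : G))⁻¹ =
            (q * (w₀ : G) * q⁻¹)⁻¹ * (q * (w : G) * q⁻¹ * (w : G)⁻¹) * (w₀ : G) := by group
        rw [this, ← e3]
        simp only [mul_inv_rev, inv_inv]
        convert Subgroup.one_mem (Subgroup.zpowers z) using 1
        group
      simp only [Finset.coe_insert, Finset.coe_singleton, Set.mem_insert_iff, Set.mem_singleton_iff]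
      exact S.mem_zpowers_iff.1 e4
    · intro a _ b _ h
      exact Subtype.ext (mul_left_cancel h)
  have := S.card_centralizer_ge hHex (Subgroup.mem_inf.2 ⟨hgH, hxK⟩) hx2
  rw [← hW] at this
  omega

/-- `C_G(P) = O(C_G(P)) C_H(P)`. -/
theorem exists_oddCore_mul [Finite G] (S : Setting z P N) {M B : Subgroup (MulAut ↥Spor.M22)}
    (hHex : HexadData (Inn ↥Spor.M22) M B) (k : ↥(Subgroup.centralizer (P : Set G))) :
    ∃ o ∈ oddCore ↥(Subgroup.centralizer (P : Set G)), ((o⁻¹ * k : _) : G) ∈ ℋ := by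
  set t : ↥(Subgroup.centralizer (P : Set G)) := ⟨z, S.z_mem_centralizer_P⟩ with ht
  have hto : orderOf t = 2 := by rw [ht, Subgroup.orderOf_mk, S.orderZ]
  have hodd := oddComm_of_commuting_isolated hto (fun g hg => Subtype.ext (by
    have hg' : Commute ((g : G) * z * (g : G)⁻¹) z := congrArg Subtype.val hg
    exact S.eq_of_conj_mem hHex (Subgroup.centralizer_le_normalizer _ g.2)
      (Subgroup.mem_centralizer_iff.2 fun w hw => by rw [Set.mem_singleton_iff.1 hw]; exact hg'.symm)))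
  obtain ⟨o, ho, hc⟩ := exists_oddCore_mul_centralizer hto hodd k
  refine ⟨o, ho, Subgroup.mem_centralizer_iff.2 fun w hw => ?_⟩
  rw [Set.mem_singleton_iff.1 hw]
  exact (congrArg Subtype.val hc).symm

/-- `C_H(P) ∩ O(C_G(P)) = P`. -/
theorem oddCore_inf_C [Finite G] (S : Setting z P N) (k : ↥(Subgroup.centralizer (P : Set G)))
    (hk : k ∈ oddCore ↥(Subgroup.centralizer (P : Set G))) (hkH : (k : G) ∈ ℋ) : (k : G) ∈ P := by
  obtain ⟨φ, hφ, hker⟩ := S.exists_toMTwentyTwo
  haveI := isSimpleGroup_mTwentyTwo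
  set O' : Subgroup ↥(ℋ ⊓ Subgroup.centralizer (P : Set G)) :=
    (oddCore ↥(Subgroup.centralizer (P : Set G))).comap (Subgroup.inclusion inf_le_right) with hO'
  have hodd : Odd (Nat.card ↥O') := by
    refine Odd.of_dvd_nat (CfsgLib.Cores.odd_card_oddCore (G := ↥(Subgroup.centralizer (P : Set G)))) ?_
    exact Subgroup.card_comap_dvd_of_injective _ _ (Subgroup.inclusion_injective _)
  have himg : (O'.map φ) = ⊥ := by
    rcases IsSimpleGroup.eq_bot_or_eq_top_of_normal (O'.map φ)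
      (Subgroup.Normal.map inferInstance φ hφ) with h | h
    · exact h
    · exfalso
      have h1 := Subgroup.card_map_dvd O' φ
      rw [h, Subgroup.card_top, card_mTwentyTwo] at h1
      exact (Nat.not_even_iff_odd.2 hodd) ((show (2 : ℕ) ∣ 443520 by norm_num).trans h1 |> even_iff_two_dvd.2)
  set c : ↥(ℋ ⊓ Subgroup.centralizer (P : Set G)) := ⟨k, Subgroup.mem_inf.2 ⟨hkH, k.2⟩⟩ with hc
  have hcO : c ∈ O' := hk
  have hck : (c : G) ∈ Subgroup.zpowers z ⊔ P := by
    have : φ c ∈ (⊥ : Subgroup ↥Spor.M22) := himg ▸ Subgroup.mem_map_of_mem φ hcO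
    rw [Subgroup.mem_bot, ← MonoidHom.mem_ker, hker] at this
    exact this
  rw [← SetLike.mem_coe, Subgroup.coe_mul_of_left_le_normalizer_right _ _
    (S.zpowers_le_centralizer_P.trans (Subgroup.centralizer_le_normalizer _))] at hck
  obtain ⟨i, hi, r, hr, hir⟩ := Set.mem_mul.1 hck
  rcases S.mem_zpowers_iff.1 hi with e | e
  · rw [e, one_mul] at hir
    exact (show r = (k : G) from hir) ▸ hr
  · exfalso
    have h1 : Odd (orderOf (c : G)) := by
      have : orderOf (⟨c, hcO⟩ : ↥O') ∣ Nat.card ↥O' := orderOf_dvd_natCard _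
      rw [Subgroup.orderOf_mk, ← Subgroup.orderOf_coe] at this
      exact Odd.of_dvd_nat hodd this
    have h2 : (c : G) ^ orderOf (c : G) = 1 := pow_orderOf_eq_one _
    obtain ⟨m, hm⟩ := h1
    have hcom : Commute z r := (Subgroup.mem_centralizer_iff.1 S.z_mem_centralizer_P r hr).symm
    have h3 : (c : G) ^ orderOf (c : G) = z * r ^ orderOf (c : G) := by
      rw [hm, ← hir, e, hcom.mul_pow, pow_succ z, pow_mul, pow_two, S.z_mul_self, one_pow, one_mul]
    rw [h2] at h3
    have h4 : z ∈ (⊥ : Subgroup G) := S.E_inf_P ▸ Subgroup.mem_inf.2 ⟨S.z_mem_E, by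
      rw [eq_inv_of_mul_eq_one_left h3.symm]; exact inv_mem (Subgroup.pow_mem _ hr _)⟩
    exact S.z_ne_one (Subgroup.mem_bot.1 h4)

/-- If the odd core of `C_G(P)` is `P`, then `N_G(P) ≤ H`. -/
theorem normalizer_le [Finite G] (S : Setting z P N) {M B : Subgroup (MulAut ↥Spor.M22)}
    (hHex : HexadData (Inn ↥Spor.M22) M B)
    (hO : ∀ k ∈ oddCore ↥(Subgroup.centralizer (P : Set G)), (k : G) ∈ P) :
    Subgroup.normalizer (P : Set G) ≤ ℋ := by
  intro n hn
  have hK : ∀ k ∈ Subgroup.centralizer (P : Set G), k ∈ ℋ := by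
    intro k hk
    obtain ⟨o, ho, h⟩ := S.exists_oddCore_mul hHex ⟨k, hk⟩
    have := mul_mem (S.P_le_H (hO o ho)) h
    simpa using this
  have hx : n * z * n⁻¹ ∈ Subgroup.centralizer (P : Set G) := by
    rw [Subgroup.mem_centralizer_iff]
    intro p hp
    have h1 : n⁻¹ * p * n ∈ P := (Subgroup.mem_normalizer_iff''.1 hn p).1 hp
    calc p * (n * z * n⁻¹) = n * ((n⁻¹ * p * n) * z) * n⁻¹ := by group
      _ = n * (z * (n⁻¹ * p * n)) * n⁻¹ := by rw [S.comm_z (S.P_le_H h1)]
      _ = n * z * n⁻¹ * p := by group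
  have := S.eq_of_conj_mem hHex hn (hK _ hx)
  refine Subgroup.mem_centralizer_iff.2 fun w hw => ?_
  rw [Set.mem_singleton_iff.1 hw]
  exact (mul_inv_eq_iff_eq_mul.1 this).symm

end Setting

end CfsgLib.JFour
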