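import Cfsg.Agent.Lib.JFour.Orbit
import Cfsg.Agent.Lib.JFour.FusionInst
import Cfsg.Agent.Lib.JFour.Assemble
import Cfsg.Agent.Lib.JFour.HexadExists

/-!
# Simple groups of Janko-four type: the local consequences
-/

set_option autoImplicit false
set_option linter.unusedSectionVars false

open Cfsg

namespace CfsgLib.JFour

variable {G : Type*} [Group G] [Finite G] [IsSimpleGroup G] {z : G} {P : Subgroup G}

/-- A frame with its lift and the fusion of `z`. -/
theorem exists_fused (hG : ¬ IsMulCommutative G) (h : IsOfJankoFourTypeWith z P) :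
    ∃ (N : Subgroup G) (π : ↥(Subgroup.centralizer ({z} : Set G)) →* MulAut ↥Spor.M22)
      (M B : Subgroup (MulAut ↥Spor.M22)) (R W : Subgroup G),
      Frame (P := P) (N := N) π M B ∧ Lifted P π M B R W ∧
      ∃ v ∈ HexFrame.U (twoCoreOfCentralizer z) W ⊔ W, v ≠ z ∧ IsConj z v := by
  obtain ⟨N, π, M, B, F⟩ := exists_frame_of_with h exists_hexadData
  obtain ⟨R, W, L⟩ := F.exists_lifted
  exact ⟨N, π, M, B, R, W, F, L, F.exists_fusion hG L.hex L.W_le L.lift⟩

theorem three_local (hG : ¬ IsMulCommutative G) (h : IsOfJankoFourTypeWith z P) :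
    ∃ (N : Subgroup G) (M B : Subgroup (MulAut ↥Spor.M22)),
      Setting z P N ∧ HexadData (Inn ↥Spor.M22) M B ∧
      Subgroup.normalizer (P : Set G) ≤ Subgroup.centralizer ({z} : Set G) ∧
      z ∈ ⁅Subgroup.centralizer ({z} : Set G) ⊓ Subgroup.centralizer (P : Set G),
        Subgroup.centralizer ({z} : Set G) ⊓ Subgroup.centralizer (P : Set G)⁆ ∧
      ∃ g : G, g * z * g⁻¹ ∈ Subgroup.centralizer ({z} : Set G) ⊓ Subgroup.centralizer (P : Set G) ∧
        g * z * g⁻¹ ≠ z := by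
  obtain ⟨N, π, M, B, R, W, F, L, hfus⟩ := exists_fused hG h
  refine ⟨N, M, B, F.setting, F.hexad, F.normalizer_P_le L hfus, F.z_mem_derived L hfus, ?_⟩
  obtain ⟨y, hy, -, -, ⟨hc, hne⟩, -, -⟩ := F.exists_triple L hfus
  obtain ⟨g, hg⟩ := isConj_iff.1 hc
  exact ⟨g, hg ▸ preC_le (L.W_le hy), hg ▸ hne⟩

end CfsgLib.JFour
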