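import Cfsg.Agent.Lib.JFour.PointsInst
import Cfsg.Agent.Lib.JFour.PointIso
import Cfsg.Agent.Lib.JFour.Complement

/-!
# Groups of Janko-four type: `N(V)` is a split extension of `V` by `M24`
-/

set_option autoImplicit false
set_option linter.unusedSectionVars false

open Cfsg

namespace CfsgLib.JFour

variable {G : Type*} [Group G] [Finite G] {z : G} {P N : Subgroup G}

namespace Frame

variable {π : ↥(Subgroup.centralizer ({z} : Set G)) →* MulAut ↥Spor.M22}
  {M B : Subgroup (MulAut ↥Spor.M22)} (F : Frame (P := P) (N := N) π M B) {R W : Subgroup G}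
include F

/-- A 2-group of order `2 ^ 10` in `N(V₀)` off `V₀` splits every `N(V)`. -/
theorem normalizer_split (L : Lifted P π M B R W)
    (hfus : ∃ v ∈ (HexFrame.U (twoCoreOfCentralizer z) W ⊔ W : Subgroup _), v ≠ z ∧ IsConj z v)
    (hK : ∃ K : Subgroup G, K ≤ Subgroup.normalizer
      ((HexFrame.U (twoCoreOfCentralizer z) W ⊔ W : Subgroup G) : Set G) ∧
      Nat.card ↥K = 2 ^ 10 ∧ K ⊓ (HexFrame.U (twoCoreOfCentralizer z) W ⊔ W) = ⊥)
    {V : Subgroup G} (hV : Cfsg.IsElementaryAbelian 2 V) (hcard : Nat.card ↥V = 2 ^ 11) :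
    Subgroup.centralizer (V : Set G) ≤ V ∧ ∃ C : Subgroup G,
      C ≤ Subgroup.normalizer (V : Set G) ∧ C ⊓ V = ⊥ ∧ C ⊔ V = Subgroup.normalizer (V : Set G) ∧
      Cfsg.Spor.IsoM24 ↥C := by
  classical
  obtain ⟨five, A, lam, D, -, PD⟩ := F.exists_duadFrame_points L hfus
  obtain ⟨g, hg⟩ := F.exists_map_eq L hV hcard
  set V₀ : Subgroup G := HexFrame.U (twoCoreOfCentralizer z) W ⊔ W with hV₀
  obtain ⟨K, hKN, hKc, hKV⟩ := hK
  obtain ⟨C₀, hC₀N, hC₀V, hC₀sup, ⟨e⟩⟩ := exists_complement_of_twoGroup (a := 11) (b := 10)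
    (m := 239085) PD.V_elem PD.card_V (PD.card_N.trans (by norm_num)) (by norm_num) hKN hKc hKV
  haveI : (V₀.subgroupOf (Subgroup.normalizer (V₀ : Set G))).Normal :=
    Subgroup.normal_subgroupOf_iff_le_normalizer Subgroup.le_normalizer |>.mpr le_rfl
  obtain ⟨q, hqs, hqk⟩ := PD.exists_surjection
  let e24 : ↥C₀ ≃* ↥Cfsg.M24 :=
    e.trans ((QuotientGroup.quotientMulEquivOfEq hqk.symm).trans
      (QuotientGroup.quotientKerEquivOfSurjective q hqs))
  set c := (MulAut.conj g).toMonoidHom with hc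
  have hinj : Function.Injective c := (MulAut.conj g).injective
  have hN : Subgroup.normalizer (V : Set G) = (Subgroup.normalizer (V₀ : Set G)).map c := by
    rw [hg, hc]
    exact (Subgroup.map_equiv_normalizer_eq V₀ (MulAut.conj g)).symm
  refine ⟨fun x hx => ?_, C₀.map c, ?_, ?_, ?_, ⟨(C₀.equivMapOfInjective c hinj).symm.trans e24⟩⟩
  · have h1 : g⁻¹ * x * g ∈ V₀ := F.centralizer_V_le L (Subgroup.mem_centralizer_iff.2 fun v hv => by
      have h2 := Subgroup.mem_centralizer_iff.1 hx (g * v * g⁻¹) (hg ▸ ⟨v, hv, rfl⟩)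
      calc v * (g⁻¹ * x * g) = g⁻¹ * (g * v * g⁻¹ * x) * g := by group
        _ = g⁻¹ * (x * (g * v * g⁻¹)) * g := by rw [h2]
        _ = g⁻¹ * x * g * v := by group)
    rw [hg]
    exact ⟨_, h1, by simp [hc, mul_assoc]⟩
  · rw [hN]; exact Subgroup.map_mono hC₀N
  · rw [hg, hc, ← Subgroup.map_inf _ _ _ hinj, hC₀V, Subgroup.map_bot]
  · rw [hN, hg, hc, ← Subgroup.map_sup, hC₀sup]

end Frame

end CfsgLib.JFour
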