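import Cfsg.Agent.Lib.JFour.Rows

/-!
# The odd core of `C_G(P)` is `P`

With three pairwise commuting conjugates of `z` in `C_H(P)` whose product is trivial, and `z` in the
derived group of `C_H(P)`, the odd core of `C_G(P)` is `P`, hence `N_G(P) ≤ H`.
-/

set_option autoImplicit false
set_option linter.style.haveILetI false
set_option linter.unusedSectionVars false

open Cfsg
open scoped Pointwise

namespace CfsgLib.JFour

namespace OddAct

/-- A perfect group cannot act on an elementary abelian group of odd exponent with a central `-1`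
and a four-group each of whose involutions fixes at most `r` points. -/
theorem false_of_action {C M : Type*} [Group C] [CommGroup M] [Finite M] [Nontrivial M] {r : ℕ}
    [Fact r.Prime] (hr2 : r ≠ 2) (hexp : ∀ m : M, m ^ r = 1) (hperf : commutator C = ⊤)
    (ρ : C →* MulAut M) (t : C) (ht : ∀ m, ρ t m = m⁻¹) (y₁ y₂ : C) (h1 : y₁ * y₁ = 1)
    (h2 : y₂ * y₂ = 1) (h12 : y₁ * y₂ = y₂ * y₁)
    (hF1 : Nat.card {m : M // ρ y₁ m = m} ≤ r) (hF2 : Nat.card {m : M // ρ y₂ m = m} ≤ r)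
    (hF3 : Nat.card {m : M // ρ (y₁ * y₂) m = m} ≤ r) : False := by
  classical
  have hr : r.Prime := Fact.out
  obtain ⟨a, ha⟩ := hr.odd_of_ne_two hr2
  -- at most `r ^ 3` elements
  have e11 : ∀ m, ρ y₁ (ρ y₁ m) = m := fun m => by
    rw [← MulAut.mul_apply, ← map_mul, h1, map_one, MulAut.one_apply]
  have e22 : ∀ m, ρ y₂ (ρ y₂ m) = m := fun m => by
    rw [← MulAut.mul_apply, ← map_mul, h2, map_one, MulAut.one_apply]
  have e21 : ∀ m, ρ y₂ (ρ y₁ m) = ρ y₁ (ρ y₂ m) := fun m => by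
    rw [← MulAut.mul_apply, ← MulAut.mul_apply, ← map_mul, ← map_mul, h12]
  have e3 : ∀ m, ρ (y₁ * y₂) m = ρ y₁ (ρ y₂ m) := fun m => by rw [map_mul, MulAut.mul_apply]
  have hM : Nat.card M ≤ r ^ 3 := by
    let f : {m : M // ρ y₁ m = m} × {m : M // ρ y₂ m = m} × {m : M // ρ (y₁ * y₂) m = m} → M :=
      fun x => x.1.1 * x.2.1.1 * x.2.2.1
    have hf : Function.Surjective f := by
      intro m
      set s := m ^ (a + 1) with hs
      have hss : s * s = m := by
        rw [hs, ← pow_add, show a + 1 + (a + 1) = r + 1 by omega, pow_succ, hexp, one_mul]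
      refine ⟨(⟨s * ρ y₁ s * (s * ρ y₁ s * ρ y₂ s * ρ y₁ (ρ y₂ s))⁻¹, ?_⟩,
        ⟨s * ρ y₂ s, ?_⟩, ⟨s * ρ y₁ (ρ y₂ s), ?_⟩), ?_⟩
      · simp only [map_mul, map_inv, e11]
        ac_rfl
      · simp only [map_mul, e22]
        ac_rfl
      · rw [e3]
        simp only [map_mul, e21, e22, e11]
        ac_rfl
      · show s * ρ y₁ s * (s * ρ y₁ s * ρ y₂ s * ρ y₁ (ρ y₂ s))⁻¹ * (s * ρ y₂ s) *
          (s * ρ y₁ (ρ y₂ s)) = m
        rw [← hss]
        calc _ = (s * ρ y₁ s * ρ y₂ s * ρ y₁ (ρ y₂ s))⁻¹ *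
              (s * ρ y₁ s * ρ y₂ s * ρ y₁ (ρ y₂ s)) * (s * s) := by ac_rfl
          _ = s * s := by rw [inv_mul_cancel, one_mul]
    have := Nat.card_le_card_of_surjective f hf
    rw [Nat.card_prod, Nat.card_prod] at this
    calc Nat.card M ≤ _ := this
      _ ≤ r * (r * r) := Nat.mul_le_mul hF1 (Nat.mul_le_mul hF2 hF3)
      _ = r ^ 3 := by ring
  -- the linear picture
  haveI : Module (ZMod r) (Additive M) := AddCommGroup.zmodModule fun x => congrArg Additive.ofMul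
    (hexp (Additive.toMul x))
  haveI : Finite (Additive M) := inferInstanceAs (Finite M)
  let L : C → (Additive M →ₗ[ZMod r] Additive M) := fun c =>
    (MonoidHom.toAdditive (ρ c).toMonoidHom).toZModLinearMap r
  have hLapply : ∀ (c : C) (x : Additive M), L c x = Additive.ofMul (ρ c (Additive.toMul x)) := fun _ _ => rfl
  have hL1 : L 1 = 1 := LinearMap.ext fun x => by
    rw [hLapply, map_one, MulAut.one_apply, ofMul_toMul, Module.End.one_apply]
  have hLmul : ∀ c d, L (c * d) = L c * L d := fun c d => LinearMap.ext fun x => by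
    rw [Module.End.mul_apply, hLapply, hLapply, hLapply, map_mul, MulAut.mul_apply, toMul_ofMul]
  have hLt : L t = -1 := LinearMap.ext fun x => by
    rw [hLapply, ht, LinearMap.neg_apply, Module.End.one_apply, ofMul_inv, ofMul_toMul]
  have hdet : ∀ (d : ℕ) (b : Module.Basis (Fin d) (ZMod r) (Additive M)) (c : C),
      (LinearMap.toMatrixAlgEquiv b (L c)).det = 1 := by
    intro d b c
    let δ : C →* ZMod r :=
      { toFun := fun c => (LinearMap.toMatrixAlgEquiv b (L c)).det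
        map_one' := by rw [hL1, map_one, Matrix.det_one]
        map_mul' := fun c d => by rw [hLmul, map_mul, Matrix.det_mul] }
    have hc : c ∈ δ.toHomUnits.ker :=
      Abelianization.commutator_subset_ker δ.toHomUnits (hperf ▸ Subgroup.mem_top c)
    have := congrArg Units.val (MonoidHom.mem_ker.1 hc)
    simpa [δ] using this
  set d := Module.finrank (ZMod r) (Additive M) with hd
  have hcard : Nat.card M = r ^ d := by
    rw [show Nat.card M = Nat.card (Additive M) from Nat.card_congr Additive.ofMul,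
      Module.natCard_eq_pow_finrank (K := ZMod r), Nat.card_zmod]
  haveI : Fact (2 < r) := ⟨by have := hr.two_le; omega⟩
  have heven : (-1 : ZMod r) ^ d = 1 := by
    have h := hdet d (Module.finBasis (ZMod r) (Additive M)) t
    rw [hLt, map_neg, map_one, Matrix.det_neg, Matrix.det_one, Fintype.card_fin, mul_one] at h
    exact h
  have hd2 : d = 2 := by
    have h0 : 1 < r ^ d := hcard ▸ Finite.one_lt_card
    have h3 : r ^ d ≤ r ^ 3 := hcard ▸ hM
    have h3' : d ≤ 3 := (Nat.pow_le_pow_iff_right hr.one_lt).1 h3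
    have h1' : d ≠ 0 := by rintro h; rw [h, pow_zero] at h0; exact lt_irrefl _ h0
    rcases (show d = 1 ∨ d = 2 ∨ d = 3 by omega) with h | h | h
    · rw [h, pow_one] at heven; exact absurd heven (ZMod.neg_one_ne_one)
    · exact h
    · rw [h] at heven; exact absurd (by simpa [pow_succ] using heven) (ZMod.neg_one_ne_one (n := r))
  let b := Module.finBasisOfFinrankEq (ZMod r) (Additive M) (hd.symm.trans hd2)
  have hneg : ∀ y, y * y = 1 → Nat.card {m : M // ρ y m = m} ≤ r → L y = -1 := by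
    intro y hy hF
    set Y := LinearMap.toMatrixAlgEquiv b (L y) with hY
    have hYY : Y * Y = 1 := by rw [hY, ← map_mul, ← hLmul, hy, hL1, map_one]
    have hadj : Y.adjugate = Y := by
      calc Y.adjugate = (Y * Y) * Y.adjugate := by rw [hYY, one_mul]
        _ = Y * (Y * Y.adjugate) := mul_assoc _ _ _
        _ = Y := by rw [Matrix.mul_adjugate, hY, hdet 2 b y, one_smul, mul_one]
    have hne : (2 : ZMod r) ≠ 0 := by
      intro h
      have h' : ((2 : ℕ) : ZMod r) = 0 := by exact_mod_cast h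
      rw [ZMod.natCast_eq_zero_iff] at h'
      exact absurd (Nat.le_of_dvd two_pos h') (by have := hr.two_le; omega)
    have h00 : Y 1 1 = Y 0 0 := by
      have := congrFun (congrFun hadj 0) 0
      simpa [Matrix.adjugate_fin_two] using this
    have h01 : Y 0 1 = 0 := by
      have h := congrFun (congrFun hadj 0) 1
      simp [Matrix.adjugate_fin_two] at h
      have : (2 : ZMod r) * Y 0 1 = 0 := by linear_combination -h
      exact (mul_eq_zero.1 this).resolve_left hne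
    have h10 : Y 1 0 = 0 := by
      have h := congrFun (congrFun hadj 1) 0
      simp [Matrix.adjugate_fin_two] at h
      have : (2 : ZMod r) * Y 1 0 = 0 := by linear_combination -h
      exact (mul_eq_zero.1 this).resolve_left hne
    have hsq : Y 0 0 * Y 0 0 = 1 := by
      have := congrFun (congrFun hYY 0) 0
      simpa [Matrix.mul_apply, h01] using this
    rcases mul_self_eq_one_iff.1 hsq with h | h
    · exfalso
      have hY1 : Y = 1 := by
        ext i j
        fin_cases i <;> fin_cases j <;> simp [h, h00, h01, h10]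
      have hL : L y = 1 :=
        (LinearMap.toMatrixAlgEquiv b).injective (by rw [← hY, hY1, map_one])
      have hall : ∀ m, ρ y m = m := fun m => by
        have := LinearMap.congr_fun hL (Additive.ofMul m)
        rwa [hLapply, Module.End.one_apply, toMul_ofMul, EmbeddingLike.apply_eq_iff_eq] at this
      rw [Nat.card_congr (Equiv.subtypeUnivEquiv hall), hcard, hd2] at hF
      have := Nat.mul_le_mul_right r hr.two_le
      nlinarith [hr.two_le]
    · apply (LinearMap.toMatrixAlgEquiv b).injective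
      rw [map_neg, map_one, ← hY]
      ext i j
      fin_cases i <;> fin_cases j <;> simp [h, h00, h01, h10]
  have h3 : (y₁ * y₂) * (y₁ * y₂) = 1 := by
    calc (y₁ * y₂) * (y₁ * y₂) = (y₁ * y₁) * (y₂ * y₂) := by
          rw [mul_assoc, ← mul_assoc y₂, ← h12]; simp only [mul_assoc]
      _ = 1 := by rw [h1, h2, one_mul]
  have hbad : L (y₁ * y₂) = -1 := hneg _ h3 hF3
  rw [hLmul, hneg _ h1 hF1, hneg _ h2 hF2] at hbad
  obtain ⟨m, hm⟩ := exists_ne (1 : M)
  have := LinearMap.congr_fun hbad (Additive.ofMul m)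
  simp only [Module.End.mul_apply, LinearMap.neg_apply, Module.End.one_apply, neg_neg] at this
  rw [← ofMul_inv, EmbeddingLike.apply_eq_iff_eq] at this
  have hm2 : m * m = 1 := by conv_lhs => arg 1; rw [this]
                             exact inv_mul_cancel m
  apply hm
  calc m = m ^ r := by rw [ha, pow_succ, pow_mul, pow_two, hm2, one_pow, one_mul]
    _ = 1 := hexp m

end OddAct

namespace Setting

variable {G : Type*} [Group G] {z : G} {P N : Subgroup G}

set_option quotPrecheck false in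
local notation "ℋ" => Subgroup.centralizer (singleton z : Set G)
set_option quotPrecheck false in
local notation "𝒦" => Subgroup.centralizer (P : Set G)
set_option quotPrecheck false in
local notation "𝒞" => Subgroup.centralizer (singleton z : Set G) ⊓ Subgroup.centralizer (P : Set G)

/-- A subgroup of order `3 r ^ i` centralising `P` and a conjugate `g z g⁻¹ ≠ z` in `C_H(P)`,
containing `P`, has `i ≤ 1`. -/
theorem card_le_of_centralizes [Finite G] (S : Setting z P N) {M B : Subgroup (MulAut ↥Spor.M22)}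
    (hHex : HexadData (Inn ↥Spor.M22) M B) {g : G} (hgy : g * z * g⁻¹ ∈ 𝒞)
    (hne : g * z * g⁻¹ ≠ z) {T : Subgroup G} (hTP : P ≤ T) (hTK : T ≤ 𝒦)
    (hTy : ∀ x ∈ T, x * (g * z * g⁻¹) = g * z * g⁻¹ * x) {r i : ℕ} (hr : r.Prime) (hr2 : r ≠ 2)
    (hcard : Nat.card ↥T = 3 * r ^ i) : i ≤ 1 := by
  classical
  haveI : Fact (Nat.Prime 3) := ⟨Nat.prime_three⟩
  set T' : Subgroup G := T.map (MulAut.conj g⁻¹).toMonoidHom with hT'
  have hT'card : Nat.card ↥T' = 3 * r ^ i := by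
    rw [hT', Subgroup.card_map_of_injective (MulAut.conj g⁻¹).injective, hcard]
  have hT'H : T' ≤ ℋ := by
    rintro _ ⟨x, hx, rfl⟩
    rw [Subgroup.mem_centralizer_singleton_iff]
    simp only [MulEquiv.coe_toMonoidHom, MulAut.conj_apply, inv_inv]
    calc g⁻¹ * x * g * z = g⁻¹ * (x * (g * z * g⁻¹)) * g := by group
      _ = g⁻¹ * (g * z * g⁻¹ * x) * g := by rw [hTy x hx]
      _ = z * (g⁻¹ * x * g) := by group
  by_contra hi
  have hdvd : 3 * r ^ i ∣ 2 ^ 13 * 3 * 887040 := by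
    rw [← hT'card, ← S.card_H]
    exact Subgroup.card_dvd_of_le hT'H
  have h2i : 3 * r ^ 2 ∣ 2 ^ 13 * 3 * 887040 :=
    (mul_dvd_mul_left 3 (pow_dvd_pow r (by omega))).trans hdvd
  by_cases hr3 : r = 3
  · subst hr3
    have hi2 : i = 2 := by
      by_contra h
      have : 3 * 3 ^ 3 ∣ 2 ^ 13 * 3 * 887040 :=
        (mul_dvd_mul_left 3 (pow_dvd_pow 3 (by omega))).trans hdvd
      norm_num at this
    obtain ⟨R, hRC, hPR, hR27, hRes, -, -, -, -⟩ := S.exists_sylow_three hHex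
    have hT27 : Nat.card ↥T' = 27 := by rw [hT'card, hi2]; norm_num
    have hfac : (Nat.card ↥ℋ).factorization 3 = 3 := by
      rw [S.card_H, show 2 ^ 13 * 3 * 887040 = 3 ^ 3 * (2 ^ 13 * 98560) by norm_num,
        Nat.factorization_mul (by norm_num) (by norm_num), Finsupp.add_apply,
        Nat.Prime.factorization_pow Nat.prime_three, Finsupp.single_eq_same,
        Nat.factorization_eq_zero_of_not_dvd (show ¬ 3 ∣ 2 ^ 13 * 98560 by norm_num)]
    let S₁ : Sylow 3 ↥ℋ := Sylow.ofCard (T'.subgroupOf ℋ) (by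
      rw [Nat.card_congr (Subgroup.subgroupOfEquivOfLe hT'H).toEquiv, hT27, hfac]; norm_num)
    let S₂ : Sylow 3 ↥ℋ := Sylow.ofCard (R.subgroupOf ℋ) (by
      rw [Nat.card_congr (Subgroup.subgroupOfEquivOfLe (hRC.trans inf_le_left)).toEquiv, hR27, hfac]
      norm_num)
    obtain ⟨⟨h, hh⟩, he⟩ := MulAction.exists_smul_eq ↥ℋ S₁ S₂
    have hmap : T'.map (MulAut.conj h).toMonoidHom = R := by
      refine Subgroup.eq_of_le_of_card_ge ?_ (by
        rw [Subgroup.card_map_of_injective (MulAut.conj h).injective, hT27, hR27])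
      rintro _ ⟨x, hx, rfl⟩
      have h3 : (⟨h, hh⟩ : ↥ℋ) * (⟨x, hT'H hx⟩ : ↥ℋ) * (⟨h, hh⟩ : ↥ℋ)⁻¹ ∈
          (((⟨h, hh⟩ : ↥ℋ) • S₁ : Sylow 3 ↥ℋ) : Subgroup ↥ℋ) := by
        rw [Sylow.coe_subgroup_smul]
        exact Subgroup.smul_mem_pointwise_smul (⟨x, hT'H hx⟩ : ↥ℋ)
          (MulAut.conj (⟨h, hh⟩ : ↥ℋ)) _ (Subgroup.mem_subgroupOf.2 hx)
      rw [he] at h3
      exact Subgroup.mem_subgroupOf.1 h3
    apply S.not_le_conj_N hHex hgy hne
    intro p hp
    set p' := g⁻¹ * p * g with hp'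
    refine ⟨p', ?_, by simp [hp', mul_assoc]⟩
    have hp'T : p' ∈ T' := ⟨p, hTP hp, by simp [hp']⟩
    have hc : h * p' * h⁻¹ ∈ R := hmap ▸ ⟨p', hp'T, rfl⟩
    have hcent : (⟨h * p' * h⁻¹, hc⟩ : ↥R) ∈ Subgroup.center ↥R := by
      rw [Subgroup.mem_center_iff]
      rintro ⟨y, hy⟩
      obtain ⟨_, ⟨x, hx, rfl⟩, rfl⟩ := hmap.symm ▸ hy
      apply Subtype.ext
      simp only [MulEquiv.coe_toMonoidHom, MulAut.conj_apply, inv_inv, Subgroup.coe_mul, hp']
      have hpx : p * x = x * p := Subgroup.mem_centralizer_iff.1 (hTK hx) p hp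
      calc h * (g⁻¹ * x * g) * h⁻¹ * (h * (g⁻¹ * p * g) * h⁻¹)
          = h * g⁻¹ * (x * p) * g * h⁻¹ := by group
        _ = h * g⁻¹ * (p * x) * g * h⁻¹ := by rw [hpx]
        _ = h * (g⁻¹ * p * g) * h⁻¹ * (h * (g⁻¹ * x * g) * h⁻¹) := by group
    have hZ : P.subgroupOf R = Subgroup.center ↥R := by
      refine Subgroup.eq_of_le_of_card_ge (fun x hx => Subgroup.mem_center_iff.2 fun y =>
        Subtype.ext (Subgroup.mem_centralizer_iff.1 (Subgroup.mem_inf.1 (hRC y.2)).2 _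
          (Subgroup.mem_subgroupOf.1 hx)).symm) ?_
      rw [Nat.card_congr (Subgroup.subgroupOfEquivOfLe hPR).toEquiv, S.cardP, hRes.2]
    rw [← hZ] at hcent
    have hN : h * p' * h⁻¹ ∈ N := S.P_le (Subgroup.mem_subgroupOf.1 hcent)
    exact (Subgroup.mem_normalizer_iff.1 (S.normN hh) p').2 hN
  · have hco2 : Nat.Coprime (r ^ 2) (2 ^ 21 * 3 ^ 2) := by
      apply Nat.Coprime.pow_left
      apply Nat.Coprime.mul_right
      · exact Nat.Coprime.pow_right _ ((Nat.coprime_primes hr Nat.prime_two).2 hr2)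
      · exact Nat.Coprime.pow_right _ ((Nat.coprime_primes hr Nat.prime_three).2 hr3)
    have h385 : r ^ 2 ∣ 385 := by
      refine hco2.dvd_of_dvd_mul_left ?_
      have h : r ^ 2 ∣ 2 ^ 13 * 3 * 887040 / 3 := Nat.dvd_div_of_mul_dvd h2i
      norm_num at h ⊢
      exact h
    have hle : r ^ 2 ≤ 385 := Nat.le_of_dvd (by norm_num) h385
    have hr19 : r ≤ 19 := by nlinarith
    interval_cases r
    all_goals revert h385 hr hr2 hr3
    all_goals norm_num

/-- **The odd core of `C_G(P)` is `P`.** -/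
theorem oddCore_le_P [Finite G] (S : Setting z P N) {M B : Subgroup (MulAut ↥Spor.M22)}
    (hHex : HexadData (Inn ↥Spor.M22) M B) (hz : z ∈ ⁅𝒞, 𝒞⁆)
    {y₁ y₂ : G} (hy₁ : y₁ ∈ 𝒞) (hy₂ : y₂ ∈ 𝒞) (hcomm : y₁ * y₂ = y₂ * y₁)
    (h₁ : ∃ g : G, g * z * g⁻¹ = y₁) (hn₁ : y₁ ≠ z)
    (h₂ : ∃ g : G, g * z * g⁻¹ = y₂) (hn₂ : y₂ ≠ z)
    (h₃ : ∃ g : G, g * z * g⁻¹ = y₁ * y₂) (hn₃ : y₁ * y₂ ≠ z) :
    ∀ k ∈ oddCore ↥𝒦, (k : G) ∈ P := by
  classical
  set Pk : Subgroup ↥𝒦 := P.subgroupOf 𝒦 with hPk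
  have hPK : P ≤ 𝒦 := S.P_le_C.trans inf_le_right
  have hPc : ∀ x ∈ Pk, ∀ c : ↥𝒦, x * c = c * x := fun x hx c => Subtype.ext
    (Subgroup.mem_centralizer_iff.1 c.2 (x : G) (Subgroup.mem_subgroupOf.1 hx))
  haveI : Pk.Normal := ⟨fun x hx c => by rw [← hPc x hx c, mul_inv_cancel_right]; exact hx⟩
  have hPk3 : Nat.card ↥Pk = 3 := by
    rw [hPk, Nat.card_congr (Subgroup.subgroupOfEquivOfLe hPK).toEquiv, S.cardP]
  set mk : ↥𝒦 →* ↥𝒦 ⧸ Pk := QuotientGroup.mk' Pk with hmk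
  set A : Subgroup (↥𝒦 ⧸ Pk) := (oddCore ↥𝒦).map mk with hA
  haveI : A.Normal := Subgroup.Normal.map inferInstance mk (QuotientGroup.mk'_surjective _)
  have hmk1 : ∀ x : ↥𝒦, mk x = 1 ↔ (x : G) ∈ P := fun x => by
    rw [hmk, QuotientGroup.mk'_apply, QuotientGroup.eq_one_iff, hPk, Subgroup.mem_subgroupOf]
  -- an involution fixing an element modulo `P` centralises it
  have hlift : ∀ (y a : ↥𝒦), (y : G) * y = 1 → mk y * mk a * (mk y)⁻¹ = mk a →
      (y : G) * a * (y : G)⁻¹ = a := by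
    intro y a hy h
    have h1 : (y : G) * a * (y : G)⁻¹ * (a : G)⁻¹ ∈ P := by
      have : mk (y * a * y⁻¹ * a⁻¹) = 1 := by
        rw [map_mul, map_mul, map_mul, map_inv, map_inv, h, mul_inv_cancel]
      simpa using (hmk1 _).1 this
    set p := (y : G) * a * (y : G)⁻¹ * (a : G)⁻¹ with hpdef
    have hyp : (y : G) * p * (y : G)⁻¹ = p := by
      rw [← Subgroup.mem_centralizer_iff.1 y.2 p h1, mul_inv_cancel_right]
    have hya : (y : G) * a * (y : G)⁻¹ = p * a := by rw [hpdef]; group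
    have h2 : (a : G) = p * (p * a) := by
      calc (a : G) = ((y : G) * y) * a * ((y : G) * y)⁻¹ := by rw [hy]; group
        _ = (y : G) * ((y : G) * a * (y : G)⁻¹) * (y : G)⁻¹ := by group
        _ = ((y : G) * p * (y : G)⁻¹) * ((y : G) * a * (y : G)⁻¹) := by
          conv_lhs => rw [hya]
          group
        _ = p * (p * a) := by rw [hyp, hya]
    have h3 : p * p = 1 := by
      rw [← mul_assoc] at h2
      exact mul_eq_right.1 h2.symm
    have hp1 : p = 1 := by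
      have h4 : p ^ 3 = 1 :=
        orderOf_dvd_iff_pow_eq_one.1 (S.cardP ▸ Subgroup.orderOf_dvd_natCard _ h1)
      rwa [pow_succ, pow_two, h3, one_mul] at h4
    rw [hya, hp1, one_mul]
  set tK : ↥𝒦 := ⟨z, S.z_mem_centralizer_P⟩ with htK
  -- `z` inverts `A`
  let φ : ↥A →* ↥A := (MulAut.conjNormal (mk tK) : MulAut ↥A).toMonoidHom
  have hφ : MonoidHom.FixedPointFree φ := by
    rintro ⟨_, a, ha, rfl⟩ h
    have h' : mk tK * mk a * (mk tK)⁻¹ = mk a := by
      have := congrArg Subtype.val h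
      simpa [φ, MulAut.conjNormal_apply] using this
    have hza := hlift tK a S.z_mul_self h'
    apply Subtype.ext
    refine (hmk1 a).2 (S.oddCore_inf_C a ha ?_)
    rw [Subgroup.mem_centralizer_singleton_iff]
    exact (mul_inv_eq_iff_eq_mul.1 hza).symm
  have hinvol : Function.Involutive φ := by
    intro a
    apply Subtype.ext
    have htt : mk tK * mk tK = 1 := by
      rw [← map_mul, show tK * tK = 1 from Subtype.ext S.z_mul_self, map_one]
    simp only [φ, MulEquiv.coe_toMonoidHom, MulAut.conjNormal_apply]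
    calc mk tK * (mk tK * a * (mk tK)⁻¹) * (mk tK)⁻¹
        = (mk tK * mk tK) * a * (mk tK * mk tK)⁻¹ := by group
      _ = a := by rw [htt]; group
  have hinv := MonoidHom.FixedPointFree.coe_eq_inv_of_involutive hφ hinvol
  have hAcomm : ∀ a ∈ A, ∀ b ∈ A, a * b = b * a := fun a ha b hb =>
    congrArg Subtype.val (MonoidHom.FixedPointFree.commute_all_of_involutive hφ hinvol
      ⟨a, ha⟩ ⟨b, hb⟩).eq
  by_contra hcon
  push Not at hcon
  obtain ⟨k₀, hk₀, hk₀P⟩ := hcon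
  have hAodd : Odd (Nat.card ↥A) :=
    Odd.of_dvd_nat CfsgLib.Cores.odd_card_oddCore (Subgroup.card_map_dvd _ mk)
  have hA1 : Nat.card ↥A ≠ 1 := by
    intro h
    have := Subgroup.eq_bot_of_card_eq _ h
    exact hk₀P ((hmk1 k₀).1 (Subgroup.mem_bot.1 (this ▸ Subgroup.mem_map_of_mem mk hk₀)))
  obtain ⟨r, hr, hrA⟩ := Nat.exists_prime_and_dvd hA1
  haveI : Fact r.Prime := ⟨hr⟩
  have hr2 : r ≠ 2 := by
    rintro rfl
    exact (Nat.not_even_iff_odd.2 hAodd) (even_iff_two_dvd.2 hrA)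
  let Mr : Subgroup (↥𝒦 ⧸ Pk) :=
    { carrier := {q | q ∈ A ∧ q ^ r = 1}
      one_mem' := ⟨A.one_mem, one_pow r⟩
      mul_mem' := fun {a b} ha hb => ⟨A.mul_mem ha.1 hb.1, by
        rw [(show Commute a b from hAcomm a ha.1 b hb.1).mul_pow, ha.2, hb.2, one_mul]⟩
      inv_mem' := fun {a} ha => ⟨A.inv_mem ha.1, by rw [inv_pow, ha.2, inv_one]⟩ }
  haveI hMn : Mr.Normal := ⟨fun q hq c => ⟨Subgroup.Normal.conj_mem inferInstance q hq.1 c, by
    rw [conj_pow, hq.2, mul_one, mul_inv_cancel]⟩⟩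
  letI : CommGroup ↥Mr :=
    { (inferInstance : Group ↥Mr) with mul_comm := fun a b => Subtype.ext (hAcomm _ a.2.1 _ b.2.1) }
  haveI : Nontrivial ↥Mr := by
    obtain ⟨a, ha⟩ := exists_prime_orderOf_dvd_card' r hrA
    refine ⟨⟨⟨(a : ↥𝒦 ⧸ Pk), a.2, ?_⟩, 1, fun h => ?_⟩⟩
    · rw [← SubgroupClass.coe_pow, ← ha, pow_orderOf_eq_one, OneMemClass.coe_one]
    · have h' : (a : ↥𝒦 ⧸ Pk) = 1 := congrArg Subtype.val h
      rw [show a = 1 from Subtype.ext h', orderOf_one] at ha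
      exact hr.ne_one ha.symm
  have hexp : ∀ m : ↥Mr, m ^ r = 1 := fun m => Subtype.ext (by
    rw [SubgroupClass.coe_pow]; exact m.2.2)
  obtain ⟨j, hj⟩ := (IsPGroup.iff_card (p := r)).1 (fun m : ↥Mr => ⟨1, by rw [pow_one]; exact hexp m⟩)
  let ρ : ↥𝒞 →* MulAut ↥Mr :=
    (MulAut.conjNormal.comp mk).comp (Subgroup.inclusion inf_le_right)
  have hρ : ∀ (c : ↥𝒞) (m : ↥Mr), (ρ c m : ↥𝒦 ⧸ Pk) =
      mk ⟨c, (Subgroup.mem_inf.1 c.2).2⟩ * m * (mk ⟨c, (Subgroup.mem_inf.1 c.2).2⟩)⁻¹ :=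
    fun c m => MulAut.conjNormal_apply _ _
  have hperf : commutator ↥𝒞 = ⊤ := by
    have h1 : (commutator ↥𝒞).map (Subgroup.subtype _) = (⊤ : Subgroup ↥𝒞).map (Subgroup.subtype _) := by
      rw [Subgroup.map_subtype_commutator, S.C_perfect hz, ← MonoidHom.range_eq_map,
        Subgroup.range_subtype]
    exact Subgroup.map_injective (Subgroup.subtype_injective _) h1
  have ht : ∀ m, ρ ⟨z, Subgroup.mem_inf.2 ⟨S.E_le S.z_mem_E, S.z_mem_centralizer_P⟩⟩ m = m⁻¹ := by
    intro m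
    apply Subtype.ext
    rw [hρ, Subgroup.coe_inv]
    have h := congrArg Subtype.val (congrFun hinv ⟨(m : ↥𝒦 ⧸ Pk), m.2.1⟩)
    simpa [φ, MulAut.conjNormal_apply, htK] using h
  have hF : ∀ y : ↥𝒞, (∃ g : G, g * z * g⁻¹ = (y : G)) → (y : G) ≠ z →
      Nat.card {m : ↥Mr // ρ y m = m} ≤ r := by
    rintro y ⟨g, hg⟩ hne
    set yK : ↥𝒦 := ⟨y, (Subgroup.mem_inf.1 y.2).2⟩ with hyK
    have hyy : (y : G) * y = 1 := by
      rw [← hg, show g * z * g⁻¹ * (g * z * g⁻¹) = g * (z * z) * g⁻¹ by group, S.z_mul_self]; group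
    let F : Subgroup ↥Mr :=
      { carrier := {m | ρ y m = m}
        one_mem' := map_one _
        mul_mem' := fun {a b} (ha : ρ y a = a) (hb : ρ y b = b) =>
          show ρ y (a * b) = a * b by rw [map_mul, ha, hb]
        inv_mem' := fun {a} (ha : ρ y a = a) => show ρ y a⁻¹ = a⁻¹ by rw [map_inv, ha] }
    obtain ⟨i, -, hi⟩ := (Nat.dvd_prime_pow hr).1 (hj ▸ Subgroup.card_subgroup_dvd_card F)
    set T₀ : Subgroup ↥𝒦 := Mr.comap mk ⊓ Subgroup.centralizer ({yK} : Set ↥𝒦) with hT₀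
    have hPT : Pk ≤ T₀ := fun x hx => Subgroup.mem_inf.2 ⟨by
        show mk x ∈ Mr
        rw [(hmk1 x).2 (Subgroup.mem_subgroupOf.1 hx)]; exact Mr.one_mem,
      Subgroup.mem_centralizer_singleton_iff.2 (hPc x hx yK)⟩
    let ψ : ↥T₀ →* ↥Mr := (mk.comp T₀.subtype).codRestrict Mr fun x => (Subgroup.mem_inf.1 x.2).1
    have hψr : ψ.range = F := by
      ext m
      constructor
      · rintro ⟨x, rfl⟩
        show ρ y (ψ x) = ψ x
        apply Subtype.ext
        rw [hρ]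
        show mk yK * mk (x : ↥𝒦) * (mk yK)⁻¹ = mk (x : ↥𝒦)
        rw [← map_mul, ← Subgroup.mem_centralizer_singleton_iff.1 (Subgroup.mem_inf.1 x.2).2,
          map_mul, mul_inv_cancel_right]
      · intro hm
        obtain ⟨x, hx⟩ := QuotientGroup.mk'_surjective Pk (m : ↥𝒦 ⧸ Pk)
        have hm' : mk yK * mk x * (mk yK)⁻¹ = mk x := by
          have := congrArg Subtype.val (show ρ y m = m from hm)
          rw [hρ, ← hx] at this
          exact this
        have hc := hlift yK x hyy hm'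
        refine ⟨⟨x, Subgroup.mem_inf.2 ⟨?_, ?_⟩⟩, Subtype.ext hx⟩
        · show mk x ∈ Mr
          rw [hmk, hx]; exact m.2
        · rw [Subgroup.mem_centralizer_singleton_iff]
          exact (Subtype.ext (mul_inv_eq_iff_eq_mul.1 hc)).symm
    have hψk : ψ.ker = Pk.subgroupOf T₀ := by
      ext x
      rw [MonoidHom.mem_ker, Subgroup.mem_subgroupOf]
      exact (Subtype.ext_iff.trans (hmk1 (x : ↥𝒦))).trans Subgroup.mem_subgroupOf.symm
    have hT₀card : Nat.card ↥T₀ = 3 * r ^ i := by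
      have h := Subgroup.card_eq_card_quotient_mul_card_subgroup ψ.ker
      rw [Nat.card_congr (QuotientGroup.quotientKerEquivRange ψ).toEquiv, hψr, hψk,
        Nat.card_congr (Subgroup.subgroupOfEquivOfLe hPT).toEquiv, hPk3, hi] at h
      rw [h, mul_comm]
    have hi1 : i ≤ 1 := by
      refine S.card_le_of_centralizes hHex (g := g) (hg.symm ▸ y.2) (hg.symm ▸ hne)
        (T := T₀.map (Subgroup.subtype _)) ?_ (Subgroup.map_subtype_le _) ?_ hr hr2 ?_
      · exact fun p hp => ⟨⟨p, hPK hp⟩, hPT (Subgroup.mem_subgroupOf.2 hp), rfl⟩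
      · rintro _ ⟨x, hx, rfl⟩
        rw [hg]
        exact congrArg Subtype.val
          (Subgroup.mem_centralizer_singleton_iff.1 (Subgroup.mem_inf.1 hx).2)
      · rw [Subgroup.card_map_of_injective (Subgroup.subtype_injective _), hT₀card]
    calc Nat.card {m : ↥Mr // ρ y m = m} = Nat.card ↥F := rfl
      _ = r ^ i := hi
      _ ≤ r ^ 1 := Nat.pow_le_pow_right hr.pos hi1
      _ = r := pow_one r
  have hsq : ∀ y : G, (∃ g : G, g * z * g⁻¹ = y) → y * y = 1 := by
    rintro y ⟨g, rfl⟩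
    rw [show g * z * g⁻¹ * (g * z * g⁻¹) = g * (z * z) * g⁻¹ by group, S.z_mul_self]; group
  exact OddAct.false_of_action hr2 hexp hperf ρ _ ht ⟨y₁, hy₁⟩ ⟨y₂, hy₂⟩
    (Subtype.ext (hsq _ h₁)) (Subtype.ext (hsq _ h₂)) (Subtype.ext hcomm)
    (hF _ h₁ hn₁) (hF _ h₂ hn₂) (hF _ h₃ hn₃)

/-- `N_G(P) ≤ H`, given `z` in the derived group and a four-group of conjugates of `z`. -/
theorem normalizer_P_le [Finite G] (S : Setting z P N) {M B : Subgroup (MulAut ↥Spor.M22)}
    (hHex : HexadData (Inn ↥Spor.M22) M B) (hz : z ∈ ⁅𝒞, 𝒞⁆)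
    {y₁ y₂ : G} (hy₁ : y₁ ∈ 𝒞) (hy₂ : y₂ ∈ 𝒞) (hcomm : y₁ * y₂ = y₂ * y₁)
    (h₁ : ∃ g : G, g * z * g⁻¹ = y₁) (hn₁ : y₁ ≠ z)
    (h₂ : ∃ g : G, g * z * g⁻¹ = y₂) (hn₂ : y₂ ≠ z)
    (h₃ : ∃ g : G, g * z * g⁻¹ = y₁ * y₂) (hn₃ : y₁ * y₂ ≠ z) :
    Subgroup.normalizer (P : Set G) ≤ ℋ :=
  S.normalizer_le hHex (S.oddCore_le_P hHex hz hy₁ hy₂ hcomm h₁ hn₁ h₂ hn₂ h₃ hn₃)

end Setting

end CfsgLib.JFour
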