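import Cfsg.Agent.Lib.JFour.OrbitBase
import Cfsg.Agent.Lib.JFour.OrbitArith
import Cfsg.Agent.Lib.JFour.OddCore

/-!
# Groups of Janko-four type: the two orbits of `N(V)` on `V` and their consequences
-/

set_option autoImplicit false
set_option linter.unusedSectionVars false
set_option linter.style.haveILetI false

open Cfsg

namespace CfsgLib.JFour

variable {G : Type*} [Group G] {z : G} {P N : Subgroup G}

/-- The pull-back of a set to a subgroup has the same size. -/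
theorem card_pull (V : Subgroup G) {s : Set G} (hs : ∀ x ∈ s, x ∈ V) :
    Nat.card {v : ↥V | (v : G) ∈ s} = Nat.card s :=
  Nat.card_congr
    { toFun := fun v => ⟨v.1, v.2⟩
      invFun := fun x => ⟨⟨x.1, hs _ x.2⟩, x.2⟩
      left_inv := fun _ => rfl
      right_inv := fun _ => rfl }

namespace Frame

set_option quotPrecheck false in
local notation "ℋ" => Subgroup.centralizer (singleton z : Set G)
set_option quotPrecheck false in
local notation "ℰ" => twoCoreOfCentralizer z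

variable [Finite G] {π : ↥(Subgroup.centralizer ({z} : Set G)) →* MulAut ↥Spor.M22}
  {M B : Subgroup (MulAut ↥Spor.M22)} (F : Frame (P := P) (N := N) π M B) {R W : Subgroup G}
include F

set_option quotPrecheck false in
local notation "𝒱" => (HexFrame.U (twoCoreOfCentralizer z) W ⊔ W : Subgroup _)

variable (L : Lifted P π M B R W)
include L

set_option quotPrecheck false in
local notation "𝒳" => (Subgroup.normalizerMonoidHom (HexFrame.U (twoCoreOfCentralizer z) W ⊔ W : Subgroup _)).range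

theorem card_range_mul {Y : Subgroup G} (hVY : 𝒱 ≤ Y) (hY : Y ≤ Subgroup.normalizer ((𝒱 : Subgroup G) : Set G)) :
    Nat.card ↥(((Subgroup.normalizerMonoidHom 𝒱).rangeRestrict.comp (Subgroup.inclusion hY)).range) * 2 ^ 11 =
      Nat.card ↥Y := by
  set ψ := (Subgroup.normalizerMonoidHom 𝒱).rangeRestrict.comp (Subgroup.inclusion hY)
  have hk : ψ.ker = (𝒱 : Subgroup G).subgroupOf Y := by
    ext y
    rw [MonoidHom.mem_ker, Subgroup.mem_subgroupOf]
    constructor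
    · intro h1
      refine F.centralizer_V_le L (Subgroup.mem_centralizer_iff.2 fun v hv => ?_)
      have h2 : (y : G) * v * (y : G)⁻¹ = v :=
        congrArg (fun x : ↥𝒳 => (((x : MulAut ↥(𝒱 : Subgroup G)) ⟨v, hv⟩ : ↥(𝒱 : Subgroup G)) : G)) h1
      exact (mul_inv_eq_iff_eq_mul.1 h2).symm
    · intro hy
      refine Subtype.ext (MulEquiv.ext fun v => Subtype.ext ?_)
      show (y : G) * v * (y : G)⁻¹ = v
      rw [F.V_comm L hy v.2, mul_inv_cancel_right]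
  have h := Subgroup.card_eq_card_quotient_mul_card_subgroup ψ.ker
  rw [Nat.card_congr (QuotientGroup.quotientKerEquivRange ψ).toEquiv, hk,
    Nat.card_congr (Subgroup.subgroupOfEquivOfLe hVY).toEquiv, L.hex.card_V] at h
  exact h.symm

theorem mem_stab_iff {x : ↥𝒳} :
    x ∈ OrbitArith.stab 𝒳 ⟨z, F.z_mem_V L⟩ ↔
      ∃ (n : G) (hn : n ∈ preH π M),
        (Subgroup.normalizerMonoidHom 𝒱).rangeRestrict ⟨n, F.preH_le_normalizer L hn⟩ = x := by
  constructor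
  · intro hx
    obtain ⟨⟨n, hn⟩, hnx⟩ := (Subgroup.normalizerMonoidHom 𝒱).rangeRestrict_surjective x
    subst hnx
    have h : n * z * n⁻¹ = z := congrArg Subtype.val hx
    exact ⟨n, F.normalizer_inf_H_le L hn (Subgroup.mem_centralizer_singleton_iff.2
      (mul_inv_eq_iff_eq_mul.1 h)), rfl⟩
  · rintro ⟨n, hn, rfl⟩
    obtain ⟨hnH, -⟩ := mem_preH.1 hn
    refine Subtype.ext ?_
    show n * z * n⁻¹ = z
    exact mul_inv_eq_iff_eq_mul.2 (F.setting.comm_z hnH)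

theorem card_stab : Nat.card ↥(OrbitArith.stab 𝒳 ⟨z, F.z_mem_V L⟩) = 138240 := by
  have h := F.card_range_mul L (Y := preH π M) (fun v hv => by
    obtain ⟨hvH, hvB⟩ := mem_preH.1 (F.V_le_preH L hv)
    exact mem_preH.2 ⟨hvH, F.B_le_M hvB⟩) (F.preH_le_normalizer L)
  rw [F.card_preH_M] at h
  have e : OrbitArith.stab 𝒳 ⟨z, F.z_mem_V L⟩ =
      ((Subgroup.normalizerMonoidHom 𝒱).rangeRestrict.comp
        (Subgroup.inclusion (F.preH_le_normalizer L))).range := by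
    ext x
    rw [F.mem_stab_iff L]
    exact ⟨fun ⟨n, hn, e⟩ => ⟨⟨n, hn⟩, e⟩, fun ⟨n, e⟩ => ⟨n, n.2, e⟩⟩
  rw [e]
  omega

theorem card_trivial_mod :
    Nat.card {x : ↥𝒳 // x ∈ OrbitArith.stab 𝒳 ⟨z, F.z_mem_V L⟩ ∧ ∀ w : ↥(𝒱 : Subgroup G),
      w⁻¹ * (x : MulAut ↥(𝒱 : Subgroup G)) w ∈
        (HexFrame.U ℰ W).subgroupOf (𝒱 : Subgroup G)} = 192 := by
  have hBM : preH π B ≤ preH π M := fun g hg => by
    obtain ⟨hgH, hgB⟩ := mem_preH.1 hg
    exact mem_preH.2 ⟨hgH, F.B_le_M hgB⟩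
  have h := F.card_range_mul L (Y := preH π B) (F.V_le_preH L) (hBM.trans (F.preH_le_normalizer L))
  rw [F.card_preH_B] at h
  set ψ := (Subgroup.normalizerMonoidHom 𝒱).rangeRestrict.comp
    (Subgroup.inclusion (hBM.trans (F.preH_le_normalizer L)))
  suffices e : Nat.card {x : ↥𝒳 // x ∈ OrbitArith.stab 𝒳 ⟨z, F.z_mem_V L⟩ ∧ ∀ w : ↥(𝒱 : Subgroup G),
      w⁻¹ * (x : MulAut ↥(𝒱 : Subgroup G)) w ∈
        (HexFrame.U ℰ W).subgroupOf (𝒱 : Subgroup G)} = Nat.card ↥ψ.range by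
    rw [e]; omega
  refine Nat.card_congr (Equiv.subtypeEquivRight fun x => ?_)
  constructor
  · rintro ⟨hx, hmod⟩
    obtain ⟨n, hn, rfl⟩ := (F.mem_stab_iff L).1 hx
    obtain ⟨hnH, hnM⟩ := mem_preH.1 hn
    refine ⟨⟨n, mem_preH.2 ⟨hnH, F.hexad.cen_B (Subgroup.mem_centralizer_iff.2 fun β hβ => ?_)⟩⟩, rfl⟩
    obtain ⟨w, hwH, hw, rfl⟩ := L.lift β hβ
    have hU : w⁻¹ * (n * w * n⁻¹) ∈ HexFrame.U ℰ W := hmod ⟨w, Subgroup.mem_sup_right hw⟩
    have hmem : w⁻¹ * (n * w * n⁻¹) ∈ ℋ :=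
      mul_mem (inv_mem hwH) (mul_mem (mul_mem hnH hwH) (inv_mem hnH))
    have h1 : π ⟨_, hmem⟩ = 1 :=
      (F.setting.pi_eq_one_iff F.ker_eq _).2 (F.setting.E_le_N (HexFrame.U_le hU))
    rw [show (⟨w⁻¹ * (n * w * n⁻¹), hmem⟩ : ↥ℋ) = ⟨w, hwH⟩⁻¹ * (⟨n, hnH⟩ * ⟨w, hwH⟩ * ⟨n, hnH⟩⁻¹) from rfl,
      map_mul, map_mul, map_mul, map_inv, map_inv, inv_mul_eq_one] at h1
    exact (mul_inv_eq_iff_eq_mul.1 h1.symm).symm
  · rintro ⟨⟨n, hn⟩, rfl⟩
    obtain ⟨hnH, hnB⟩ := mem_preH.1 hn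
    refine ⟨(F.mem_stab_iff L).2 ⟨n, hBM hn, rfl⟩, fun w => ?_⟩
    show ((w⁻¹ : ↥(𝒱 : Subgroup G)) : G) * (n * w * n⁻¹) ∈ HexFrame.U ℰ W
    have hwH := F.V_le_H L w.2
    have hwV : n * w * n⁻¹ ∈ (𝒱 : Subgroup G) :=
      (Subgroup.mem_normalizer_iff.1 (F.preH_le_normalizer L (hBM hn)) w).1 w.2
    have hcomm : π ⟨n, hnH⟩ * π ⟨w, hwH⟩ = π ⟨w, hwH⟩ * π ⟨n, hnH⟩ :=
      congrArg Subtype.val (F.hexad.B_elem.1.is_comm.comm ⟨_, hnB⟩ ⟨_, F.pi_V L w.2 hwH⟩)
    refine F.mem_U_of_pi L (mul_mem (inv_mem w.2) hwV)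
      (mul_mem (inv_mem hwH) (mul_mem (mul_mem hnH hwH) (inv_mem hnH))) ?_
    rw [show (⟨((w⁻¹ : ↥(𝒱 : Subgroup G)) : G) * (n * w * n⁻¹), _⟩ : ↥ℋ) =
      ⟨w, hwH⟩⁻¹ * (⟨n, hnH⟩ * ⟨w, hwH⟩ * ⟨n, hnH⟩⁻¹) from rfl,
      map_mul, map_mul, map_mul, map_inv, map_inv, hcomm, mul_inv_cancel_right, inv_mul_cancel]

variable (hfus : ∃ v ∈ (HexFrame.U (twoCoreOfCentralizer z) W ⊔ W : Subgroup _), v ≠ z ∧ IsConj z v)
include hfus

theorem mem_orb_iff {w : ↥(𝒱 : Subgroup G)} :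
    w ∈ OrbitArith.orb 𝒳 ⟨z, F.z_mem_V L⟩ ↔ IsConj z (w : G) := by
  constructor
  · rintro ⟨x, rfl⟩
    obtain ⟨⟨n, hn⟩, rfl⟩ := (Subgroup.normalizerMonoidHom 𝒱).rangeRestrict_surjective x
    exact isConj_iff.2 ⟨n, rfl⟩
  · intro hc
    obtain ⟨n, hn, e⟩ := F.exists_normalizer_conj L w.2 hc
    exact ⟨(Subgroup.normalizerMonoidHom 𝒱).rangeRestrict ⟨n, hn⟩, Subtype.ext e⟩

/-- The conjugates of `z` in `V`: 1771 of them; the rest is one of two explicit sets. -/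
theorem split {five : Set (Subgroup G)}
    (hF : FiveData ℰ P W (preC P π (M ⊓ Inn ↥Spor.M22)) z five) {A : Set G}
    (hA : Section ℰ (preC P π (M ⊓ Inn ↥Spor.M22)) W z A) :
    Nat.card (zClass z 𝒱) = 1771 ∧
    ((otherClass z 𝒱 = specU ℰ W z five ∪ Orb ℰ A ∧ Orb ℰ ((z * ·) '' A) ⊆ zClass z 𝒱) ∨
      (otherClass z 𝒱 = specU ℰ W z five ∪ Orb ℰ ((z * ·) '' A) ∧ Orb ℰ A ⊆ zClass z 𝒱)) := by
  classical
  set V : Subgroup G := HexFrame.U (twoCoreOfCentralizer z) W ⊔ W with hV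
  have hA' := L.hex.section_zmul hA
  set pieces : Fin 5 → Set G :=
    ![ordU ℰ W z five, specU ℰ W z five, Orb ℰ A, Orb ℰ ((z * ·) '' A), bigV ℰ W z A] with hp
  have hsub : ∀ i, ∀ x ∈ pieces i, x ∈ V := by
    intro i x hx
    fin_cases i
    · exact Subgroup.mem_sup_left hx.1
    · exact Subgroup.mem_sup_left hx.1
    · exact (L.hex.Orb_sub hA hx).1
    · exact (L.hex.Orb_sub hA' hx).1
    · exact (L.hex.bigV_sub hA hx).1
  have hnotU : ∀ i : Fin 5, i ≠ 0 → i ≠ 1 → ∀ x ∈ pieces i, x ∉ HexFrame.U ℰ W := by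
    intro i h0 h1 x hx
    fin_cases i
    · exact absurd rfl h0
    · exact absurd rfl h1
    · exact (L.hex.Orb_sub hA hx).2
    · exact (L.hex.Orb_sub hA' hx).2
    · exact (L.hex.bigV_sub hA hx).2
  have hnz : ∀ i, z ∉ pieces i ∧ (1 : G) ∉ pieces i := by
    intro i
    fin_cases i
    · exact ⟨fun hh => hh.2.1 (Subgroup.mem_zpowers z), fun hh => hh.2.1 (one_mem _)⟩
    · exact ⟨fun hh => hh.2.1 (Subgroup.mem_zpowers z), fun hh => hh.2.1 (one_mem _)⟩
    · exact ⟨fun hh => hnotU 2 (by decide) (by decide) z hh L.hex.z_U,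
        fun hh => hnotU 2 (by decide) (by decide) 1 hh (one_mem _)⟩
    · exact ⟨fun hh => hnotU 3 (by decide) (by decide) z hh L.hex.z_U,
        fun hh => hnotU 3 (by decide) (by decide) 1 hh (one_mem _)⟩
    · exact ⟨fun hh => hnotU 4 (by decide) (by decide) z hh L.hex.z_U,
        fun hh => hnotU 4 (by decide) (by decide) 1 hh (one_mem _)⟩
  have hdisj : ∀ i j, i ≠ j → Disjoint (pieces i) (pieces j) := by
    have h01 : Disjoint (pieces 0) (pieces 1) :=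
      Set.disjoint_left.2 fun d ⟨_, _, hn⟩ ⟨_, _, S, hS, hdS⟩ => hn S hS hdS
    have hU : ∀ i j : Fin 5, (i = 0 ∨ i = 1) → j ≠ 0 → j ≠ 1 → Disjoint (pieces i) (pieces j) := by
      intro i j hi hj0 hj1
      refine Set.disjoint_left.2 fun d hd hd' => hnotU j hj0 hj1 d hd' ?_
      rcases hi with rfl | rfl <;> exact hd.1
    have h23 : Disjoint (pieces 2) (pieces 3) := L.hex.disjoint_Orb hA
    have h42 : Disjoint (pieces 4) (pieces 2) := (L.hex.disjoint_bigV hA).1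
    have h43 : Disjoint (pieces 4) (pieces 3) := (L.hex.disjoint_bigV hA).2
    intro i j hij
    fin_cases i <;> fin_cases j <;> first
      | exact absurd rfl hij
      | exact h01
      | exact h01.symm
      | exact h23
      | exact h23.symm
      | exact h42
      | exact h42.symm
      | exact h43
      | exact h43.symm
      | exact hU _ _ (by decide) (by decide) (by decide)
      | exact (hU _ _ (by decide) (by decide) (by decide)).symm
  have hcover : ∀ x ∈ V, x ≠ 1 → x ≠ z → ∃ i, x ∈ pieces i := by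
    intro x hx h1 hz
    rcases L.hex.cover (five := five) hA hx (fun hh => (L.hex.mem_Z.1 hh).elim h1 hz) with c | c | c | c | c
    · exact ⟨0, c⟩
    · exact ⟨1, c⟩
    · exact ⟨2, c⟩
    · exact ⟨3, c⟩
    · exact ⟨4, c⟩
  have hlconj : ∀ i, ∀ a ∈ pieces i, ∀ b ∈ pieces i,
      LConj ℰ (preC P π (M ⊓ Inn ↥Spor.M22)) a b := by
    intro i a ha b hb
    fin_cases i
    · exact L.hex.lconj_ord hF ha hb
    · exact L.hex.lconj_spec hF ha hb
    · exact L.hex.lconj_Orb hA ha hb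
    · exact L.hex.lconj_Orb hA' ha hb
    · exact L.hex.lconj_bigV F.setting.extra hA ha hb
  have hELe : ℰ ⊔ preC P π (M ⊓ Inn ↥Spor.M22) ≤ preH π M := by
    refine sup_le (fun e he => mem_preH.2 ⟨F.setting.E_le he, ?_⟩) fun g hg => ?_
    · rw [(F.setting.pi_eq_one_iff F.ker_eq _).2 (F.setting.E_le_N he :
        ((⟨e, F.setting.E_le he⟩ : ↥ℋ) : G) ∈ N)]
      exact one_mem M
    · obtain ⟨⟨hgH, hgM⟩, -⟩ := mem_preC.1 hg
      exact mem_preH.2 ⟨hgH, hgM.1⟩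
  set Ps : Fin 5 → Set ↥V := fun i => {v | (v : G) ∈ pieces i} with hPs
  set zV : ↥V := ⟨z, F.z_mem_V L⟩
  suffices hor : Nat.card (OrbitArith.orb (Subgroup.normalizerMonoidHom V).range zV) = 1771 ∧
      (OrbitArith.orb (Subgroup.normalizerMonoidHom V).range zV = insert zV (Ps 0 ∪ Ps 2 ∪ Ps 4) ∨
        OrbitArith.orb (Subgroup.normalizerMonoidHom V).range zV = insert zV (Ps 0 ∪ Ps 3 ∪ Ps 4)) by
    obtain ⟨horb, hcase⟩ := hor
    have hzc : zClass z V = Subtype.val '' OrbitArith.orb (Subgroup.normalizerMonoidHom V).range zV := by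
      ext x
      constructor
      · rintro ⟨hx, hc⟩
        exact ⟨⟨x, hx⟩, (F.mem_orb_iff L hfus).2 hc, rfl⟩
      · rintro ⟨w, hw, rfl⟩
        exact ⟨w.2, (F.mem_orb_iff L hfus).1 hw⟩
    refine ⟨by rw [hzc, Nat.card_image_of_injective Subtype.val_injective, horb], ?_⟩
    have key : ∀ i j k : Fin 5, ∀ o1 o2 : Fin 5,
        OrbitArith.orb (Subgroup.normalizerMonoidHom V).range zV = insert zV (Ps i ∪ Ps j ∪ Ps k) →
        (∀ l : Fin 5, l = i ∨ l = j ∨ l = k ∨ l = o1 ∨ l = o2) →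
        (o1 ≠ i ∧ o1 ≠ j ∧ o1 ≠ k) → (o2 ≠ i ∧ o2 ≠ j ∧ o2 ≠ k) →
        otherClass z V = pieces o1 ∪ pieces o2 ∧ pieces j ⊆ zClass z V := by
      intro i j k o1 o2 ho hall h1 h2
      have hiff : ∀ x (hx : x ∈ V), IsConj z x ↔ x = z ∨ x ∈ pieces i ∨ x ∈ pieces j ∨ x ∈ pieces k := by
        intro x hx
        rw [← F.mem_orb_iff L hfus (w := ⟨x, hx⟩), ho, Set.mem_insert_iff, Set.mem_union, Set.mem_union,
          or_assoc]
        exact or_congr Subtype.ext_iff Iff.rfl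
      refine ⟨?_, fun x hx => ⟨hsub j x hx, (hiff x (hsub j x hx)).2 (Or.inr (Or.inr (Or.inl hx)))⟩⟩
      ext x
      constructor
      · rintro ⟨hx, hx1, hnc⟩
        rw [hiff x hx] at hnc
        push Not at hnc
        obtain ⟨l, hl⟩ := hcover x hx hx1 hnc.1
        rcases hall l with rfl | rfl | rfl | rfl | rfl
        · exact absurd hl hnc.2.1
        · exact absurd hl hnc.2.2.1
        · exact absurd hl hnc.2.2.2
        · exact Or.inl hl
        · exact Or.inr hl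
      · rintro (hx | hx)
        all_goals refine ⟨hsub _ x hx, fun e => (hnz _).2 (e ▸ hx), fun hc => ?_⟩
        · rcases (hiff x (hsub _ x hx)).1 hc with e | e | e | e
          · exact (hnz _).1 (e ▸ hx)
          · exact Set.disjoint_left.1 (hdisj _ _ h1.1) hx e
          · exact Set.disjoint_left.1 (hdisj _ _ h1.2.1) hx e
          · exact Set.disjoint_left.1 (hdisj _ _ h1.2.2) hx e
        · rcases (hiff x (hsub _ x hx)).1 hc with e | e | e | e
          · exact (hnz _).1 (e ▸ hx)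
          · exact Set.disjoint_left.1 (hdisj _ _ h2.1) hx e
          · exact Set.disjoint_left.1 (hdisj _ _ h2.2.1) hx e
          · exact Set.disjoint_left.1 (hdisj _ _ h2.2.2) hx e
    rcases hcase with e | e
    · exact Or.inr (key 0 2 4 1 3 e (by decide) (by decide) (by decide))
    · exact Or.inl (key 0 3 4 1 2 e (by decide) (by decide) (by decide))
  refine OrbitArith.orbit_eq (W := ↥V) L.hex.card_V
    (Subgroup.normalizerMonoidHom V).range zV (fun e => F.setting.z_ne_one (congrArg Subtype.val e))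
    (F.card_stab L) Ps ?_ ?_ (fun i => (hnz i).1) (fun i => (hnz i).2) ?_ ?_ ?_
    ((HexFrame.U ℰ W).subgroupOf V) ?_ (F.card_trivial_mod L) ?_
  · intro i
    rw [hPs, card_pull V (hsub i)]
    fin_cases i
    · exact L.hex.card_ordU hF
    · exact L.hex.card_specU hF
    · exact L.hex.card_Orb hA
    · exact L.hex.card_Orb hA'
    · exact L.hex.card_bigV hA
  · exact fun i j hij => Set.disjoint_left.2 fun v h1 h2 => Set.disjoint_left.1 (hdisj i j hij) h1 h2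
  · intro i a ha w hw
    obtain ⟨l, hl, e⟩ := hlconj i a ha w hw
    exact ⟨(Subgroup.normalizerMonoidHom V).rangeRestrict ⟨l, F.preH_le_normalizer L (hELe hl)⟩,
      (F.mem_stab_iff L).2 ⟨l, hELe hl, rfl⟩, Subtype.ext e⟩
  · intro a ha x hx
    obtain ⟨n, hn, rfl⟩ := (F.mem_stab_iff L).1 hx
    exact F.ordU_map L hF hn ha
  · intro w h1 hz
    exact hcover w w.2 (fun e => h1 (Subtype.ext e)) fun e => hz (Subtype.ext e)
  · ext v
    show (v : G) ∈ HexFrame.U ℰ W ↔ ((v = 1 ∨ v = zV) ∨ (v : G) ∈ pieces 0) ∨ (v : G) ∈ pieces 1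
    constructor
    · intro hv
      by_cases h1 : v = 1
      · exact Or.inl (Or.inl (Or.inl h1))
      by_cases hz : v = zV
      · exact Or.inl (Or.inl (Or.inr hz))
      obtain ⟨i, hi⟩ := hcover v v.2 (fun e => h1 (Subtype.ext e)) fun e => hz (Subtype.ext e)
      by_cases h0 : i = 0
      · exact Or.inl (Or.inr (h0 ▸ hi))
      by_cases h1' : i = 1
      · exact Or.inr (h1' ▸ hi)
      exact absurd hv (hnotU i h0 h1' v hi)
    · rintro (((rfl | rfl) | h) | h)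
      · exact one_mem _
      · exact L.hex.z_U
      · exact h.1
      · exact h.1
  · obtain ⟨v, hv, hne, hc⟩ := hfus
    obtain ⟨n, hn, e⟩ := F.exists_normalizer_conj L hv hc
    exact ⟨_, ⟨⟨n, hn⟩, rfl⟩, fun e' => hne (e.symm.trans (congrArg Subtype.val e'))⟩

theorem otherClass_map {n : G} (hn : n ∈ Subgroup.normalizer ((𝒱 : Subgroup G) : Set G)) {x : G}
    (hx : x ∈ otherClass z 𝒱) : n * x * n⁻¹ ∈ otherClass z 𝒱 := by
  obtain ⟨hxV, hx1, hxc⟩ := hx
  refine ⟨(Subgroup.mem_normalizer_iff.1 hn x).1 hxV, fun e => hx1 (conj_eq_one_iff.1 e), fun hc => ?_⟩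
  exact hxc (hc.trans (isConj_iff.2 ⟨n⁻¹, by group⟩))

/-- The remaining 276 elements form one class under `N(V)`. -/
theorem other_class :
    Nat.card (otherClass z 𝒱) = 276 ∧ ∀ x ∈ otherClass z 𝒱, ∀ y ∈ otherClass z 𝒱,
      ∃ n ∈ Subgroup.normalizer ((𝒱 : Subgroup G) : Set G), n * x * n⁻¹ = y := by
  classical
  obtain ⟨five, hF⟩ := F.exists_fiveData L
  obtain ⟨A, hA⟩ := L.hex.exists_section
  obtain ⟨-, hsplit⟩ := F.split L hfus hF hA
  obtain ⟨A, B', hA, hB', hT, hB⟩ : ∃ A B' : Set G, Section ℰ (preC P π (M ⊓ Inn ↥Spor.M22)) W z A ∧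
      Section ℰ (preC P π (M ⊓ Inn ↥Spor.M22)) W z B' ∧
      otherClass z 𝒱 = specU ℰ W z five ∪ Orb ℰ A ∧ Orb ℰ B' ⊆ zClass z 𝒱 := by
    rcases hsplit with ⟨e, e'⟩ | ⟨e, e'⟩
    · exact ⟨A, _, hA, L.hex.section_zmul hA, e, e'⟩
    · exact ⟨_, A, L.hex.section_zmul hA, hA, e, e'⟩
  have hd : Disjoint (specU ℰ W z five) (Orb ℰ A) :=
    Set.disjoint_left.2 fun d hd hd' => (L.hex.Orb_sub hA hd').2 hd.1
  refine ⟨by
    rw [hT, Nat.card_coe_set_eq, Set.ncard_union_eq hd (Set.toFinite _) (Set.toFinite _),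
      ← Nat.card_coe_set_eq, ← Nat.card_coe_set_eq, L.hex.card_specU hF, L.hex.card_Orb hA], ?_⟩
  have hL : ∀ {a b : G}, LConj ℰ (preC P π (M ⊓ Inn ↥Spor.M22)) a b →
      ∃ n ∈ Subgroup.normalizer ((𝒱 : Subgroup G) : Set G), n * a * n⁻¹ = b := by
    rintro a b ⟨l, hl, e⟩
    refine ⟨l, F.preH_le_normalizer L ?_, e⟩
    revert hl l
    intro l hl e
    refine (sup_le (fun g hg => mem_preH.2 ⟨F.setting.E_le hg, ?_⟩) (fun g hg => ?_) : _ ≤ preH π M) hl
    · rw [(F.setting.pi_eq_one_iff F.ker_eq _).2 (F.setting.E_le_N hg :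
        ((⟨g, F.setting.E_le hg⟩ : ↥ℋ) : G) ∈ N)]
      exact one_mem M
    · obtain ⟨⟨hgH, hgM⟩, -⟩ := mem_preC.1 hg
      exact mem_preH.2 ⟨hgH, hgM.1⟩
  -- the two pieces are joined
  obtain ⟨d₀, hd₀, n₀, hn₀, hjoin⟩ : ∃ d ∈ specU ℰ W z five, ∃ n ∈
      Subgroup.normalizer ((𝒱 : Subgroup G) : Set G), n * d * n⁻¹ ∈ Orb ℰ A := by
    by_contra hcon
    push Not at hcon
    obtain ⟨d, hdU, hdz, S, hS, hdS⟩ : (specU ℰ W z five).Nonempty := by
      refine Set.nonempty_coe_sort.1 (Nat.card_pos_iff.1 ?_).1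
      rw [L.hex.card_specU hF]; norm_num
    have hds : d ∈ specU ℰ W z five := ⟨hdU, hdz, S, hS, hdS⟩
    have hzd : z * d ∈ specU ℰ W z five :=
      ⟨mul_mem L.hex.z_U hdU, L.hex.z_mul_notMem hdz, S, hS, mul_mem (hF.isPt S hS).1.z_mem hdS⟩
    have hinv : ∀ n ∈ Subgroup.normalizer ((𝒱 : Subgroup G) : Set G), ∀ x ∈ specU ℰ W z five,
        n * x * n⁻¹ ∈ HexFrame.U ℰ W := by
      intro n hn x hx
      have h1 : n * x * n⁻¹ ∈ otherClass z 𝒱 := F.otherClass_map L hfus hn (by rw [hT]; exact Or.inl hx)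
      rw [hT] at h1
      exact h1.elim (fun h => h.1) fun h => absurd h (hcon x hx n hn)
    obtain ⟨b, hb⟩ : B'.Nonempty := by
      refine Set.nonempty_coe_sort.1 (Nat.card_pos_iff.1 ?_).1
      rw [L.hex.card_A hB']; norm_num
    have hbo : cmm b 1 * b ∈ Orb ℰ B' := ⟨b, hb, 1, one_mem _, rfl⟩
    obtain ⟨hbV, hbc⟩ := hB hbo
    obtain ⟨n, hn, e⟩ := F.exists_normalizer_conj L hbV hbc
    apply (L.hex.Orb_sub hB' hbo).2
    rw [← e, show n * z * n⁻¹ = (n * (z * d) * n⁻¹) * (n * d * n⁻¹)⁻¹ by group]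
    exact mul_mem (hinv n hn _ hzd) (inv_mem (hinv n hn _ hds))
  have hcomp : ∀ {a b c : G}, (∃ n ∈ Subgroup.normalizer ((𝒱 : Subgroup G) : Set G), n * a * n⁻¹ = b) →
      (∃ n ∈ Subgroup.normalizer ((𝒱 : Subgroup G) : Set G), n * b * n⁻¹ = c) →
      ∃ n ∈ Subgroup.normalizer ((𝒱 : Subgroup G) : Set G), n * a * n⁻¹ = c := by
    rintro a b c ⟨n, hn, e⟩ ⟨m, hm, e'⟩
    exact ⟨m * n, mul_mem hm hn, by rw [← e', ← e]; group⟩
  have hto : ∀ x ∈ otherClass z 𝒱,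
      ∃ n ∈ Subgroup.normalizer ((𝒱 : Subgroup G) : Set G), n * d₀ * n⁻¹ = x := by
    intro x hx
    rw [hT] at hx
    rcases hx with hx | hx
    · exact hL (L.hex.lconj_spec hF hd₀ hx)
    · exact hcomp ⟨n₀, hn₀, rfl⟩ (hL (L.hex.lconj_Orb hA hjoin hx))
  intro x hx y hy
  obtain ⟨n, hn, e⟩ := hto x hx
  refine hcomp ⟨n⁻¹, inv_mem hn, ?_⟩ (hto y hy)
  rw [← e]; group

/-- A section `A` such that the elements not conjugate to `z` are `spec ∪ Orb A`. -/
theorem exists_split {five : Set (Subgroup G)}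
    (hF : FiveData ℰ P W (preC P π (M ⊓ Inn ↥Spor.M22)) z five) :
    ∃ A : Set G, Section ℰ (preC P π (M ⊓ Inn ↥Spor.M22)) W z A ∧
      otherClass z 𝒱 = specU ℰ W z five ∪ Orb ℰ A ∧
      ∀ x ∈ (𝒱 : Subgroup G), x ≠ 1 → (IsConj z x ↔ x ∉ specU ℰ W z five ∪ Orb ℰ A) := by
  obtain ⟨A, hA⟩ := L.hex.exists_section
  obtain ⟨B', hB', hT⟩ : ∃ B' : Set G, Section ℰ (preC P π (M ⊓ Inn ↥Spor.M22)) W z B' ∧
      otherClass z 𝒱 = specU ℰ W z five ∪ Orb ℰ B' := by
    rcases (F.split L hfus hF hA).2 with ⟨e, -⟩ | ⟨e, -⟩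
    · exact ⟨A, hA, e⟩
    · exact ⟨_, L.hex.section_zmul hA, e⟩
  refine ⟨B', hB', hT, fun x hx hx1 => ?_⟩
  rw [← hT]
  exact ⟨fun hc hh => hh.2.2 hc, fun hh => by_contra fun hc => hh ⟨hx, hx1, hc⟩⟩

/-- No section is closed under multiplication. -/
theorem no_closed {A : Set G} (hA : Section ℰ (preC P π (M ⊓ Inn ↥Spor.M22)) W z A)
    (hmul : ∀ a ∈ A, ∀ b ∈ A, a * b ∉ Subgroup.zpowers z → a * b ∈ A) : False := by
  classical
  obtain ⟨five, hF⟩ := F.exists_fiveData L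
  obtain ⟨-, hsplit⟩ := F.split L hfus hF hA
  obtain ⟨b, hb⟩ : A.Nonempty := by
    refine Set.nonempty_coe_sort.1 (Nat.card_pos_iff.1 ?_).1
    rw [L.hex.card_A hA]; norm_num
  obtain ⟨h1, h2, h3, h4⟩ := L.hex.count_split F.setting.extra hF hA hmul hb
  have key : ∀ v ∈ zClass z 𝒱,
      Nat.card {t // t ∈ otherClass z 𝒱 ∧ v * t ∈ otherClass z 𝒱} =
      Nat.card {t // t ∈ otherClass z 𝒱 ∧ z * t ∈ otherClass z 𝒱} := by
    rintro v ⟨hv, hc⟩
    obtain ⟨n, hn, e⟩ := F.exists_normalizer_conj L hv hc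
    symm
    refine Nat.card_congr
      { toFun := fun t => ⟨n * t * n⁻¹, F.otherClass_map L hfus hn t.2.1, ?_⟩
        invFun := fun t => ⟨n⁻¹ * t * n, ?_, ?_⟩
        left_inv := fun t => Subtype.ext (by group)
        right_inv := fun t => Subtype.ext (by group) }
    · rw [← e, show n * z * n⁻¹ * (n * t * n⁻¹) = n * (z * t) * n⁻¹ by group]
      exact F.otherClass_map L hfus hn t.2.2
    · have := F.otherClass_map L hfus (inv_mem hn) t.2.1
      rwa [inv_inv] at this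
    · have := F.otherClass_map L hfus (inv_mem hn) t.2.2
      rw [inv_inv] at this
      have hid : ∀ x : G, z * (n⁻¹ * x * n) = n⁻¹ * (v * x) * n := fun x => by rw [← e]; group
      rwa [hid]
  rcases hsplit with ⟨hT, hc⟩ | ⟨hT, hc⟩
  · have hzb : z * b ∈ zClass z 𝒱 := by
      refine hc ⟨z * b, ⟨b, hb, rfl⟩, 1, one_mem _, ?_⟩
      simp [cmm]
    have h := key _ hzb
    rw [hT, h1] at h
    omega
  · have hbc : b ∈ zClass z 𝒱 := hc ⟨b, hb, 1, one_mem _, by simp [cmm]⟩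
    have h := key _ hbc
    rw [hT, h2] at h
    omega

/-- `z` lies in the derived group of `C_H(P)`. -/
theorem z_mem_derived : z ∈ ⁅ℋ ⊓ Subgroup.centralizer (P : Set G), ℋ ⊓ Subgroup.centralizer (P : Set G)⁆ := by
  classical
  haveI := isSimpleGroup_mTwentyTwo
  set Cs := ℋ ⊓ Subgroup.centralizer (P : Set G) with hCs
  set D := ⁅Cs, Cs⁆ with hD
  by_contra hz
  have hDC : D ≤ Cs := by
    rw [hD, Subgroup.commutator_le]
    intro a ha b hb
    rw [commutatorElement_def]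
    exact mul_mem (mul_mem (mul_mem ha hb) (inv_mem ha)) (inv_mem hb)
  obtain ⟨φ, hφ, hker⟩ : ∃ φ : ↥Cs →* ↥Spor.M22, Function.Surjective φ ∧
      φ.ker = (Subgroup.zpowers z ⊔ P).subgroupOf Cs := F.setting.exists_toMTwentyTwo
  let S0 : Subgroup G :=
    { carrier := {x | x * z = z * x ∧ (x ∈ D ∨ z * x ∈ D)}
      one_mem' := ⟨by simp, Or.inl (one_mem _)⟩
      mul_mem' := by
        rintro x y ⟨hx, hx'⟩ ⟨hy, hy'⟩
        refine ⟨by rw [mul_assoc, hy, ← mul_assoc, hx, mul_assoc], ?_⟩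
        rcases hx' with a | a <;> rcases hy' with b | b
        · exact Or.inl (mul_mem a b)
        · right; rw [← mul_assoc, ← hx, mul_assoc]; exact mul_mem a b
        · right; rw [← mul_assoc]; exact mul_mem a b
        · left
          have := mul_mem a b
          rwa [show z * x * (z * y) = z * (x * z) * y by group, hx, ← mul_assoc z z,
            F.setting.z_mul_self, one_mul] at this
      inv_mem' := by
        rintro x ⟨hx, hx'⟩
        have hxz : x⁻¹ * z = z * x⁻¹ := (show Commute x z from hx).inv_left.eq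
        refine ⟨hxz, ?_⟩
        rcases hx' with a | a
        · exact Or.inl (inv_mem a)
        · right
          have := inv_mem a
          rwa [mul_inv_rev, F.setting.z_inv, hxz] at this }
  have hCS : ∀ c ∈ Cs, c ∈ D ∨ z * c ∈ D := by
    intro c hc
    have htop : (D.subgroupOf Cs).map φ = ⊤ := by
      have e : D.subgroupOf Cs = commutator ↥Cs := by
        apply Subgroup.map_injective Cs.subtype_injective
        rw [Subgroup.map_subgroupOf_eq_of_le hDC, commutator_def, Subgroup.map_commutator,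
          ← MonoidHom.range_eq_map, Subgroup.range_subtype]
      rw [e, commutator_def, Subgroup.map_commutator, Subgroup.map_top_of_surjective φ hφ, ← commutator_def]
      rcases IsSimpleGroup.eq_bot_or_eq_top_of_normal (commutator ↥Spor.M22) inferInstance with h | h
      · exfalso
        have hc : ∀ a b : ↥Spor.M22, a * b = b * a := fun a b =>
          commutatorElement_eq_one_iff_mul_comm.1 (Subgroup.mem_bot.1 (h ▸
            Subgroup.commutator_mem_commutator (Subgroup.mem_top a) (Subgroup.mem_top b)))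
        have h1 : Subgroup.center ↥Spor.M22 = ⊤ :=
          eq_top_iff.2 fun a _ => Subgroup.mem_center_iff.2 fun b => hc b a
        rw [center_mTwentyTwo] at h1
        have h2 : Nat.card (⊥ : Subgroup ↥Spor.M22) = Nat.card (⊤ : Subgroup ↥Spor.M22) := by rw [h1]
        rw [Subgroup.card_bot, Subgroup.card_top, card_mTwentyTwo] at h2
        norm_num at h2
      · exact h
    obtain ⟨d, hd, hde⟩ := Subgroup.mem_map.1 (htop ▸ Subgroup.mem_top (φ ⟨c, hc⟩))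
    have hk : d⁻¹ * ⟨c, hc⟩ ∈ φ.ker := by rw [MonoidHom.mem_ker, map_mul, map_inv, hde, inv_mul_cancel]
    rw [hker, Subgroup.mem_subgroupOf] at hk
    have hle : Subgroup.zpowers z ⊔ P ≤ S0 := by
      refine sup_le (Subgroup.zpowers_le.2 ⟨rfl, Or.inr ?_⟩) fun p hp =>
        ⟨F.setting.comm_z (F.setting.P_le_H hp), Or.inl (F.setting.P_le_derived hp)⟩
      rw [F.setting.z_mul_self]; exact one_mem _
    have hdS : (d : G) ∈ S0 :=
      ⟨F.setting.comm_z (hDC (Subgroup.mem_subgroupOf.1 hd)).1, Or.inl (Subgroup.mem_subgroupOf.1 hd)⟩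
    have hcS := mul_mem hdS (hle hk)
    rw [Subgroup.coe_mul, Subgroup.coe_inv, mul_inv_cancel_left] at hcS
    exact hcS.2
  have hnot : ∀ b, b ∈ D → z * b ∉ D := fun b hb hh => hz (by
    have := mul_mem hh (inv_mem hb)
    rwa [mul_inv_cancel_right] at this)
  have hM0C : ∀ m ∈ preC P π (M ⊓ Inn ↥Spor.M22), m ∈ Cs := fun m hm => preC_le hm
  have hA : Section ℰ (preC P π (M ⊓ Inn ↥Spor.M22)) W z
      {b | b ∈ W ∧ b ∉ Subgroup.zpowers z ∧ b ∈ D} := by
    refine ⟨fun a ⟨h1, h2, _⟩ => ⟨h1, h2⟩, fun b hb hbz => ?_, ?_⟩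
    · refine ⟨fun ⟨_, _, hbD⟩ ⟨_, _, hh⟩ => hnot b hbD hh, fun hh => ⟨hb, hbz, ?_⟩⟩
      rcases hCS b (hM0C b (L.hex.W_M0 hb)) with c | c
      · exact c
      · exact absurd ⟨mul_mem L.hex.z_W hb, L.hex.z_mul_notMem hbz, c⟩ hh
    · rintro a ⟨ha, haz, haD⟩ b ⟨hb, hbz, hbD⟩
      obtain ⟨m, hm, e | e⟩ := L.hex.trans a ha haz b hb hbz
      · exact LConj.of_M0 hm e
      · exfalso
        have hconj : m * a * m⁻¹ ∈ D := by
          have h1 : m * a * m⁻¹ * a⁻¹ ∈ D := by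
            rw [← commutatorElement_def]
            exact Subgroup.commutator_mem_commutator (hM0C m hm) (hDC haD)
          have := mul_mem h1 haD
          rwa [inv_mul_cancel_right] at this
        exact hnot b hbD (e ▸ hconj)
  exact F.no_closed L hfus hA fun a ⟨ha, _, haD⟩ b ⟨hb, _, hbD⟩ hab =>
    ⟨mul_mem ha hb, hab, mul_mem haD hbD⟩

/-- Three commuting conjugates of `z` in `W` with trivial product. -/
theorem exists_triple : ∃ y₁ ∈ W, ∃ y₂ ∈ W,
    (IsConj z y₁ ∧ y₁ ≠ z) ∧ (IsConj z y₂ ∧ y₂ ≠ z) ∧ (IsConj z (y₁ * y₂) ∧ y₁ * y₂ ≠ z) := by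
  classical
  obtain ⟨five, hF⟩ := F.exists_fiveData L
  obtain ⟨A, hA⟩ := L.hex.exists_section
  obtain ⟨-, hsplit⟩ := F.split L hfus hF hA
  obtain ⟨A, hA, hc⟩ : ∃ A : Set G, Section ℰ (preC P π (M ⊓ Inn ↥Spor.M22)) W z A ∧
      ∀ a ∈ A, IsConj z a := by
    rcases hsplit with ⟨-, e⟩ | ⟨-, e⟩
    · exact ⟨_, L.hex.section_zmul hA, fun a ha => (e ⟨a, ha, 1, one_mem _, by simp [cmm]⟩).2⟩
    · exact ⟨_, hA, fun a ha => (e ⟨a, ha, 1, one_mem _, by simp [cmm]⟩).2⟩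
  by_contra hcon
  refine F.no_closed L hfus (L.hex.section_zmul hA) ?_
  rintro _ ⟨a, ha, rfl⟩ _ ⟨b, hb, rfl⟩ hab
  obtain ⟨haW, haz⟩ := hA.sub a ha
  obtain ⟨hbW, hbz⟩ := hA.sub b hb
  have e : z * a * (z * b) = a * b := by
    rw [show z * a * (z * b) = z * (a * z) * b by group, L.hex.W_z a haW, ← mul_assoc z z, L.hex.z_sq,
      one_mul]
  simp only [e] at hab ⊢
  have hnA : a * b ∉ A := fun hh => hcon ⟨a, haW, b, hbW,
    ⟨hc a ha, fun e => haz (e ▸ Subgroup.mem_zpowers z)⟩,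
    ⟨hc b hb, fun e => hbz (e ▸ Subgroup.mem_zpowers z)⟩,
    ⟨hc _ hh, fun e => hab (by rw [e]; exact Subgroup.mem_zpowers z)⟩⟩
  refine ⟨z * (a * b), ?_, by show z * (z * (a * b)) = a * b; rw [← mul_assoc, L.hex.z_sq, one_mul]⟩
  by_contra hh
  exact hnA ((hA.one _ (mul_mem haW hbW) hab).2 hh)

/-- `N_G(P) ≤ H`. -/
theorem normalizer_P_le : Subgroup.normalizer (P : Set G) ≤ ℋ := by
  obtain ⟨y₁, hy₁, y₂, hy₂, ⟨c₁, n₁⟩, ⟨c₂, n₂⟩, ⟨c₃, n₃⟩⟩ := F.exists_triple L hfus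
  exact F.setting.normalizer_P_le F.hexad (F.z_mem_derived L hfus)
    (preC_le (L.W_le hy₁)) (preC_le (L.W_le hy₂))
    (F.V_comm L (Subgroup.mem_sup_right hy₁) (Subgroup.mem_sup_right hy₂))
    (isConj_iff.1 c₁) n₁ (isConj_iff.1 c₂) n₂ (isConj_iff.1 c₃) n₃

end Frame

end CfsgLib.JFour
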