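import Cfsg.Agent.Lib.JFour.DuadInst
import Cfsg.Agent.Lib.JFour.DuadCent
import Cfsg.Agent.Lib.JFour.DuadPerm
import Cfsg.Agent.Lib.JFour.FixCount

/-!
# Groups of Janko-four type: the points of `U` under the preimage of the hexad normalizer
-/

set_option autoImplicit false
set_option linter.unusedSectionVars false

open Cfsg

namespace CfsgLib.JFour

variable {G : Type*} [Group G] [Finite G] {z : G} {P N : Subgroup G}

/-- A duad frame with its lift and the action of `Aut M22` on 22 points. -/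
structure PointFrame
    (π : ↥(Subgroup.centralizer ({z} : Set G)) →* MulAut ↥Spor.M22)
    (M B : Subgroup (MulAut ↥Spor.M22)) (R W : Subgroup G) (five : Set (Subgroup G)) (A : Set G)
    (f : MulAut ↥Spor.M22 →* Equiv.Perm (Fin 22)) (Hx : Finset (Fin 22)) : Prop where
  duad : DuadFrame (P := P) (N := N) π M B R W five A
  lifted : Lifted P π M B R W
  perm : DuadPerm (Inn ↥Spor.M22) M B f Hx

/-- A point frame at any point of Janko-four type, from the data of `Aut M22`. -/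
theorem exists_pointFrame [IsSimpleGroup G] (hG : ¬ IsMulCommutative G) (h : IsOfJankoFourTypeWith z P)
    (hD : ∃ (M B : Subgroup (MulAut ↥Spor.M22)) (f : MulAut ↥Spor.M22 →* Equiv.Perm (Fin 22))
      (Hx : Finset (Fin 22)), HexadData (Inn ↥Spor.M22) M B ∧ DuadPerm (Inn ↥Spor.M22) M B f Hx) :
    ∃ (N : Subgroup G) (π : ↥(Subgroup.centralizer ({z} : Set G)) →* MulAut ↥Spor.M22)
      (M B : Subgroup (MulAut ↥Spor.M22)) (R W : Subgroup G) (five : Set (Subgroup G)) (A : Set G)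
      (f : MulAut ↥Spor.M22 →* Equiv.Perm (Fin 22)) (Hx : Finset (Fin 22)),
      PointFrame (P := P) (N := N) π M B R W five A f Hx := by
  obtain ⟨M, B, f, Hx, hH, hP⟩ := hD
  obtain ⟨N, S⟩ := exists_setting h
  obtain ⟨π, hπ, hker⟩ := S.quot
  have F : Frame (P := P) (N := N) π M B := ⟨S, hπ, hker, hH⟩
  obtain ⟨R, W, L⟩ := F.exists_lifted
  obtain ⟨five, A, D, -⟩ := F.exists_duadFrame L (F.exists_fusion hG L.hex L.W_le L.lift)
  exact ⟨N, π, M, B, R, W, five, A, f, Hx, D, L, hP⟩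

theorem mem_map_conj' {S : Subgroup G} {g x : G} :
    x ∈ S.map (MulAut.conj g).toMonoidHom ↔ g⁻¹ * x * g ∈ S := by
  constructor
  · rintro ⟨y, hy, rfl⟩
    simpa [mul_assoc] using hy
  · intro h
    exact ⟨_, h, by simp [mul_assoc]⟩

theorem map_conj_conj (S : Subgroup G) (a b : G) :
    (S.map (MulAut.conj b).toMonoidHom).map (MulAut.conj a).toMonoidHom =
      S.map (MulAut.conj (a * b)).toMonoidHom := by
  ext x
  simp only [mem_map_conj']
  rw [show b⁻¹ * (a⁻¹ * x * a) * b = (a * b)⁻¹ * x * (a * b) by group]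

theorem map_conj_eq_iff {S : Subgroup G} {g : G} :
    S.map (MulAut.conj g).toMonoidHom = S ↔ g ∈ Subgroup.normalizer (S : Set G) := by
  constructor
  · intro h
    rw [Subgroup.mem_normalizer_iff]
    intro x
    have : g * x * g⁻¹ ∈ S ↔ g * x * g⁻¹ ∈ S.map (MulAut.conj g).toMonoidHom := by rw [h]
    rw [this, mem_map_conj', show g⁻¹ * (g * x * g⁻¹) * g = x by group]
  · intro h
    ext x
    rw [mem_map_conj', Subgroup.mem_normalizer_iff.1 h (g⁻¹ * x * g),
      show g * (g⁻¹ * x * g) * g⁻¹ = x by group]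

theorem isConj_conj_iff {z x : G} (g : G) : IsConj z (g * x * g⁻¹) ↔ IsConj z x :=
  ⟨fun h => h.trans (isConj_iff.mpr ⟨g⁻¹, by group⟩), fun h => h.trans (isConj_iff.mpr ⟨g, rfl⟩)⟩

namespace PointFrame

set_option quotPrecheck false in
local notation "ℋ" => Subgroup.centralizer (singleton z : Set G)
set_option quotPrecheck false in
local notation "ℰ" => twoCoreOfCentralizer z

variable {π : ↥(Subgroup.centralizer ({z} : Set G)) →* MulAut ↥Spor.M22}
  {M B : Subgroup (MulAut ↥Spor.M22)} {R W : Subgroup G} {five : Set (Subgroup G)} {A : Set G}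
  {f : MulAut ↥Spor.M22 →* Equiv.Perm (Fin 22)} {Hx : Finset (Fin 22)}

set_option quotPrecheck false in
local notation "𝒰" => HexFrame.U (twoCoreOfCentralizer z) W
set_option quotPrecheck false in
local notation "𝒱" => (HexFrame.U (twoCoreOfCentralizer z) W ⊔ W : Subgroup _)

variable (F : PointFrame (P := P) (N := N) π M B R W five A f Hx)
include F

theorem frame : Frame (P := P) (N := N) π M B := F.duad.frame

theorem setting : Setting z P N := F.frame.setting

theorem hex : HexTransitive ℰ R P W (preC P π (M ⊓ Inn ↥Spor.M22)) z := F.lifted.hex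

theorem fiveData : FiveData ℰ P W (preC P π (M ⊓ Inn ↥Spor.M22)) z five := F.duad.data.fiveData

/-- An element of `E` normalises every subgroup between `⟨z⟩` and `E`. -/
theorem E_le_normalizer {S : Subgroup G} (hz : z ∈ S) (hS : S ≤ ℰ) :
    ℰ ≤ Subgroup.normalizer (S : Set G) := by
  intro e he
  have key : ∀ e ∈ ℰ, ∀ x ∈ S, e * x * e⁻¹ ∈ S := fun e he x hx => by
    rcases F.setting.conj_eq he (hS hx) with c | c <;> rw [c]
    · exact hx
    · exact mul_mem hz hx
  rw [Subgroup.mem_normalizer_iff]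
  refine fun x => ⟨key e he x, fun h => ?_⟩
  simpa [mul_assoc] using key e⁻¹ (inv_mem he) _ h

theorem pi_E {e : G} (he : e ∈ ℰ) : π ⟨e, F.setting.E_le he⟩ = 1 :=
  (F.setting.pi_eq_one_iff F.frame.ker_eq _).2 (F.setting.E_le_N he)

/-- The elements over `M` are `E` times the elements of `N_H(P)` over `M`. -/
theorem exists_decomp {g : G} (hg : g ∈ preH π M) :
    ∃ e ∈ ℰ, ∃ n, ∃ hn : n ∈ ℋ ⊓ Subgroup.normalizer (P : Set G), π ⟨n, hn.1⟩ ∈ M ∧ g = e * n := by
  obtain ⟨hgH, hgM⟩ := mem_preH.1 hg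
  obtain ⟨e, he, n, hn, rfl⟩ := F.setting.exists_mul_normalizer hgH
  refine ⟨e, he, n, hn, ?_, rfl⟩
  rw [show (⟨e * n, hgH⟩ : ↥ℋ) = ⟨e, F.setting.E_le he⟩ * ⟨n, hn.1⟩ from rfl, map_mul, F.pi_E he,
    one_mul] at hgM
  exact hgM

theorem pt_le_U {S : Subgroup G} (hS : IsPt ℰ P W z S) : S ≤ 𝒰 := hS.1.le_U

theorem pt_le_E {S : Subgroup G} (hS : IsPt ℰ P W z S) : S ≤ ℰ := fun _ hx => HexFrame.U_le (hS.1.le_U hx)

/-- The elements over `M` map points to points, special ones to special ones. -/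
theorem pt_map {g : G} (hg : g ∈ preH π M) {S : Subgroup G} (hS : IsPt ℰ P W z S) :
    IsPt ℰ P W z (S.map (MulAut.conj g).toMonoidHom) ∧
      (S ∈ five → S.map (MulAut.conj g).toMonoidHom ∈ five) := by
  obtain ⟨e, he, n, hn, hM, rfl⟩ := F.exists_decomp hg
  have hpt := F.frame.isPt_map F.lifted F.fiveData hn hM hS
  rw [← map_conj_conj, map_conj_eq_iff.2 (F.E_le_normalizer hpt.1.z_mem (F.pt_le_E hpt) he)]
  exact ⟨hpt, F.frame.five_map F.lifted F.fiveData hn hM⟩

theorem five_map_iff {g : G} (hg : g ∈ preH π M) {S : Subgroup G} (hS : IsPt ℰ P W z S) :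
    S.map (MulAut.conj g).toMonoidHom ∈ five ↔ S ∈ five := by
  refine ⟨fun h => ?_, (F.pt_map hg hS).2⟩
  have h' := (F.pt_map (inv_mem hg) (F.pt_map hg hS).1).2 h
  rwa [map_conj_conj, inv_mul_cancel, map_conj_eq_iff.2 (one_mem _)] at h'

/-- The elements over `M` normalise `U`. -/
theorem conj_U {g : G} (hg : g ∈ preH π M) {u : G} (hu : u ∈ 𝒰) : g * u * g⁻¹ ∈ 𝒰 := by
  obtain ⟨e, he, n, hn, hM, rfl⟩ := F.exists_decomp hg
  rw [show e * n * u * (e * n)⁻¹ = e * (n * u * n⁻¹) * e⁻¹ by group]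
  exact F.hex.U_normal he (F.frame.conj_U_mem F.lifted hn hM hu)

/-- The nonidentity elements of an ordinary point are ordinary, hence conjugate to `z`. -/
theorem mem_ordU {S : Subgroup G} (hS : IsPt ℰ P W z S) (h5 : S ∉ five) {d : G} (hd : d ∈ S)
    (hdz : d ∉ Subgroup.zpowers z) : d ∈ ordU ℰ W z five :=
  ⟨hS.1.le_U hd, hdz, fun T hT hdT =>
    h5 (F.hex.pt_unique hS.1 (F.fiveData.isPt T hT).1 hS.2 (F.fiveData.isPt T hT).2 hd hdT hdz ▸ hT)⟩

theorem conj_of_mem_pt {S : Subgroup G} (hS : IsPt ℰ P W z S) (h5 : S ∉ five) {d : G} (hd : d ∈ S)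
    (hd1 : d ≠ 1) : IsConj z d := by
  by_cases hdz : d ∈ Subgroup.zpowers z
  · rcases F.setting.mem_zpowers_iff.1 hdz with rfl | rfl
    · exact absurd rfl hd1
    · exact IsConj.refl _
  · exact F.duad.data.conj_of_ord (F.mem_ordU hS h5 hd hdz)

theorem not_conj_of_five {S : Subgroup G} (hS : S ∈ five) {d : G} (hd : d ∈ S)
    (hdz : d ∉ Subgroup.zpowers z) : ¬ IsConj z d :=
  F.duad.data.not_conj_of_duad (Or.inl ⟨(F.fiveData.isPt S hS).1.le_U hd, hdz, S, hS, hd⟩)

/-- A special element lies in only one conjugate of `U` under `H`. -/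
theorem spec_unique {t h : G} (ht : t ∈ specU ℰ W z five) (hh : h ∈ ℋ)
    (hU : h⁻¹ * t * h ∈ 𝒰) : h ∈ preH π M := by
  have D := F.duad.data
  have hz : h⁻¹ * t * h ∉ Subgroup.zpowers z := fun hh' => ht.2.1 (by
    have hc : h * z * h⁻¹ = z := mul_inv_eq_iff_eq_mul.2 (F.setting.comm_z hh)
    rcases F.setting.mem_zpowers_iff.1 hh' with e | e
    · rw [show t = h * (h⁻¹ * t * h) * h⁻¹ by group, e, mul_one, mul_inv_cancel]; exact one_mem _
    · rw [show t = h * (h⁻¹ * t * h) * h⁻¹ by group, e, hc]; exact Subgroup.mem_zpowers z)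
  have hnc : ¬ IsConj z (h⁻¹ * t * h) := by
    have := isConj_conj_iff (z := z) (x := t) h⁻¹
    rw [inv_inv] at this
    exact fun c => D.not_conj_of_duad (Or.inl ht) (this.1 c)
  have hs : h⁻¹ * t * h ∈ specU ℰ W z five :=
    D.spec_of_mem_U (D.duad_of_not_conj (Subgroup.mem_sup_left hU) (fun e => hz (e ▸ one_mem _)) hnc) hU
  obtain ⟨m, hm, hme⟩ := F.hex.lconj_spec F.fiveData hs ht
  have hmM : m ∈ preH π M := by
    refine (sup_le (fun e he => ?_) (fun c hc => ?_) :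
      ℰ ⊔ preC P π (M ⊓ Inn ↥Spor.M22) ≤ preH π M) hm
    · exact mem_preH.2 ⟨F.setting.E_le he, by rw [F.pi_E he]; exact one_mem _⟩
    · obtain ⟨⟨h1, h2⟩, -⟩ := mem_preC.1 hc
      exact mem_preH.2 ⟨h1, h2.1⟩
  obtain ⟨hmH, hmπ⟩ := mem_preH.1 hmM
  have hc : h * m⁻¹ * t = t * (h * m⁻¹) := by
    calc h * m⁻¹ * t = h * m⁻¹ * (m * (h⁻¹ * t * h) * m⁻¹) := by rw [hme]
      _ = t * (h * m⁻¹) := by group
  have hhm : h * m⁻¹ ∈ ℋ := mul_mem hh (inv_mem hmH)
  have hpi := F.duad.pi_mem_of_normalizes hhm (F.duad.stab_spec ht hhm hc)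
  have := mul_mem (mem_preH.2 ⟨hhm, hpi⟩ : h * m⁻¹ ∈ preH π M) hmM
  rwa [inv_mul_cancel_right] at this

end PointFrame

end CfsgLib.JFour
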