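import Cfsg.Agent.Lib.JFour.PointBasic

/-!
# Groups of Janko-four type: elements of order five over the hexad normalizer
-/

set_option autoImplicit false
set_option linter.unusedSectionVars false

open Cfsg

namespace CfsgLib.JFour

namespace HexadData

variable {X : Type*} [Group X] [Finite X] {I M B : Subgroup X} (h : HexadData I M B)
include h

theorem card_M : Nat.card ↥M = 11520 := by
  have h1 := I.card_mul_index
  have h2 := M.card_mul_index
  rw [h.I_card, h.I_index] at h1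
  rw [h.M_index] at h2
  omega

theorem B_le_MI : B ≤ M ⊓ I := le_inf (h.M_eq ▸ Subgroup.le_normalizer) h.B_le

theorem card_MI : Nat.card ↥(M ⊓ I) = 5760 := by
  obtain ⟨f, -, hker, himg⟩ := h.hexad
  let g := f.comp (Subgroup.inclusion (inf_le_left : M ⊓ I ≤ M))
  have hr : g.range = alternatingGroup (Fin 6) := by
    rw [← himg]
    ext σ
    constructor
    · rintro ⟨x, rfl⟩
      exact ⟨_, x.2.2, rfl⟩
    · rintro ⟨x, hx, rfl⟩
      exact ⟨⟨x, x.2, hx⟩, rfl⟩
  have hk : g.ker = B.subgroupOf (M ⊓ I) := by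
    ext x
    show f (Subgroup.inclusion inf_le_left x) = 1 ↔ _
    rw [← MonoidHom.mem_ker, hker]
    exact Iff.rfl
  have hA : Nat.card ↥(alternatingGroup (Fin 6)) = 360 := by
    rw [nat_card_alternatingGroup, Nat.card_fin]; rfl
  have hc := Subgroup.card_eq_card_quotient_mul_card_subgroup g.ker
  rw [Nat.card_congr (QuotientGroup.quotientKerEquivRange g).toEquiv, hr, hA, hk,
    Nat.card_congr (Subgroup.subgroupOfEquivOfLe h.B_le_MI).toEquiv, h.B_card] at hc
  exact hc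

/-- An element of order five of `M` has no fixed point in `B`. -/
theorem fix_five {a : X} (ha : a ∈ M) (ho : orderOf a = 5) {b : X} (hb : b ∈ B) (hc : a * b = b * a) :
    b = 1 := by
  haveI : Fact (Nat.Prime 5) := ⟨by norm_num⟩
  have hinv : ∀ x ∈ B, a * x * a⁻¹ ∈ B := fun x hx =>
    (Subgroup.mem_normalizer_iff.1 (h.M_eq ▸ ha) x).1 hx
  have h5 : a ^ 5 = 1 := ho ▸ pow_orderOf_eq_one a
  have hm := card_inf_centralizer_modEq h5 hinv
  obtain ⟨k, hk, hkc⟩ := exists_card_inf_centralizer (n := 4) (X := B) (by rw [h.B_card]; rfl) a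
  rw [h.B_card, hkc] at hm
  have hk' : k = 0 ∨ k = 4 := by
    interval_cases k <;> first | omega | (norm_num [Nat.ModEq] at hm)
  rcases hk' with rfl | rfl
  · have : B ⊓ Subgroup.centralizer ({a} : Set X) = ⊥ := Subgroup.card_eq_one.1 hkc
    exact Subgroup.mem_bot.1 (this ▸ Subgroup.mem_inf.2 ⟨hb, Subgroup.mem_centralizer_singleton_iff.2 hc.symm⟩)
  · exfalso
    have hle : B ⊓ Subgroup.centralizer ({a} : Set X) = B :=
      Subgroup.eq_of_le_of_card_ge inf_le_left (by rw [hkc, h.B_card]; norm_num)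
    have haB : a ∈ B := h.cen_B (Subgroup.mem_centralizer_iff.2 fun x hx =>
      Subgroup.mem_centralizer_singleton_iff.1 (inf_eq_left.1 hle hx))
    have := Subgroup.orderOf_dvd_natCard _ haB
    rw [ho, h.B_card] at this
    norm_num at this

/-- An element of order five of `M` is self-centralizing in `M`. -/
theorem cent_five {a : X} (ha : a ∈ M) (ho : orderOf a = 5) :
    M ⊓ Subgroup.centralizer ({a} : Set X) = Subgroup.zpowers a := by
  classical
  obtain ⟨f, -, hker, -⟩ := h.hexad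
  haveI : Fact (Nat.Prime 5) := ⟨by norm_num⟩
  have hzc : Subgroup.zpowers a ≤ M ⊓ Subgroup.centralizer ({a} : Set X) :=
    Subgroup.zpowers_le.2 ⟨ha, Subgroup.mem_centralizer_singleton_iff.2 rfl⟩
  refine (Subgroup.eq_of_le_of_card_ge hzc ?_).symm
  rw [Nat.card_zpowers, ho]
  let g := f.comp (Subgroup.inclusion (inf_le_left : M ⊓ Subgroup.centralizer ({a} : Set X) ≤ M))
  have hinj : Function.Injective g := by
    rw [← MonoidHom.ker_eq_bot_iff, eq_bot_iff]
    intro x hx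
    have hxB : (x : X) ∈ B := by
      have : Subgroup.inclusion inf_le_left x ∈ f.ker := hx
      rw [hker] at this
      exact this
    exact Subtype.ext (h.fix_five ha ho hxB (Subgroup.mem_centralizer_singleton_iff.1 x.2.2).symm)
  have hfa : orderOf (f ⟨a, ha⟩) = 5 := by
    refine orderOf_eq_prime ?_ fun e => ?_
    · rw [← map_pow, show (⟨a, ha⟩ : ↥M) ^ 5 = 1 from Subtype.ext (ho ▸ pow_orderOf_eq_one a), map_one]
    · have h1 : g ⟨a, hzc (Subgroup.mem_zpowers a)⟩ = g 1 := by rw [map_one]; exact e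
      have h2 : a = 1 := congrArg Subtype.val (hinj h1)
      rw [h2, orderOf_one] at ho
      norm_num at ho
  have hle : g.range ≤ Subgroup.centralizer ({f ⟨a, ha⟩} : Set (Equiv.Perm (Fin 6))) := by
    rintro _ ⟨x, rfl⟩
    rw [Subgroup.mem_centralizer_singleton_iff]
    show f _ * f _ = f _ * f _
    rw [← map_mul, ← map_mul]
    exact congrArg f (Subtype.ext (Subgroup.mem_centralizer_singleton_iff.1 x.2.2))
  obtain ⟨n, hn⟩ := Equiv.Perm.cycleType_prime_order (hfa ▸ (by norm_num : Nat.Prime 5))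
  rw [hfa] at hn
  have hs := Equiv.Perm.sum_cycleType_le (f ⟨a, ha⟩)
  rw [hn, Multiset.sum_replicate, Fintype.card_fin, smul_eq_mul] at hs
  obtain rfl : n = 0 := by omega
  have hcard : Nat.card ↥(Subgroup.centralizer ({f ⟨a, ha⟩} : Set (Equiv.Perm (Fin 6)))) = 5 := by
    rw [Equiv.Perm.nat_card_centralizer, hn]
    simp
  rw [Nat.card_congr (MonoidHom.ofInjective hinj).toEquiv, ← hcard]
  exact Subgroup.card_le_of_le hle

end HexadData

namespace PointFrame

variable {G : Type*} [Group G] [Finite G] {z : G} {P N : Subgroup G}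

set_option quotPrecheck false in
local notation "ℋ" => Subgroup.centralizer (singleton z : Set G)
set_option quotPrecheck false in
local notation "ℰ" => twoCoreOfCentralizer z

variable {π : ↥(Subgroup.centralizer ({z} : Set G)) →* MulAut ↥Spor.M22}
  {M B : Subgroup (MulAut ↥Spor.M22)} {R W : Subgroup G} {five : Set (Subgroup G)} {A : Set G}
  {f : MulAut ↥Spor.M22 →* Equiv.Perm (Fin 22)} {Hx : Finset (Fin 22)}

set_option quotPrecheck false in
local notation "𝒰" => HexFrame.U (twoCoreOfCentralizer z) W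
set_option quotPrecheck false in
local notation "𝒱" => (HexFrame.U (twoCoreOfCentralizer z) W ⊔ W : Subgroup _)
set_option quotPrecheck false in
local notation "ℳ₀" => preC P π (M ⊓ Inn ↥Spor.M22)

variable (F : PointFrame (P := P) (N := N) π M B R W five A f Hx)
include F

theorem M0_le_preH : ℳ₀ ≤ preH π M := fun c hc => by
  obtain ⟨⟨h1, h2⟩, -⟩ := mem_preC.1 hc
  exact mem_preH.2 ⟨h1, h2.1⟩

theorem finite_aut : Finite (MulAut ↥Spor.M22) :=
  Nat.finite_of_card_ne_zero (by rw [card_mulAut_mTwentyTwo]; norm_num)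

theorem card_preH_M : Nat.card ↥(preH π M) = 283115520 := F.frame.card_preH_M

theorem not_sq_five : ¬ 25 ∣ Nat.card ↥ℋ := by rw [F.setting.card_H]; norm_num

theorem pi_order_five {q : G} (hq : q ∈ ℋ) (ho : orderOf q = 5) : orderOf (π ⟨q, hq⟩) = 5 := by
  haveI : Fact (Nat.Prime 5) := ⟨by norm_num⟩
  refine orderOf_eq_prime ?_ fun e => ?_
  · rw [← map_pow, show (⟨q, hq⟩ : ↥ℋ) ^ 5 = 1 from Subtype.ext (ho ▸ pow_orderOf_eq_one q), map_one]
  · have h1 := Subgroup.orderOf_dvd_natCard _ ((F.setting.pi_eq_one_iff F.frame.ker_eq _).1 e)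
    rw [ho, F.setting.cardN, F.setting.cardE] at h1
    norm_num at h1

theorem exists_five_M0 : ∃ q ∈ ℳ₀, orderOf q = 5 := by
  haveI : Fact (Nat.Prime 5) := ⟨by norm_num⟩
  haveI := F.finite_aut
  let ψ : ↥ℳ₀ →* MulAut ↥Spor.M22 := π.comp (Subgroup.inclusion (preC_le.trans inf_le_left))
  have hle : M ⊓ Inn ↥Spor.M22 ≤ ψ.range := by
    rintro a ha
    obtain ⟨c, hc⟩ := F.setting.exists_C_lift F.frame.surj F.frame.ker_eq ha.2
    exact ⟨⟨c, mem_preC.2 ⟨⟨(Subgroup.mem_inf.1 c.2).1, by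
      rw [show (⟨(c : G), (Subgroup.mem_inf.1 c.2).1⟩ : ↥ℋ) = Subgroup.inclusion inf_le_left c from rfl, hc]
      exact ha⟩, (Subgroup.mem_inf.1 c.2).2⟩⟩, hc⟩
  have h5 : 5 ∣ Nat.card ↥ℳ₀ := by
    refine dvd_trans ?_ (Subgroup.card_range_dvd ψ)
    refine dvd_trans ?_ (Subgroup.card_dvd_of_le hle)
    rw [F.frame.hexad.card_MI]; norm_num
  obtain ⟨⟨q, hq⟩, ho⟩ := exists_prime_orderOf_dvd_card' (G := ↥ℳ₀) 5 h5
  exact ⟨q, hq, by rw [← Subgroup.orderOf_coe] at ho; exact ho⟩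

/-- The elements of order five of a subgroup with Sylow order five are conjugate up to powers. -/
theorem exists_conj_five {X : Subgroup G} (hX : X ≤ ℋ) {q q' : G} (hq : q ∈ X) (hq' : q' ∈ X)
    (ho : orderOf q = 5) (ho' : orderOf q' = 5) :
    ∃ m ∈ X, m * q * m⁻¹ ∈ Subgroup.zpowers q' := by
  haveI : Fact (Nat.Prime 5) := ⟨by norm_num⟩
  have hsyl : ∀ x : G, ∀ hx : x ∈ X, orderOf x = 5 →
      ∃ T : Sylow 5 ↥X, (T : Subgroup ↥X) = Subgroup.zpowers (⟨x, hx⟩ : ↥X) := fun x hx hox => by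
    obtain ⟨T, hT⟩ := (IsPGroup.of_card (n := 1) (show Nat.card
      ↥(Subgroup.zpowers (⟨x, hx⟩ : ↥X)) = 5 ^ 1 by
        rw [Nat.card_zpowers, Subgroup.orderOf_mk, hox, pow_one])).exists_le_sylow
    refine ⟨T, (Subgroup.eq_of_le_of_card_ge hT ?_).symm⟩
    rw [Nat.card_zpowers, Subgroup.orderOf_mk, hox]
    obtain ⟨n, hn⟩ := IsPGroup.iff_card.1 T.isPGroup'
    have hd : Nat.card ↥(T : Subgroup ↥X) ∣ Nat.card ↥ℋ :=
      (Subgroup.card_subgroup_dvd_card _).trans (Subgroup.card_dvd_of_le hX)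
    rw [hn] at hd ⊢
    rcases Nat.lt_or_ge n 2 with hn2 | hn2
    · interval_cases n <;> norm_num
    · exact absurd ((pow_dvd_pow 5 hn2).trans hd) (by simpa using F.not_sq_five)
  obtain ⟨T, hT⟩ := hsyl q hq ho
  obtain ⟨T', hT'⟩ := hsyl q' hq' ho'
  obtain ⟨m, hm⟩ := MulAction.exists_smul_eq ↥X T T'
  refine ⟨m, m.2, ?_⟩
  have h1 : m * ⟨q, hq⟩ * m⁻¹ ∈ (T' : Subgroup ↥X) := by
    rw [← hm, Sylow.coe_subgroup_smul]
    exact Subgroup.smul_mem_pointwise_smul _ (MulAut.conj m) _ (hT ▸ Subgroup.mem_zpowers _)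
  rw [hT'] at h1
  obtain ⟨i, hi⟩ := h1
  exact ⟨i, congrArg Subtype.val hi⟩

/-- An element of order five of `M₀` fixes exactly one point of `U`, a special one. -/
theorem fix_U_M0 {q : G} (hq : q ∈ ℳ₀) (ho : orderOf q = 5) :
    Nat.card ↥(𝒰 ⊓ Subgroup.centralizer ({q} : Set G)) = 8 ∧
      ∃ S ∈ five, 𝒰 ⊓ Subgroup.centralizer ({q} : Set G) = S := by
  classical
  haveI : Fact (Nat.Prime 5) := ⟨by norm_num⟩
  have hqpre := F.M0_le_preH hq
  obtain ⟨hqH, hqM⟩ := mem_preH.1 hqpre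
  have h5 : q ^ 5 = 1 := ho ▸ pow_orderOf_eq_one q
  have hU := F.hex.card_U
  have hm := card_inf_centralizer_modEq h5 fun x hx => F.conj_U hqpre hx
  obtain ⟨k, hk, hkc⟩ := exists_card_inf_centralizer (X := 𝒰) hU q
  rw [hU, hkc] at hm
  have hk' : k = 3 ∨ k = 7 := by
    interval_cases k <;> first | omega | (norm_num [Nat.ModEq] at hm)
  -- a special element is fixed
  obtain ⟨d, hd, hdq⟩ : ∃ d ∈ specU ℰ W z five, q * d * q⁻¹ = d := by
    have h := Seven.ncard_modEq (specU ℰ W z five) h5 fun d hd => by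
      obtain ⟨hdU, hdz, S, hS, hdS⟩ := hd
      refine ⟨F.conj_U hqpre hdU, fun hh => hdz ?_, _, (F.pt_map hqpre (F.fiveData.isPt S hS)).2 hS,
        ⟨d, hdS, rfl⟩⟩
      rcases F.setting.mem_zpowers_iff.1 hh with e | e
      · rw [conj_eq_one_iff.1 e]; exact one_mem _
      · rw [show d = q⁻¹ * (q * d * q⁻¹) * q by group, e, mul_assoc, ← F.setting.comm_z hqH,
          inv_mul_cancel_left]
        exact Subgroup.mem_zpowers z
    rw [F.hex.card_specU F.fiveData] at h
    by_contra hcon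
    push Not at hcon
    haveI : IsEmpty {a : G // a ∈ specU ℰ W z five ∧ q * a * q⁻¹ = a} := ⟨fun a => hcon a.1 a.2.1 a.2.2⟩
    rw [Nat.card_of_isEmpty] at h
    norm_num [Nat.ModEq] at h
  obtain ⟨hdU, hdz, S, hS, hdS⟩ := hd
  have hSp := F.fiveData.isPt S hS
  have hqd : q * d = d * q := mul_inv_eq_iff_eq_mul.1 hdq
  have hqz : q * z = z * q := F.setting.comm_z hqH
  obtain ⟨p, hp, hp1⟩ := F.hex.exists_gen
  have hSle : S ≤ 𝒰 ⊓ Subgroup.centralizer ({q} : Set G) := by
    intro x hx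
    refine ⟨hSp.1.le_U hx, Subgroup.mem_centralizer_singleton_iff.2 ?_⟩
    by_cases hxz : x ∈ Subgroup.zpowers z
    · obtain ⟨i, rfl⟩ := hxz
      exact ((show Commute z q from hqz.symm).zpow_left i).eq
    have hpq : ∀ j : ℕ, Commute (p ^ j) q := fun j => (F.hex.M0_P q hq _ (pow_mem hp j)).symm
    have hk : ∀ j : ℕ, Commute (p ^ j * d * (p ^ j)⁻¹) q := fun j =>
      ((hpq j).mul_left hqd.symm).mul_left (hpq j).inv_left
    obtain ⟨j, e | e⟩ := F.hex.pt_elements hSp hp hp1 hdS hdz hx hxz <;> rw [e]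
    · exact (hk j).eq
    · exact (Commute.mul_left (show Commute z q from hqz.symm) (hk j)).eq
  rcases hk' with rfl | rfl
  · exact ⟨by rw [hkc]; norm_num,
      S, hS, (Subgroup.eq_of_le_of_card_ge hSle (by rw [hkc, hSp.2]; norm_num)).symm⟩
  -- `q` cannot centralise `U`
  exfalso
  have hall : ∀ u ∈ 𝒰, u * q = q * u := fun u hu => Subgroup.mem_centralizer_singleton_iff.1
    (inf_eq_left.1 (Subgroup.eq_of_le_of_card_ge (inf_le_left :
      𝒰 ⊓ Subgroup.centralizer ({q} : Set G) ≤ 𝒰) (by rw [hkc, hU])) hu)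
  have hWc : ∀ w ∈ W, q * w * q⁻¹ = w := by
    intro w hw
    by_cases hwz : w ∈ Subgroup.zpowers z
    · obtain ⟨i, rfl⟩ := hwz
      exact mul_inv_eq_iff_eq_mul.2 ((show Commute q z from hqz).zpow_right i).eq
    have hw' := F.hex.M0_W q hq w hw
    have hwz' : q * w * q⁻¹ ∉ Subgroup.zpowers z := F.hex.conj_notMem_Z hq hwz
    have hL : Line ℰ z (q * w * q⁻¹) = Line ℰ z w := by
      rw [← F.hex.map_Line hq hw]
      ext x
      rw [mem_map_conj']
      constructor
      · intro hx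
        have hc := hall _ (F.hex.Line_le_U hw hx)
        have : x = q⁻¹ * x * q := by
          calc x = q * (q⁻¹ * x * q) * q⁻¹ := by group
            _ = q⁻¹ * x * q := by rw [← hc]; group
        rwa [this]
      · intro hx
        rwa [mul_assoc, hall x (F.hex.Line_le_U hw hx), inv_mul_cancel_left]
    rcases F.setting.mem_zpowers_iff.1
      (F.hex.Line_inj F.duad.data.hE hw' hwz' hw hwz hL) with e | e
    · rw [eq_inv_of_mul_eq_one_left e, inv_eq_of_mul_eq_one_right (F.hex.W_sq w hw)]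
    · exfalso
      have h1 : q * w * q⁻¹ = z * w := by
        rw [← e, mul_assoc (q * w * q⁻¹), F.hex.W_sq w hw, mul_one]
      have hstep : ∀ n : ℕ, q ^ n * w * (q ^ n)⁻¹ = z ^ n * w := by
        intro n
        induction n with
        | zero => simp
        | succ n ih =>
          have hqzn : q * z ^ n * q⁻¹ = z ^ n :=
            mul_inv_eq_iff_eq_mul.2 ((show Commute q z from hqz).pow_right n).eq
          calc q ^ (n + 1) * w * (q ^ (n + 1))⁻¹ = (q * (q ^ n * w * (q ^ n)⁻¹) * q⁻¹) := by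
                rw [pow_succ']; group
            _ = (q * z ^ n * q⁻¹) * (q * w * q⁻¹) := by rw [ih]; group
            _ = z ^ (n + 1) * w := by rw [hqzn, h1, ← mul_assoc, ← pow_succ]
      have h6 := hstep 5
      rw [h5, one_mul, inv_one, mul_one,
        show z ^ 5 = z by rw [show (5 : ℕ) = 2 * 2 + 1 from rfl, pow_succ, pow_mul,
          show z ^ 2 = 1 from (pow_two z).trans F.setting.z_mul_self, one_pow, one_mul]] at h6
      exact F.setting.z_ne_one (right_eq_mul.1 h6)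
  haveI := F.finite_aut
  have hcen : π ⟨q, hqH⟩ ∈ B := F.frame.hexad.cen_B (Subgroup.mem_centralizer_iff.2 fun b hb => by
    obtain ⟨w, hw, hwW, rfl⟩ := F.lifted.lift b hb
    rw [← map_mul, ← map_mul]
    exact congrArg π (Subtype.ext (mul_inv_eq_iff_eq_mul.1 (hWc w hwW)).symm))
  have := Subgroup.orderOf_dvd_natCard _ hcen
  rw [F.pi_order_five hqH ho, F.frame.hexad.B_card] at this
  norm_num at this

theorem card_E_fix_M0 {q : G} (hq : q ∈ ℳ₀) (ho : orderOf q = 5) :
    Nat.card ↥(ℰ ⊓ Subgroup.centralizer ({q} : Set G)) = 32 := by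
  classical
  haveI : Fact (Nat.Prime 5) := ⟨by norm_num⟩
  have hqpre := F.M0_le_preH hq
  obtain ⟨hqH, -⟩ := mem_preH.1 hqpre
  have h5 : q ^ 5 = 1 := ho ▸ pow_orderOf_eq_one q
  obtain ⟨h8, S, hS, hUS⟩ := F.fix_U_M0 hq ho
  set D := ℰ ⊓ Subgroup.centralizer ({q} : Set G) with hD
  have hm := card_inf_centralizer_modEq h5 fun x hx => F.setting.conj_mem_E hqH hx
  obtain ⟨k, hk, hkc⟩ := exists_card_inf_centralizer F.setting.cardE q
  rw [F.setting.cardE, hkc] at hm
  have hDc : Nat.card ↥D = 2 ^ k := hkc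
  -- `u ↦ u (q u q⁻¹)` has image meeting `S` trivially, and `D` commutes with the image
  let φ : ↥𝒰 →* ↥𝒰 :=
    { toFun := fun u => u * ⟨q * u * q⁻¹, F.conj_U hqpre u.2⟩
      map_one' := Subtype.ext (by simp)
      map_mul' := fun a b => Subtype.ext (by
        have h := F.hex.U_comm_U b.2 (F.conj_U hqpre a.2)
        show (a : G) * b * (q * ((a : G) * b) * q⁻¹) = a * (q * a * q⁻¹) * (b * (q * b * q⁻¹))
        calc (a : G) * b * (q * ((a : G) * b) * q⁻¹) = a * ((b : G) * (q * a * q⁻¹)) * (q * b * q⁻¹) := by group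
          _ = _ := by rw [h]; group) }
  have hfix : ∀ u : ↥𝒰, φ u = 1 ↔ (u : G) ∈ 𝒰 ⊓ Subgroup.centralizer ({q} : Set G) := by
    intro u
    rw [Subgroup.mem_inf, and_iff_right u.2, Subgroup.mem_centralizer_singleton_iff, ← Subtype.coe_inj]
    show (u : G) * (q * u * q⁻¹) = 1 ↔ _
    rw [mul_eq_one_iff_inv_eq, F.hex.U_inv' u.2, eq_mul_inv_iff_mul_eq]
  have hker : φ.ker = (𝒰 ⊓ Subgroup.centralizer ({q} : Set G)).subgroupOf 𝒰 := by
    ext u; exact hfix u
  have hrange : Nat.card ↥φ.range = 16 := by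
    have h := Subgroup.card_eq_card_quotient_mul_card_subgroup φ.ker
    rw [Nat.card_congr (QuotientGroup.quotientKerEquivRange φ).toEquiv, F.hex.card_U, hker,
      Nat.card_congr (Subgroup.subgroupOfEquivOfLe inf_le_left).toEquiv, h8] at h
    omega
  have hinter : ∀ r ∈ φ.range, (r : G) ∈ S → r = 1 := by
    rintro _ ⟨u, rfl⟩ hr
    have hu : φ (φ u) = 1 := (hfix _).2 (hUS ▸ hr)
    have hu2 : q * (q * u * q⁻¹) * q⁻¹ = (u : G) := by
      have h := (Subgroup.mem_centralizer_singleton_iff.1 (hUS ▸ hr :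
        ((φ u : ↥𝒰) : G) ∈ 𝒰 ⊓ Subgroup.centralizer ({q} : Set G)).2)
      have hw : q * (q * u * q⁻¹) * q⁻¹ ∈ 𝒰 := F.conj_U hqpre (F.conj_U hqpre u.2)
      have h' : q * ((u : G) * (q * u * q⁻¹)) * q⁻¹ = (u : G) * (q * u * q⁻¹) :=
        mul_inv_eq_iff_eq_mul.2 h.symm
      rw [show q * ((u : G) * (q * u * q⁻¹)) * q⁻¹ = (q * u * q⁻¹) * (q * (q * u * q⁻¹) * q⁻¹) by group,
        F.hex.U_comm_U u.2 (F.conj_U hqpre u.2)] at h'
      exact mul_left_cancel h'
    refine Subtype.ext ?_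
    have h4 : q ^ 5 * (u : G) * (q ^ 5)⁻¹ =
        q * ((q * (q * (q * (q * u * q⁻¹) * q⁻¹) * q⁻¹) * q⁻¹)) * q⁻¹ := by
      simp [pow_succ, mul_assoc]
    rw [h5, one_mul, inv_one, mul_one, hu2, hu2] at h4
    show (u : G) * (q * u * q⁻¹) = 1
    rw [← h4, F.hex.U_sq u.2]
  -- so `U` is the product of the image and the fixed point
  have hprod : ∀ u ∈ 𝒰, ∃ r ∈ φ.range, ∃ s ∈ S, u = r * s := by
    let Φ : ↥φ.range × ↥S → ↥𝒰 := fun x => (x.1 : ↥𝒰) * ⟨x.2, (F.fiveData.isPt S hS).1.le_U x.2.2⟩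
    have hΦ : Function.Injective Φ := by
      rintro ⟨r, s⟩ ⟨r', s'⟩ e
      have e' : ((r : ↥𝒰) : G) * s = ((r' : ↥𝒰) : G) * s' := congrArg Subtype.val e
      have h1 : ((r'⁻¹ * r : ↥φ.range) : ↥𝒰) = 1 := hinter _ (r'⁻¹ * r).2 (by
        rw [show (((r'⁻¹ * r : ↥φ.range) : ↥𝒰) : G) = (s' : G) * (s : G)⁻¹ by
          push_cast
          rw [inv_mul_eq_iff_eq_mul, ← mul_assoc, ← e', mul_inv_cancel_right]]
        exact mul_mem s'.2 (inv_mem s.2))
      have h2 : r' = r := inv_mul_eq_one.1 (Subtype.ext h1)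
      subst h2
      exact Prod.ext rfl (Subtype.ext (mul_left_cancel e'))
    have hb := (Nat.bijective_iff_injective_and_card Φ).2 ⟨hΦ, by
      rw [Nat.card_prod, hrange, (F.fiveData.isPt S hS).2, F.hex.card_U]; norm_num⟩
    intro u hu
    obtain ⟨⟨r, s⟩, e⟩ := hb.2 ⟨u, hu⟩
    exact ⟨r, r.2, s, s.2, (congrArg Subtype.val e).symm⟩
  have hsgn : ∀ e ∈ D, ∀ r ∈ φ.range, (r : G) * e = e * r := by
    rintro e he _ ⟨u, rfl⟩
    obtain ⟨heE, heq⟩ := Subgroup.mem_inf.1 he
    rw [Subgroup.mem_centralizer_singleton_iff] at heq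
    have hzq : q * z * q⁻¹ = z := mul_inv_eq_iff_eq_mul.2 (F.setting.comm_z hqH)
    have heq' : q * e * q⁻¹ = e := mul_inv_eq_iff_eq_mul.2 heq.symm
    have hv : q * u * q⁻¹ ∈ ℰ := F.setting.conj_mem_E hqH (HexFrame.U_le u.2)
    have hzu : z * (u : G) = u * z := (F.hex.z_comm_of_U u.2).symm
    show (u : G) * (q * u * q⁻¹) * e = e * ((u : G) * (q * u * q⁻¹))
    refine (mul_inv_eq_iff_eq_mul.1 ?_).symm
    rcases F.setting.conj_eq heE (HexFrame.U_le u.2) with c | c
    · have c' : e * (q * u * q⁻¹) * e⁻¹ = q * u * q⁻¹ := by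
        conv_lhs => rw [← heq']
        rw [show q * e * q⁻¹ * (q * u * q⁻¹) * (q * e * q⁻¹)⁻¹ = q * (e * u * e⁻¹) * q⁻¹ by group, c]
      rw [show e * ((u : G) * (q * u * q⁻¹)) * e⁻¹ = (e * u * e⁻¹) * (e * (q * u * q⁻¹) * e⁻¹) by group,
        c, c']
    · have c' : e * (q * u * q⁻¹) * e⁻¹ = z * (q * u * q⁻¹) := by
        conv_lhs => rw [← heq']
        rw [show q * e * q⁻¹ * (q * u * q⁻¹) * (q * e * q⁻¹)⁻¹ = q * (e * u * e⁻¹) * q⁻¹ by group, c,
          show q * (z * (u : G)) * q⁻¹ = (q * z * q⁻¹) * (q * u * q⁻¹) by group, hzq]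
      rw [show e * ((u : G) * (q * u * q⁻¹)) * e⁻¹ = (e * u * e⁻¹) * (e * (q * u * q⁻¹) * e⁻¹) by group,
        c, c', show z * (u : G) * (z * (q * u * q⁻¹)) = z * ((u : G) * z) * (q * u * q⁻¹) by group, ← hzu,
        ← mul_assoc z z, F.setting.z_mul_self, one_mul]
  -- two independent elements of the fixed point
  have hSp := F.fiveData.isPt S hS
  obtain ⟨d, hd, hdz⟩ : ∃ d ∈ S, d ∉ Subgroup.zpowers z := SetLike.not_le_iff_exists.1 fun hle => by
    have := Subgroup.card_le_of_le hle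
    rw [hSp.2, Nat.card_zpowers, F.setting.orderZ] at this
    omega
  obtain ⟨p, hp, hp1⟩ := F.hex.exists_gen
  have hd' : p * d * p⁻¹ ∈ S := hSp.1.inv p hp d hd
  have h1 := F.duad.card_le_two_mul (K := D) inf_le_left (F.pt_le_E hSp hd)
  have h2 := F.duad.card_le_two_mul (K := D ⊓ Subgroup.centralizer ({d} : Set G))
    (inf_le_left.trans inf_le_left) (F.pt_le_E hSp hd')
  have hle : D ⊓ Subgroup.centralizer ({d} : Set G) ⊓ Subgroup.centralizer ({p * d * p⁻¹} : Set G) ≤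
      𝒰 ⊓ Subgroup.centralizer ({q} : Set G) := by
    rintro e ⟨⟨he, hed⟩, hed'⟩
    refine ⟨F.hex.cent_U he.1 fun u hu => ?_, he.2⟩
    obtain ⟨r, hr, s, hs, rfl⟩ := hprod u hu
    have hse : Commute e s := by
      by_cases hsz : s ∈ Subgroup.zpowers z
      · obtain ⟨i, rfl⟩ := hsz
        exact (show Commute e z from F.hex.E_z he.1).zpow_right i
      have hec : Commute e (d * (p * d * p⁻¹)) :=
        (show Commute e d from Subgroup.mem_centralizer_singleton_iff.1 hed).mul_right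
          (Subgroup.mem_centralizer_singleton_iff.1 hed')
      have hez : Commute e z := F.hex.E_z he.1
      have hσ := F.hex.sigma_conj hp hp1 (hSp.1.le_U hd)
      have h3 : Commute e (p * p * d * (p * p)⁻¹) := by
        have h4 : Commute e (d * (p * d * p⁻¹) * (p * p * d * (p * p)⁻¹)) := by
          obtain ⟨i, hi⟩ := hσ
          rw [← hi]; exact hez.zpow_right i
        have := hec.inv_right.mul_right h4
        rwa [inv_mul_cancel_left] at this
      have hp3 : p ^ 3 = 1 :=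
        orderOf_dvd_iff_pow_eq_one.1 (F.hex.card_P ▸ Subgroup.orderOf_dvd_natCard _ hp)
      have hk : ∀ j : ℕ, Commute e (p ^ j * d * (p ^ j)⁻¹) := by
        intro j
        have hj : p ^ j = p ^ (j % 3) := by
          conv_lhs => rw [← Nat.div_add_mod j 3, pow_add, pow_mul, hp3, one_pow, one_mul]
        rw [hj]
        rcases (show j % 3 = 0 ∨ j % 3 = 1 ∨ j % 3 = 2 by omega) with e3 | e3 | e3 <;> rw [e3]
        · simpa [Commute, SemiconjBy] using Subgroup.mem_centralizer_singleton_iff.1 hed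
        · rw [pow_one]; exact Subgroup.mem_centralizer_singleton_iff.1 hed'
        · rw [pow_two]; exact h3
      obtain ⟨j, e4 | e4⟩ := F.hex.pt_elements hSp hp hp1 hd hdz hs hsz <;> rw [e4]
      · exact hk j
      · exact hez.mul_right (hk j)
    exact ((show Commute e (r : G) from (hsgn e he r hr).symm).mul_right hse).eq
  have h3 := Subgroup.card_le_of_le hle
  rw [h8] at h3
  have hS' : Nat.card ↥(𝒰 ⊓ Subgroup.centralizer ({q} : Set G)) ≤ Nat.card ↥D :=
    Subgroup.card_le_of_le (inf_le_inf_right _ HexFrame.U_le)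
  rw [h8] at hS'
  have hb : Nat.card ↥D ≤ 32 := by omega
  rw [hDc] at hb hS' ⊢
  interval_cases k <;> simp_all +decide [Nat.ModEq]

/-- An element of order five of `H` has 32 fixed elements in `E`. -/
theorem card_E_fix {q : G} (hq : q ∈ ℋ) (ho : orderOf q = 5) :
    Nat.card ↥(ℰ ⊓ Subgroup.centralizer ({q} : Set G)) = 32 := by
  obtain ⟨q₀, hq₀, ho₀⟩ := F.exists_five_M0
  obtain ⟨hq₀H, -⟩ := mem_preH.1 (F.M0_le_preH hq₀)
  obtain ⟨h, hh, hhq⟩ := F.exists_conj_five le_rfl hq hq₀H ho ho₀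
  have ho' : orderOf (h * q * h⁻¹) = 5 := by
    rw [← ho]
    exact MulEquiv.orderOf_eq (MulAut.conj h) q
  rw [← F.card_E_fix_M0 (Subgroup.zpowers_le.2 hq₀ hhq) ho']
  refine Nat.card_congr
    { toFun := fun e => ⟨h * e * h⁻¹, F.setting.conj_mem_E hh e.2.1,
        Subgroup.mem_centralizer_singleton_iff.2 (by
          rw [show h * (e : G) * h⁻¹ * (h * q * h⁻¹) = h * ((e : G) * q) * h⁻¹ by group,
            Subgroup.mem_centralizer_singleton_iff.1 e.2.2]; group)⟩
      invFun := fun e => ⟨h⁻¹ * e * h, F.setting.conj_mem_E' hh e.2.1,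
        Subgroup.mem_centralizer_singleton_iff.2 (by
          rw [show h⁻¹ * (e : G) * h * q = h⁻¹ * ((e : G) * (h * q * h⁻¹)) * h by group,
            Subgroup.mem_centralizer_singleton_iff.1 e.2.2]; group)⟩
      left_inv := fun e => Subtype.ext (by show h⁻¹ * (h * e.1 * h⁻¹) * h = e.1; group)
      right_inv := fun e => Subtype.ext (by show h * (h⁻¹ * e.1 * h) * h⁻¹ = e.1; group) }

end PointFrame

end CfsgLib.JFour
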