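import Cfsg.Agent.Lib.JFour.SplitOpp
import Cfsg.Agent.Lib.JFour.DuadPure

/-!
# Groups of Janko-four type: lifting a Sylow 2-subgroup of the stabiliser of two hexads

Over an involution of `M22` exactly one involution of `C_H(P)` is not conjugate to `z`; so the lifts of
three generators of a Sylow 2-subgroup of `S₆` generate a complement of `⟨z⟩` once the outer lift is an
involution, and it is one when its class modulo `V` is met by involutions.
-/

set_option autoImplicit false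
set_option linter.unusedSectionVars false
set_option linter.style.haveILetI false

open Cfsg

namespace CfsgLib.JFour

namespace DuadData

variable {G : Type*} [Group G] [Finite G] {E R P W M0 : Subgroup G} {z : G}
  {five : Set (Subgroup G)} {A : Set G} (D : DuadData E R P W M0 z five A)
include D

/-- Exactly one of `w` and `z w` is conjugate to `z`. -/
theorem conj_W_iff {w : G} (hw : w ∈ W) (hwz : w ∉ Subgroup.zpowers z) :
    IsConj z w ↔ ¬ IsConj z (z * w) := by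
  have hwU : w ∉ HexFrame.U E W := fun h => hwz (D.hT.mem_Z.2 (D.hT.W_inf_E hw h.1))
  have hA : ∀ a ∈ W, a ∉ Subgroup.zpowers z → a ∈ A → a ∈ Duads E W z five A := fun a ha _ haA =>
    Or.inr ⟨a, haA, 1, one_mem _, by simp [cmm]⟩
  have hzw : z * w ∈ W := mul_mem D.hT.z_W hw
  have hzwz : z * w ∉ Subgroup.zpowers z := D.hT.z_mul_notMem hwz
  have hV : ∀ a ∈ W, a ∈ HexFrame.U E W ⊔ W := fun a ha => Subgroup.mem_sup_right ha
  have h1 : ∀ a ∈ W, a ∉ Subgroup.zpowers z → (IsConj z a ↔ a ∉ Duads E W z five A) := fun a ha haz =>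
    D.iff_conj a (hV a ha) fun e => haz (e ▸ one_mem _)
  rw [h1 w hw hwz, h1 _ hzw hzwz, not_not]
  constructor
  · intro h
    by_cases hwA : w ∈ A
    · exact absurd (hA w hw hwz hwA) h
    · refine hA _ hzw hzwz ?_
      by_contra hh
      exact hwA ((D.sect.one w hw hwz).2 hh)
  · intro h h'
    exact hwU ((D.z_mul_duad_iff h').1 h)

end DuadData

variable {G : Type*} [Group G] {z : G} {P N : Subgroup G}

namespace DuadFrame

set_option quotPrecheck false in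
local notation "ℋ" => Subgroup.centralizer (singleton z : Set G)
set_option quotPrecheck false in
local notation "ℰ" => twoCoreOfCentralizer z
set_option quotPrecheck false in
local notation "𝒩" => (Subgroup.centralizer (singleton z : Set G) ⊓ Subgroup.normalizer (P : Set G))
set_option quotPrecheck false in
local notation "𝒞" => (Subgroup.centralizer (singleton z : Set G) ⊓ Subgroup.centralizer (P : Set G))

variable [Finite G] {π : ↥(Subgroup.centralizer ({z} : Set G)) →* MulAut ↥Spor.M22}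
  {M B : Subgroup (MulAut ↥Spor.M22)} {R W : Subgroup G} {five : Set (Subgroup G)} {A : Set G}
  (D : DuadFrame (P := P) (N := N) π M B R W five A) (L : Lifted P π M B R W)
include D L

/-- A 2-element of `C_H(P)` over an involution is an involution conjugate into `W`. -/
theorem exists_conj_W {x : G} (hx : x ∈ 𝒞) (h32 : x ^ 32 = 1)
    (h2 : orderOf (π ⟨x, hx.1⟩) = 2) :
    ∃ h ∈ 𝒞, h * x * h⁻¹ ∈ W ∧ h * x * h⁻¹ ∉ Subgroup.zpowers z := by
  have F := D.frame
  obtain ⟨c, hcI, hcB⟩ := F.hexad.conj_inv _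
    (F.setting.pi_mem_inn_of_mem_C F.surj F.ker_eq (h := ⟨x, hx.1⟩) hx.2) h2
  obtain ⟨⟨h, hh⟩, hhc⟩ := F.setting.exists_C_lift F.surj F.ker_eq hcI
  have e : π ⟨h * x * h⁻¹, mul_mem (mul_mem hh.1 hx.1) (inv_mem hh.1)⟩ = c * π ⟨x, hx.1⟩ * c⁻¹ := by
    rw [F.pi_conj hh.1 hx.1, show π ⟨h, hh.1⟩ = c from hhc]
  refine ⟨h, hh, (L.mem_W _).2 ⟨mem_preC.2 ⟨⟨mul_mem (mul_mem hh.1 hx.1) (inv_mem hh.1), e ▸ hcB⟩,
    mul_mem (mul_mem hh.2 hx.2) (inv_mem hh.2)⟩, by rw [conj_pow, h32, mul_one, mul_inv_cancel]⟩, ?_⟩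
  intro hz
  have h1 : π ⟨h * x * h⁻¹, mul_mem (mul_mem hh.1 hx.1) (inv_mem hh.1)⟩ = 1 :=
    (F.setting.pi_eq_one_iff F.ker_eq _).2 ((Subgroup.zpowers_le.2 (F.setting.E_le_N F.setting.z_mem_E)) hz)
  rw [e, conj_eq_one_iff] at h1
  rw [h1, orderOf_one] at h2
  omega

/-- Every 2-element of `C_H(P)` over an element of order at most 2 squares to `1`. -/
theorem mul_self_eq_one {x : G} (hx : x ∈ 𝒞) (h32 : x ^ 32 = 1)
    (h2 : π ⟨x, hx.1⟩ * π ⟨x, hx.1⟩ = 1) : x * x = 1 := by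
  by_cases h1 : π ⟨x, hx.1⟩ = 1
  · rcases D.frame.two_zP (D.frame.setting.C_le_normalizer_P hx) h1 h32 with e | e <;> rw [e]
    · exact one_mul 1
    · exact D.frame.setting.z_mul_self
  obtain ⟨h, hh, hW, -⟩ := D.exists_conj_W L hx h32
    (orderOf_eq_prime (by rw [pow_two]; exact h2) h1)
  have := L.hex.W_sq _ hW
  rwa [show h * x * h⁻¹ * (h * x * h⁻¹) = h * (x * x) * h⁻¹ by group, conj_eq_one_iff] at this

/-- For an involution of `C_H(P)` over an involution, exactly one of `x`, `z x` is conjugate to `z`. -/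
theorem conj_iff {x : G} (hx : x ∈ 𝒞) (hxx : x * x = 1) (h2 : orderOf (π ⟨x, hx.1⟩) = 2) :
    IsConj z x ↔ ¬ IsConj z (z * x) := by
  have h32 : x ^ 32 = 1 := by rw [show (32 : ℕ) = 2 * 16 by norm_num, pow_mul, pow_two, hxx, one_pow]
  obtain ⟨h, hh, hW, hWz⟩ := D.exists_conj_W L hx h32 h2
  have hz : h * z * h⁻¹ = z := mul_inv_eq_iff_eq_mul.2 (D.frame.setting.comm_z hh.1)
  have e := D.data.conj_W_iff hW hWz
  rw [show z * (h * x * h⁻¹) = h * (z * x) * h⁻¹ by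
    conv_lhs => rw [← hz]
    group, D.data.conj_z_iff, D.data.conj_z_iff] at e
  exact e

/-- The lift of an involution not conjugate to `z`. -/
theorem exists_lift {a : MulAut ↥Spor.M22} (ha : a ∈ Inn ↥Spor.M22) (ha2 : orderOf a = 2) :
    ∃ x, ∃ hx : x ∈ 𝒞, π ⟨x, hx.1⟩ = a ∧ x * x = 1 ∧ ¬ IsConj z x := by
  have F := D.frame
  have haa : a * a = 1 := by rw [← pow_two, ← ha2, pow_orderOf_eq_one]
  obtain ⟨⟨c, hc⟩, hca⟩ := F.setting.exists_C_lift F.surj F.ker_eq ha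
  have hc' : c ^ 3 ∈ 𝒞 := pow_mem hc 3
  have hπ : π ⟨c ^ 3, hc'.1⟩ = a := by
    rw [show π ⟨c ^ 3, hc'.1⟩ = π (⟨c, hc.1⟩ ^ 3) from rfl, map_pow, show π ⟨c, hc.1⟩ = a from hca,
      pow_succ, pow_two, haa, one_mul]
  have h6 : (c * c) ^ 6 = 1 := orderOf_dvd_iff_pow_eq_one.1 (F.setting.card_zP ▸
    Subgroup.orderOf_dvd_natCard _ (F.mem_zP_of_pi (F.setting.C_le_normalizer_P (mul_mem hc hc))
      (by rw [F.pi_mul hc.1 hc.1, show π ⟨c, hc.1⟩ = a from hca, haa])))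
  have h32 : (c ^ 3) ^ 32 = 1 := by
    rw [← pow_mul, show 3 * 32 = 2 * 6 * 8 by norm_num, pow_mul, pow_mul, pow_two, h6, one_pow]
  have hsq := D.mul_self_eq_one L hc' h32 (by rw [hπ, haa])
  by_cases hconj : IsConj z (c ^ 3)
  · have hzC : z ∈ 𝒞 := F.setting.zP_le_C (Subgroup.mem_sup_left (Subgroup.mem_zpowers z))
    refine ⟨z * c ^ 3, mul_mem hzC hc', ?_, ?_, (D.conj_iff L hc' hsq (by rw [hπ, ha2])).1 hconj⟩
    · rw [F.pi_mul hzC.1 hc'.1, hπ,
        (F.setting.pi_eq_one_iff F.ker_eq ⟨z, hzC.1⟩).2 (F.setting.E_le_N F.setting.z_mem_E), one_mul]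
    · have hcz := F.setting.comm_z hc'.1
      calc z * c ^ 3 * (z * c ^ 3) = z * (c ^ 3 * z) * c ^ 3 := by group
        _ = z * z * (c ^ 3 * c ^ 3) := by rw [hcz]; group
        _ = 1 := by rw [F.setting.z_mul_self, hsq, one_mul]
  · exact ⟨c ^ 3, hc', hπ, hsq, hconj⟩

theorem lift_unique {x y : G} (hx : x ∈ 𝒞) (hy : y ∈ 𝒞) (h2 : orderOf (π ⟨x, hx.1⟩) = 2)
    (hxy : π ⟨y, hy.1⟩ = π ⟨x, hx.1⟩) (hxx : x * x = 1) (hyy : y * y = 1) (hxc : ¬ IsConj z x)
    (hyc : ¬ IsConj z y) : y = x := by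
  have F := D.frame
  have hdC : y * x ∈ 𝒞 := mul_mem hy hx
  have hd1 : π ⟨y * x, hdC.1⟩ = 1 := by
    rw [F.pi_mul hy.1 hx.1, hxy, ← pow_two, ← h2, pow_orderOf_eq_one]
  have hdx : (y * x) * x = x * (y * x) := by
    have hle : Subgroup.zpowers z ⊔ P ≤ Subgroup.centralizer ({x} : Set G) := sup_le
      (Subgroup.zpowers_le.2 (Subgroup.mem_centralizer_singleton_iff.2 (F.setting.comm_z hx.1).symm))
      fun q hq => Subgroup.mem_centralizer_singleton_iff.2 (Subgroup.mem_centralizer_iff.1 hx.2 q hq)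
    exact Subgroup.mem_centralizer_singleton_iff.1
      (hle (F.mem_zP_of_pi (F.setting.C_le_normalizer_P hdC) hd1))
  have hyx : y = x * y * x := by
    rw [mul_assoc, ← hdx, mul_assoc, hxx, mul_one]
  have h32 : (y * x) ^ 32 = 1 := by
    have : (y * x) * (y * x) = 1 := by
      calc (y * x) * (y * x) = y * (x * y * x) := by group
        _ = 1 := by rw [← hyx, hyy]
    rw [show (32 : ℕ) = 2 * 16 by norm_num, pow_mul, pow_two, this, one_pow]
  rcases F.two_zP (F.setting.C_le_normalizer_P hdC) hd1 h32 with e | e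
  · rw [eq_inv_of_mul_eq_one_left e, inv_eq_of_mul_eq_one_right hxx]
  · exfalso
    have hy' : y = z * x := by rw [← e, mul_assoc, hxx, mul_one]
    exact hxc ((D.conj_iff L hx hxx h2).2 (hy' ▸ hyc))

theorem conj_V {q v : G} (hq : q ∈ 𝒩) (hM : π ⟨q, hq.1⟩ ∈ M) (hv : v ∈ HexFrame.U ℰ W ⊔ W) :
    q * v * q⁻¹ ∈ HexFrame.U ℰ W ⊔ W :=
  (Subgroup.mem_normalizer_iff.1 (D.frame.preH_le_normalizer L (mem_preH.2 ⟨hq.1, hM⟩)) v).1 hv

/-- An element of `N_H(P)` over `M` squaring to `z` agrees with no involution times an element of `V`. -/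
theorem no_root_coset {o f v : G} (ho : o ∈ 𝒩) (hoM : π ⟨o, ho.1⟩ ∈ M) (hoo : o * o = z)
    (hv : v ∈ HexFrame.U ℰ W ⊔ W) (hff : f * f = 1) : o ≠ f * v := by
  classical
  intro hofv
  have F := D.frame
  obtain ⟨p, hp, hp1, hp3, hP⟩ := F.setting.exists_generator
  have hvv := D.data.V_sq hv
  have hov : o * v * o⁻¹ = z * v := by
    have h1 : o * v * (o * v) = 1 := by
      rw [show o * v = f by rw [hofv, mul_assoc, hvv, mul_one], hff]
    calc o * v * o⁻¹ = (o * v * (o * v)) * v⁻¹ * (o * o)⁻¹ := by group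
      _ = v * z := by rw [h1, one_mul, inv_eq_of_mul_eq_one_right hvv, hoo, F.setting.z_inv]
      _ = z * v := D.data.V_comm hv D.data.z_mem_V
  -- averaging over `P`
  have hpV : ∀ q ∈ P, ∀ x ∈ HexFrame.U ℰ W ⊔ W, q * x * q⁻¹ ∈ HexFrame.U ℰ W ⊔ W := fun q hq x hx =>
    D.conj_V L (F.P_le_N hq) (by rw [F.pi_P hq]; exact one_mem M) hx
  have hp2 : p ^ 2 ∈ P := pow_mem hp 2
  set w := v * (p * v * p⁻¹) * (p ^ 2 * v * (p ^ 2)⁻¹) with hw
  have hwV : w ∈ HexFrame.U ℰ W ⊔ W := mul_mem (mul_mem hv (hpV p hp v hv)) (hpV _ hp2 v hv)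
  have hp31 : p ^ 3 = 1 := by rw [← hp3, pow_orderOf_eq_one]
  have hwp : p * w * p⁻¹ = w := by
    have e3 : p * (p ^ 2 * v * (p ^ 2)⁻¹) * p⁻¹ = v := by
      calc p * (p ^ 2 * v * (p ^ 2)⁻¹) * p⁻¹ = p ^ 3 * v * (p ^ 3)⁻¹ := by group
        _ = v := by rw [hp31]; group
    calc p * w * p⁻¹ = (p * v * p⁻¹) * (p ^ 2 * v * (p ^ 2)⁻¹) * (p * (p ^ 2 * v * (p ^ 2)⁻¹) * p⁻¹) := by
          rw [hw]; group
      _ = v * ((p * v * p⁻¹) * (p ^ 2 * v * (p ^ 2)⁻¹)) := by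
        rw [e3]; exact D.data.V_comm (mul_mem (hpV p hp v hv) (hpV _ hp2 v hv)) hv
      _ = w := (mul_assoc v _ _).symm
  have hwW : w ∈ W := by
    obtain ⟨u, hu, t, ht, hut⟩ := L.hex.mem_sup_iff.1 hwV
    have hpu : p * u * p⁻¹ = u := by
      have : p * u * p⁻¹ * t = u * t := by
        conv_rhs => rw [← hut, ← hwp, hut]
        rw [show p * (u * t) * p⁻¹ = p * u * p⁻¹ * (p * t * p⁻¹) by group, L.hex.conj_P_eq hp ht]
      exact mul_right_cancel this
    rw [hut]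
    exact mul_mem ((Subgroup.zpowers_le.2 L.hex.z_W)
      (L.hex.fix_U hu hp hp1 (mul_inv_eq_iff_eq_mul.1 hpu))) ht
  have hop : o * p * o⁻¹ = p ∨ o * p * o⁻¹ = p ^ 2 := by
    have hq : o * p * o⁻¹ ∈ P := (Subgroup.mem_normalizer_iff.1 (Subgroup.mem_inf.1 ho).2 p).1 hp
    rw [hP] at hq
    obtain ⟨k, hk⟩ := hq
    simp only at hk
    rw [← zpow_mod_orderOf, hp3] at hk
    have h1 := Int.emod_nonneg k (show ((3 : ℕ) : ℤ) ≠ 0 by norm_num)
    have h2 := Int.emod_lt_of_pos k (show (0 : ℤ) < ((3 : ℕ) : ℤ) by norm_num)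
    rcases (show k % ((3 : ℕ) : ℤ) = 0 ∨ k % ((3 : ℕ) : ℤ) = 1 ∨ k % ((3 : ℕ) : ℤ) = 2 by omega)
      with e | e | e <;> rw [e] at hk
    · exact absurd (conj_eq_one_iff.1 (hk.symm.trans (zpow_zero p))) hp1
    · exact Or.inl (by rw [← hk, zpow_one])
    · exact Or.inr (by rw [← hk]; exact zpow_natCast p 2)
  -- `o` moves `w` to `z w`
  have how : o * w * o⁻¹ = z * w := by
    have hzc : ∀ q ∈ P, q * (z * v) * q⁻¹ = z * (q * v * q⁻¹) := fun q hq => by
      rw [show q * (z * v) * q⁻¹ = (q * z * q⁻¹) * (q * v * q⁻¹) by group,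
        mul_inv_eq_iff_eq_mul.2 (F.setting.comm_z (F.setting.P_le_H hq))]
    have hconj : ∀ q, o * (q * v * q⁻¹) * o⁻¹ = (o * q * o⁻¹) * (z * v) * (o * q * o⁻¹)⁻¹ := fun q => by
      rw [← hov]; group
    have e2 : o * p ^ 2 * o⁻¹ = (o * p * o⁻¹) ^ 2 := (conj_pow).symm
    rw [hw, show o * (v * (p * v * p⁻¹) * (p ^ 2 * v * (p ^ 2)⁻¹)) * o⁻¹ =
      (o * v * o⁻¹) * (o * (p * v * p⁻¹) * o⁻¹) * (o * (p ^ 2 * v * (p ^ 2)⁻¹) * o⁻¹) by group,
      hov, hconj p, hconj (p ^ 2), e2]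
    set a := p * v * p⁻¹
    set b := p ^ 2 * v * (p ^ 2)⁻¹
    have haV := hpV p hp v hv
    have hbV := hpV _ hp2 v hv
    have hab : (z * v) * (z * a) * (z * b) = z * (v * a * b) := by
      calc (z * v) * (z * a) * (z * b) = z * (v * z) * (a * z) * b := by group
        _ = z * (z * v) * (z * a) * b := by
          rw [D.data.V_comm hv D.data.z_mem_V, D.data.V_comm haV D.data.z_mem_V]
        _ = z * z * (v * z) * a * b := by group
        _ = z * z * (z * v) * a * b := by rw [D.data.V_comm hv D.data.z_mem_V]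
        _ = z * (v * a * b) := by rw [F.setting.z_mul_self]; group
    rcases hop with e | e <;> rw [e]
    · rw [hzc p hp, hzc _ hp2, hab]
    · have e4 : (p ^ 2) ^ 2 = p := by rw [← pow_mul, show 2 * 2 = 3 + 1 by norm_num, pow_succ, hp31, one_mul]
      rw [e4, hzc p hp, hzc _ hp2, mul_assoc (z * v),
        D.data.V_comm (mul_mem D.data.z_mem_V hbV) (mul_mem D.data.z_mem_V haV), ← mul_assoc, hab]
  have hwz : w ∉ Subgroup.zpowers z := by
    intro hh
    have hwo : o * w * o⁻¹ = w := by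
      rcases F.setting.mem_zpowers_iff.1 hh with e | e <;> rw [e]
      · simp
      · exact mul_inv_eq_iff_eq_mul.2 (F.setting.comm_z ho.1)
    rw [hwo] at how
    exact F.setting.z_ne_one (mul_eq_right.1 how.symm)
  have h1 := D.data.conj_W_iff hwW hwz
  rw [← how, D.data.conj_z_iff] at h1
  tauto

end DuadFrame

end CfsgLib.JFour
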