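import Cfsg.Agent.Lib.JFour.PointInvol
import Cfsg.Agent.Lib.JFour.SplitLift

/-!
# Groups of Janko-four type: the normalizer of a point moves `z`
-/

set_option autoImplicit false
set_option linter.unusedSectionVars false

open Cfsg

namespace CfsgLib.JFour

namespace PointFrame

variable {G : Type*} [Group G] [Finite G] {z : G} {P N : Subgroup G}

set_option quotPrecheck false in
local notation "ℋ" => Subgroup.centralizer (singleton z : Set G)
set_option quotPrecheck false in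
local notation "ℰ" => twoCoreOfCentralizer z

variable {π : ↥(Subgroup.centralizer ({z} : Set G)) →* MulAut ↥Spor.M22}
  {M B : Subgroup (MulAut ↥Spor.M22)} {R W : Subgroup G} {five : Set (Subgroup G)} {A : Set G}
  {f : MulAut ↥Spor.M22 →* Equiv.Perm (Fin 22)} {Hx : Finset (Fin 22)}

variable (F : PointFrame (P := P) (N := N) π M B R W five A f Hx)
include F

/-- A 2-element of the kernel of `π` lies in `E`. -/
theorem mem_E_of_pi_two {x : G} (hx : x ∈ ℋ) (h1 : π ⟨x, hx⟩ = 1) {k : ℕ} (h2 : x ^ 2 ^ k = 1) :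
    x ∈ ℰ := by
  have S := F.setting
  obtain ⟨e, he, p, hp, rfl⟩ := S.mem_N_iff.1 ((S.pi_eq_one_iff F.frame.ker_eq _).1 h1)
  have hpow : ∀ n : ℕ, ∃ e' ∈ ℰ, (e * p) ^ n = e' * p ^ n := by
    intro n
    induction n with
    | zero => exact ⟨1, one_mem _, by simp⟩
    | succ n ih =>
      obtain ⟨e', he', h⟩ := ih
      refine ⟨e' * (p ^ n * e * (p ^ n)⁻¹),
        mul_mem he' (S.conj_mem_E (pow_mem (S.P_le_H hp) n) he), ?_⟩
      rw [pow_succ, h, pow_succ]; group
  obtain ⟨e', he', h⟩ := hpow (2 ^ k)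
  have hpE : p ^ 2 ^ k ∈ (⊥ : Subgroup G) := by
    rw [← S.E_inf_P, Subgroup.mem_inf]
    refine ⟨?_, pow_mem hp _⟩
    rw [show p ^ 2 ^ k = e'⁻¹ * (e * p) ^ 2 ^ k by rw [h, inv_mul_cancel_left], h2, mul_one]
    exact inv_mem he'
  have hd2 : orderOf p ∣ 2 ^ k := orderOf_dvd_iff_pow_eq_one.2 (Subgroup.mem_bot.1 hpE)
  have hd3 : orderOf p ∣ 3 := S.cardP ▸ Subgroup.orderOf_dvd_natCard _ hp
  have := Nat.Coprime.eq_one_of_dvd
    ((Nat.Coprime.pow_left k (by norm_num : Nat.Coprime 2 3)).coprime_dvd_left hd2) hd3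
  rwa [orderOf_eq_one_iff.1 this, mul_one]

/-- An involution of `H` outside `E` centralises at most `2 ^ 9` elements of `E` modulo `⟨z⟩`. -/
theorem card_cmm_le {y : G} (hy : y ∈ ℋ) (hy2 : y * y = 1) (hyE : y ∉ ℰ) {K : Subgroup G} (hK : K ≤ ℰ)
    (hc : ∀ e ∈ K, cmm y e ∈ Subgroup.zpowers z) : Nat.card ↥K ≤ 2 ^ 9 := by
  have S := F.setting
  obtain ⟨e₀, he₀, n, hn, rfl⟩ := S.exists_mul_normalizer hy
  -- `n` has the same fixed points
  have hmod : ∀ e ∈ K, n * e * n⁻¹ = e ∨ n * e * n⁻¹ = z * e := by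
    intro e he
    have h1 : n * e * n⁻¹ ∈ ℰ := S.conj_mem_E hn.1 (hK he)
    have h2 : cmm (e₀ * n) e = (e₀ * (n * e * n⁻¹) * e₀⁻¹) * e⁻¹ := by rw [cmm]; group
    have h3 : n * e * n⁻¹ * e⁻¹ ∈ Subgroup.zpowers z := by
      have := hc e he
      rw [h2] at this
      rcases S.conj_eq he₀ h1 with c | c <;> rw [c] at this
      · exact this
      · rw [mul_assoc] at this
        exact (Subgroup.mul_mem_cancel_left _ (Subgroup.mem_zpowers z)).1 this
    rcases S.mem_zpowers_iff.1 h3 with c | c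
    · exact Or.inl (mul_inv_eq_one.1 c)
    · exact Or.inr (mul_inv_eq_iff_eq_mul.1 c)
  have hn2 : n * n ∈ Subgroup.zpowers z := by
    rw [← S.E_inf_normalizer, Subgroup.mem_inf]
    refine ⟨?_, mul_mem hn.2 hn.2⟩
    rw [show n * n = (e₀ * (n * e₀ * n⁻¹))⁻¹ * (e₀ * n * (e₀ * n)) by group, hy2, mul_one]
    exact inv_mem (mul_mem he₀ (S.conj_mem_E hn.1 he₀))
  obtain ⟨p, hp, hp1, hp3, hP⟩ := S.exists_generator
  have hp31 : p ^ 3 = 1 := by rw [← hp3, pow_orderOf_eq_one]
  by_cases hnP : n * p = p * n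
  · -- `n` centralises `P`
    have hnC : n ∈ ℋ ⊓ Subgroup.centralizer (P : Set G) := by
      refine ⟨hn.1, Subgroup.mem_centralizer_iff.2 fun x hx => ?_⟩
      rw [SetLike.mem_coe, hP] at hx
      obtain ⟨i, rfl⟩ := hx
      exact ((show Commute p n from hnP.symm).zpow_left i).eq
    have h4 : n ^ 32 = 1 := by
      rw [show (32 : ℕ) = 2 * 16 by norm_num, pow_mul, pow_two]
      rcases S.mem_zpowers_iff.1 hn2 with c | c <;> rw [c]
      · exact one_pow _
      · rw [show (16 : ℕ) = 2 * 8 by norm_num, pow_mul, pow_two, S.z_mul_self, one_pow]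
    have h2 : orderOf (π ⟨n, hnC.1⟩) = 2 := by
      refine orderOf_eq_prime ?_ fun c => ?_
      · rw [← map_pow]
        exact (S.pi_eq_one_iff F.frame.ker_eq _).2 (S.E_le_N (by
          show ((⟨n, hnC.1⟩ : ↥ℋ) : G) ^ 2 ∈ ℰ
          rw [pow_two]
          exact Subgroup.zpowers_le.2 S.z_mem_E hn2))
      · exact hyE (mul_mem he₀ (F.mem_E_of_pi_two hn.1 c (k := 5) h4))
    obtain ⟨h, hh, hW, hWz⟩ := F.duad.exists_conj_W F.lifted hnC h4 h2
    rw [← F.hex.main.1 _ hW hWz, ← Subgroup.card_map_of_injective (K := K) (f := (MulAut.conj h).toMonoidHom)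
      (MulAut.conj h).injective]
    refine Subgroup.card_le_of_le ?_
    rintro _ ⟨e, he, rfl⟩
    show h * e * h⁻¹ ∈ ℰ ⊓ _
    have he' := S.conj_mem_E hh.1 (hK he)
    refine ⟨he', Subgroup.mem_centralizer_singleton_iff.2 (Eq.symm ?_)⟩
    refine F.hex.comm_of_mod (F.hex.W_P _ hW) (F.hex.W_z _ hW) he' ?_
    have hhz : h * z * h⁻¹ = z := mul_inv_eq_iff_eq_mul.2 (S.comm_z hh.1)
    rw [show h * n * h⁻¹ * (h * e * h⁻¹) * (h * n * h⁻¹)⁻¹ = h * (n * e * n⁻¹) * h⁻¹ by group]
    rcases hmod e he with c | c <;> rw [c]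
    · exact Or.inl rfl
    · exact Or.inr (by rw [show h * (z * e) * h⁻¹ = (h * z * h⁻¹) * (h * e * h⁻¹) by group, hhz])
  · -- `n` inverts `P`
    have hinv : n * p * n⁻¹ = p⁻¹ := by
      have hmem : n * p * n⁻¹ ∈ P := (Subgroup.mem_normalizer_iff.1 hn.2 p).1 hp
      rw [hP] at hmem
      obtain ⟨i, hi⟩ := mem_powers_iff_mem_zpowers.2 hmem
      have hi' : p ^ i = n * p * n⁻¹ := hi
      have hlt : i % 3 < 3 := Nat.mod_lt _ (by norm_num)
      have hpi : p ^ i = p ^ (i % 3) := by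
        conv_lhs => rw [← Nat.div_add_mod i 3, pow_add, pow_mul, hp31, one_pow, one_mul]
      rcases (show i % 3 = 0 ∨ i % 3 = 1 ∨ i % 3 = 2 by omega) with e | e | e <;>
        rw [hpi, e] at hi'
      · exact absurd (conj_eq_one_iff.1 (hi'.symm.trans (pow_zero p))) hp1
      · exact absurd (mul_inv_eq_iff_eq_mul.1 (hi'.symm.trans (pow_one p))) hnP
      · rw [← hi', eq_inv_iff_mul_eq_one, ← pow_succ, hp31]
    let K' := K.map (MulAut.conj p).toMonoidHom
    have hK' : K' ≤ ℰ := by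
      rintro _ ⟨e, he, rfl⟩
      exact S.conj_mem_E (S.P_le_H hp) (hK he)
    have hinter : K ⊓ K' ≤ Subgroup.zpowers z := by
      rintro a ⟨ha, ha'⟩
      replace ha' := mem_map_conj'.1 (show a ∈ K' from ha')
      have haE := hK ha
      have hbE := hK ha'
      have hpz : p * z * p⁻¹ = z := mul_inv_eq_iff_eq_mul.2 (S.comm_z (S.P_le_H hp))
      have hpz' : p⁻¹ * z * p⁻¹⁻¹ = z :=
        mul_inv_eq_iff_eq_mul.2 (S.comm_z (inv_mem (S.P_le_H hp)))
      have hnp : n * p⁻¹ * n⁻¹ = p := by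
        rw [show n * p⁻¹ * n⁻¹ = (n * p * n⁻¹)⁻¹ by group, hinv, inv_inv]
      have hkey : n * (p⁻¹ * a * p) * n⁻¹ = p * (n * a * n⁻¹) * p⁻¹ := by
        conv_rhs => rw [← hnp]
        group
      have hp2 : p * p ≠ 1 := fun e => hp1 (by
        rwa [pow_succ, pow_two, e, one_mul] at hp31)
      refine S.mem_zpowers_of_comm (mul_mem hp hp) hp2 haE ?_
      have hd : p * a * p⁻¹ * (p⁻¹ * a * p)⁻¹ ∈ Subgroup.zpowers z := by
        rcases hmod _ ha' with c | c <;> rcases hmod a ha with d | d <;>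
          rw [hkey, d] at c
        · rw [c, mul_inv_cancel]; exact one_mem _
        · rw [show p * (z * a) * p⁻¹ = (p * z * p⁻¹) * (p * a * p⁻¹) by group, hpz] at c
          rw [show p * a * p⁻¹ = z⁻¹ * (p⁻¹ * a * p) by rw [← c, inv_mul_cancel_left],
            mul_inv_cancel_right]
          exact inv_mem (Subgroup.mem_zpowers z)
        · rw [c, mul_inv_cancel_right]; exact Subgroup.mem_zpowers z
        · rw [show p * (z * a) * p⁻¹ = (p * z * p⁻¹) * (p * a * p⁻¹) by group, hpz] at c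
          rw [mul_left_cancel c, mul_inv_cancel]; exact one_mem _
      rcases S.mem_zpowers_iff.1 hd with c | c
      · have : p * p * a * (p * p)⁻¹ * a⁻¹ = 1 := by
          rw [show p * p * a * (p * p)⁻¹ = p * (p * a * p⁻¹) * p⁻¹ by group, mul_inv_eq_one.1 c]; group
        rw [this]; exact one_mem _
      · have : p * p * a * (p * p)⁻¹ * a⁻¹ = z := by
          rw [show p * p * a * (p * p)⁻¹ = p * (p * a * p⁻¹) * p⁻¹ by group,
            mul_inv_eq_iff_eq_mul.1 c,
            show p * (z * (p⁻¹ * a * p)) * p⁻¹ = (p * z * p⁻¹) * a by group, hpz]; group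
        rw [this]; exact Subgroup.mem_zpowers z
    have hKK : Nat.card ↥K' = Nat.card ↥K := Subgroup.card_map_of_injective (MulAut.conj p).injective
    -- the index of the intersection
    have h1 : (K.subgroupOf ℰ ⊓ K'.subgroupOf ℰ).index ≤
        (K.subgroupOf ℰ).index * (K'.subgroupOf ℰ).index := Subgroup.index_inf_le
    have hc1 := (K.subgroupOf ℰ).card_mul_index
    have hc2 := (K'.subgroupOf ℰ).card_mul_index
    have hc3 := (K.subgroupOf ℰ ⊓ K'.subgroupOf ℰ).card_mul_index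
    have hle : Nat.card ↥(K.subgroupOf ℰ ⊓ K'.subgroupOf ℰ) ≤ 2 := by
      have h' : K.subgroupOf ℰ ⊓ K'.subgroupOf ℰ = (K ⊓ K').subgroupOf ℰ := rfl
      rw [h', Nat.card_congr (Subgroup.subgroupOfEquivOfLe (inf_le_left.trans hK)).toEquiv,
        ← S.orderZ, ← Nat.card_zpowers]
      exact Subgroup.card_le_of_le hinter
    rw [Nat.card_congr (Subgroup.subgroupOfEquivOfLe hK).toEquiv, S.cardE] at hc1
    rw [Nat.card_congr (Subgroup.subgroupOfEquivOfLe hK').toEquiv, hKK, S.cardE] at hc2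
    rw [S.cardE] at hc3
    by_contra hlt
    push Not at hlt
    have hi1 : (K.subgroupOf ℰ).index < 2 ^ 4 := by
      by_contra hh; push Not at hh
      have := Nat.mul_le_mul hlt.le hh
      nlinarith
    have hi2 : (K'.subgroupOf ℰ).index < 2 ^ 4 := by
      by_contra hh; push Not at hh
      have := Nat.mul_le_mul hlt.le hh
      nlinarith
    nlinarith [Nat.mul_le_mul hi1.le hi2.le, Nat.mul_le_mul hle (le_refl
      (K.subgroupOf ℰ ⊓ K'.subgroupOf ℰ).index)]

/-- An element of the centralizer of `z` and of an involution commuting with `2 ^ 18` lies in `E`. -/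
theorem mem_E_of_dvd {y : G} (hy : y ∈ ℋ) (hy2 : y * y = 1)
    (hd : 2 ^ 18 ∣ Nat.card ↥(ℋ ⊓ Subgroup.centralizer ({y} : Set G))) : y ∈ ℰ := by
  haveI : Fact (Nat.Prime 2) := ⟨Nat.prime_two⟩
  haveI := F.finite_aut
  by_contra hyE
  obtain ⟨T, hT⟩ := Sylow.exists_subgroup_card_pow_prime 2 hd
  let ψ : ↥T →* MulAut ↥Spor.M22 := π.comp ((Subgroup.inclusion inf_le_left).comp T.subtype)
  have hk : Nat.card ↥ψ.ker ≤ 2 ^ 9 := by
    rw [← Subgroup.card_map_of_injective (K := ψ.ker)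
      (f := (ℋ ⊓ Subgroup.centralizer ({y} : Set G)).subtype.comp T.subtype)
      (Subtype.val_injective.comp Subtype.val_injective)]
    refine F.card_cmm_le hy hy2 hyE ?_ ?_
    · rintro _ ⟨t, ht, rfl⟩
      refine F.mem_E_of_pi_two (k := 18) (t : ↥(ℋ ⊓ Subgroup.centralizer ({y} : Set G))).2.1 ht ?_
      have := pow_card_eq_one' (x := t)
      rw [hT] at this
      exact congrArg (fun x : ↥T => ((x : ↥(ℋ ⊓ Subgroup.centralizer ({y} : Set G))) : G)) this
    · rintro _ ⟨t, -, rfl⟩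
      have := Subgroup.mem_centralizer_singleton_iff.1 (t : ↥(ℋ ⊓ Subgroup.centralizer ({y} : Set G))).2.2
      rw [show cmm y _ = (1 : G) from by
        rw [cmm, mul_inv_eq_one, mul_inv_eq_iff_eq_mul]
        exact this.symm]
      exact one_mem _
  have hcard := Subgroup.card_eq_card_quotient_mul_card_subgroup ψ.ker
  rw [hT, Nat.card_congr (QuotientGroup.quotientKerEquivRange ψ).toEquiv] at hcard
  obtain ⟨j, -, hj⟩ : ∃ j ≤ 18, Nat.card ↥ψ.range = 2 ^ j :=
    (Nat.dvd_prime_pow Nat.prime_two).1 ⟨_, hcard⟩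
  have hdvd : 2 ^ j ∣ 887040 := by
    rw [← hj, ← card_mulAut_mTwentyTwo]
    exact Subgroup.card_subgroup_dvd_card _
  have hj8 : j ≤ 8 := by
    by_contra hh
    exact absurd ((pow_dvd_pow 2 (show 9 ≤ j by omega)).trans hdvd) (by norm_num)
  have := Nat.mul_le_mul (Nat.pow_le_pow_right (show 0 < 2 by norm_num) hj8) hk
  rw [← hj, ← hcard] at this
  norm_num at this

/-- The normalizer of a point moves `z`. -/
theorem exists_mover {S L : Subgroup G} (C : PointCent z S L) :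
    ∃ n ∈ Subgroup.normalizer (S : Set G), n * z * n⁻¹ ≠ z := by
  classical
  have T := F.setting
  haveI : Fact (Nat.Prime 5) := ⟨by norm_num⟩
  obtain ⟨x, hx, hxz⟩ : ∃ x ∈ S, x ∉ Subgroup.zpowers z := SetLike.not_le_iff_exists.1 fun hle => by
    have := Subgroup.card_le_of_le hle
    rw [C.card_S, Nat.card_zpowers, T.orderZ] at this
    omega
  obtain ⟨g, hg⟩ := isConj_iff.1 (C.zclass x hx (fun e => hxz (e ▸ one_mem _)))
  set y := g⁻¹ * z * g with hy
  set S' := S.map (MulAut.conj g⁻¹).toMonoidHom with hS'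
  have hmem : ∀ a, a ∈ S' ↔ g * a * g⁻¹ ∈ S := fun a => by rw [hS', mem_map_conj', inv_inv]
  have hS'c : ∀ a ∈ S', ∀ b ∈ S', a * b = b * a := fun a ha b hb => by
    have h := C.comm _ ((hmem a).1 ha) _ ((hmem b).1 hb)
    calc a * b = g⁻¹ * (g * a * g⁻¹ * (g * b * g⁻¹)) * g := by group
      _ = b * a := by rw [h]; group
  have hS'sq : ∀ a ∈ S', a * a = 1 := fun a ha => by
    have h := C.sq _ ((hmem a).1 ha)
    rwa [show g * a * g⁻¹ * (g * a * g⁻¹) = g * (a * a) * g⁻¹ by group, conj_eq_one_iff] at h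
  have hyS : y ∈ S' := (hmem y).2 (by rw [hy, show g * (g⁻¹ * z * g) * g⁻¹ = z by group]; exact C.z_mem)
  have hzS : z ∈ S' := (hmem z).2 (hg.symm ▸ hx)
  have hS'H : S' ≤ ℋ := fun a ha => Subgroup.mem_centralizer_singleton_iff.2 (hS'c a ha z hzS)
  have hyH : y ∈ ℋ := hS'H hyS
  have hyz : y ∉ Subgroup.zpowers z := fun h => by
    rcases T.mem_zpowers_iff.1 h with e | e
    · exact T.z_ne_one (conj_eq_one_iff.1 (show g⁻¹ * z * g⁻¹⁻¹ = 1 by rw [inv_inv]; exact e))
    · refine hxz ?_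
      have e' : g⁻¹ * z * g = z := e
      rw [← hg, show g * z * g⁻¹ = g * (g⁻¹ * z * g) * g⁻¹ by rw [e']]
      rw [show g * (g⁻¹ * z * g) * g⁻¹ = z by group]
      exact Subgroup.mem_zpowers z
  -- the conjugate of `C(S)`
  have hCS : (Subgroup.centralizer (S : Set G)).map (MulAut.conj g⁻¹).toMonoidHom ≤
      ℋ ⊓ Subgroup.centralizer ({y} : Set G) := by
    intro c hc
    rw [mem_map_conj', inv_inv, Subgroup.mem_centralizer_iff] at hc
    have key : ∀ a ∈ S', c * a = a * c := fun a ha => by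
      have h := hc _ ((hmem a).1 ha)
      calc c * a = g⁻¹ * (g * c * g⁻¹ * (g * a * g⁻¹)) * g := by group
        _ = a * c := by rw [← h]; group
    exact ⟨Subgroup.mem_centralizer_singleton_iff.2 (key z hzS),
      Subgroup.mem_centralizer_singleton_iff.2 (key y hyS)⟩
  have hyE : y ∈ ℰ := F.mem_E_of_dvd hyH (hS'sq y hyS) ((Dvd.intro 15 (by
    rw [Subgroup.card_map_of_injective (MulAut.conj g⁻¹).injective, C.card_C])).trans
      (Subgroup.card_dvd_of_le hCS))
  -- `S'` lies in `E`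
  have hS'E : S' ≤ ℰ := by
    intro s hs
    by_contra hsE
    set CE := ℰ ⊓ Subgroup.centralizer ({y} : Set G) with hCE
    have hnorm : ∀ e ∈ CE, ∀ a ∈ S', e * a * e⁻¹ ∈ S' := by
      intro e he a ha
      have hez : e * z = z * e := T.comm_z (T.E_le he.1)
      have hey : e * y = y * e := Subgroup.mem_centralizer_singleton_iff.1 he.2
      have h1 : g * e * g⁻¹ ∈ Subgroup.normalizer (S : Set G) := by
        refine C.stab_le x hx hxz ⟨Subgroup.mem_centralizer_singleton_iff.2 ?_,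
          Subgroup.mem_centralizer_singleton_iff.2 ?_⟩
        · calc g * e * g⁻¹ * z = g * (e * y) * g⁻¹ := by rw [hy]; group
            _ = z * (g * e * g⁻¹) := by rw [hey, hy]; group
        · rw [← hg]
          calc g * e * g⁻¹ * (g * z * g⁻¹) = g * (e * z) * g⁻¹ := by group
            _ = g * z * g⁻¹ * (g * e * g⁻¹) := by rw [hez]; group
      rw [hmem, show g * (e * a * e⁻¹) * g⁻¹ = g * e * g⁻¹ * (g * a * g⁻¹) * (g * e * g⁻¹)⁻¹ by group]
      exact (Subgroup.mem_normalizer_iff.1 h1 _).1 ((hmem a).1 ha)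
    have hsH := hS'H hs
    have hval : ∀ e ∈ CE, cmm s e ∈ S' ⊓ ℰ := fun e he =>
      Subgroup.mem_inf.2 ⟨by
        rw [cmm, show s * e * s⁻¹ * e⁻¹ = s * (e * s⁻¹ * e⁻¹) by group]
        exact mul_mem hs (hnorm e he _ (inv_mem hs)),
       mul_mem (T.conj_mem_E hsH he.1) (inv_mem he.1)⟩
    set K := CE ⊓ Subgroup.centralizer ({s} : Set G) with hK
    have hK9 : Nat.card ↥K ≤ 2 ^ 9 := F.card_cmm_le hsH (hS'sq s hs) hsE
      (inf_le_left.trans inf_le_left) fun e he => by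
        rw [show cmm s e = 1 from by
          rw [cmm, mul_inv_eq_one, mul_inv_eq_iff_eq_mul]
          exact (Subgroup.mem_centralizer_singleton_iff.1 he.2).symm]
        exact one_mem _
    have h4 : Nat.card ↥(S' ⊓ ℰ : Subgroup G) ≤ 4 := by
      have hcS : Nat.card ↥S' = 8 := by
        rw [hS', Subgroup.card_map_of_injective (MulAut.conj g⁻¹).injective, C.card_S]
      have hd : Nat.card ↥(S' ⊓ ℰ : Subgroup G) ∣ 2 ^ 3 := by
        have := Subgroup.card_dvd_of_le (inf_le_left : S' ⊓ ℰ ≤ S')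
        rw [hcS] at this
        simpa using this
      obtain ⟨j, hj, hje⟩ := (Nat.dvd_prime_pow Nat.prime_two).1 hd
      rcases (show j ≤ 2 ∨ j = 3 by omega) with hj2 | rfl
      · rw [hje]
        exact Nat.pow_le_pow_right (show 0 < 2 by norm_num) hj2
      · exfalso
        have heq := Subgroup.eq_of_le_of_card_ge (inf_le_left : S' ⊓ ℰ ≤ S')
          (by rw [hje, hcS]; norm_num)
        exact hsE (inf_eq_left.1 heq hs)
    have h12 : 2 ^ 12 ≤ Nat.card ↥CE := by
      have := F.duad.card_le_two_mul (K := ℰ) le_rfl hyE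
      rw [T.cardE, ← hCE] at this
      omega
    let ψ : ↥CE ⧸ K.subgroupOf CE → ↥(S' ⊓ ℰ : Subgroup G) := fun a => ⟨cmm s a.out, hval _ a.out.2⟩
    have hψ : Function.Injective ψ := by
      intro a b e
      have e' : cmm s (a.out : G) = cmm s (b.out : G) := congrArg Subtype.val e
      rw [← QuotientGroup.out_eq' a, ← QuotientGroup.out_eq' b, QuotientGroup.eq]
      show ((a.out⁻¹ * b.out : ↥CE) : G) ∈ K
      refine ⟨(a.out⁻¹ * b.out).2, Subgroup.mem_centralizer_singleton_iff.2 ?_⟩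
      simp only [cmm] at e'
      push_cast
      have e2 : (a.out : G) * s⁻¹ * (a.out : G)⁻¹ = b.out * s⁻¹ * (b.out : G)⁻¹ := by
        calc (a.out : G) * s⁻¹ * (a.out : G)⁻¹ = s⁻¹ * (s * a.out * s⁻¹ * (a.out : G)⁻¹) := by group
          _ = b.out * s⁻¹ * (b.out : G)⁻¹ := by rw [e']; group
      calc (a.out : G)⁻¹ * b.out * s
          = s * ((a.out : G)⁻¹ * ((a.out : G) * s⁻¹ * (a.out : G)⁻¹) * b.out) * s := by group
        _ = s * ((a.out : G)⁻¹ * b.out) := by rw [e2]; group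
    have hidx := Nat.card_le_card_of_injective ψ hψ
    have hmul := Subgroup.card_eq_card_quotient_mul_card_subgroup (K.subgroupOf CE)
    have hKle : K ≤ CE := inf_le_left
    rw [Nat.card_congr (Subgroup.subgroupOfEquivOfLe hKle).toEquiv] at hmul
    have := Nat.mul_le_mul (hidx.trans h4) hK9
    omega
  -- the element of order five
  obtain ⟨⟨q, hqC⟩, hq⟩ := exists_prime_orderOf_dvd_card' (G := ↥(Subgroup.centralizer (S : Set G))) 5
    (by rw [C.card_C]; norm_num)
  rw [Subgroup.orderOf_mk] at hq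
  have hqS := Subgroup.mem_centralizer_iff.1 hqC
  have hqH : q ∈ ℋ := Subgroup.mem_centralizer_singleton_iff.2 (hqS z C.z_mem).symm
  set q' := g⁻¹ * q * g with hq'
  have hq'o : orderOf q' = 5 := by
    rw [hq', ← hq]
    simpa using MulEquiv.orderOf_eq (MulAut.conj g⁻¹) q
  have hq'c : ∀ a ∈ S', q' * a = a * q' := fun a ha => by
    have h := hqS _ ((hmem a).1 ha)
    calc q' * a = g⁻¹ * (q * (g * a * g⁻¹)) * g := by rw [hq']; group
      _ = a * q' := by rw [← h, hq']; group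
  have hq'H : q' ∈ ℋ := Subgroup.mem_centralizer_singleton_iff.2 (hq'c z hzS)
  obtain ⟨h, hh, hhq⟩ := F.exists_conj_five le_rfl hq'H hqH hq'o hq
  have hho : orderOf (h * q' * h⁻¹) = 5 := hq'o ▸ MulEquiv.orderOf_eq (MulAut.conj h) q'
  have hgen : q ∈ Subgroup.zpowers (h * q' * h⁻¹) := by
    rw [Subgroup.eq_of_le_of_card_ge (Subgroup.zpowers_le.2 hhq)
      (by rw [Nat.card_zpowers, Nat.card_zpowers, hho, hq])]
    exact Subgroup.mem_zpowers q
  have hle : S'.map (MulAut.conj h).toMonoidHom ≤ S := by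
    refine F.zclass_subgroup_le C hqC hq ?_ ?_ ?_
    · rintro _ ⟨a, ha, rfl⟩
      exact T.conj_mem_E hh (hS'E ha)
    rotate_left
    · rintro _ ⟨a, ha, rfl⟩ ha1
      refine (isConj_conj_iff h).2 ((isConj_conj_iff g).1 (C.zclass _ ((hmem a).1 ha) fun e => ha1 ?_))
      show h * a * h⁻¹ = 1
      rw [conj_eq_one_iff.1 e]; group
    · rintro _ ⟨a, ha, rfl⟩
      refine Subgroup.mem_centralizer_singleton_iff.2 ?_
      obtain ⟨i, hi⟩ := hgen
      have : Commute (h * a * h⁻¹) (h * q' * h⁻¹) := by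
        show h * a * h⁻¹ * (h * q' * h⁻¹) = h * q' * h⁻¹ * (h * a * h⁻¹)
        rw [show h * a * h⁻¹ * (h * q' * h⁻¹) = h * (a * q') * h⁻¹ by group, ← hq'c a ha]; group
      rw [← hi]
      exact (this.zpow_right i).eq
  refine ⟨h * g⁻¹, map_conj_eq_iff.1 ?_, fun e => hyz ?_⟩
  · refine Subgroup.eq_of_le_of_card_ge ?_
      (by rw [Subgroup.card_map_of_injective (MulAut.conj (h * g⁻¹)).injective])
    rw [← map_conj_conj]
    exact hle
  · have hhz : h * z * h⁻¹ = z := mul_inv_eq_iff_eq_mul.2 (T.comm_z hh)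
    have e2 : h * y * h⁻¹ = h * z * h⁻¹ := by
      rw [hhz, hy]
      calc h * (g⁻¹ * z * g) * h⁻¹ = h * g⁻¹ * z * (h * g⁻¹)⁻¹ := by group
        _ = z := e
    rw [mul_left_cancel (mul_right_cancel e2)]
    exact Subgroup.mem_zpowers z

end PointFrame

end CfsgLib.JFour
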