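import Cfsg.Agent.Lib.JFour.PointLocal
import Cfsg.Agent.Lib.JFour.Basic
import Cfsg.Agent.Lib.LargeSubgroups.ExtraspecialPlus
import Cfsg.Agent.Lib.FischerLarge.LineAut
import Cfsg.Agent.Lib.PGroups.Frattini
import Cfsg.Agent.Lib.Derangements.PermIndex

/-!
# Groups of Janko-four type: the normalizer of a point
-/

set_option autoImplicit false
set_option linter.unusedSectionVars false
set_option linter.style.haveILetI false

open Cfsg
open scoped commutatorElement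

namespace CfsgLib.JFour

theorem perm5_pow_eight : ∀ x : Equiv.Perm (Fin 5), x ≠ 1 →
    ∃ g : Equiv.Perm (Fin 5), (x * (g * x * g⁻¹)) ^ 8 ≠ 1 := by decide +kernel

theorem perm5_center : ∀ a : Equiv.Perm (Fin 5), (∀ b, a * b = b * a) → a = 1 := by decide +kernel

/-- The symmetric group of degree five has no non-trivial normal 2-subgroup. -/
theorem perm5_normal_two {K : Subgroup (Equiv.Perm (Fin 5))} [K.Normal] (hK : IsPGroup 2 K) :
    K = ⊥ := by
  rw [Subgroup.eq_bot_iff_forall]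
  intro x hx
  by_contra hne
  obtain ⟨g, hg⟩ := perm5_pow_eight x hne
  have hy : x * (g * x * g⁻¹) ∈ K := K.mul_mem hx (Subgroup.Normal.conj_mem inferInstance x hx g)
  generalize x * (g * x * g⁻¹) = y at hy hg
  obtain ⟨k, hk⟩ := hK ⟨y, hy⟩
  have hk' : y ^ 2 ^ k = 1 := congrArg Subtype.val hk
  obtain ⟨j, -, hj⟩ := (Nat.dvd_prime_pow Nat.prime_two).1 (orderOf_dvd_of_pow_eq_one hk')
  have h120 : orderOf y ∣ 120 := by
    have := orderOf_dvd_natCard y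
    rwa [Nat.card_perm, Nat.card_fin, show Nat.factorial 5 = 120 from rfl] at this
  refine hg (orderOf_dvd_iff_pow_eq_one.1 ?_)
  rw [hj] at h120 ⊢
  by_cases h4 : j ≤ 3
  · exact (Nat.pow_dvd_pow 2 h4).trans (by norm_num)
  · exact absurd ((Nat.pow_dvd_pow 2 (show 4 ≤ j by omega)).trans h120) (by norm_num)

/-- Every automorphism of the symmetric group of degree five is inner. -/
theorem perm5_aut (α : MulAut (Equiv.Perm (Fin 5))) :
    ∃ p : Equiv.Perm (Fin 5), ∀ g, α g = p * g * p⁻¹ := by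
  have hidx : ∀ x : Fin 5, ((MulAction.stabilizer (Equiv.Perm (Fin 5)) x).comap α.toMonoidHom).index =
      Fintype.card (Fin 5) := fun x => by
    rw [Subgroup.index_comap_of_surjective _ α.surjective, MulAction.index_stabilizer_of_transitive,
      Nat.card_eq_fintype_card]
  choose r hr using fun x => CfsgLib.Derangements.eq_stabilizer_of_index_eq (by simp) _ (hidx x)
  have hmem : ∀ x g, α g x = x ↔ g (r x) = r x := fun x g => by
    have := SetLike.ext_iff.1 (hr x) g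
    rwa [Subgroup.mem_comap, MulAction.mem_stabilizer_iff, MulAction.mem_stabilizer_iff] at this
  have hsep : ∀ a b : Fin 5, (∀ g : Equiv.Perm (Fin 5), g a = a ↔ g b = b) → a = b := by decide +kernel
  have hinj : Function.Injective r := fun x y e => hsep x y fun g => by
    obtain ⟨g', rfl⟩ := α.surjective g
    rw [hmem, hmem, e]
  have heq : ∀ g x, r (α g x) = g (r x) := fun g x => hsep _ _ fun k => by
    rw [← hmem]
    have h1 := hmem x (g⁻¹ * k * g)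
    rw [map_mul, map_mul, map_inv, Equiv.Perm.mul_apply, Equiv.Perm.mul_apply,
      Equiv.Perm.inv_eq_iff_eq, Equiv.Perm.mul_apply, Equiv.Perm.mul_apply,
      Equiv.Perm.inv_eq_iff_eq] at h1
    constructor
    · intro h
      exact h1.1 h
    · intro h
      exact h1.2 h
  let p : Equiv.Perm (Fin 5) := Equiv.ofBijective r (Finite.injective_iff_bijective.1 hinj)
  refine ⟨p⁻¹, fun g => Equiv.ext fun x => p.injective ?_⟩
  rw [inv_inv, Equiv.Perm.mul_apply, Equiv.Perm.mul_apply]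
  show r (α g x) = p (p⁻¹ (g (p x)))
  rw [heq, Equiv.Perm.inv_def, Equiv.apply_symm_apply]
  rfl

/-- The automorphism group of an elementary group of order eight. -/
theorem nonempty_mulAut_eight {A : Type*} [Group A] [Finite A] (hA : Nat.card A = 8)
    (hsq : ∀ a : A, a * a = 1) :
    Nonempty (MulAut A ≃* Matrix.SpecialLinearGroup (Fin 3) (ZMod 2)) := by
  have hcomm : ∀ a b : A, a * b = b * a := fun a b => by
    have h1 := hsq (a * b)
    calc a * b = a * b * ((b * a) * (b * a)) := by rw [hsq, mul_one]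
      _ = a * (b * b) * a * (b * a) := by group
      _ = b * a := by rw [hsq b, mul_one, hsq a, one_mul]
  letI : CommGroup A := { (inferInstance : Group A) with mul_comm := hcomm }
  letI : Module (ZMod 2) (Additive A) := AddCommGroup.zmodModule (n := 2) fun x => by
    rw [two_nsmul]
    exact congrArg Additive.ofMul (hsq x.toMul)
  haveI : Fact (Nat.Prime 2) := ⟨Nat.prime_two⟩
  haveI : Finite (Additive A) := Finite.of_equiv A Additive.ofMul
  haveI : Module.Finite (ZMod 2) (Additive A) := Module.Finite.of_finite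
  have hrank : Module.finrank (ZMod 2) (Additive A) = 3 := by
    have h := Module.natCard_eq_pow_finrank (K := ZMod 2) (V := Additive A)
    rw [Nat.card_congr Additive.toMul, hA, Nat.card_zmod] at h
    exact Nat.pow_right_injective le_rfl (show 2 ^ _ = 2 ^ 3 from h.symm)
  let b := Module.finBasisOfFinrankEq (ZMod 2) (Additive A) hrank
  let e : Multiplicative (Fin 3 → ZMod 2) ≃* A :=
    { toFun := fun v => (b.equivFun.symm v.toAdd).toMul
      invFun := fun x => Multiplicative.ofAdd (b.equivFun (Additive.ofMul x))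
      left_inv := fun v => by simp only [ofMul_toMul, LinearEquiv.apply_symm_apply, ofAdd_toAdd]
      right_inv := fun x => by simp only [toAdd_ofAdd, LinearEquiv.symm_apply_apply, toMul_ofMul]
      map_mul' := fun u v => by rw [toAdd_mul, map_add, toMul_add] }
  let E : MulAut A ≃* ((Fin 3 → ZMod 2) ≃ₗ[ZMod 2] (Fin 3 → ZMod 2)) :=
    { toFun := fun α => (AddEquiv.toMultiplicative.symm ((e.trans α).trans e.symm)).toLinearEquiv (fun c x => ZMod.map_smul _ c x)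
      invFun := fun l => (e.symm.trans (AddEquiv.toMultiplicative l.toAddEquiv)).trans e
      left_inv := fun α => MulEquiv.ext fun x => by
        show e (Multiplicative.ofAdd (e.symm (α (e (Multiplicative.ofAdd (e.symm x).toAdd)))).toAdd) = α x
        simp
      right_inv := fun l => LinearEquiv.ext fun v => by
        show (e.symm (e (Multiplicative.ofAdd (l (e.symm (e (Multiplicative.ofAdd v))).toAdd)))).toAdd = l v
        simp
      map_mul' := fun α β => LinearEquiv.ext fun v => by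
        show (e.symm (α (β (e (Multiplicative.ofAdd v))))).toAdd =
          (e.symm (α (e (Multiplicative.ofAdd (e.symm (β (e (Multiplicative.ofAdd v)))).toAdd)))).toAdd
        simp }
  exact ⟨E.trans (((LinearMap.GeneralLinearGroup.generalLinearEquiv (ZMod 2) (Fin 3 → ZMod 2)).symm.trans
    Matrix.GeneralLinearGroup.toLin.symm).trans
      (MulEquiv.ofBijective _ CfsgLib.FischerLarge.toGL_three_bijective).symm)⟩

theorem card_SL_three_two : Nat.card (Matrix.SpecialLinearGroup (Fin 3) (ZMod 2)) = 168 := by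
  rw [Nat.card_congr (MulEquiv.ofBijective _ CfsgLib.FischerLarge.toGL_three_bijective).toEquiv,
    Matrix.card_GL_field, ← Nat.card_eq_fintype_card, Nat.card_zmod]
  simp [Fin.prod_univ_three]

section

variable {G : Type*} [Group G] [Finite G] {z : G} {P N S L : Subgroup G}

set_option quotPrecheck false in
local notation "ℋ" => Subgroup.centralizer (singleton z : Set G)
set_option quotPrecheck false in
local notation "ℰ" => twoCoreOfCentralizer z
set_option quotPrecheck false in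
local notation "𝒩" => Subgroup.normalizer (S : Set G)
set_option quotPrecheck false in
local notation "𝒞" => Subgroup.centralizer (S : Set G)
set_option quotPrecheck false in
local notation "𝒯" => (twoCoreOfCentralizer z ⊓ Subgroup.centralizer (S : Set G) : Subgroup G)

namespace PointCent

variable (St : Setting z P N) (C : PointCent z S L)
include St C

theorem cent_le_H : 𝒞 ≤ ℋ := fun _ hc =>
  Subgroup.mem_centralizer_singleton_iff.2 ((Subgroup.mem_centralizer_iff.1 hc z C.z_mem).symm)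

theorem S_le_cent : S ≤ 𝒞 := fun a ha =>
  Subgroup.mem_centralizer_iff.2 fun b hb => C.comm b hb a ha

theorem S_le_T : S ≤ 𝒯 := le_inf C.le_E (C.S_le_cent St)

theorem conj_mem_cent {n c : G} (hn : n ∈ 𝒩) (hc : c ∈ 𝒞) : n * c * n⁻¹ ∈ 𝒞 := by
  refine Subgroup.mem_centralizer_iff.2 fun s hs => ?_
  have hs' := (Subgroup.mem_normalizer_iff.1 (inv_mem hn) s).1 hs
  rw [inv_inv] at hs'
  calc s * (n * c * n⁻¹) = n * ((n⁻¹ * s * n) * c) * n⁻¹ := by group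
    _ = n * (c * (n⁻¹ * s * n)) * n⁻¹ := by rw [Subgroup.mem_centralizer_iff.1 hc _ hs']
    _ = n * c * n⁻¹ * s := by group

theorem T_normal {c x : G} (hc : c ∈ 𝒞) (hx : x ∈ 𝒯) : c * x * c⁻¹ ∈ 𝒯 :=
  ⟨St.conj_mem_E (C.cent_le_H St hc) hx.1, Subgroup.mul_mem _ (Subgroup.mul_mem _ hc hx.2) (Subgroup.inv_mem _ hc)⟩

theorem isPGroup_L : IsPGroup 2 ↥L := IsPGroup.of_card C.card_L

theorem L_normal {c x : G} (hc : c ∈ 𝒞) (hx : x ∈ L) : c * x * c⁻¹ ∈ L := by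
  obtain ⟨φ, -, hk⟩ := C.quot
  have hmem : (⟨c, hc⟩ : ↥𝒞) * ⟨x, C.L_le hx⟩ * ⟨c, hc⟩⁻¹ ∈ φ.ker := by
    rw [MonoidHom.mem_ker, map_mul, map_mul, map_inv,
      show φ ⟨x, C.L_le hx⟩ = 1 from MonoidHom.mem_ker.1 (hk.symm ▸ Subgroup.mem_subgroupOf.2 hx),
      mul_one, mul_inv_cancel]
  rw [hk] at hmem
  exact Subgroup.mem_subgroupOf.1 hmem

/-- A 2-subgroup normal in the centralizer lies in `L`. -/
theorem le_L {K : Subgroup G} (hK : K ≤ 𝒞) (hK2 : IsPGroup 2 ↥K)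
    (hn : ∀ c ∈ 𝒞, ∀ x ∈ K, c * x * c⁻¹ ∈ K) : K ≤ L := by
  obtain ⟨φ, hφ, hk⟩ := C.quot
  let K' : Subgroup ↥𝒞 := K.subgroupOf 𝒞
  haveI hKn : K'.Normal := ⟨fun x hx c => Subgroup.mem_subgroupOf.2
    (hn c c.2 x (Subgroup.mem_subgroupOf.1 hx))⟩
  haveI : (K'.map φ).Normal := hKn.map φ hφ
  have hbot : K'.map φ = ⊥ :=
    perm5_normal_two ((hK2.of_equiv (Subgroup.subgroupOfEquivOfLe hK).symm).map φ)
  intro x hx
  have : φ ⟨x, hK hx⟩ ∈ K'.map φ := ⟨_, Subgroup.mem_subgroupOf.2 hx, rfl⟩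
  rw [hbot, Subgroup.mem_bot, ← MonoidHom.mem_ker, hk] at this
  exact Subgroup.mem_subgroupOf.1 this

/-- The normalizer of `S` normalizes `L`. -/
theorem conj_mem_L {n x : G} (hn : n ∈ 𝒩) (hx : x ∈ L) : n * x * n⁻¹ ∈ L := by
  refine C.le_L St (K := L.map (MulAut.conj n).toMonoidHom) ?_ ((C.isPGroup_L St).map _) ?_ ⟨x, hx, rfl⟩
  · rintro _ ⟨y, hy, rfl⟩
    exact C.conj_mem_cent St hn (C.L_le hy)
  · rintro c hc _ ⟨y, hy, rfl⟩
    refine ⟨n⁻¹ * c * n * y * (n⁻¹ * c * n)⁻¹, C.L_normal St ?_ hy, ?_⟩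
    · simpa using C.conj_mem_cent St (inv_mem hn) hc
    · simp only [MulEquiv.coe_toMonoidHom, MulAut.conj_apply]
      group

theorem norm_le : 𝒩 ≤ Subgroup.normalizer (L : Set G) := fun _ hn =>
  Subgroup.mem_normalizer_fintype fun _ hx => C.conj_mem_L St hn hx

/-- The centralizer of `T` in `E` is `S`. -/
theorem cent_T {d : G} (hd : d ∈ ℰ) (hc : ∀ t ∈ 𝒯, d * t = t * d) : d ∈ S := by
  haveI : Fact (Nat.Prime 2) := ⟨Nat.prime_two⟩
  obtain ⟨u, hu, huc⟩ := CfsgLib.LargeSubgroups.exists_good_top St.extra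
  let U : Subgroup ↥ℰ := (𝒯 : Subgroup G).subgroupOf ℰ
  have hzU : ∀ a : ↥ℰ, a ∈ Subgroup.center ↥ℰ → a ∈ U := fun a ha => by
    refine Subgroup.mem_subgroupOf.2 (C.S_le_T St ?_)
    have hz : (a : G) ∈ Subgroup.zpowers z := by
      rw [← St.center_E]
      exact ⟨a.2, Subgroup.mem_centralizer_iff.2 fun y hy =>
        congrArg Subtype.val (Subgroup.mem_center_iff.1 ha ⟨y, hy⟩)⟩
    exact (Subgroup.zpowers_le.2 C.z_mem) hz
  have hU : Nat.card U = 2 ^ (10 + 1) := by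
    rw [Nat.card_congr (Subgroup.subgroupOfEquivOfLe inf_le_left).toEquiv, C.card_E_cent]
  have hle := CfsgLib.LargeSubgroups.card_mul_card_centralizer_le hu 10 U
    (hzU u ((huc u).2 (Or.inr rfl))) hU
  rw [hU, St.cardE] at hle
  have hsub : S.subgroupOf ℰ ≤ Subgroup.centralizer (U : Set ↥ℰ) := fun a ha =>
    Subgroup.mem_centralizer_iff.2 fun t ht => Subtype.ext
      (Subgroup.mem_centralizer_iff.1 (Subgroup.mem_subgroupOf.1 ht).2 a (Subgroup.mem_subgroupOf.1 ha)).symm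
  have heq := Subgroup.eq_of_le_of_card_ge hsub (by
    rw [Nat.card_congr (Subgroup.subgroupOfEquivOfLe C.le_E).toEquiv, C.card_S]
    omega)
  have hdm : (⟨d, hd⟩ : ↥ℰ) ∈ Subgroup.centralizer (U : Set ↥ℰ) :=
    Subgroup.mem_centralizer_iff.2 fun t ht => Subtype.ext (hc t (Subgroup.mem_subgroupOf.1 ht)).symm
  rw [← heq] at hdm
  exact Subgroup.mem_subgroupOf.1 hdm

theorem exists_T_commutator : ∃ a ∈ 𝒯, ∃ b ∈ 𝒯, a * b * a⁻¹ * b⁻¹ = z := by
  by_contra hno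
  push Not at hno
  have hle : 𝒯 ≤ S := fun a ha => C.cent_T St ha.1 fun b hb => by
    rcases St.mem_zpowers_iff.1 (St.commutator_mem ha.1 hb.1) with e | e
    · exact mul_inv_eq_iff_eq_mul.1 (mul_inv_eq_one.1 e)
    · exact absurd e (hno a ha b hb)
  have := Subgroup.card_le_of_le hle
  rw [C.card_E_cent, C.card_S] at this
  norm_num at this

theorem conj_mem_S {n x : G} (hn : n ∈ 𝒩) (hx : x ∈ S) : n * x * n⁻¹ ∈ S :=
  (Subgroup.mem_normalizer_iff.1 hn x).1 hx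

theorem z_ne_one' : z ≠ 1 := St.z_ne_one

variable (hmove : ∃ n ∈ Subgroup.normalizer (S : Set G), n * z * n⁻¹ ≠ z)
include hmove

theorem orbit_z {y : G} (hy : y ∈ S) (hy1 : y ≠ 1) : ∃ n ∈ 𝒩, n * z * n⁻¹ = y := by
  by_cases hyz : y = z
  · exact ⟨1, one_mem _, by simp [hyz]⟩
  obtain ⟨m, hm, hne⟩ := hmove
  have hx1 : m * z * m⁻¹ ∉ Subgroup.zpowers z := fun h => by
    rcases St.mem_zpowers_iff.1 h with e | e
    · exact St.z_ne_one (conj_eq_one_iff.1 e)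
    · exact hne e
  have hy' : y ∉ Subgroup.zpowers z := fun h => by
    rcases St.mem_zpowers_iff.1 h with e | e
    exacts [hy1 e, hyz e]
  obtain ⟨n, hn, he⟩ := C.stab_trans _ (C.conj_mem_S St hm C.z_mem) hx1 y hy hy'
  exact ⟨n * m, mul_mem hn.2 hm, by rw [← he]; group⟩

theorem trans_S {x : G} (hx : x ∈ S) (hx1 : x ≠ 1) {y : G} (hy : y ∈ S) (hy1 : y ≠ 1) :
    ∃ n ∈ 𝒩, n * x * n⁻¹ = y := by
  obtain ⟨a, ha, rfl⟩ := C.orbit_z St hmove hx hx1
  obtain ⟨b, hb, rfl⟩ := C.orbit_z St hmove hy hy1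
  exact ⟨b * a⁻¹, mul_mem hb (inv_mem ha), by group⟩

theorem card_norm : Nat.card ↥𝒩 = 2 ^ 18 * 15 * 168 := by
  classical
  letI : MulAction ↥𝒩 ↥S := MulAction.compHom ↥S (Subgroup.normalizerMonoidHom S)
  have hsmul : ∀ (n : ↥𝒩) (a : ↥S), ((n • a : ↥S) : G) = n * a * (n : G)⁻¹ := fun _ _ => rfl
  have horb : MulAction.orbit ↥𝒩 (⟨z, C.z_mem⟩ : ↥S) = ({1}ᶜ : Set ↥S) := by
    ext a
    rw [Set.mem_compl_singleton_iff]
    constructor
    · rintro ⟨n, rfl⟩ h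
      exact St.z_ne_one (conj_eq_one_iff.1 ((hsmul n ⟨z, C.z_mem⟩).symm.trans (congrArg Subtype.val h)))
    · intro ha
      obtain ⟨n, hn, he⟩ := C.orbit_z St hmove a.2 fun h => ha (Subtype.ext h)
      exact ⟨⟨n, hn⟩, Subtype.ext ((hsmul ⟨n, hn⟩ ⟨z, C.z_mem⟩).trans he)⟩
  have hstab : Nat.card ↥(MulAction.stabilizer ↥𝒩 (⟨z, C.z_mem⟩ : ↥S)) = 2 ^ 18 * 15 * 24 := by
    rw [← C.card_stab]
    refine Nat.card_congr
      { toFun := fun n => ⟨((n : ↥𝒩) : G), Subgroup.mem_centralizer_singleton_iff.2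
          (mul_inv_eq_iff_eq_mul.1 ((hsmul n.1 ⟨z, C.z_mem⟩).symm.trans (congrArg Subtype.val n.2))),
          (n : ↥𝒩).2⟩
        invFun := fun n => ⟨⟨n.1, n.2.2⟩, Subtype.ext ((hsmul _ _).trans
          (mul_inv_eq_iff_eq_mul.2 (Subgroup.mem_centralizer_singleton_iff.1 n.2.1)))⟩
        left_inv := fun n => rfl
        right_inv := fun n => rfl }
  have horb7 : Nat.card ↥(MulAction.orbit ↥𝒩 (⟨z, C.z_mem⟩ : ↥S)) = 7 := by
    rw [horb, Nat.card_coe_set_eq, Set.ncard_compl, C.card_S, Set.ncard_singleton]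
  rw [Subgroup.card_eq_card_quotient_mul_card_subgroup (MulAction.stabilizer ↥𝒩 (⟨z, C.z_mem⟩ : ↥S)),
    ← Nat.card_congr (MulAction.orbitEquivQuotientStabilizer ↥𝒩 (⟨z, C.z_mem⟩ : ↥S)), horb7, hstab]
  norm_num

/-- The action of the normalizer on the point. -/
theorem exists_rho : ∃ ρ : ↥𝒩 →* Matrix.SpecialLinearGroup (Fin 3) (ZMod 2),
    Function.Surjective ρ ∧ ∀ n, ρ n = 1 ↔ (n : G) ∈ 𝒞 := by
  obtain ⟨e⟩ := nonempty_mulAut_eight (A := ↥S) C.card_S fun a => Subtype.ext (C.sq a a.2)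
  let ρ : ↥𝒩 →* Matrix.SpecialLinearGroup (Fin 3) (ZMod 2) :=
    e.toMonoidHom.comp (Subgroup.normalizerMonoidHom S)
  have hker : ∀ n : ↥𝒩, ρ n = 1 ↔ (n : G) ∈ 𝒞 := by
    intro n
    refine (EmbeddingLike.map_eq_one_iff (f := e)).trans ⟨fun h => ?_, fun h => ?_⟩
    · refine Subgroup.mem_centralizer_iff.2 fun s hs => ?_
      exact (mul_inv_eq_iff_eq_mul.1 (congrArg Subtype.val (MulEquiv.congr_fun h ⟨s, hs⟩))).symm
    · refine MulEquiv.ext fun s => Subtype.ext ?_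
      show (n : G) * s * (n : G)⁻¹ = s
      exact mul_inv_eq_iff_eq_mul.2 (Subgroup.mem_centralizer_iff.1 h s s.2).symm
  refine ⟨ρ, ?_, hker⟩
  have hk : ρ.ker = (𝒞 : Subgroup G).subgroupOf 𝒩 := Subgroup.ext fun n => hker n
  have h := ρ.ker.card_mul_index
  rw [Subgroup.index_ker, hk,
    Nat.card_congr (Subgroup.subgroupOfEquivOfLe (Subgroup.centralizer_le_normalizer _)).toEquiv,
    C.card_C, C.card_norm St hmove] at h
  rw [← MonoidHom.range_eq_top]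
  exact Subgroup.eq_top_of_card_eq _ (by rw [card_SL_three_two]; omega)

/-- Two different conjugates of `T` generate `L`. -/
theorem L_eq_mul {m : G} (hm : m ∈ 𝒩) (hmz : m * z * m⁻¹ ≠ z) {l : G} (hl : l ∈ L) :
    ∃ a ∈ 𝒯, ∃ b ∈ 𝒯, l = a * (m * b * m⁻¹) := by
  set T : Subgroup G := 𝒯 with hT
  set T' : Subgroup G := T.map (MulAut.conj m).toMonoidHom with hT'
  have hT'C : T' ≤ 𝒞 := by
    rintro _ ⟨b, hb, rfl⟩
    exact C.conj_mem_cent St hm hb.2
  have hT'L : T' ≤ L := by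
    rintro _ ⟨b, hb, rfl⟩
    exact C.conj_mem_L St hm (C.E_le_L hb)
  have hT'n : ∀ c ∈ 𝒞, ∀ x ∈ T', c * x * c⁻¹ ∈ T' := by
    rintro c hc _ ⟨b, hb, rfl⟩
    refine ⟨m⁻¹ * c * m * b * (m⁻¹ * c * m)⁻¹, C.T_normal St ?_ hb, ?_⟩
    · simpa using C.conj_mem_cent St (inv_mem hm) hc
    · simp only [MulEquiv.coe_toMonoidHom, MulAut.conj_apply]
      group
  have hnorm : T' ≤ Subgroup.normalizer (T : Set G) := fun x hx =>
    Subgroup.mem_normalizer_fintype fun t ht => C.T_normal St (hT'C hx) ht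
  have hX : T ⊔ T' = L := by
    refine (C.irred (T ⊔ T') le_sup_left (sup_le C.E_le_L hT'L) ?_).resolve_left fun e => hmz ?_
    · intro c hc x hx
      rw [← SetLike.mem_coe, Subgroup.coe_mul_of_right_le_normalizer_left _ _ hnorm] at hx
      obtain ⟨a, ha, b, hb, rfl⟩ := hx
      rw [show c * (a * b) * c⁻¹ = (c * a * c⁻¹) * (c * b * c⁻¹) by group]
      exact Subgroup.mul_mem_sup (C.T_normal St hc ha) (hT'n c hc b hb)
    · obtain ⟨a, ha, b, hb, hab⟩ := C.exists_T_commutator St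
      have hle : T' ≤ T := le_sup_right.trans e.le
      have h1 := St.commutator_mem (hle ⟨a, ha, rfl⟩ : _ ∈ T).1 (hle ⟨b, hb, rfl⟩ : _ ∈ T).1
      simp only [MulEquiv.coe_toMonoidHom, MulAut.conj_apply] at h1
      rw [show m * a * m⁻¹ * (m * b * m⁻¹) * (m * a * m⁻¹)⁻¹ * (m * b * m⁻¹)⁻¹ =
        m * (a * b * a⁻¹ * b⁻¹) * m⁻¹ by group, hab] at h1
      exact (St.mem_zpowers_iff.1 h1).resolve_left fun h => St.z_ne_one (conj_eq_one_iff.1 h)
  rw [← hX, ← SetLike.mem_coe, Subgroup.coe_mul_of_right_le_normalizer_left _ _ hnorm] at hl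
  obtain ⟨a, ha, _, ⟨b, hb, rfl⟩, rfl⟩ := hl
  exact ⟨a, ha, b, hb, rfl⟩

/-- Squares and commutators of `L` lie in `T`. -/
theorem sq_comm_mem_T {x y : G} (hx : x ∈ L) (hy : y ∈ L) :
    x * x ∈ 𝒯 ∧ x * y * x⁻¹ * y⁻¹ ∈ 𝒯 := by
  obtain ⟨m, hm, hmz⟩ := hmove
  have key : ∀ d : G, d ∈ Subgroup.zpowers z → m * d * m⁻¹ ∈ 𝒯 := fun d hd =>
    C.S_le_T St (C.conj_mem_S St hm ((Subgroup.zpowers_le.2 C.z_mem) hd))
  have hn : ∀ {c t : G}, c ∈ L → t ∈ 𝒯 → c * t * c⁻¹ ∈ 𝒯 := fun hc ht =>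
    C.T_normal St (C.L_le hc) ht
  obtain ⟨a, ha, b, hb, rfl⟩ := C.L_eq_mul St ⟨m, hm, hmz⟩ hm hmz hx
  obtain ⟨a', ha', b', hb', rfl⟩ := C.L_eq_mul St ⟨m, hm, hmz⟩ hm hmz hy
  have hbL := C.conj_mem_L St hm (C.E_le_L hb)
  have hbL' := C.conj_mem_L St hm (C.E_le_L hb')
  constructor
  · rw [show a * (m * b * m⁻¹) * (a * (m * b * m⁻¹)) =
      a * ((m * b * m⁻¹) * a * (m * b * m⁻¹)⁻¹) * (m * (b * b) * m⁻¹) by group]
    exact mul_mem (mul_mem ha (hn hbL ha)) (key _ (St.sq_mem hb.1))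
  · have h1 : m * b * m⁻¹ * (m * b' * m⁻¹) * (m * b * m⁻¹)⁻¹ * (m * b' * m⁻¹)⁻¹ ∈ 𝒯 := by
      rw [show m * b * m⁻¹ * (m * b' * m⁻¹) * (m * b * m⁻¹)⁻¹ * (m * b' * m⁻¹)⁻¹ =
        m * (b * b' * b⁻¹ * b'⁻¹) * m⁻¹ by group]
      exact key _ (St.commutator_mem hb.1 hb'.1)
    rw [show a * (m * b * m⁻¹) * (a' * (m * b' * m⁻¹)) * (a * (m * b * m⁻¹))⁻¹ * (a' * (m * b' * m⁻¹))⁻¹ =
      a * ((m * b * m⁻¹) * a' * (m * b * m⁻¹)⁻¹) *
        (m * b * m⁻¹ * (m * b' * m⁻¹) * (m * b * m⁻¹)⁻¹ * (m * b' * m⁻¹)⁻¹) *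
        ((m * b' * m⁻¹) * a⁻¹ * (m * b' * m⁻¹)⁻¹) * a'⁻¹ by group]
    exact mul_mem (mul_mem (mul_mem (mul_mem ha (hn hbL ha')) h1) (hn hbL' (inv_mem ha))) (inv_mem ha')

/-- An element lying in every conjugate of `T` lies in `S`. -/
theorem mem_S_of_inter {d : G} (hd : ∀ n ∈ 𝒩, n * d * n⁻¹ ∈ 𝒯) : d ∈ S := by
  have hdT : d ∈ 𝒯 := by simpa using hd 1 (one_mem _)
  refine C.cent_T St hdT.1 fun l hl => ?_
  have hlC : l ∈ 𝒞 := hl.2
  set w := d * l * d⁻¹ * l⁻¹ with hw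
  suffices h : w = 1 by
    exact mul_inv_eq_iff_eq_mul.1 (mul_inv_eq_one.1 h)
  have hcS : ∀ {g s : G}, g ∈ 𝒞 → s ∈ S → g * s * g⁻¹ = s := fun hg hs =>
    mul_inv_eq_iff_eq_mul.2 (Subgroup.mem_centralizer_iff.1 hg _ hs).symm
  have hone : ∀ n ∈ 𝒩, ∀ t, t ∈ 𝒯 → d * (n * t * n⁻¹) * d⁻¹ * (n * t * n⁻¹)⁻¹ = 1 ∨
      d * (n * t * n⁻¹) * d⁻¹ * (n * t * n⁻¹)⁻¹ = n * z * n⁻¹ := by
    intro n hn t ht
    have h1 := St.commutator_mem (hd n⁻¹ (inv_mem hn)).1 ht.1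
    rw [show d * (n * t * n⁻¹) * d⁻¹ * (n * t * n⁻¹)⁻¹ =
      n * ((n⁻¹ * d * n⁻¹⁻¹) * t * (n⁻¹ * d * n⁻¹⁻¹)⁻¹ * t⁻¹) * n⁻¹ by group]
    rcases St.mem_zpowers_iff.1 h1 with e | e <;> rw [e]
    · left; group
    · right; rfl
  have hpair : ∀ u ∈ S, ∀ v ∈ S, u ≠ 1 → v ≠ 1 → u ≠ v → w = 1 ∨ w = u ∨ w = v ∨ w = u * v := by
    intro u hu v hv hu1 hv1 huv
    obtain ⟨n, hn, hnu⟩ := C.orbit_z St hmove hu hu1
    obtain ⟨k, hk, hkv⟩ := C.orbit_z St hmove hv hv1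
    have hm : n⁻¹ * k ∈ 𝒩 := mul_mem (inv_mem hn) hk
    have hmz : n⁻¹ * k * z * (n⁻¹ * k)⁻¹ ≠ z := fun e => huv (by
      rw [← hnu, ← hkv]
      calc n * z * n⁻¹ = n * (n⁻¹ * k * z * (n⁻¹ * k)⁻¹) * n⁻¹ := by rw [e]
        _ = k * z * k⁻¹ := by group)
    obtain ⟨a, ha, b, hb, hab⟩ := C.L_eq_mul St hmove hm hmz
      (C.conj_mem_L St (inv_mem hn) (C.E_le_L hl))
    have hl' : l = (n * a * n⁻¹) * (k * b * k⁻¹) := by
      calc l = n * (n⁻¹ * l * n⁻¹⁻¹) * n⁻¹ := by group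
        _ = n * (a * (n⁻¹ * k * b * (n⁻¹ * k)⁻¹)) * n⁻¹ := by rw [hab]
        _ = _ := by group
    have haC : n * a * n⁻¹ ∈ 𝒞 := C.conj_mem_cent St hn ha.2
    have h12 : w = d * (n * a * n⁻¹) * d⁻¹ * (n * a * n⁻¹)⁻¹ * ((n * a * n⁻¹) *
        (d * (k * b * k⁻¹) * d⁻¹ * (k * b * k⁻¹)⁻¹) * (n * a * n⁻¹)⁻¹) := by
      rw [hw, hl']; group
    have h2 := hone k hk b hb
    rw [hkv] at h2
    have h2S : d * (k * b * k⁻¹) * d⁻¹ * (k * b * k⁻¹)⁻¹ ∈ S := by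
      rcases h2 with e | e <;> rw [e]
      exacts [one_mem _, hv]
    rw [hcS haC h2S] at h12
    have h1 := hone n hn a ha
    rw [hnu] at h1
    rcases h1 with e1 | e1 <;> rcases h2 with e2 | e2 <;> rw [h12, e1, e2]
    · left; exact mul_one _
    · right; right; left; exact one_mul _
    · right; left; exact mul_one _
    · right; right; right; rfl
  by_contra hw1
  have hex : ∀ A : Finset ↥S, A.card ≤ 4 → ∃ a : ↥S, a ∉ A := fun A hA => by
    by_contra hno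
    push Not at hno
    have h8 : Nat.card ↥S ≤ A.card := by
      rw [Nat.card_congr (Equiv.subtypeUnivEquiv hno).symm, Nat.card_eq_fintype_card, Fintype.card_coe]
    rw [C.card_S] at h8
    omega
  classical
  have hwS : w ∈ S := by
    rcases St.mem_zpowers_iff.1 (St.commutator_mem hdT.1 hl.1) with e | e
    · rw [hw, e]; exact one_mem _
    · rw [hw, e]; exact C.z_mem
  obtain ⟨u, hu⟩ := hex {1, ⟨w, hwS⟩} (Finset.card_le_two.trans (by norm_num))
  obtain ⟨v, hv⟩ := hex {1, ⟨w, hwS⟩, u, u * ⟨w, hwS⟩} Finset.card_le_four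
  simp only [Finset.mem_insert, Finset.mem_singleton, not_or] at hu hv
  rcases hpair u u.2 v v.2 (fun e => hu.1 (Subtype.ext e)) (fun e => hv.1 (Subtype.ext e))
      (fun e => hv.2.2.1 (Subtype.ext e.symm)) with e | e | e | e
  · exact hw1 e
  · exact hu.2 (Subtype.ext e.symm)
  · exact hv.2.1 (Subtype.ext e.symm)
  · refine hv.2.2.2 (Subtype.ext ?_)
    show (v : G) = u * w
    rw [e, ← mul_assoc, C.sq _ u.2, one_mul]

theorem sq_comm_mem_S {x y : G} (hx : x ∈ L) (hy : y ∈ L) :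
    x * x ∈ S ∧ x * y * x⁻¹ * y⁻¹ ∈ S := by
  constructor <;> refine C.mem_S_of_inter St hmove fun n hn => ?_
  · rw [show n * (x * x) * n⁻¹ = (n * x * n⁻¹) * (n * x * n⁻¹) by group]
    exact (C.sq_comm_mem_T St hmove (C.conj_mem_L St hn hx) (C.conj_mem_L St hn hx)).1
  · rw [show n * (x * y * x⁻¹ * y⁻¹) * n⁻¹ =
      (n * x * n⁻¹) * (n * y * n⁻¹) * (n * x * n⁻¹)⁻¹ * (n * y * n⁻¹)⁻¹ by group]
    exact (C.sq_comm_mem_T St hmove (C.conj_mem_L St hn hx) (C.conj_mem_L St hn hy)).2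

theorem exists_L_commutator {s : G} (hs : s ∈ S) (hs1 : s ≠ 1) :
    ∃ a ∈ L, ∃ b ∈ L, a * b * a⁻¹ * b⁻¹ = s := by
  obtain ⟨n, hn, rfl⟩ := C.orbit_z St hmove hs hs1
  obtain ⟨a, ha, b, hb, hab⟩ := C.exists_T_commutator St
  exact ⟨_, C.conj_mem_L St hn (C.E_le_L ha), _, C.conj_mem_L St hn (C.E_le_L hb), by rw [← hab]; group⟩

theorem mem_S_iff (x : G) : x ∈ S ↔ x ∈ L ∧ ∀ y ∈ L, x * y = y * x := by
  constructor
  · intro hx
    exact ⟨C.E_le_L (C.S_le_T St hx),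
      fun y hy => Subgroup.mem_centralizer_iff.1 (C.L_le hy) x hx⟩
  rintro ⟨hxL, hx⟩
  set Z : Subgroup G := L ⊓ Subgroup.centralizer (L : Set G) with hZ
  set T : Subgroup G := 𝒯 with hT
  have hxZ : x ∈ Z := ⟨hxL, Subgroup.mem_centralizer_iff.2 fun y hy => (hx y hy).symm⟩
  have hTZ : T ≤ Subgroup.normalizer (Z : Set G) := fun t ht =>
    Subgroup.mem_normalizer_fintype fun a ha => by
      rw [Subgroup.mem_centralizer_iff.1 ha.2 t (C.E_le_L ht), mul_inv_cancel_right]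
      exact ha
  have hZn : ∀ c ∈ 𝒞, ∀ a ∈ Z, c * a * c⁻¹ ∈ Z := fun c hc a ha => by
    refine ⟨C.L_normal St hc ha.1, Subgroup.mem_centralizer_iff.2 fun y hy => ?_⟩
    have hy' := C.L_normal St (inv_mem hc) hy
    calc y * (c * a * c⁻¹) = c * ((c⁻¹ * y * c⁻¹⁻¹) * a) * c⁻¹ := by group
      _ = c * (a * (c⁻¹ * y * c⁻¹⁻¹)) * c⁻¹ := by rw [Subgroup.mem_centralizer_iff.1 ha.2 _ hy']
      _ = c * a * c⁻¹ * y := by group
  rcases C.irred (Z ⊔ T) le_sup_right (sup_le inf_le_left C.E_le_L) (fun c hc a ha => by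
      rw [← SetLike.mem_coe, Subgroup.coe_mul_of_right_le_normalizer_left _ _ hTZ] at ha
      obtain ⟨a, ha, b, hb, rfl⟩ := ha
      rw [show c * (a * b) * c⁻¹ = (c * a * c⁻¹) * (c * b * c⁻¹) by group]
      exact Subgroup.mul_mem_sup (hZn c hc a ha) (C.T_normal St hc hb)) with e | e
  · have hxT : x ∈ T := (le_of_eq e) (Subgroup.mem_sup_left hxZ)
    exact C.cent_T St hxT.1 fun t ht => hx t (C.E_le_L ht)
  · exfalso
    obtain ⟨m, hm, hmz⟩ := hmove
    obtain ⟨a, ha, b, hb, hab⟩ := C.exists_L_commutator St ⟨m, hm, hmz⟩ (C.conj_mem_S St hm C.z_mem)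
      fun h => St.z_ne_one (conj_eq_one_iff.1 h)
    rw [← e, ← SetLike.mem_coe, Subgroup.coe_mul_of_right_le_normalizer_left _ _ hTZ] at ha hb
    obtain ⟨p, hp, t, ht, rfl⟩ := ha
    obtain ⟨p', hp', t', ht', rfl⟩ := hb
    have hcen : ∀ {p y : G}, p ∈ Z → y ∈ L → p * y = y * p := fun hp hy =>
      (Subgroup.mem_centralizer_iff.1 hp.2 _ hy).symm
    refine hmz ?_
    have h1 : p * t * (p' * t') * (p * t)⁻¹ * (p' * t')⁻¹ = t * t' * t⁻¹ * t'⁻¹ := by
      have e1 : t * p' = p' * t := (hcen hp' (C.E_le_L ht)).symm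
      have e2 : p * p' = p' * p := hcen hp hp'.1
      have e3 : p * (t * t' * t⁻¹) = (t * t' * t⁻¹) * p :=
        hcen hp (mul_mem (mul_mem (C.E_le_L ht) (C.E_le_L ht')) (inv_mem (C.E_le_L ht)))
      calc p * t * (p' * t') * (p * t)⁻¹ * (p' * t')⁻¹
          = p * (t * p') * t' * t⁻¹ * p⁻¹ * t'⁻¹ * p'⁻¹ := by group
        _ = (p * p') * (t * t' * t⁻¹) * p⁻¹ * t'⁻¹ * p'⁻¹ := by rw [e1]; group
        _ = p' * (p * (t * t' * t⁻¹)) * p⁻¹ * t'⁻¹ * p'⁻¹ := by rw [e2]; group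
        _ = p' * (t * t' * t⁻¹ * t'⁻¹) * p'⁻¹ := by rw [e3]; group
        _ = t * t' * t⁻¹ * t'⁻¹ := by
          rw [hcen hp' (mul_mem (mul_mem (mul_mem (C.E_le_L ht) (C.E_le_L ht'))
            (inv_mem (C.E_le_L ht))) (inv_mem (C.E_le_L ht'))), mul_inv_cancel_right]
    rw [h1] at hab
    have h2 := St.commutator_mem ht.1 ht'.1
    rw [hab] at h2
    exact (St.mem_zpowers_iff.1 h2).resolve_left fun h => St.z_ne_one (conj_eq_one_iff.1 h)

theorem center_eq : (Subgroup.center ↥L).map L.subtype = S := by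
  ext x
  rw [C.mem_S_iff St hmove x, Subgroup.mem_map]
  constructor
  · rintro ⟨a, ha, rfl⟩
    exact ⟨a.2, fun y hy => (congrArg Subtype.val (Subgroup.mem_center_iff.1 ha ⟨y, hy⟩)).symm⟩
  · rintro ⟨hxL, hx⟩
    exact ⟨⟨x, hxL⟩, Subgroup.mem_center_iff.2 fun y => Subtype.ext (hx y y.2).symm, rfl⟩

theorem special_L : IsSpecial 2 ↥L := by
  haveI : Fact (Nat.Prime 2) := ⟨Nat.prime_two⟩
  have hp := C.isPGroup_L St
  have hmem : ∀ a : ↥L, a ∈ Subgroup.center ↥L ↔ (a : G) ∈ S := fun a => by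
    rw [← C.center_eq St hmove, Subgroup.mem_map]
    exact ⟨fun h => ⟨a, h, rfl⟩, fun ⟨b, hb, e⟩ => (Subtype.ext e : b = a) ▸ hb⟩
  have hc1 : commutator ↥L ≤ Subgroup.center ↥L := by
    rw [commutator_def, Subgroup.commutator_le]
    intro a _ b _
    rw [hmem, commutatorElement_def]
    exact (C.sq_comm_mem_S St hmove a.2 b.2).2
  have hc2 : Subgroup.center ↥L ≤ commutator ↥L := fun a ha => by
    by_cases h1 : (a : G) = 1
    · rw [show a = 1 from Subtype.ext h1]; exact one_mem _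
    obtain ⟨x, hx, y, hy, he⟩ := C.exists_L_commutator St hmove ((hmem a).1 ha) h1
    rw [show a = ⁅(⟨x, hx⟩ : ↥L), (⟨y, hy⟩ : ↥L)⁆ from Subtype.ext (by
      rw [commutatorElement_def]; exact he.symm)]
    exact Subgroup.commutator_mem_commutator (Subgroup.mem_top _) (Subgroup.mem_top _)
  refine ⟨hp, le_antisymm (CfsgLib.PGroups.frattini_le_of (p := 2) hc1 fun a => ?_)
    (hc2.trans (CfsgLib.PGroups.commutator_le_frattini hp)), le_antisymm hc1 hc2⟩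
  rw [hmem, pow_two]
  exact (C.sq_comm_mem_S St hmove a.2 a.2).1

theorem norm_L_eq : Subgroup.normalizer (L : Set G) = 𝒩 := by
  refine le_antisymm (fun n hn => Subgroup.mem_normalizer_fintype fun x hx => ?_) (C.norm_le St)
  obtain ⟨hxL, hxc⟩ := (C.mem_S_iff St hmove x).1 hx
  refine (C.mem_S_iff St hmove _).2 ⟨(Subgroup.mem_normalizer_iff.1 hn x).1 hxL, fun y hy => ?_⟩
  have hy' := (Subgroup.mem_normalizer_iff.1 (inv_mem hn) y).1 hy
  calc n * x * n⁻¹ * y = n * (x * (n⁻¹ * y * n⁻¹⁻¹)) * n⁻¹ := by group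
    _ = n * ((n⁻¹ * y * n⁻¹⁻¹) * x) * n⁻¹ := by rw [hxc _ hy']
    _ = y * (n * x * n⁻¹) := by group

theorem exists_theta : ∃ θ : ↥𝒩 →* Equiv.Perm (Fin 5) × Matrix.SpecialLinearGroup (Fin 3) (ZMod 2),
    Function.Surjective θ ∧ θ.ker = L.subgroupOf 𝒩 ∧ ∀ n, (θ n).2 = 1 ↔ (n : G) ∈ 𝒞 := by
  obtain ⟨φ, hφ, hk⟩ := C.quot
  obtain ⟨ρ, hρ, hρk⟩ := C.exists_rho St hmove
  have hφ1 : ∀ (c : G) (hc : c ∈ 𝒞), φ ⟨c, hc⟩ = 1 ↔ c ∈ L := fun c hc => by
    rw [← MonoidHom.mem_ker, hk]; exact Subgroup.mem_subgroupOf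
  have hex : ∀ n : ↥𝒩, ∃ s : Equiv.Perm (Fin 5), ∀ c : ↥𝒞,
      φ ⟨(n : G) * c * (n : G)⁻¹, C.conj_mem_cent St n.2 c.2⟩ = s * φ c * s⁻¹ := by
    intro n
    let cj : ↥𝒞 →* ↥𝒞 := MonoidHom.mk'
      (fun c => ⟨(n : G) * c * (n : G)⁻¹, C.conj_mem_cent St n.2 c.2⟩)
      (fun a b => Subtype.ext (by simp [mul_assoc]))
    have hle : φ.ker ≤ (φ.comp cj).ker := fun c hc => by
      rw [hk] at hc
      exact (hφ1 _ _).2 (C.conj_mem_L St n.2 (Subgroup.mem_subgroupOf.1 hc))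
    let a : Equiv.Perm (Fin 5) →* Equiv.Perm (Fin 5) := φ.liftOfSurjective hφ ⟨φ.comp cj, hle⟩
    have ha : ∀ c, a (φ c) = φ (cj c) := fun c =>
      MonoidHom.liftOfRightInverse_comp_apply _ _ _ ⟨φ.comp cj, hle⟩ c
    have hsurj : Function.Surjective a := fun s => by
      obtain ⟨c, rfl⟩ := hφ s
      obtain ⟨c', hc'⟩ : ∃ c', cj c' = c := ⟨⟨(n : G)⁻¹ * c * (n : G), by
        simpa using C.conj_mem_cent St (inv_mem n.2) c.2⟩, Subtype.ext (by
          show (n : G) * ((n : G)⁻¹ * c * (n : G)) * (n : G)⁻¹ = c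
          group)⟩
      exact ⟨φ c', by rw [ha, hc']⟩
    obtain ⟨s, hs⟩ := perm5_aut (MulEquiv.ofBijective a
      ⟨Finite.injective_iff_surjective.2 hsurj, hsurj⟩)
    exact ⟨s, fun c => (ha c).symm.trans (hs (φ c))⟩
  choose σ hσ using hex
  have huniq : ∀ (n : ↥𝒩) (s : Equiv.Perm (Fin 5)), (∀ c : ↥𝒞,
      φ ⟨(n : G) * c * (n : G)⁻¹, C.conj_mem_cent St n.2 c.2⟩ = s * φ c * s⁻¹) → σ n = s := by
    intro n s hs
    have hcen := perm5_center (s⁻¹ * σ n) fun b => by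
      obtain ⟨c, rfl⟩ := hφ b
      have e := (hσ n c).symm.trans (hs c)
      calc s⁻¹ * σ n * φ c = s⁻¹ * (σ n * φ c * (σ n)⁻¹) * σ n := by group
        _ = φ c * (s⁻¹ * σ n) := by rw [e]; group
    exact (inv_mul_eq_one.1 hcen).symm
  have hmul : ∀ a b, σ (a * b) = σ a * σ b := fun a b => huniq _ _ fun c => by
    rw [show σ a * σ b * φ c * (σ a * σ b)⁻¹ = σ a * (σ b * φ c * (σ b)⁻¹) * (σ a)⁻¹ by group,
      ← hσ b c, ← hσ a]
    congr 1
    exact Subtype.ext (by simp [mul_assoc])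
  have hcent : ∀ (n : ↥𝒩) (hn : (n : G) ∈ 𝒞), σ n = φ ⟨n, hn⟩ := fun n hn => huniq _ _ fun c => by
    rw [← map_inv, ← map_mul, ← map_mul]
    rfl
  let θ : ↥𝒩 →* Equiv.Perm (Fin 5) × Matrix.SpecialLinearGroup (Fin 3) (ZMod 2) :=
    MonoidHom.mk' (fun n => (σ n, ρ n)) fun a b => Prod.ext (hmul a b) (map_mul ρ a b)
  refine ⟨θ, ?_, ?_, hρk⟩
  · rintro ⟨s, a⟩
    obtain ⟨n, rfl⟩ := hρ a
    obtain ⟨c, hc⟩ := hφ (s * (σ n)⁻¹)
    set c' : ↥𝒩 := ⟨c, Subgroup.centralizer_le_normalizer _ c.2⟩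
    refine ⟨c' * n, Prod.ext ?_ ?_⟩
    · show σ (c' * n) = s
      rw [hmul, hcent c' c.2, show (⟨(c' : G), c.2⟩ : ↥𝒞) = c from rfl, hc, inv_mul_cancel_right]
    · show ρ (c' * n) = ρ n
      rw [map_mul, (hρk c').2 c.2, one_mul]
  · ext n
    rw [MonoidHom.mem_ker, Subgroup.mem_subgroupOf]
    show ((σ n, ρ n) : _ × _) = 1 ↔ _
    rw [Prod.mk_eq_one]
    constructor
    · rintro ⟨h1, h2⟩
      have hn := (hρk n).1 h2
      rw [hcent n hn] at h1
      exact (hφ1 _ hn).1 h1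
    · intro hn
      exact ⟨(hcent n (C.L_le hn)).trans ((hφ1 _ _).2 hn), (hρk n).2 (C.L_le hn)⟩

/-- The normalizer of a point. -/
theorem toNorm : PointNorm z S L :=
  { C with
    trans := fun _ hx hx1 _ hy hy1 => C.trans_S St hmove hx hx1 hy hy1
    card_N := C.card_norm St hmove
    norm_eq := C.norm_L_eq St hmove
    center_L := C.mem_S_iff St hmove
    special := C.special_L St hmove
    quotN := C.exists_theta St hmove }

end PointCent

end

end CfsgLib.JFour
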