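import Cfsg.Agent.Lib.JFour.PointElem
import Cfsg.Agent.Lib.JFour.PointLocal
import Cfsg.Agent.Lib.JFour.SevenCount

/-!
# Groups of Janko-four type: the involutions of `E` fixed by an element of order five
-/

set_option autoImplicit false
set_option linter.unusedSectionVars false
set_option linter.style.haveILetI false

open Cfsg

namespace CfsgLib.JFour

namespace PointFrame

variable {G : Type*} [Group G] [Finite G] {z : G} {P N : Subgroup G}

set_option quotPrecheck false in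
local notation "ℋ" => Subgroup.centralizer (singleton z : Set G)
set_option quotPrecheck false in
local notation "ℰ" => twoCoreOfCentralizer z

variable {π : ↥(Subgroup.centralizer ({z} : Set G)) →* MulAut ↥Spor.M22}
  {M B : Subgroup (MulAut ↥Spor.M22)} {R W : Subgroup G} {five : Set (Subgroup G)} {A : Set G}
  {f : MulAut ↥Spor.M22 →* Equiv.Perm (Fin 22)} {Hx : Finset (Fin 22)}

set_option quotPrecheck false in
local notation "𝒰" => HexFrame.U (twoCoreOfCentralizer z) W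

variable (F : PointFrame (P := P) (N := N) π M B R W five A f Hx)
include F

/-- An element of order five over `M` fixes a special point of `U`. -/
theorem exists_five_fixed {q : G} (hq : q ∈ preH π M) (ho : orderOf q = 5) :
    ∃ T ∈ five, T ≤ Subgroup.centralizer ({q} : Set G) := by
  obtain ⟨q₀, hq₀, ho₀⟩ := F.exists_five_M0
  obtain ⟨m, hm, hmq⟩ := F.exists_conj_five (X := preH π M) (fun g hg => (mem_preH.1 hg).1) hq
    (F.M0_le_preH hq₀) ho ho₀
  obtain ⟨-, T, hT, hTe⟩ := F.fix_U_M0 (Subgroup.zpowers_le.2 hq₀ hmq)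
    ((MulEquiv.orderOf_eq (MulAut.conj m) q).trans ho)
  refine ⟨_, (F.pt_map (inv_mem hm) (F.fiveData.isPt T hT)).2 hT, ?_⟩
  rintro _ ⟨t, ht, rfl⟩
  rw [← hTe] at ht
  have h := Subgroup.mem_centralizer_singleton_iff.1 ht.2
  refine Subgroup.mem_centralizer_singleton_iff.2 ?_
  simp only [MulEquiv.coe_toMonoidHom, MulAut.conj_apply, inv_inv]
  calc m⁻¹ * t * m * q = m⁻¹ * (t * (m * q * m⁻¹)) * m := by group
    _ = m⁻¹ * (m * q * m⁻¹ * t) * m := by rw [h]
    _ = q * (m⁻¹ * t * m) := by group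

/-- An element of order five of `H` normalizes two different conjugates of `U`. -/
theorem exists_two_cosets {q : G} (hq : q ∈ ℋ) (ho : orderOf q = 5) :
    ∃ h₁ ∈ ℋ, ∃ h₂ ∈ ℋ, h₁⁻¹ * q * h₁ ∈ preH π M ∧ h₂⁻¹ * q * h₂ ∈ preH π M ∧
      h₁⁻¹ * h₂ ∉ preH π M := by
  classical
  haveI : Fact (Nat.Prime 5) := ⟨by norm_num⟩
  let Q := (preH π M).subgroupOf ℋ
  let Z : Subgroup ↥ℋ := Subgroup.zpowers ⟨q, hq⟩
  have hZ : IsPGroup 5 ↥Z := IsPGroup.of_card (n := 1) (by
    rw [Nat.card_zpowers, Subgroup.orderOf_mk, ho, pow_one])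
  have h77 : Nat.card (↥ℋ ⧸ Q) = 77 := by
    have h := Subgroup.card_eq_card_quotient_mul_card_subgroup Q
    rw [F.setting.card_H, Nat.card_congr (Subgroup.subgroupOfEquivOfLe
      (fun g hg => (mem_preH.1 hg).1 : preH π M ≤ ℋ)).toEquiv, F.frame.card_preH_M] at h
    omega
  have hmod := hZ.card_modEq_card_fixedPoints (↥ℋ ⧸ Q)
  rw [h77] at hmod
  have hlt : 1 < (MulAction.fixedPoints ↥Z (↥ℋ ⧸ Q)).ncard := by
    rw [Nat.card_coe_set_eq, Nat.ModEq] at hmod
    omega
  obtain ⟨a, b, ha, hb, hab⟩ := (Set.one_lt_ncard_iff (Set.toFinite _)).1 hlt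
  have key : ∀ c ∈ MulAction.fixedPoints ↥Z (↥ℋ ⧸ Q),
      (c.out : G)⁻¹ * q * (c.out : G) ∈ preH π M := fun c hc => by
    have h1 : QuotientGroup.mk (s := Q) (⟨q, hq⟩ * c.out) = c := by
      conv_rhs => rw [← hc ⟨⟨q, hq⟩, Subgroup.mem_zpowers _⟩, ← QuotientGroup.out_eq' c]
      rfl
    have h2 : c.out⁻¹ * (⟨q, hq⟩ * c.out) ∈ Q :=
      QuotientGroup.eq.1 ((QuotientGroup.out_eq' c).trans h1.symm)
    have h3 := Subgroup.mem_subgroupOf.1 h2
    simpa [mul_assoc] using h3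
  refine ⟨_, a.out.2, _, b.out.2, key a ha, key b hb, fun h => hab ?_⟩
  rw [← QuotientGroup.out_eq' a, ← QuotientGroup.out_eq' b, QuotientGroup.eq]
  exact Subgroup.mem_subgroupOf.2 h

variable {S L : Subgroup G} (C : PointCent z S L) {q : G}
  (hq : q ∈ Subgroup.centralizer (S : Set G)) (ho : orderOf q = 5)
include C hq ho

theorem five_mem_H : q ∈ ℋ :=
  Subgroup.mem_centralizer_singleton_iff.2 (Subgroup.mem_centralizer_iff.1 hq z C.z_mem).symm

theorem five_comm {x : G} (hx : x ∈ S) : q * x = x * q := (Subgroup.mem_centralizer_iff.1 hq x hx).symm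

theorem card_sq_one_le :
    Nat.card {x : G // x ∈ ℰ ⊓ Subgroup.centralizer ({q} : Set G) ∧ x * x = 1} ≤ 20 := by
  haveI : Fact (Nat.Prime 5) := ⟨by norm_num⟩
  have St := F.setting
  have hqH := F.five_mem_H C hq ho
  set D := ℰ ⊓ Subgroup.centralizer ({q} : Set G) with hD
  have hzD : z ∈ D := ⟨St.z_mem_E, Subgroup.mem_centralizer_singleton_iff.2
    (St.comm_z hqH).symm⟩
  have conj_fix_iff : ∀ {a b : G}, a * b * a⁻¹ = b → a * b = b * a := fun h =>
    mul_inv_eq_iff_eq_mul.1 h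
  have h := CfsgLib.JFour.Seven.sq_count (A := ↥D) (z := ⟨z, hzD⟩)
    (fun h => St.z_ne_one (congrArg Subtype.val h)) (Subtype.ext St.z_mul_self)
    (fun x => Subtype.ext (St.comm_z (St.E_le x.2.1)))
    (fun x => (St.mem_zpowers_iff.1 (St.sq_mem x.2.1)).imp Subtype.ext Subtype.ext)
    (fun x y => (St.conj_eq y.2.1 x.2.1).imp
      (fun e => Subtype.ext (conj_fix_iff e))
      (fun e => Subtype.ext (by
        show (y : G) * x = z * ((x : G) * y)
        rw [← mul_assoc]; exact mul_inv_eq_iff_eq_mul.1 e)))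
    (fun w h1 h2 => by
      by_contra! hall
      rcases St.mem_zpowers_iff.1 (St.central_of_fixed (p := 5) (by norm_num) hqH
        (ho ▸ pow_orderOf_eq_one q) w.2.1 (Subgroup.mem_centralizer_singleton_iff.1 w.2.2).symm
        fun e he hqe => (congrArg Subtype.val
          (hall ⟨e, he, Subgroup.mem_centralizer_singleton_iff.2 hqe.symm⟩)).symm) with e | e
      exacts [h1 (Subtype.ext e), h2 (Subtype.ext e)])
  rw [Nat.card_congr (α := {x : ↥D // x * x = 1}) (β := {x : G // x ∈ D ∧ x * x = 1})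
    { toFun := fun a => ⟨a.1.1, a.1.2, congrArg Subtype.val a.2⟩
      invFun := fun a => ⟨⟨a.1, a.2.1⟩, Subtype.ext a.2.2⟩
      left_inv := fun a => rfl
      right_inv := fun a => rfl }, hD, F.card_E_fix hqH ho, ← hD] at h
  push_cast at h
  rcases sq_eq_sq_iff_eq_or_eq_neg.1 (h.trans (by norm_num : (2 : ℤ) * 32 = 8 ^ 2)) with e | e <;> omega

/-- An involution of `E` fixed by `q` lies in `S` or is special. -/
theorem fix_five_cases {e : G} (he : e ∈ ℰ) (hqe : q * e = e * q) (he2 : e * e = 1) :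
    e ∈ S ∨ ∃ h ∈ ℋ, h⁻¹ * q * h ∈ preH π M ∧ h⁻¹ * e * h ∈ specU ℰ W z five := by
  classical
  have St := F.setting
  have hqH := F.five_mem_H C hq ho
  obtain ⟨h₁, hh₁, h₂, hh₂, hq₁, hq₂, hne⟩ := F.exists_two_cosets hqH ho
  let D : Set G := {x | x ∈ ℰ ⊓ Subgroup.centralizer ({q} : Set G) ∧ x * x = 1}
  let Z : Set G := (Subgroup.zpowers z : Set G)
  have hzZ : Z.ncard = 2 := by
    rw [← Nat.card_coe_set_eq]
    exact (Nat.card_zpowers z).trans St.orderZ
  -- one special point at a coset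
  have key : ∀ h ∈ ℋ, h⁻¹ * q * h ∈ preH π M →
      ∃ X : Set G, X ⊆ D ∧ X.ncard = 6 ∧ ∀ x ∈ X, h⁻¹ * x * h ∈ specU ℰ W z five := by
    intro h hh hqh
    have ho' : orderOf (h⁻¹ * q * h) = 5 := by
      rw [← ho]
      simpa [MulAut.conj_apply] using MulEquiv.orderOf_eq (MulAut.conj h⁻¹) q
    obtain ⟨T, hT, hTc⟩ := F.exists_five_fixed hqh ho'
    have hTp := F.fiveData.isPt T hT
    refine ⟨(fun t => h * t * h⁻¹) '' ((T : Set G) \ Z), ?_, ?_, ?_⟩
    · rintro _ ⟨t, ⟨ht, -⟩, rfl⟩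
      have htq := Subgroup.mem_centralizer_singleton_iff.1 (hTc ht)
      refine ⟨⟨St.conj_mem_E hh (F.pt_le_E hTp ht), Subgroup.mem_centralizer_singleton_iff.2 ?_⟩, ?_⟩
      · calc h * t * h⁻¹ * q = h * (t * (h⁻¹ * q * h)) * h⁻¹ := by group
          _ = h * (h⁻¹ * q * h * t) * h⁻¹ := by rw [htq]
          _ = q * (h * t * h⁻¹) := by group
      · show h * t * h⁻¹ * (h * t * h⁻¹) = 1
        calc h * t * h⁻¹ * (h * t * h⁻¹) = h * (t * t) * h⁻¹ := by group
          _ = 1 := by rw [F.hex.U_sq (hTp.1.le_U ht), mul_one, mul_inv_cancel]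
    · rw [Set.ncard_image_of_injective _ fun a b e => by simpa using e,
        Set.ncard_sdiff (SetLike.coe_subset_coe.2 (Subgroup.zpowers_le.2 hTp.1.z_mem)), hzZ,
        ← Nat.card_coe_set_eq, SetLike.coe_sort_coe, hTp.2]
    · rintro _ ⟨t, ⟨ht, htz⟩, rfl⟩
      rw [show h⁻¹ * (h * t * h⁻¹) * h = t by group]
      exact ⟨hTp.1.le_U ht, htz, T, hT, ht⟩
  obtain ⟨X₁, hX₁, hc₁, hs₁⟩ := key h₁ hh₁ hq₁
  obtain ⟨X₂, hX₂, hc₂, hs₂⟩ := key h₂ hh₂ hq₂
  have hSD : (S : Set G) ⊆ D := fun x hx => ⟨⟨C.le_E hx,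
    Subgroup.mem_centralizer_singleton_iff.2 (F.five_comm C hq ho hx).symm⟩, C.sq x hx⟩
  have hd12 : Disjoint X₁ X₂ := Set.disjoint_left.2 fun x h1 h2 => hne
    (F.spec_unique (hs₁ x h1) (mul_mem (inv_mem hh₁) hh₂) (by
      rw [show (h₁⁻¹ * h₂)⁻¹ * (h₁⁻¹ * x * h₁) * (h₁⁻¹ * h₂) = h₂⁻¹ * x * h₂ by group]
      exact (hs₂ x h2).1))
  have hdS : ∀ (h : G) (X : Set G), (∀ x ∈ X, h⁻¹ * x * h ∈ specU ℰ W z five) →
      Disjoint (S : Set G) X := fun h X hs => Set.disjoint_left.2 fun x hx hxX => by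
    have h1 : x ≠ 1 := fun e => (hs x hxX).2.1 (by rw [e, mul_one, inv_mul_cancel]; exact one_mem _)
    have hconj := (isConj_conj_iff (z := z) (x := x) h⁻¹).2 (C.zclass x hx h1)
    rw [inv_inv] at hconj
    exact F.duad.data.not_conj_of_duad (Or.inl (hs x hxX)) hconj
  have h20 : ((S : Set G) ∪ (X₁ ∪ X₂)).ncard = 20 := by
    rw [Set.ncard_union_eq (Set.disjoint_union_right.2 ⟨hdS h₁ X₁ hs₁, hdS h₂ X₂ hs₂⟩) (Set.toFinite _)
      (Set.toFinite _), Set.ncard_union_eq hd12 (Set.toFinite _) (Set.toFinite _), hc₁, hc₂,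
      ← Nat.card_coe_set_eq, SetLike.coe_sort_coe, C.card_S]
  have heq : (S : Set G) ∪ (X₁ ∪ X₂) = D :=
    Set.eq_of_subset_of_ncard_le (Set.union_subset hSD (Set.union_subset hX₁ hX₂))
      (by rw [h20, ← Nat.card_coe_set_eq]; exact F.card_sq_one_le C hq ho) (Set.toFinite _)
  have heD : e ∈ D := ⟨⟨he, Subgroup.mem_centralizer_singleton_iff.2 hqe.symm⟩, he2⟩
  rw [← heq] at heD
  rcases heD with h | h | h
  · exact Or.inl h
  · exact Or.inr ⟨h₁, hh₁, hq₁, hs₁ e h⟩
  · exact Or.inr ⟨h₂, hh₂, hq₂, hs₂ e h⟩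

/-- An element of `E` conjugate to `z` and fixed by `q` lies in `S`. -/
theorem zclass_mem {e : G} (he : e ∈ ℰ) (hqe : q * e = e * q) (hze : IsConj z e) : e ∈ S := by
  have he2 : e * e = 1 := by
    obtain ⟨c, rfl⟩ := isConj_iff.1 hze
    rw [show c * z * c⁻¹ * (c * z * c⁻¹) = c * (z * z) * c⁻¹ by group, F.setting.z_mul_self]
    group
  refine (F.fix_five_cases C hq ho he hqe he2).resolve_right fun ⟨h, _, _, hs⟩ => ?_
  have hconj := (isConj_conj_iff (z := z) (x := e) h⁻¹).2 hze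
  rw [inv_inv] at hconj
  exact F.duad.data.not_conj_of_duad (Or.inl hs) hconj

theorem zclass_subgroup_le {X : Subgroup G} (hXE : X ≤ ℰ) (hXq : X ≤ Subgroup.centralizer ({q} : Set G))
    (hX : ∀ x ∈ X, x ≠ 1 → IsConj z x) : X ≤ S := fun x hx => by
  by_cases h1 : x = 1
  · exact h1 ▸ one_mem S
  · exact F.zclass_mem C hq ho (hXE hx) (Subgroup.mem_centralizer_singleton_iff.1 (hXq hx)).symm (hX x hx h1)

/-- `S` is the centralizer of `q` in `L`. -/
theorem cent_five_eq : L ⊓ Subgroup.centralizer ({q} : Set G) = S := by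
  classical
  haveI : Fact (Nat.Prime 5) := ⟨by norm_num⟩
  have St := F.setting
  have hqH := F.five_mem_H C hq ho
  set D := ℰ ⊓ Subgroup.centralizer ({q} : Set G) with hD
  set K := D ⊓ Subgroup.centralizer (S : Set G) with hK
  have hSK : S ≤ K := fun x hx => ⟨⟨C.le_E hx,
    Subgroup.mem_centralizer_singleton_iff.2 (F.five_comm C hq ho hx).symm⟩,
    Subgroup.mem_centralizer_iff.2 fun b hb => C.comm b hb x hx⟩
  refine le_antisymm (fun x hx => ?_) fun x hx =>
    ⟨C.E_le_L ⟨C.le_E hx, (hSK hx).2⟩, (hSK hx).1.2⟩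
  suffices hKS : K ≤ S by exact hKS ⟨⟨C.cent_five q hq ho hx, hx.2⟩, C.L_le hx.1⟩
  by_contra hns
  have h32 : Nat.card ↥D = 32 := F.card_E_fix hqH ho
  have hKD : K ≤ D := inf_le_left
  obtain ⟨k, -, hk⟩ := (Nat.dvd_prime_pow (m := 5) Nat.prime_two).1
    ((Subgroup.card_dvd_of_le hKD).trans (dvd_of_eq (h32.trans (by norm_num))))
  have h8 : 8 < Nat.card ↥K := by
    by_contra hle
    exact hns (Subgroup.eq_of_le_of_card_ge hSK (by rw [C.card_S]; omega)).ge
  have hk4 : 4 ≤ k := by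
    by_contra hlt
    have := Nat.pow_le_pow_right (show 0 < 2 by norm_num) (show k ≤ 3 by omega)
    omega
  have hz4 : ∀ w ∈ S, (∀ e ∈ D, w * e = e * w) → w ∈ Subgroup.zpowers z := fun w hw h =>
    St.central_of_fixed (p := 5) (by norm_num) hqH (ho ▸ pow_orderOf_eq_one q) (C.le_E hw)
      (F.five_comm C hq ho hw) fun e he hqe =>
        h e ⟨he, Subgroup.mem_centralizer_singleton_iff.2 hqe.symm⟩
  have hZ2 : Nat.card ↥(Subgroup.zpowers z) = 2 := (Nat.card_zpowers z).trans St.orderZ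
  obtain ⟨y, hy, hyK⟩ : ∃ y ∈ D, y ∉ K := SetLike.not_le_iff_exists.1 fun hle => by
    have hle' : S ≤ Subgroup.zpowers z := fun w hw => hz4 w hw fun e he =>
      Subgroup.mem_centralizer_iff.1 (hle he).2 w hw
    have := Subgroup.card_le_of_le hle'
    rw [C.card_S, hZ2] at this
    omega
  have hgen : D ≤ K ⊔ Subgroup.zpowers y := by
    have hle : K ⊔ Subgroup.zpowers y ≤ D := sup_le inf_le_left (Subgroup.zpowers_le.2 hy)
    refine (Subgroup.eq_of_le_of_card_ge hle ?_).ge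
    by_contra hlt
    obtain ⟨j, -, hj⟩ := (Nat.dvd_prime_pow (m := 5) Nat.prime_two).1
      ((Subgroup.card_dvd_of_le hle).trans (dvd_of_eq (h32.trans (by norm_num))))
    have hlt' : j ≤ 4 := by
      by_contra hj5
      have := Nat.pow_le_pow_right (show 0 < 2 by norm_num) (show 5 ≤ j by omega)
      omega
    have hpow := Nat.pow_le_pow_right (show 0 < 2 by norm_num) hlt'
    have hpow' := Nat.pow_le_pow_right (show 0 < 2 by norm_num) hk4
    have he := Subgroup.eq_of_le_of_card_ge (le_sup_left : K ≤ K ⊔ Subgroup.zpowers y) (by omega)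
    exact hyK (he ▸ Subgroup.mem_sup_right (Subgroup.mem_zpowers y))
  have h2 := F.duad.card_le_two_mul (K := S) C.le_E hy.1
  rw [C.card_S] at h2
  obtain ⟨w, hw, hwz⟩ : ∃ w ∈ S ⊓ Subgroup.centralizer ({y} : Set G), w ∉ Subgroup.zpowers z :=
    SetLike.not_le_iff_exists.1 fun hle => by
      have := Subgroup.card_le_of_le hle
      omega
  have hgc : K ⊔ Subgroup.zpowers y ≤ Subgroup.centralizer ({w} : Set G) := sup_le
    (fun e he => Subgroup.mem_centralizer_singleton_iff.2 (Subgroup.mem_centralizer_iff.1 he.2 w hw.1).symm)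
    (Subgroup.zpowers_le.2 (Subgroup.mem_centralizer_singleton_iff.2
      (Subgroup.mem_centralizer_singleton_iff.1 hw.2).symm))
  exact hwz (hz4 w hw.1 fun e he => (Subgroup.mem_centralizer_singleton_iff.1 (hgc (hgen he))).symm)

/-- The centralizer of `z` and `q` normalizes `S`. -/
theorem cent_five_le_normalizer :
    ℋ ⊓ Subgroup.centralizer ({q} : Set G) ≤ Subgroup.normalizer (S : Set G) := fun h hh =>
  Subgroup.mem_normalizer_fintype fun x hx => by
    by_cases h1 : x = 1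
    · rw [h1, mul_one, mul_inv_cancel]
      exact one_mem S
    have hhq := Subgroup.mem_centralizer_singleton_iff.1 hh.2
    refine F.zclass_mem C hq ho (F.setting.conj_mem_E hh.1 (C.le_E hx)) ?_
      ((isConj_conj_iff h).2 (C.zclass x hx h1))
    calc q * (h * x * h⁻¹) = (q * h) * x * h⁻¹ := by group
      _ = h * (q * x) * h⁻¹ := by rw [← hhq]; group
      _ = h * (x * q) * h⁻¹ := by rw [F.five_comm C hq ho hx]
      _ = h * x * (q * h⁻¹) := by group
      _ = h * x * (h⁻¹ * q) := by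
          rw [show q * h⁻¹ = h⁻¹ * (h * q) * h⁻¹ by group, hhq]; group
      _ = h * x * h⁻¹ * q := by group

end PointFrame

end CfsgLib.JFour
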