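import Cfsg.Agent.Lib.JFour.PointElem

/-!
# Groups of Janko-four type: the common centralizer of a duad and an element of order five
-/

set_option autoImplicit false
set_option linter.unusedSectionVars false

open Cfsg

namespace CfsgLib.JFour

namespace PointFrame

variable {G : Type*} [Group G] [Finite G] {z : G} {P N : Subgroup G}

set_option quotPrecheck false in
local notation "ℋ" => Subgroup.centralizer (singleton z : Set G)
set_option quotPrecheck false in
local notation "ℰ" => twoCoreOfCentralizer z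

variable {π : ↥(Subgroup.centralizer ({z} : Set G)) →* MulAut ↥Spor.M22}
  {M B : Subgroup (MulAut ↥Spor.M22)} {R W : Subgroup G} {five : Set (Subgroup G)} {A : Set G}
  {f : MulAut ↥Spor.M22 →* Equiv.Perm (Fin 22)} {Hx : Finset (Fin 22)}

set_option quotPrecheck false in
local notation "𝒰" => HexFrame.U (twoCoreOfCentralizer z) W
set_option quotPrecheck false in
local notation "𝒱" => (HexFrame.U (twoCoreOfCentralizer z) W ⊔ W : Subgroup _)

variable (F : PointFrame (P := P) (N := N) π M B R W five A f Hx)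
include F

/-- An involution of the kernel of `π` lies in `E`. -/
theorem mem_E_of_pi_sq {x : G} (hx : x ∈ ℋ) (h1 : π ⟨x, hx⟩ = 1) (h2 : x * x = 1) : x ∈ ℰ := by
  have S := F.setting
  obtain ⟨e, he, p, hp, rfl⟩ := S.mem_N_iff.1 ((S.pi_eq_one_iff F.frame.ker_eq _).1 h1)
  have hpe : p * p = (e * (p * e * p⁻¹))⁻¹ := by
    rw [show p * p = (e * (p * e * p⁻¹))⁻¹ * (e * p * (e * p)) by group, h2, mul_one]
  have hp2 : p * p ∈ (⊥ : Subgroup G) := by
    rw [← S.E_inf_P, Subgroup.mem_inf]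
    exact ⟨hpe ▸ inv_mem (mul_mem he (S.conj_mem_E (S.P_le_H hp) he)), mul_mem hp hp⟩
  have hp3 : p ^ 3 = 1 :=
    orderOf_dvd_iff_pow_eq_one.1 (S.cardP ▸ Subgroup.orderOf_dvd_natCard _ hp)
  rw [pow_succ, pow_two, Subgroup.mem_bot.1 hp2, one_mul] at hp3
  rwa [hp3, mul_one]

/-- The only conjugate of `z` in `V` fixed by an element of order five over `M` is `z`. -/
theorem eq_z_of_fixed_five {q v : G} (hq : q ∈ preH π M) (ho : orderOf q = 5) (hv : v ∈ 𝒱)
    (hvq : v * q = q * v) (hc : IsConj z v) : v = z := by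
  have D := F.duad
  have := F.finite_aut
  obtain ⟨hqH, hqM⟩ := mem_preH.1 hq
  have hvH : v ∈ ℋ := D.V_le_H hv
  have hπ : π ⟨v, hvH⟩ = 1 := F.frame.hexad.fix_five hqM (F.pi_order_five hqH ho) (D.pi_V_mem hv) (by
    rw [← map_mul, ← map_mul]
    exact congrArg π (Subtype.ext hvq.symm))
  have hvU : v ∈ 𝒰 := D.V_inf_E hv (F.mem_E_of_pi_sq hvH hπ (D.data.V_sq hv))
  obtain ⟨q₀, hq₀, ho₀⟩ := F.exists_five_M0
  obtain ⟨m, hm, hmq⟩ := F.exists_conj_five ((fun x hx => (mem_preH.1 hx).1) : preH π M ≤ ℋ) hq (F.M0_le_preH hq₀) ho ho₀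
  have ho' : orderOf (m * q * m⁻¹) = 5 := ho ▸ MulEquiv.orderOf_eq (MulAut.conj m) q
  obtain ⟨-, S, hS, hUS⟩ := F.fix_U_M0 (Subgroup.zpowers_le.2 hq₀ hmq) ho'
  have hmv : m * v * m⁻¹ ∈ S := by
    rw [← hUS]
    refine ⟨F.conj_U hm hvU, Subgroup.mem_centralizer_singleton_iff.2 ?_⟩
    rw [show m * v * m⁻¹ * (m * q * m⁻¹) = m * (v * q) * m⁻¹ by group, hvq]; group
  have hz : m * v * m⁻¹ ∈ Subgroup.zpowers z := by
    by_contra hh
    exact F.not_conj_of_five hS hmv hh ((isConj_conj_iff m).2 hc)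
  have hmz : m * z = z * m := F.setting.comm_z (mem_preH.1 hm).1
  rcases F.setting.mem_zpowers_iff.1 hz with e | e
  · exfalso
    rw [conj_eq_one_iff.1 e] at hc
    exact F.setting.z_ne_one (isConj_one_left.1 hc)
  · rw [show v = m⁻¹ * (m * v * m⁻¹) * m by group, e, mul_assoc, ← hmz, inv_mul_cancel_left]

/-- The common centralizer of a special element and an element of order five over `M` fixing it. -/
theorem cent_spec_five {q t x : G} (hq : q ∈ preH π M) (ho : orderOf q = 5)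
    (ht : t ∈ specU ℰ W z five) (hqt : q * t = t * q) (hxt : x * t = t * x) (hxq : x * q = q * x) :
    ∃ i : ℕ, ∃ e ∈ ℰ, q * e = e * q ∧ t * e = e * t ∧ x = q ^ i * e := by
  have S := F.setting
  have := F.finite_aut
  obtain ⟨hqH, hqM⟩ := mem_preH.1 hq
  have hxN := F.duad.centralizer_le_normalizer (Or.inl ht) (Subgroup.mem_centralizer_singleton_iff.2 hxt)
  have hxH : x ∈ ℋ := by
    have hv : x * z * x⁻¹ ∈ 𝒱 := (Subgroup.mem_normalizer_iff.1 hxN z).1 F.duad.data.z_mem_V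
    have hqz : q * z = z * q := S.comm_z hqH
    have hxi : x⁻¹ * q = q * x⁻¹ := by
      rw [eq_mul_inv_iff_mul_eq, mul_assoc, ← hxq, inv_mul_cancel_left]
    have he := F.eq_z_of_fixed_five hq ho hv (by
      calc x * z * x⁻¹ * q = x * (z * q) * x⁻¹ := by rw [mul_assoc, hxi]; group
        _ = (x * q) * z * x⁻¹ := by rw [← hqz]; group
        _ = q * (x * z * x⁻¹) := by rw [hxq]; group) ((isConj_conj_iff x).2 (IsConj.refl z))
    exact Subgroup.mem_centralizer_singleton_iff.2 (mul_inv_eq_iff_eq_mul.1 he)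
  obtain ⟨_, hxM⟩ := mem_preH.1 (F.frame.normalizer_inf_H_le F.lifted hxN hxH)
  have hc : π ⟨x, hxH⟩ ∈ Subgroup.zpowers (π ⟨q, hqH⟩) := by
    rw [← F.frame.hexad.cent_five hqM (F.pi_order_five hqH ho)]
    refine ⟨hxM, Subgroup.mem_centralizer_singleton_iff.2 ?_⟩
    rw [← map_mul, ← map_mul]
    exact congrArg π (Subtype.ext hxq)
  obtain ⟨i, hi⟩ := mem_powers_iff_mem_zpowers.2 hc
  have hi' : π ⟨q, hqH⟩ ^ i = π ⟨x, hxH⟩ := hi
  have hqi : Commute (q ^ i) q := Commute.pow_self q i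
  refine ⟨i, (q ^ i)⁻¹ * x, ?_, ?_, ?_, (mul_inv_cancel_left _ _).symm⟩
  rotate_left
  · exact ((hqi.inv_left).mul_left hxq).symm.eq
  · exact (((show Commute t q from hqt.symm).pow_right i).inv_right.mul_right hxt.symm).eq
  have heN : (q ^ i)⁻¹ * x ∈ N := by
    refine (S.pi_eq_one_iff F.frame.ker_eq
      ⟨(q ^ i)⁻¹ * x, mul_mem (inv_mem (pow_mem hqH i)) hxH⟩).1 ?_
    rw [show (⟨(q ^ i)⁻¹ * x, _⟩ : ↥ℋ) = (⟨q, hqH⟩ ^ i)⁻¹ * ⟨x, hxH⟩ from rfl, map_mul, map_inv, map_pow,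
      hi', inv_mul_cancel]
  obtain ⟨e₁, he₁, p, hp, hep⟩ := S.mem_N_iff.1 heN
  suffices hp1 : p = 1 by rw [hep, hp1, mul_one]; exact he₁
  by_contra hp1
  have htE : t ∈ ℰ := HexFrame.U_le ht.1
  refine ht.2.1 (S.mem_zpowers_of_comm hp hp1 htE ?_)
  have hcm : e₁ * p * t = t * (e₁ * p) := by
    rw [← hep]
    exact ((((show Commute t q from hqt.symm).pow_right i).inv_right.mul_right hxt.symm).eq).symm
  have h1 : p * t * p⁻¹ = e₁⁻¹ * t * e₁⁻¹⁻¹ := by
    calc p * t * p⁻¹ = e₁⁻¹ * (e₁ * p * t) * p⁻¹ := by group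
      _ = e₁⁻¹ * t * e₁⁻¹⁻¹ := by rw [hcm]; group
  rcases S.conj_eq (inv_mem he₁) htE with c | c
  · rw [h1, c, mul_inv_cancel]; exact one_mem _
  · rw [h1, c, mul_inv_cancel_right]; exact Subgroup.mem_zpowers z

end PointFrame

end CfsgLib.JFour
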