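import Cfsg.Agent.Lib.JFour.Three

/-!
# Groups of Janko-four type: the statements on elements of order three, from the odd core and fusion
-/

set_option autoImplicit false
set_option linter.style.haveILetI false
set_option linter.unusedSectionVars false

open Cfsg
open scoped commutatorElement

namespace CfsgLib.JFour

namespace Setting

variable {G : Type*} [Group G] {z : G} {P N : Subgroup G}

set_option quotPrecheck false in
local notation "ℋ" => Subgroup.centralizer (singleton z : Set G)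

/-- `P` does not lie in the subgroup `N` of another conjugate of `z` in `C_H(P)`. -/
theorem not_le_conj_N [Finite G] (S : Setting z P N) {M B : Subgroup (MulAut ↥Spor.M22)}
    (hHex : HexadData (Inn ↥Spor.M22) M B) {g : G}
    (hx : g * z * g⁻¹ ∈ ℋ ⊓ Subgroup.centralizer (P : Set G)) (hne : g * z * g⁻¹ ≠ z) :
    ¬ P ≤ N.map (MulAut.conj g).toMonoidHom := by
  classical
  intro hle
  haveI : Fact (Nat.Prime 3) := ⟨Nat.prime_three⟩
  have hfac : (Nat.card ↥N).factorization 3 = 1 := by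
    rw [S.cardN, S.cardE, Nat.factorization_mul (by norm_num) (by norm_num), Finsupp.add_apply,
      Nat.Prime.factorization_self Nat.prime_three, Nat.factorization_pow]
    simp [Nat.prime_two.factorization]
  have hQle : P.map (MulAut.conj g⁻¹).toMonoidHom ≤ N := by
    rintro _ ⟨p, hp, rfl⟩
    obtain ⟨n, hn, he⟩ := hle hp
    simp only [MulEquiv.coe_toMonoidHom, MulAut.conj_apply] at he ⊢
    rw [← he]
    simpa [mul_assoc] using hn
  let R₁ : Sylow 3 ↥N := Sylow.ofCard (P.subgroupOf N) (by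
    rw [Nat.card_congr (Subgroup.subgroupOfEquivOfLe S.P_le).toEquiv, S.cardP, hfac]; norm_num)
  let R₂ : Sylow 3 ↥N := Sylow.ofCard ((P.map (MulAut.conj g⁻¹).toMonoidHom).subgroupOf N) (by
    rw [Nat.card_congr (Subgroup.subgroupOfEquivOfLe hQle).toEquiv,
      Subgroup.card_map_of_injective (MulAut.conj g⁻¹).injective, S.cardP, hfac]; norm_num)
  obtain ⟨m, hm⟩ := MulAction.exists_smul_eq ↥N R₁ R₂
  have hnorm : g * (m : G) ∈ Subgroup.normalizer (P : Set G) := by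
    refine Subgroup.mem_normalizer_fintype fun p hp => ?_
    have h1 : m * (⟨p, S.P_le hp⟩ : ↥N) * m⁻¹ ∈ ((m • R₁ : Sylow 3 ↥N) : Subgroup ↥N) := by
      rw [Sylow.coe_subgroup_smul]
      exact Subgroup.smul_mem_pointwise_smul (⟨p, S.P_le hp⟩ : ↥N) (MulAut.conj m) _
        (Subgroup.mem_subgroupOf.2 hp)
    rw [hm] at h1
    obtain ⟨p', hp', he⟩ := Subgroup.mem_subgroupOf.1 h1
    simp only [MulEquiv.coe_toMonoidHom, MulAut.conj_apply, inv_inv, Subgroup.coe_mul, Subgroup.coe_inv] at he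
    have : g * (m : G) * p * (g * (m : G))⁻¹ = p' := by
      rw [show g * (m : G) * p * (g * (m : G))⁻¹ = g * ((m : G) * p * (m : G)⁻¹) * g⁻¹ by group, ← he]
      group
    rw [this]; exact hp'
  have hmz : (m : G) * z * (m : G)⁻¹ = z := mul_inv_eq_iff_eq_mul.2 (S.comm_z (S.N_le m.2))
  have he : g * (m : G) * z * (g * (m : G))⁻¹ = g * z * g⁻¹ := by
    rw [show g * (m : G) * z * (g * (m : G))⁻¹ = g * ((m : G) * z * (m : G)⁻¹) * g⁻¹ by group, hmz]
  exact hne (he ▸ S.eq_of_conj_mem hHex hnorm (he ▸ (Subgroup.mem_inf.1 hx).1))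

/-- `C_H(P)` is perfect as soon as `z` lies in its derived group. -/
theorem C_perfect [Finite G] (S : Setting z P N)
    (hz : z ∈ ⁅ℋ ⊓ Subgroup.centralizer (P : Set G), ℋ ⊓ Subgroup.centralizer (P : Set G)⁆) :
    ⁅ℋ ⊓ Subgroup.centralizer (P : Set G), ℋ ⊓ Subgroup.centralizer (P : Set G)⁆ =
      ℋ ⊓ Subgroup.centralizer (P : Set G) := by
  haveI := isSimpleGroup_mTwentyTwo
  set Cs := ℋ ⊓ Subgroup.centralizer (P : Set G) with hCs
  obtain ⟨φ, hφ, hker⟩ : ∃ φ : ↥Cs →* ↥Spor.M22, Function.Surjective φ ∧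
      φ.ker = (Subgroup.zpowers z ⊔ P).subgroupOf Cs := S.exists_toMTwentyTwo
  have htop : commutator ↥Spor.M22 = ⊤ := by
    rcases IsSimpleGroup.eq_bot_or_eq_top_of_normal (commutator ↥Spor.M22) inferInstance with h | h
    · exfalso
      have hc : ∀ a b : ↥Spor.M22, a * b = b * a := fun a b =>
        commutatorElement_eq_one_iff_mul_comm.1 (Subgroup.mem_bot.1 (h ▸
          Subgroup.commutator_mem_commutator (Subgroup.mem_top a) (Subgroup.mem_top b)))
      have h1 : Subgroup.center ↥Spor.M22 = ⊤ :=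
        eq_top_iff.2 fun a _ => Subgroup.mem_center_iff.2 fun b => hc b a
      rw [center_mTwentyTwo] at h1
      have h2 : Nat.card (⊥ : Subgroup ↥Spor.M22) = Nat.card (⊤ : Subgroup ↥Spor.M22) := by rw [h1]
      rw [Subgroup.card_bot, Subgroup.card_top, card_mTwentyTwo] at h2
      norm_num at h2
    · exact h
  have hall : commutator ↥Cs = ⊤ := by
    have hkle : φ.ker ≤ commutator ↥Cs := by
      rw [hker]
      intro c hc
      have hsup : Subgroup.zpowers z ⊔ P ≤ ⁅Cs, Cs⁆ := sup_le (Subgroup.zpowers_le.2 hz) S.P_le_derived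
      have h1 : (c : G) ∈ ⁅Cs, Cs⁆ := hsup (Subgroup.mem_subgroupOf.1 hc)
      have e : ⁅Cs, Cs⁆ = (commutator ↥Cs).map Cs.subtype := by
        rw [commutator_def, Subgroup.map_commutator, ← MonoidHom.range_eq_map, Subgroup.range_subtype]
      rw [e] at h1
      obtain ⟨d, hd, he⟩ := h1
      rwa [show d = c from Subtype.ext he] at hd
    have hmap : (commutator ↥Cs).map φ = ⊤ := by
      rw [commutator_def, Subgroup.map_commutator, Subgroup.map_top_of_surjective φ hφ, ← commutator_def,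
        htop]
    calc commutator ↥Cs = ((commutator ↥Cs).map φ).comap φ := (Subgroup.comap_map_eq_self hkle).symm
      _ = ⊤ := by rw [hmap, Subgroup.comap_top]
  calc ⁅Cs, Cs⁆ = (commutator ↥Cs).map Cs.subtype := by
        rw [commutator_def, Subgroup.map_commutator, ← MonoidHom.range_eq_map, Subgroup.range_subtype]
    _ = Cs := by rw [hall, ← MonoidHom.range_eq_map, Subgroup.range_subtype]

/-- Two Sylow 3-subgroups of `G` inside `H` are conjugate in `H`. -/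
theorem exists_conj_sylow_in_H [Finite G] (T₁ T₂ : Sylow 3 G) (h₁ : (T₁ : Subgroup G) ≤ ℋ)
    (h₂ : (T₂ : Subgroup G) ≤ ℋ) :
    ∃ h ∈ ℋ, (T₁ : Subgroup G).map (MulAut.conj h).toMonoidHom = (T₂ : Subgroup G) := by
  haveI : Fact (Nat.Prime 3) := ⟨Nat.prime_three⟩
  obtain ⟨⟨h, hh⟩, he⟩ := MulAction.exists_smul_eq ↥ℋ (T₁.subtype h₁) (T₂.subtype h₂)
  refine ⟨h, hh, ?_⟩
  refine Subgroup.eq_of_le_of_card_ge ?_ (by
    rw [Subgroup.card_map_of_injective (MulAut.conj h).injective, T₁.card_eq_multiplicity,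
      T₂.card_eq_multiplicity])
  rintro _ ⟨x, hx, rfl⟩
  have h3 : (⟨h, hh⟩ : ↥ℋ) * (⟨x, h₁ hx⟩ : ↥ℋ) * (⟨h, hh⟩ : ↥ℋ)⁻¹ ∈
      (((⟨h, hh⟩ : ↥ℋ) • T₁.subtype h₁ : Sylow 3 ↥ℋ) : Subgroup ↥ℋ) := by
    rw [Sylow.coe_subgroup_smul]
    exact Subgroup.smul_mem_pointwise_smul (⟨x, h₁ hx⟩ : ↥ℋ) (MulAut.conj (⟨h, hh⟩ : ↥ℋ)) _
      (Subgroup.mem_subgroupOf.2 hx)
  rw [he] at h3
  exact h3

/-- The Sylow 3-subgroups of `G` in `H`, once `N_G(P) ≤ H`. -/
theorem sylow_three_structure [Finite G] (S : Setting z P N) {M B : Subgroup (MulAut ↥Spor.M22)}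
    (hHex : HexadData (Inn ↥Spor.M22) M B) (hNP : Subgroup.normalizer (P : Set G) ≤ ℋ)
    (T : Sylow 3 G) (hT : (T : Subgroup G) ≤ ℋ) :
    IsExtraspecial 3 ↥(T : Subgroup G) ∧ Nat.card ↥(T : Subgroup G) = 27 ∧
      Monoid.exponent ↥(T : Subgroup G) = 3 ∧ Subgroup.normalizer ((T : Subgroup G) : Set G) ≤ ℋ ∧
      Nat.card ↥(Subgroup.normalizer ((T : Subgroup G) : Set G)) = 864 := by
  classical
  obtain ⟨R, hRC, hPR, hR27, hRes, hexp, hnormP, h864, -⟩ := S.exists_sylow_three hHex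
  obtain ⟨T₀, hT₀⟩ := S.exists_sylow_of_normalizer_le hNP hR27 hnormP h864
  obtain ⟨h, hh, hmap⟩ := exists_conj_sylow_in_H T₀ T (hT₀.symm ▸ hRC.trans inf_le_left) hT
  rw [hT₀] at hmap
  let e : ↥R ≃* ↥(T : Subgroup G) :=
    (R.equivMapOfInjective _ (MulAut.conj h).injective).trans (MulEquiv.subgroupCongr hmap)
  have hnH : Subgroup.normalizer (R : Set G) ≤ ℋ := fun n hn => hNP (hnormP n hn)
  have hnT : Subgroup.normalizer ((T : Subgroup G) : Set G) =
      (Subgroup.normalizer (R : Set G)).map (MulAut.conj h).toMonoidHom := by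
    rw [← hmap, ← Subgroup.map_equiv_normalizer_eq R (MulAut.conj h)]
  refine ⟨CfsgLib.PGroups.IsExtraspecial.of_mulEquiv e hRes, ?_, ?_, ?_, ?_⟩
  · rw [← Nat.card_congr e.toEquiv, hR27]
  · rw [← Monoid.exponent_eq_of_mulEquiv e]
    haveI : Nontrivial ↥R := Finite.one_lt_card_iff_nontrivial.1 (by rw [hR27]; norm_num)
    refine (Monoid.exponent_eq_prime_iff Nat.prime_three).2 fun r hr => ?_
    exact orderOf_eq_prime (Subtype.ext (by simpa using hexp r r.2)) hr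
  · rw [hnT]
    rintro _ ⟨n, hn, rfl⟩
    exact mul_mem (mul_mem hh (hnH hn)) (inv_mem hh)
  · rw [hnT, Subgroup.card_map_of_injective (MulAut.conj h).injective, ← inf_eq_right.2 hnH, h864]

/-- One class of elements of order three, given `N_G(P) ≤ H` and fusion of `z` in `C_H(P)`. -/
theorem one_class_three [Finite G] (S : Setting z P N) {M B : Subgroup (MulAut ↥Spor.M22)}
    (hHex : HexadData (Inn ↥Spor.M22) M B) (hNP : Subgroup.normalizer (P : Set G) ≤ ℋ)
    (hfus : ∃ g : G, g * z * g⁻¹ ∈ ℋ ⊓ Subgroup.centralizer (P : Set G) ∧ g * z * g⁻¹ ≠ z)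
    (a b : G) (ha : orderOf a = 3) (hb : orderOf b = 3) : IsConj a b := by
  classical
  haveI : Fact (Nat.Prime 3) := ⟨Nat.prime_three⟩
  obtain ⟨R, hRC, hPR, hR27, hRes, hexp, hnormP, h864, hcl⟩ := S.exists_sylow_three hHex
  obtain ⟨T, hT⟩ := S.exists_sylow_of_normalizer_le hNP hR27 hnormP h864
  obtain ⟨g, hgx, hgne⟩ := hfus
  have hRH : (T : Subgroup G) ≤ ℋ := hT.symm ▸ hRC.trans inf_le_left
  -- an element of `P` is conjugate to one outside
  have hout : ∀ p ∈ P, p ≠ 1 → ∃ r ∈ R, r ∉ P ∧ IsConj p r := by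
    intro p hp hp1
    set p' := g⁻¹ * p * g with hp'
    have hpH : p' ∈ ℋ := by
      refine Subgroup.mem_centralizer_iff.2 fun w hw => ?_
      rw [Set.mem_singleton_iff.1 hw]
      have h := (Subgroup.mem_centralizer_iff.1 (Subgroup.mem_inf.1 hgx).2 p hp)
      calc z * p' = g⁻¹ * ((g * z * g⁻¹) * p) * g := by rw [hp']; group
        _ = g⁻¹ * (p * (g * z * g⁻¹)) * g := by rw [h]
        _ = p' * z := by rw [hp']; group
    have hpN : p' ∉ N := by
      intro h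
      apply S.not_le_conj_N hHex hgx hgne
      rw [S.eq_zpowers_of_mem_P hp hp1, Subgroup.zpowers_le]
      exact ⟨p', h, by simp [hp', mul_assoc]⟩
    have hord : orderOf (⟨p', hpH⟩ : ↥ℋ) = 3 := by
      rw [Subgroup.orderOf_mk, hp']
      have h3 : orderOf p ∣ 3 := S.cardP ▸ Subgroup.orderOf_dvd_natCard _ hp
      rcases (Nat.dvd_prime Nat.prime_three).1 h3 with e | e
      · exact absurd (orderOf_eq_one_iff.1 e) hp1
      · rw [← e]; simpa [MulAut.conj_apply] using MulEquiv.orderOf_eq (MulAut.conj g⁻¹) p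
    have hpg : IsPGroup 3 ↥(Subgroup.zpowers (⟨p', hpH⟩ : ↥ℋ)) :=
      IsPGroup.of_card (n := 1) (by rw [Nat.card_zpowers, hord, pow_one])
    obtain ⟨Q, hQ⟩ := hpg.exists_le_sylow
    obtain ⟨⟨h, hh⟩, he⟩ := MulAction.exists_smul_eq ↥ℋ Q (T.subtype hRH)
    have h3 : (⟨h, hh⟩ : ↥ℋ) * (⟨p', hpH⟩ : ↥ℋ) * (⟨h, hh⟩ : ↥ℋ)⁻¹ ∈
        (((⟨h, hh⟩ : ↥ℋ) • Q : Sylow 3 ↥ℋ) : Subgroup ↥ℋ) := by
      rw [Sylow.coe_subgroup_smul]
      exact Subgroup.smul_mem_pointwise_smul (⟨p', hpH⟩ : ↥ℋ) (MulAut.conj (⟨h, hh⟩ : ↥ℋ)) _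
        (hQ (Subgroup.mem_zpowers _))
    rw [he] at h3
    have h4 : h * p' * h⁻¹ ∈ R := hT ▸ h3
    refine ⟨_, h4, fun hP => hpN ?_, isConj_iff.2 ⟨h * g⁻¹, by rw [hp']; group⟩⟩
    exact (Subgroup.mem_normalizer_iff.1 (S.normN hh) p').2 (S.P_le hP)
  have key : ∀ x : G, orderOf x = 3 → ∃ r ∈ R, r ∉ P ∧ IsConj x r := by
    intro x hx
    have hpg : IsPGroup 3 ↥(Subgroup.zpowers x) :=
      IsPGroup.of_card (n := 1) (by rw [Nat.card_zpowers, hx, pow_one])
    obtain ⟨Q, hQ⟩ := hpg.exists_le_sylow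
    obtain ⟨c, hc⟩ := MulAction.exists_smul_eq G Q T
    have h1 : c * x * c⁻¹ ∈ R := by
      have : c * x * c⁻¹ ∈ ((c • Q : Sylow 3 G) : Subgroup G) := by
        rw [Sylow.coe_subgroup_smul]
        exact Subgroup.smul_mem_pointwise_smul x (MulAut.conj c) _ (hQ (Subgroup.mem_zpowers x))
      rwa [hc, hT] at this
    have hxc : IsConj x (c * x * c⁻¹) := isConj_iff.2 ⟨c, rfl⟩
    by_cases hP : c * x * c⁻¹ ∈ P
    · obtain ⟨r, hr, hrP, hpr⟩ := hout _ hP (fun h => by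
        rw [conj_eq_one_iff.1 h, orderOf_one] at hx; norm_num at hx)
      exact ⟨r, hr, hrP, hxc.trans hpr⟩
    · exact ⟨_, h1, hP, hxc⟩
  obtain ⟨r, hr, hrP, har⟩ := key a ha
  obtain ⟨s, hs, hsP, hbs⟩ := key b hb
  exact (har.trans (hcl r hr hrP s hs hsP)).trans hbs.symm

end Setting

end CfsgLib.JFour
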