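import Cfsg.Agent.Lib.JFour.DuadInst
import Cfsg.Agent.Lib.JFour.DuadBound

/-!
# Groups of Janko-four type: a complement of `V` inside `E`, from a disjoint hexad
-/

set_option autoImplicit false
set_option linter.unusedSectionVars false
set_option linter.style.haveILetI false

open Cfsg

namespace CfsgLib.JFour

variable {G : Type*} [Group G] [Finite G] {z : G} {P N : Subgroup G}

namespace DuadFrame

variable {π : ↥(Subgroup.centralizer ({z} : Set G)) →* MulAut ↥Spor.M22}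
  {M B : Subgroup (MulAut ↥Spor.M22)} {R W : Subgroup G} {five : Set (Subgroup G)} {A : Set G}
  (D : DuadFrame (P := P) (N := N) π M B R W five A)
include D

set_option quotPrecheck false in
local notation "ℰ" => twoCoreOfCentralizer z
set_option quotPrecheck false in
local notation "ℋ" => Subgroup.centralizer (singleton z : Set G)
set_option quotPrecheck false in
local notation "V₀" => (HexFrame.U (twoCoreOfCentralizer z) W ⊔ W : Subgroup _)

/-- A hexad disjoint from the given one gives a `2 ^ 6` in `E` off `V`, normalised by the common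
stabiliser in `N_H(P)`. -/
theorem exists_complement_E (L : Lifted P π M B R W) {g : MulAut ↥Spor.M22}
    (hdisj : B ⊓ M.map (MulAut.conj g).toMonoidHom = ⊥)
    (hcard : Nat.card ↥(M ⊓ M.map (MulAut.conj g).toMonoidHom) = 720) :
    ∃ F : Subgroup G, F ≤ ℰ ∧ Nat.card ↥F = 2 ^ 6 ∧ Cfsg.IsElementaryAbelian 2 F ∧ z ∉ F ∧
      F ⊓ V₀ = ⊥ ∧
      ∀ x (hx : x ∈ ℋ ⊓ Subgroup.normalizer (P : Set G)),
        π ⟨x, hx.1⟩ ∈ M.map (MulAut.conj g).toMonoidHom → ∀ f ∈ F, x * f * x⁻¹ ∈ F := by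
  classical
  have F0 := D.frame
  have S := F0.setting
  have hT := D.data.hT
  haveI : Finite (MulAut ↥Spor.M22) :=
    Nat.finite_of_card_ne_zero (by rw [card_mulAut_mTwentyTwo]; norm_num)
  have hEker : ∀ (e : G) (he : e ∈ ℰ), π ⟨e, S.E_le he⟩ = 1 := fun e he =>
    (S.pi_eq_one_iff F0.ker_eq _).2 (S.E_le_N he :
      ((⟨e, S.E_le he⟩ : ↥ℋ) : G) ∈ N)
  set M' : Subgroup (MulAut ↥Spor.M22) := M.map (MulAut.conj g).toMonoidHom with hM'
  -- a lift of `g` normalising `P`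
  obtain ⟨n, hn, hng⟩ : ∃ (n : G) (hn : n ∈ ℋ ⊓ Subgroup.normalizer (P : Set G)),
      π ⟨n, hn.1⟩ = g := by
    obtain ⟨⟨h, hh⟩, rfl⟩ := F0.surj g
    obtain ⟨e, he, n, hn, rfl⟩ := S.exists_mul_normalizer hh
    refine ⟨n, hn, ?_⟩
    rw [show (⟨e * n, hh⟩ : ↥ℋ) = ⟨e, S.E_le he⟩ * ⟨n, hn.1⟩ from rfl, map_mul, hEker e he, one_mul]
  set U : Subgroup G := HexFrame.U ℰ W with hU
  set Ug : Subgroup G := U.map (MulAut.conj n).toMonoidHom with hUg
  have hmemUg : ∀ {x}, x ∈ Ug ↔ n⁻¹ * x * n ∈ U := by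
    intro x
    rw [hUg, Subgroup.mem_map]
    constructor
    · rintro ⟨y, hy, rfl⟩
      simpa [mul_assoc] using hy
    · exact fun hy => ⟨_, hy, by simp [mul_assoc]⟩
  have hback : ∀ x (hx : x ∈ ℋ ⊓ Subgroup.normalizer (P : Set G)), π ⟨x, hx.1⟩ ∈ M' →
      ∃ (hy : n⁻¹ * x * n ∈ ℋ ⊓ Subgroup.normalizer (P : Set G)), π ⟨n⁻¹ * x * n, hy.1⟩ ∈ M := by
    intro x hx hxM
    refine ⟨mul_mem (mul_mem (inv_mem hn) hx) hn, ?_⟩
    obtain ⟨m, hm, e⟩ := hxM
    simp only [MulEquiv.coe_toMonoidHom, MulAut.conj_apply] at e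
    rw [show (⟨n⁻¹ * x * n, _⟩ : ↥ℋ) = ⟨n, hn.1⟩⁻¹ * ⟨x, hx.1⟩ * ⟨n, hn.1⟩ from rfl, map_mul, map_mul,
      map_inv, hng, ← e, show g⁻¹ * (g * m * g⁻¹) * g = m by group]
    exact hm
  have hUgNorm : ∀ x (hx : x ∈ ℋ ⊓ Subgroup.normalizer (P : Set G)), π ⟨x, hx.1⟩ ∈ M' →
      ∀ u ∈ Ug, x * u * x⁻¹ ∈ Ug := by
    intro x hx hxM u hu
    obtain ⟨hy, hyM⟩ := hback x hx hxM
    have := F0.conj_U_mem L hy hyM (hmemUg.mp hu)
    rw [hmemUg]
    convert this using 1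
    group
  -- the hexad map restricted to the common stabiliser is onto
  obtain ⟨f, hfs, hfk, hfI⟩ := F0.hexad.hexad
  have hker : ∀ l : ↥M, (l : MulAut ↥Spor.M22) ∈ M' → f l = 1 → l = 1 := by
    intro l hl h1
    have hlB : (l : MulAut ↥Spor.M22) ∈ B := by
      have : l ∈ f.ker := h1
      rw [hfk] at this
      exact this
    exact Subtype.ext (Subgroup.mem_bot.mp (hdisj ▸ Subgroup.mem_inf.mpr ⟨hlB, hl⟩))
  have hLsurj : ∀ σ : Equiv.Perm (Fin 6), ∃ l : ↥M, (l : MulAut ↥Spor.M22) ∈ M' ∧ f l = σ := by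
    let φ : ↥(M ⊓ M') →* Equiv.Perm (Fin 6) := f.comp (Subgroup.inclusion inf_le_left)
    have hinj : Function.Injective φ := by
      rw [injective_iff_map_eq_one]
      intro l hl
      exact Subtype.ext (congrArg (fun x : ↥M => (x : MulAut ↥Spor.M22))
        (hker (Subgroup.inclusion inf_le_left l) l.2.2 hl))
    have hbij : Function.Bijective φ := (Nat.bijective_iff_injective_and_card φ).mpr ⟨hinj, by
      rw [hcard, Nat.card_eq_fintype_card, Fintype.card_perm, Fintype.card_fin]; rfl⟩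
    intro σ
    obtain ⟨l, hl⟩ := hbij.2 σ
    exact ⟨Subgroup.inclusion inf_le_left l, l.2.2, hl⟩
  -- `M ⊓ Inn` normalises `U ⊓ Ug`
  set X : Subgroup G := U ⊓ Ug with hX
  have hzX : z ∈ X := by
    refine ⟨hT.z_U, hmemUg.mpr ?_⟩
    rw [mul_assoc, ← S.comm_z hn.1, inv_mul_cancel_left]
    exact hT.z_U
  have hEX : ∀ e ∈ ℰ, ∀ x ∈ X, e * x * e⁻¹ ∈ X := by
    intro e he x hx
    rcases hT.conj_E_eq he (HexFrame.U_le hx.1) with c | c <;> rw [c]
    exacts [hx, mul_mem hzX hx]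
  have hM0X : ∀ m ∈ preC P π (M ⊓ Inn ↥Spor.M22), ∀ x ∈ X, m * x * m⁻¹ ∈ X := by
    intro m hm x hx
    obtain ⟨⟨hmH, hmM, hmI⟩, hmP⟩ := mem_preC.1 hm
    obtain ⟨l, hlM', hfl⟩ := hLsurj (f ⟨π ⟨m, hmH⟩, hmM⟩)
    have hb : π ⟨m, hmH⟩ * (l : MulAut ↥Spor.M22)⁻¹ ∈ B := by
      have : (⟨π ⟨m, hmH⟩, hmM⟩ : ↥M) * l⁻¹ ∈ f.ker := by
        rw [MonoidHom.mem_ker, map_mul, map_inv, hfl, mul_inv_cancel]
      rw [hfk] at this
      exact this
    have hlI : (l : MulAut ↥Spor.M22) ∈ Inn ↥Spor.M22 := by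
      have h1 : (π ⟨m, hmH⟩ * (l : MulAut ↥Spor.M22)⁻¹)⁻¹ * π ⟨m, hmH⟩ ∈ Inn ↥Spor.M22 :=
        mul_mem (inv_mem (F0.hexad.B_le hb)) hmI
      simpa [mul_assoc] using h1
    obtain ⟨c, hcl⟩ := S.exists_C_lift F0.surj F0.ker_eq hlI
    have hcH : (c : G) ∈ ℋ := c.2.1
    have hcN : (c : G) ∈ ℋ ⊓ Subgroup.normalizer (P : Set G) :=
      ⟨hcH, Subgroup.centralizer_le_normalizer _ c.2.2⟩
    have hcπ : π ⟨(c : G), hcH⟩ = (l : MulAut ↥Spor.M22) := hcl
    have hcX : ∀ y ∈ X, (c : G) * y * (c : G)⁻¹ ∈ X := fun y hy =>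
      ⟨F0.conj_U_mem L hcN (hcπ ▸ l.2) hy.1, hUgNorm _ hcN (hcπ ▸ hlM') y hy.2⟩
    have hwpmem : m * (c : G)⁻¹ ∈ preC P π B :=
      mem_preC.2 ⟨⟨mul_mem hmH (inv_mem hcH), by
        rw [show (⟨m * (c : G)⁻¹, mul_mem hmH (inv_mem hcH)⟩ : ↥ℋ) = ⟨m, hmH⟩ * ⟨(c : G), hcH⟩⁻¹
          from rfl, map_mul, map_inv, hcπ]
        exact hb⟩, mul_mem hmP (inv_mem c.2.2)⟩
    obtain ⟨w, hw, p, hp, hwp⟩ := L.split _ hwpmem
    have hm' : m = w * p * (c : G) := by rw [← hwp, inv_mul_cancel_right]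
    have hpN : p ∈ ℋ ⊓ Subgroup.normalizer (P : Set G) :=
      ⟨S.P_le_H hp, Subgroup.le_normalizer hp⟩
    have hp1 : π ⟨p, hpN.1⟩ = 1 :=
      (S.pi_eq_one_iff F0.ker_eq _).2 (S.P_le hp : ((⟨p, hpN.1⟩ : ↥ℋ) : G) ∈ N)
    have h2 := hcX x hx
    have h3 : p * ((c : G) * x * (c : G)⁻¹) * p⁻¹ ∈ X :=
      ⟨F0.conj_U_mem L hpN (hp1 ▸ one_mem _) h2.1, hUgNorm _ hpN (hp1 ▸ one_mem _) _ h2.2⟩
    rw [hm', show w * p * (c : G) * x * (w * p * (c : G))⁻¹ =
      w * (p * ((c : G) * x * (c : G)⁻¹) * p⁻¹) * w⁻¹ by group, HexFrame.U_comm h3.1 hw,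
      mul_inv_cancel_right]
    exact h3
  have hLc : ∀ a b : G, LConj ℰ (preC P π (M ⊓ Inn ↥Spor.M22)) a b → a ∈ X → b ∈ X := by
    rintro a b ⟨l, hl, rfl⟩ ha
    have hle : ℰ ⊔ preC P π (M ⊓ Inn ↥Spor.M22) ≤ Subgroup.normalizer (X : Set G) :=
      sup_le (fun e he => Subgroup.mem_normalizer_fintype fun x hx => hEX e he x hx)
        (fun m hm => Subgroup.mem_normalizer_fintype fun x hx => hM0X m hm x hx)
    exact (Subgroup.mem_normalizer_iff.1 (hle hl) a).1 ha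
  -- no special element lies in `U ⊓ Ug`
  have hnospec : ∀ d ∈ specU ℰ W z five, d ∉ X := by
    intro d hd hdX
    have hB' : B.map (MulAut.conj g).toMonoidHom ≤ M := by
      rintro _ ⟨β, hβ, rfl⟩
      obtain ⟨w, hwH, hw, rfl⟩ := L.lift β hβ
      have hH : n * w * n⁻¹ ∈ ℋ := mul_mem (mul_mem hn.1 hwH) (inv_mem hn.1)
      have hc : n * w * n⁻¹ * d = d * (n * w * n⁻¹) := by
        have h1 := HexFrame.U_comm (hmemUg.mp hdX.2) hw
        calc n * w * n⁻¹ * d = n * (w * (n⁻¹ * d * n)) * n⁻¹ := by group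
          _ = n * ((n⁻¹ * d * n) * w) * n⁻¹ := by rw [h1]
          _ = d * (n * w * n⁻¹) := by group
      have h2 := F0.normalizer_inf_H_le L (D.stab_spec hd hH hc) hH
      obtain ⟨hgH, hgM⟩ := mem_preH.1 h2
      rw [show (⟨n * w * n⁻¹, hgH⟩ : ↥ℋ) = ⟨n, hn.1⟩ * ⟨w, hwH⟩ * ⟨n, hn.1⟩⁻¹ from rfl, map_mul,
        map_mul, map_inv, hng] at hgM
      exact hgM
    set B' : Subgroup (MulAut ↥Spor.M22) := B.map (MulAut.conj g).toMonoidHom with hB'def
    have hBM : B ≤ M := F0.hexad.M_eq ▸ Subgroup.le_normalizer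
    have hB'L : B' ≤ M ⊓ M' := le_inf hB' (Subgroup.map_mono hBM)
    set K : Subgroup (Equiv.Perm (Fin 6)) := (B'.subgroupOf M).map f with hK
    have hKc : Nat.card ↥K = 16 := by
      have hinj : Function.Injective (f.comp (B'.subgroupOf M).subtype) := by
        rw [injective_iff_map_eq_one]
        intro l hl
        exact Subtype.ext (hker l (hB'L l.2).2 hl)
      have : K = (f.comp (B'.subgroupOf M).subtype).range := by
        rw [MonoidHom.range_comp, Subgroup.range_subtype]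
      rw [this, ← Nat.card_congr (MonoidHom.ofInjective hinj).toEquiv,
        Nat.card_congr (Subgroup.subgroupOfEquivOfLe hB').toEquiv, hB'def,
        Subgroup.card_map_of_injective (MulAut.conj g).injective, F0.hexad.B_card]
    haveI hKn : K.Normal := by
      refine ⟨fun k hk σ => ?_⟩
      obtain ⟨β, hβ, rfl⟩ := hk
      obtain ⟨l, hlM', rfl⟩ := hLsurj σ
      refine ⟨l * β * l⁻¹, ?_, by rw [map_mul, map_mul, map_inv]⟩
      obtain ⟨m, hm, hme⟩ := hlM'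
      obtain ⟨b, hb, hbe⟩ := hβ
      simp only [MulEquiv.coe_toMonoidHom, MulAut.conj_apply, Subgroup.coe_subtype] at hme hbe
      have hm' : m * b * m⁻¹ ∈ B := by
        rw [F0.hexad.M_eq] at hm
        exact (Subgroup.mem_normalizer_iff.1 hm b).1 hb
      refine ⟨_, hm', ?_⟩
      simp only [MulEquiv.coe_toMonoidHom, MulAut.conj_apply, Subgroup.coe_mul, Subgroup.coe_inv,
        Subgroup.coe_subtype, ← hme, ← hbe]
      group
    haveI : IsSimpleGroup ↥(alternatingGroup (Fin 6)) :=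
      alternatingGroup.isSimpleGroup (by rw [Nat.card_eq_fintype_card, Fintype.card_fin]; norm_num)
    have hA6 : Nat.card ↥(alternatingGroup (Fin 6)) = 360 := by
      rw [nat_card_alternatingGroup, Nat.card_eq_fintype_card, Fintype.card_fin]; rfl
    rcases IsSimpleGroup.eq_bot_or_eq_top_of_normal (K.subgroupOf (alternatingGroup (Fin 6)))
        inferInstance with h | h
    · let ψ : ↥K → Equiv.Perm (Fin 6) ⧸ alternatingGroup (Fin 6) :=
        fun k => QuotientGroup.mk (k : Equiv.Perm (Fin 6))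
      have hψ : Function.Injective ψ := by
        intro a b e
        have h1 : (a : Equiv.Perm (Fin 6))⁻¹ * b ∈ K ⊓ alternatingGroup (Fin 6) :=
          ⟨K.mul_mem (K.inv_mem a.2) b.2, QuotientGroup.eq.1 e⟩
        rw [disjoint_iff.1 ((Subgroup.subgroupOf_eq_bot (H := K)).1 h), Subgroup.mem_bot,
          inv_mul_eq_one] at h1
        exact Subtype.ext h1
      have h3 := Nat.card_le_card_of_injective ψ hψ
      have h4 := Subgroup.card_eq_card_quotient_mul_card_subgroup (alternatingGroup (Fin 6))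
      rw [hA6, Nat.card_eq_fintype_card (α := Equiv.Perm (Fin 6)), Fintype.card_perm,
        Fintype.card_fin, show Nat.factorial 6 = 720 from rfl] at h4
      rw [hKc] at h3
      omega
    · have := Subgroup.card_le_of_le (Subgroup.subgroupOf_eq_top.1 h)
      rw [hKc, hA6] at this
      omega
  have hXz : X ≤ Subgroup.zpowers z := by
    intro d hdX
    by_contra hdz
    have hord : d ∈ ordU ℰ W z five := ⟨hdX.1, hdz, fun T hT' hdT =>
      hnospec d ⟨hdX.1, hdz, T, hT', hdT⟩ hdX⟩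
    have hsub : ordU ℰ W z five ⊆ (X : Set G) := fun y hy =>
      hLc d y (hT.lconj_ord D.data.fiveData hord hy) hdX
    have h90 : 90 ≤ Nat.card ↥X := by
      rw [← hT.card_ordU D.data.fiveData]
      exact Nat.card_mono (Set.toFinite _) hsub
    have hdvd : Nat.card ↥X ∣ 128 := (Subgroup.card_dvd_of_le (inf_le_left : X ≤ U)).trans
      (dvd_of_eq hT.card_U)
    obtain ⟨k, hk, hk'⟩ := (Nat.dvd_prime_pow (m := 7) Nat.prime_two).1 hdvd
    have hk7 : k = 7 := by interval_cases k <;> omega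
    obtain ⟨d₀, hd₀⟩ := D.data.exists_spec
    have hXU : X = U := Subgroup.eq_of_le_of_card_ge inf_le_left (by
      rw [hk', hk7, hT.card_U])
    exact hnospec d₀ hd₀ (hXU.symm ▸ hd₀.1)
  -- the commutator hyperplane of `U`
  obtain ⟨p, hp, hp1, -, hPz⟩ := S.exists_generator
  have hpN : p ∈ ℋ ⊓ Subgroup.normalizer (P : Set G) := ⟨S.P_le_H hp, Subgroup.le_normalizer hp⟩
  have hpπ : π ⟨p, hpN.1⟩ = 1 :=
    (S.pi_eq_one_iff F0.ker_eq _).2 (S.P_le hp : ((⟨p, hpN.1⟩ : ↥ℋ) : G) ∈ N)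
  have hpU : ∀ u ∈ U, p * u * p⁻¹ ∈ U := fun u hu => F0.conj_U_mem L hpN (hpπ ▸ one_mem _) hu
  let φ : ↥U →* ↥U :=
    { toFun := fun u => ⟨p * u * p⁻¹ * u, mul_mem (hpU u u.2) u.2⟩
      map_one' := Subtype.ext (by simp)
      map_mul' := fun a b => Subtype.ext (by
        show p * ((a : G) * b) * p⁻¹ * ((a : G) * b) = p * a * p⁻¹ * a * (p * b * p⁻¹ * b)
        have hc : (p * (b : G) * p⁻¹) * (a : G) = (a : G) * (p * b * p⁻¹) :=
          hT.U_comm_U (hpU b b.2) a.2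
        calc p * ((a : G) * b) * p⁻¹ * ((a : G) * b) = p * a * p⁻¹ * ((p * b * p⁻¹) * a) * b := by group
          _ = p * a * p⁻¹ * (a * (p * b * p⁻¹)) * b := by rw [hc]
          _ = p * a * p⁻¹ * a * (p * b * p⁻¹ * b) := by group) }
  set F₁ : Subgroup G := φ.range.map U.subtype with hF₁
  have hF₁U : F₁ ≤ U := Subgroup.map_subtype_le _
  have hmemF₁ : ∀ {x}, x ∈ F₁ ↔ ∃ u ∈ U, p * u * p⁻¹ * u = x := by
    intro x
    rw [hF₁, Subgroup.mem_map]
    constructor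
    · rintro ⟨_, ⟨u, rfl⟩, rfl⟩; exact ⟨u, u.2, rfl⟩
    · rintro ⟨u, hu, rfl⟩; exact ⟨φ ⟨u, hu⟩, ⟨⟨u, hu⟩, rfl⟩, rfl⟩
  have hzF₁ : z ∉ F₁ := by
    intro hz
    obtain ⟨u, hu, e⟩ := hmemF₁.1 hz
    have h1 : p * u * p⁻¹ * u⁻¹ = z := by rw [hT.U_inv' hu]; exact e
    have h2 := S.mem_zpowers_of_comm hp hp1 (HexFrame.U_le hu) (h1.symm ▸ Subgroup.mem_zpowers z)
    have h3 : p * u * p⁻¹ = u := by
      rcases S.mem_zpowers_iff.1 h2 with rfl | rfl
      · simp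
      · rw [S.comm_z (S.P_le_H hp), mul_inv_cancel_right]
    rw [h3, hT.U_sq hu] at e
    exact S.z_ne_one e.symm
  have hkerc : φ.ker = (Subgroup.zpowers z).subgroupOf U := by
    ext u
    rw [MonoidHom.mem_ker, Subgroup.mem_subgroupOf]
    constructor
    · intro e
      have e' : p * (u : G) * p⁻¹ * u = 1 := congrArg Subtype.val e
      refine S.mem_zpowers_of_comm hp hp1 (HexFrame.U_le u.2) ?_
      rw [hT.U_inv' u.2, e']
      exact one_mem _
    · intro hu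
      refine Subtype.ext ?_
      show p * (u : G) * p⁻¹ * u = 1
      rcases S.mem_zpowers_iff.1 hu with e | e <;> rw [e]
      · simp
      · rw [S.comm_z (S.P_le_H hp), mul_inv_cancel_right, S.z_mul_self]
  have hF₁card : Nat.card ↥F₁ = 2 ^ 6 := by
    have h := Subgroup.card_eq_card_quotient_mul_card_subgroup φ.ker
    rw [Nat.card_congr (QuotientGroup.quotientKerEquivRange φ).toEquiv, hT.card_U, hkerc,
      Nat.card_congr (Subgroup.subgroupOfEquivOfLe (Subgroup.zpowers_le.2 hT.z_U : _ ≤ U)).toEquiv,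
      Nat.card_zpowers, S.orderZ] at h
    rw [hF₁, Subgroup.card_map_of_injective U.subtype_injective]
    norm_num at h ⊢
    omega
  have hF₁inv : ∀ y (hy : y ∈ ℋ ⊓ Subgroup.normalizer (P : Set G)), π ⟨y, hy.1⟩ ∈ M →
      ∀ x ∈ F₁, y * x * y⁻¹ ∈ F₁ := by
    intro y hy hyM x hx
    obtain ⟨u, hu, rfl⟩ := hmemF₁.1 hx
    set v := y * u * y⁻¹ with hv
    have hvU : v ∈ U := F0.conj_U_mem L hy hyM hu
    have hq : y * p * y⁻¹ ∈ P := (Subgroup.mem_normalizer_iff.1 hy.2 p).1 hp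
    have e : y * (p * u * p⁻¹ * u) * y⁻¹ = (y * p * y⁻¹) * v * (y * p * y⁻¹)⁻¹ * v := by
      rw [hv]; group
    rw [e]
    have hp3 : p ^ 3 = 1 := orderOf_dvd_iff_pow_eq_one.mp (S.cardP ▸ Subgroup.orderOf_dvd_natCard _ hp)
    rw [hPz] at hq
    obtain ⟨k, hk⟩ := hq
    have hk' : y * p * y⁻¹ = p ^ (k % 3) := by
      rw [← hk]
      show p ^ k = _
      rw [← zpow_mod_orderOf]
      congr 2
      exact_mod_cast orderOf_eq_prime (p := 3) hp3 hp1
    have h1 := Int.emod_nonneg k (show (3 : ℤ) ≠ 0 by norm_num)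
    have h2 := Int.emod_lt_of_pos k (show (0 : ℤ) < 3 by norm_num)
    rcases (show k % 3 = 0 ∨ k % 3 = 1 ∨ k % 3 = 2 by omega) with e3 | e3 | e3 <;> rw [e3] at hk' <;>
      rw [hk']
    · exact absurd (conj_eq_one_iff.1 (hk'.trans (zpow_zero p))) hp1
    · rw [zpow_one]; exact hmemF₁.2 ⟨v, hvU, rfl⟩
    · have hi : p ^ (2 : ℤ) = p⁻¹ := by
        refine eq_inv_of_mul_eq_one_left ?_
        rw [← zpow_add_one, show (2 : ℤ) + 1 = ((3 : ℕ) : ℤ) by norm_num, zpow_natCast, hp3]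
      rw [hi, inv_inv]
      have hwU : p⁻¹ * v * p ∈ U := by
        have := F0.conj_U_mem L (inv_mem hpN) (by
          rw [show (⟨p⁻¹, _⟩ : ↥ℋ) = ⟨p, hpN.1⟩⁻¹ from rfl, map_inv, hpπ, inv_one]
          exact one_mem _) hvU
        rwa [inv_inv] at this
      refine hmemF₁.2 ⟨_, hwU, ?_⟩
      rw [show p * (p⁻¹ * v * p) * p⁻¹ = v by group, hT.U_comm_U hvU hwU]
  refine ⟨F₁.map (MulAut.conj n).toMonoidHom, ?_, ?_, ?_, ?_, ?_, ?_⟩
  · rintro _ ⟨x, hx, rfl⟩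
    exact S.conj_mem_E hn.1 (HexFrame.U_le (hF₁U hx))
  · rw [Subgroup.card_map_of_injective (MulAut.conj n).injective, hF₁card]
  · refine ⟨⟨⟨fun a b => Subtype.ext ?_⟩⟩, ?_⟩
    · obtain ⟨u, hu, hua⟩ := Subgroup.mem_map.1 a.2
      obtain ⟨v, hv, hvb⟩ := Subgroup.mem_map.1 b.2
      show (a : G) * b = b * a
      rw [← hua, ← hvb, ← map_mul, ← map_mul, hT.U_comm_U (hF₁U hu) (hF₁U hv)]
    · intro x hx
      obtain ⟨u, hu, rfl⟩ := Subgroup.mem_map.1 hx
      rw [← map_pow, pow_two, hT.U_sq (hF₁U hu), map_one]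
  · rintro ⟨x, hx, e⟩
    simp only [MulEquiv.coe_toMonoidHom, MulAut.conj_apply] at e
    apply hzF₁
    rwa [show x = z by
      rw [show x = n⁻¹ * (n * x * n⁻¹) * n by group, e, mul_assoc, ← S.comm_z hn.1,
        inv_mul_cancel_left]] at hx
  · rw [eq_bot_iff]
    intro x hx
    obtain ⟨⟨y, hy, e⟩, hxV⟩ := Subgroup.mem_inf.1 hx
    have e' : n * y * n⁻¹ = x := e
    have hxU : x ∈ U := D.V_inf_E hxV (e' ▸ S.conj_mem_E hn.1 (HexFrame.U_le (hF₁U hy)))
    have hxz := hXz ⟨hxU, hmemUg.mpr (by rw [← e']; simpa [mul_assoc] using hF₁U hy)⟩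
    rcases S.mem_zpowers_iff.1 hxz with h | h
    · exact Subgroup.mem_bot.2 h
    · exfalso
      apply hzF₁
      rwa [show z = y by
        rw [show y = n⁻¹ * (n * y * n⁻¹) * n by group, e', h, mul_assoc, ← S.comm_z hn.1,
          inv_mul_cancel_left]]
  · intro x hx hxM f hf
    obtain ⟨y, hy, e⟩ := hf
    obtain ⟨hxn, hxnM⟩ := hback x hx hxM
    refine ⟨_, hF₁inv _ hxn hxnM y hy, ?_⟩
    simp only [MulEquiv.coe_toMonoidHom, MulAut.conj_apply] at e ⊢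
    rw [← e]; group

end DuadFrame

end CfsgLib.JFour
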