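import Cfsg.Agent.Lib.JFour.SplitHexad
import Cfsg.Agent.Lib.JFour.Main

/-!
# Groups of Janko-four type: a fused frame with a disjoint hexad
-/

set_option autoImplicit false
set_option linter.unusedSectionVars false

open Cfsg

namespace CfsgLib.JFour

variable {G : Type*} [Group G] [Finite G] [IsSimpleGroup G] {z : G} {P : Subgroup G}

/-- A fused frame together with a hexad disjoint from the given one. -/
theorem exists_fused_split (hG : ¬ IsMulCommutative G) (h : IsOfJankoFourTypeWith z P) :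
    ∃ (N : Subgroup G) (π : ↥(Subgroup.centralizer ({z} : Set G)) →* MulAut ↥Spor.M22)
      (M B : Subgroup (MulAut ↥Spor.M22)) (R W : Subgroup G) (g : MulAut ↥Spor.M22),
      Frame (P := P) (N := N) π M B ∧ Lifted P π M B R W ∧
      (∃ v ∈ HexFrame.U (twoCoreOfCentralizer z) W ⊔ W, v ≠ z ∧ IsConj z v) ∧
      B ⊓ M.map (MulAut.conj g).toMonoidHom = ⊥ ∧
      Nat.card ↥(M ⊓ M.map (MulAut.conj g).toMonoidHom) = 720 := by
  obtain ⟨M, B, hH, g, hg1, hg2⟩ := exists_hexadData_split
  obtain ⟨N, S⟩ := exists_setting h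
  obtain ⟨π, hπ, hker⟩ := S.quot
  have F : Frame (P := P) (N := N) π M B := ⟨S, hπ, hker, hH⟩
  obtain ⟨R, W, L⟩ := F.exists_lifted
  exact ⟨N, π, M, B, R, W, g, F, L, F.exists_fusion hG L.hex L.W_le L.lift, hg1, hg2⟩

end CfsgLib.JFour
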