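import Cfsg.Agent.Lib.JFour.HexadExists

/-!
# Two hexads of `M22` meeting trivially

An octad `O'` through the pair meeting the octad `O` in the pair only: no nontrivial element of the
hexad group of `O` fixes `O'`, and the stabiliser of both has order 720, acting as `S₆` on the six
points of `O`.
-/

set_option autoImplicit false
set_option maxRecDepth 100000

namespace CfsgLib.JFour.HexadSplit

open Cfsg CfsgLib.Golay CfsgLib.JFour.HexadTables CfsgLib.JFour.HexadPerm
open scoped Pointwise

local notation "PP" => Equiv.Perm GolayPt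
set_option quotPrecheck false in
local notation "HH" => (↥(HexadPerm.pairStab) : Type)

/-- The second octad through the two points. -/
def sideMask : ℕ := 10496547

/-- A table moving the first octad to the second one. -/
def sideT : ℕ := 983435072843990828779021698901151808

/-- A table fixing both octads, exchanging the first two of the six points. -/
def sideSwapT : ℕ := 28770106000223622339025476757293495

/-- A table fixing both octads, rotating the six points. -/
def sideCycT : ℕ := 15641885620724188030364529057212855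

theorem side_ok : inM24 sideT = true ∧ imgMask sideT pairMask = pairMask ∧
    imgMask sideT hexMask = sideMask ∧
    inMt sideSwapT = true ∧ imgMask sideSwapT sideMask = sideMask ∧
    actsAs sideSwapT [1, 0, 2, 3, 4, 5] = true ∧
    inMt sideCycT = true ∧ imgMask sideCycT sideMask = sideMask ∧
    actsAs sideCycT [1, 2, 3, 4, 5, 0] = true ∧
    (hexB.all fun b => isIdTbl b ||
      (imgMask b sideMask != sideMask && decide (imgMask b sideMask < 2 ^ 24))) = true := by
  decide +kernel

/-- The stabiliser of the pair and both octads. -/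
def bothStab : Subgroup PP := stabK [pairMask, hexMask, sideMask]

theorem mem_bothStab {g : PP} :
    g ∈ bothStab ↔ g ∈ hexStab ∧ g • unmask sideMask = unmask sideMask := by
  rw [bothStab, hexStab, mem_stabK, mem_stabK]
  simp only [List.mem_cons, List.not_mem_nil, or_false, forall_eq_or_imp, forall_eq]
  exact ⟨fun h => ⟨⟨h.1, h.2.1, h.2.2.1⟩, h.2.2.2⟩, fun h => ⟨h.1.1, h.1.2.1, h.1.2.2, h.2⟩⟩

theorem exists_side : ∃ g ∈ pairStab, g • unmask hexMask = unmask sideMask := by
  obtain ⟨h1, h2, h3, -⟩ := side_ok
  obtain ⟨g, hg⟩ := exists_isTbl (t := sideT) (by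
    simp only [inM24, Bool.and_eq_true] at h1; exact h1.1)
  refine ⟨g, mem_stabK_of_isTbl hg h1 fun n hn => ?_, by rw [smul_unmask hg, h3]⟩
  simp only [List.mem_cons, List.not_mem_nil, or_false] at hn
  subst hn
  exact h2

/-- The hexad group meets the stabiliser of the second octad trivially. -/
theorem eq_one_of_mem {b : PP} (hb : b ∈ hexGrp) (hs : b • unmask sideMask = unmask sideMask) : b = 1 := by
  obtain ⟨t, ht, hbt⟩ := hexB_all b hb
  obtain ⟨-, -, -, -, -, -, -, -, -, h⟩ := side_ok
  rw [List.all_eq_true] at h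
  have h' := h t ht
  simp only [Bool.or_eq_true, Bool.and_eq_true, bne_iff_ne, decide_eq_true_eq] at h'
  rcases h' with h' | ⟨h', hlt⟩
  · exact hbt.isIdTbl_iff.1 h'
  · exfalso
    refine h' ?_
    rw [smul_unmask hbt] at hs
    exact unmask_injOn hlt (by decide) hs

/-- The stabiliser of both octads has order 720. -/
theorem card_bothStab : Nat.card ↥bothStab = 720 := by
  have hle : bothStab ≤ hexStab := fun g hg => (mem_bothStab.1 hg).1
  let f : ↥bothStab →* Equiv.Perm (Fin 6) := sixHom.comp (Subgroup.inclusion hle)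
  have hinj : Function.Injective f := by
    rw [← MonoidHom.ker_eq_bot_iff, eq_bot_iff]
    intro x hx
    rw [Subgroup.mem_bot]
    have h1 : Subgroup.inclusion hle x ∈ sixHom.ker := hx
    rw [ker_sixHom, Subgroup.mem_subgroupOf, Subgroup.coe_inclusion] at h1
    exact Subtype.ext (eq_one_of_mem h1 (mem_bothStab.1 x.2).2)
  have hsurj : Function.Surjective f := by
    obtain ⟨-, -, -, h4, h5, h6, h7, h8, h9, -⟩ := side_ok
    obtain ⟨a, ha, ham⟩ := exists_inMt h4
    obtain ⟨c, hc, hcm⟩ := exists_inMt h7
    have ea := sixHom_eq ha ham (Equiv.swap 0 1) h6 (by decide +kernel)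
    have ec := sixHom_eq hc hcm (finRotate 6) h9 (by decide +kernel)
    have hamK : a ∈ bothStab := mem_bothStab.2 ⟨ham, by rw [smul_unmask ha, h5]⟩
    have hcmK : c ∈ bothStab := mem_bothStab.2 ⟨hcm, by rw [smul_unmask hc, h8]⟩
    rw [← MonoidHom.range_eq_top, eq_top_iff,
      ← Equiv.Perm.closure_cycle_adjacent_swap (σ := finRotate 6) (isCycle_finRotate_of_le (by norm_num))
        (support_finRotate_of_le (by norm_num)) 0,
      Subgroup.closure_le]
    rintro x (rfl | rfl)
    · exact ⟨⟨c, hcmK⟩, ec⟩
    · exact ⟨⟨a, hamK⟩, ea.trans (by decide +kernel)⟩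
  rw [Nat.card_congr (Equiv.ofBijective f ⟨hinj, hsurj⟩), Nat.card_perm, Nat.card_fin]
  rfl

/-- A conjugate of the stabiliser of the hexad meets the hexad group trivially and the stabiliser in
a group of order 720. -/
theorem exists_conj : ∃ g : HH, hexGrp.subgroupOf pairStab ⊓
      (hexStab.subgroupOf pairStab).map (MulAut.conj g).toMonoidHom = ⊥ ∧
    Nat.card ↥(hexStab.subgroupOf pairStab ⊓
      (hexStab.subgroupOf pairStab).map (MulAut.conj g).toMonoidHom) = 720 := by
  obtain ⟨g, hg, hgO⟩ := exists_side
  have key : ∀ x : HH, x ∈ (hexStab.subgroupOf pairStab).map (MulAut.conj (⟨g, hg⟩ : HH)).toMonoidHom ↔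
      (x : PP) • unmask sideMask = unmask sideMask := by
    intro x
    rw [Subgroup.mem_map_equiv, MulAut.conj_symm_apply, Subgroup.mem_subgroupOf, mem_hexStab]
    simp only [Subgroup.coe_mul, Subgroup.coe_inv]
    rw [← hgO]
    constructor
    · rintro ⟨-, h⟩
      calc (x : PP) • g • unmask hexMask = g • ((g⁻¹ * x * g) • unmask hexMask) := by
            simp only [mul_smul, smul_inv_smul]
        _ = g • unmask hexMask := by rw [h]
    · intro h
      refine ⟨mul_mem (mul_mem (inv_mem hg) x.2) hg, ?_⟩
      rw [mul_smul, mul_smul, h, inv_smul_smul]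
  refine ⟨⟨g, hg⟩, ?_, ?_⟩
  · rw [eq_bot_iff]
    rintro x ⟨hx1, hx2⟩
    exact Subtype.ext (eq_one_of_mem (Subgroup.mem_subgroupOf.1 hx1) ((key x).1 hx2))
  · have e : hexStab.subgroupOf pairStab ⊓
        (hexStab.subgroupOf pairStab).map (MulAut.conj (⟨g, hg⟩ : HH)).toMonoidHom =
        bothStab.subgroupOf pairStab := by
      ext x
      rw [Subgroup.mem_inf, key, Subgroup.mem_subgroupOf, Subgroup.mem_subgroupOf, mem_bothStab]
    rw [e, Nat.card_congr (Subgroup.subgroupOfEquivOfLe
      (fun g hg => hexStab_le (mem_bothStab.1 hg).1)).toEquiv, card_bothStab]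

end HexadSplit

open Cfsg HexadPerm in
/-- Hexad data with two hexad stabilisers meeting in a group of order 720. -/
theorem exists_hexadData_split : ∃ M B : Subgroup (MulAut ↥Cfsg.Spor.M22),
    HexadData (Inn ↥Cfsg.Spor.M22) M B ∧
    ∃ g : MulAut ↥Cfsg.Spor.M22, B ⊓ M.map (MulAut.conj g).toMonoidHom = ⊥ ∧
      Nat.card ↥(M ⊓ M.map (MulAut.conj g).toMonoidHom) = 720 := by
  obtain ⟨e⟩ := exists_equiv
  have h := hexadData_HH.map_equiv e
  rw [eq_inn_of_index_two h.I_index] at h
  obtain ⟨g, h1, h2⟩ := HexadSplit.exists_conj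
  refine ⟨_, _, h, e g, ?_, ?_⟩
  · have em : ((hexStab.subgroupOf pairStab).map e.toMonoidHom).map (MulAut.conj (e g)).toMonoidHom =
        ((hexStab.subgroupOf pairStab).map (MulAut.conj g).toMonoidHom).map e.toMonoidHom := by
      rw [Subgroup.map_map, Subgroup.map_map]
      congr 1
      ext x
      simp
    rw [em, ← Subgroup.map_inf _ _ _ e.injective, h1, Subgroup.map_bot]
  · have em : ((hexStab.subgroupOf pairStab).map e.toMonoidHom).map (MulAut.conj (e g)).toMonoidHom =
        ((hexStab.subgroupOf pairStab).map (MulAut.conj g).toMonoidHom).map e.toMonoidHom := by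
      rw [Subgroup.map_map, Subgroup.map_map]
      congr 1
      ext x
      simp
    rw [em, ← Subgroup.map_inf _ _ _ e.injective,
      Subgroup.card_map_of_injective (f := e.toMonoidHom) e.injective, h2]

end CfsgLib.JFour
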