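import Cfsg.Agent.Lib.JFour.DuadInst

/-!
# Groups of Janko-four type: an elementary abelian group of order 64 opposite to `V`

For a lift `n` in `N_H(P)` of an element moving the hexad to one disjoint from it, `U ^ n` meets `U` in
`⟨z⟩`, and `F = [U ^ n, P]` meets `V` trivially and is normalized by the lifts of the common stabiliser
of the two hexads.
-/

set_option autoImplicit false
set_option linter.unusedSectionVars false
set_option linter.style.haveILetI false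

open Cfsg

namespace CfsgLib.JFour

/-- In a dihedral group of odd rotation order the two involutions are conjugate. -/
theorem dihedral_odd {G : Type*} [Group G] {a c : G} (ha : a * a = 1) (hc : c * c = 1) {j : ℕ}
    (hj : (a * c) ^ (2 * j + 1) = 1) : ((a * c) ^ j)⁻¹ * c * (a * c) ^ j = a := by
  have haw : a * (a * c) = c := by rw [← mul_assoc, ha, one_mul]
  have hconj : a * (a * c) * a⁻¹ = (a * c)⁻¹ := by
    rw [haw, inv_eq_of_mul_eq_one_right ha, mul_inv_rev, inv_eq_of_mul_eq_one_right hc,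
      inv_eq_of_mul_eq_one_right ha]
  have hpow : ((a * c) ^ j)⁻¹ * a = a * (a * c) ^ j := by
    have h1 : a * (a * c) ^ j * a⁻¹ = ((a * c) ^ j)⁻¹ := by rw [← conj_pow, hconj, inv_pow]
    rw [← h1, inv_mul_cancel_right]
  calc ((a * c) ^ j)⁻¹ * c * (a * c) ^ j = ((a * c) ^ j)⁻¹ * a * ((a * c) * (a * c) ^ j) := by
        rw [← mul_assoc (((a * c) ^ j)⁻¹ * a), mul_assoc ((a * c) ^ j)⁻¹ a (a * c), haw]
    _ = a * ((a * c) ^ j * ((a * c) * (a * c) ^ j)) := by rw [hpow, mul_assoc]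
    _ = a * (a * c) ^ (2 * j + 1) := by
        rw [← pow_succ', ← pow_add, show j + (j + 1) = 2 * j + 1 by omega]
    _ = a := by rw [hj, mul_one]

variable {G : Type*} [Group G] {z : G} {P N : Subgroup G}

namespace Frame

set_option quotPrecheck false in
local notation "ℋ" => Subgroup.centralizer (singleton z : Set G)
set_option quotPrecheck false in
local notation "ℰ" => twoCoreOfCentralizer z
set_option quotPrecheck false in
local notation "𝒩" => (Subgroup.centralizer (singleton z : Set G) ⊓ Subgroup.normalizer (P : Set G))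
set_option quotPrecheck false in
local notation "𝒞" => (Subgroup.centralizer (singleton z : Set G) ⊓ Subgroup.centralizer (P : Set G))

variable [Finite G] {π : ↥(Subgroup.centralizer ({z} : Set G)) →* MulAut ↥Spor.M22}
  {M B : Subgroup (MulAut ↥Spor.M22)} (F : Frame (P := P) (N := N) π M B) {R W : Subgroup G}
include F

theorem pi_mul {a b : G} (ha : a ∈ ℋ) (hb : b ∈ ℋ) :
    π ⟨a * b, mul_mem ha hb⟩ = π ⟨a, ha⟩ * π ⟨b, hb⟩ := map_mul π ⟨a, ha⟩ ⟨b, hb⟩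

theorem pi_inv {a : G} (ha : a ∈ ℋ) : π ⟨a⁻¹, inv_mem ha⟩ = (π ⟨a, ha⟩)⁻¹ := map_inv π ⟨a, ha⟩

theorem pi_conj {a b : G} (ha : a ∈ ℋ) (hb : b ∈ ℋ) :
    π ⟨a * b * a⁻¹, mul_mem (mul_mem ha hb) (inv_mem ha)⟩ = π ⟨a, ha⟩ * π ⟨b, hb⟩ * (π ⟨a, ha⟩)⁻¹ := by
  rw [← map_inv, ← map_mul, ← map_mul]; rfl

/-- The elements of `N_H(P)` over `1` are those of `⟨z⟩ P`. -/
theorem mem_zP_of_pi {x : G} (hx : x ∈ 𝒩) (h1 : π ⟨x, hx.1⟩ = 1) : x ∈ Subgroup.zpowers z ⊔ P := by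
  rw [← F.setting.N_inf_normalizer]
  exact ⟨(F.setting.pi_eq_one_iff F.ker_eq ⟨x, hx.1⟩).1 h1, hx.2⟩

theorem two_zP {x : G} (hx : x ∈ 𝒩) (h1 : π ⟨x, hx.1⟩ = 1) (h32 : x ^ 32 = 1) : x = 1 ∨ x = z := by
  have h6 : x ^ 6 = 1 := orderOf_dvd_iff_pow_eq_one.1
    (F.setting.card_zP ▸ Subgroup.orderOf_dvd_natCard _ (F.mem_zP_of_pi hx h1))
  have h2 : x ^ 2 = 1 := by
    rw [show (2 : ℕ) = Nat.gcd 6 32 by norm_num]
    exact pow_gcd_eq_one.2 ⟨h6, h32⟩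
  refine F.setting.mem_zpowers_iff.1 ?_
  rw [← F.setting.E_inf_normalizer]
  exact ⟨F.setting.mem_E_of_pow ((F.setting.pi_eq_one_iff F.ker_eq ⟨x, hx.1⟩).1 h1) (k := 1)
    (by rw [pow_one]; exact h2), hx.2⟩

theorem exists_lift_N (a : MulAut ↥Spor.M22) : ∃ x, ∃ hx : x ∈ 𝒩, π ⟨x, hx.1⟩ = a := by
  obtain ⟨⟨x, hx⟩, e⟩ := F.setting.surjective_normalizer F.surj F.ker_eq a
  exact ⟨x, hx, e⟩

theorem P_le_N : P ≤ 𝒩 := le_inf F.setting.P_le_H Subgroup.le_normalizer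

theorem pi_P {p : G} (hp : p ∈ P) : π ⟨p, (F.P_le_N hp).1⟩ = 1 :=
  (F.setting.pi_eq_one_iff F.ker_eq ⟨p, (F.P_le_N hp).1⟩).2 (F.setting.P_le hp)

/-- `C_H(P)` is normal in `N_H(P)`. -/
theorem conj_mem_C {n c : G} (hn : n ∈ 𝒩) (hc : c ∈ 𝒞) : n * c * n⁻¹ ∈ 𝒞 := by
  refine ⟨mul_mem (mul_mem hn.1 hc.1) ((Subgroup.centralizer _).inv_mem hn.1), Subgroup.mem_centralizer_iff.2 fun p hp => ?_⟩
  have hp' : n⁻¹ * p * n ∈ P := by
    have := (Subgroup.mem_normalizer_iff.1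
        ((Subgroup.normalizer (P : Set G)).inv_mem hn.2) p).1 hp
    rwa [inv_inv] at this
  calc p * (n * c * n⁻¹) = n * ((n⁻¹ * p * n) * c) * n⁻¹ := by group
    _ = n * (c * (n⁻¹ * p * n)) * n⁻¹ := by rw [Subgroup.mem_centralizer_iff.1 hc.2 _ hp']
    _ = n * c * n⁻¹ * p := by group

/-- The stabiliser of two disjoint hexads is a complement of the hexad group in its normalizer. -/
theorem exists_mul_B {g : MulAut ↥Spor.M22} (hBg : B ⊓ M.map (MulAut.conj g).toMonoidHom = ⊥)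
    (hL : Nat.card ↥(M ⊓ M.map (MulAut.conj g).toMonoidHom) = 720) :
    ∃ f : ↥M →* Equiv.Perm (Fin 6), f.ker = B.subgroupOf M ∧
      (∀ a : ↥M, f a ∈ alternatingGroup (Fin 6) ↔ (a : MulAut ↥Spor.M22) ∈ Inn ↥Spor.M22) ∧
      (∀ l (hl : l ∈ M ⊓ M.map (MulAut.conj g).toMonoidHom), f ⟨l, hl.1⟩ = 1 → l = 1) ∧
      (∀ σ, ∃ l, ∃ hl : l ∈ M ⊓ M.map (MulAut.conj g).toMonoidHom, f ⟨l, hl.1⟩ = σ) ∧
      ∀ m ∈ M, ∃ l ∈ M ⊓ M.map (MulAut.conj g).toMonoidHom, ∃ b ∈ B, m = l * b := by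
  obtain ⟨f, hf, hker, himg⟩ := F.hexad.hexad
  set Lg := M ⊓ M.map (MulAut.conj g).toMonoidHom with hLg
  have hone : ∀ l (hl : l ∈ Lg), f ⟨l, hl.1⟩ = 1 → l = 1 := by
    intro l hl h1
    have h2 : (⟨l, hl.1⟩ : ↥M) ∈ B.subgroupOf M := hker ▸ h1
    exact Subgroup.mem_bot.1 (hBg ▸ ⟨Subgroup.mem_subgroupOf.1 h2, hl.2⟩)
  let fL : ↥Lg →* Equiv.Perm (Fin 6) := f.comp (Subgroup.inclusion inf_le_left)
  have hinj : Function.Injective fL := by
    rw [← MonoidHom.ker_eq_bot_iff, eq_bot_iff]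
    intro x hx
    exact Subgroup.mem_bot.2 (Subtype.ext (hone x x.2 hx))
  have hsurj : Function.Surjective fL :=
    ((Nat.bijective_iff_injective_and_card fL).2 ⟨hinj, by
      rw [hL, Nat.card_perm, Nat.card_fin]; rfl⟩).2
  have halt : ∀ a : ↥M, f a ∈ alternatingGroup (Fin 6) ↔ (a : MulAut ↥Spor.M22) ∈ Inn ↥Spor.M22 := by
    intro a
    rw [← himg]
    constructor
    · rintro ⟨y, hy, e⟩
      have h2 : y⁻¹ * a ∈ B.subgroupOf M := hker ▸ by
        rw [MonoidHom.mem_ker, map_mul, map_inv, e, inv_mul_cancel]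
      have h3 := mul_mem (show (y : MulAut ↥Spor.M22) ∈ Inn ↥Spor.M22 from hy)
        (F.hexad.B_le (Subgroup.mem_subgroupOf.1 h2))
      rwa [Subgroup.coe_mul, Subgroup.coe_inv, mul_inv_cancel_left] at h3
    · exact fun h => ⟨a, h, rfl⟩
  refine ⟨f, hker, halt, hone, fun σ => ?_, fun m hm => ?_⟩
  · obtain ⟨⟨l, hl⟩, e⟩ := hsurj σ
    exact ⟨l, hl, e⟩
  · obtain ⟨⟨l, hl⟩, e⟩ := hsurj (f ⟨m, hm⟩)
    refine ⟨l, hl, l⁻¹ * m, ?_, by rw [mul_inv_cancel_left]⟩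
    have h2 : (⟨l, hl.1⟩ : ↥M)⁻¹ * ⟨m, hm⟩ ∈ B.subgroupOf M := hker ▸ by
      rw [MonoidHom.mem_ker, map_mul, map_inv, show f ⟨l, hl.1⟩ = f ⟨m, hm⟩ from e, inv_mul_cancel]
    exact Subgroup.mem_subgroupOf.1 h2

variable (L : Lifted P π M B R W)
include L

/-- `W` and the elements of `C_H(P)` centralising `U` over the hexad stabiliser. -/
theorem mem_B_of_centralizes_U {c : G} (hc : c ∈ 𝒞) (hM : π ⟨c, hc.1⟩ ∈ M)
    (hcU : ∀ u ∈ HexFrame.U ℰ W, c * u = u * c) : π ⟨c, hc.1⟩ ∈ B := by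
  classical
  haveI : Finite (MulAut ↥Spor.M22) :=
    Nat.finite_of_card_ne_zero (by rw [card_mulAut_mTwentyTwo]; norm_num)
  obtain ⟨f, hf, hker, himg⟩ := F.hexad.hexad
  let K : Subgroup ↥M :=
    { carrier := {a | ∃ c, ∃ hc : c ∈ 𝒞, π ⟨c, hc.1⟩ = (a : MulAut ↥Spor.M22) ∧
        ∀ u ∈ HexFrame.U ℰ W, c * u = u * c}
      one_mem' := ⟨1, one_mem _, map_one π, fun u _ => by simp⟩
      mul_mem' := by
        rintro a b ⟨c, hc, hca, hcu⟩ ⟨d, hd, hdb, hdu⟩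
        refine ⟨c * d, mul_mem hc hd, ?_, fun u hu => by
          rw [mul_assoc, hdu u hu, ← mul_assoc, hcu u hu, mul_assoc]⟩
        rw [Subgroup.coe_mul, ← hca, ← hdb]
        exact F.pi_mul hc.1 hd.1
      inv_mem' := by
        rintro a ⟨c, hc, hca, hcu⟩
        refine ⟨c⁻¹, inv_mem hc, by rw [Subgroup.coe_inv, ← hca]; exact F.pi_inv hc.1, fun u hu => ?_⟩
        rw [inv_mul_eq_iff_eq_mul, ← mul_assoc, hcu u hu, mul_inv_cancel_right] }
  have hKI : ∀ a ∈ K, (a : MulAut ↥Spor.M22) ∈ Inn ↥Spor.M22 := by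
    rintro a ⟨c, hc, hca, -⟩
    rw [← hca]
    exact F.setting.pi_mem_inn_of_mem_C F.surj F.ker_eq (h := ⟨c, hc.1⟩) hc.2
  have hle : K.map f ≤ alternatingGroup (Fin 6) := by
    rw [← himg]
    exact Subgroup.map_mono fun a ha => hKI a ha
  have hnormal : ((K.map f).subgroupOf (alternatingGroup (Fin 6))).Normal := by
    refine ⟨fun x hx σ => ?_⟩
    rw [Subgroup.mem_subgroupOf] at hx ⊢
    obtain ⟨a, ⟨c, hc, hca, hcu⟩, hax⟩ := hx
    obtain ⟨m, hmI, hmσ⟩ : (σ : Equiv.Perm (Fin 6)) ∈ ((Inn ↥Spor.M22).subgroupOf M).map f := by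
      rw [himg]; exact σ.2
    obtain ⟨d, hdH, hdM, hdm⟩ := F.exists_preC_lift (X := M ⊓ Inn ↥Spor.M22) inf_le_right
      (a := (m : MulAut ↥Spor.M22)) ⟨m.2, hmI⟩
    have hd : d ∈ 𝒞 := preC_le hdM
    refine ⟨m * a * m⁻¹, ⟨d * c * d⁻¹, mul_mem (mul_mem hd hc) (inv_mem hd), ?_, fun u hu => ?_⟩, ?_⟩
    · rw [Subgroup.coe_mul, Subgroup.coe_mul, Subgroup.coe_inv, ← hdm, ← hca]
      exact F.pi_conj hdH hc.1
    · have hu' : d⁻¹ * u * d ∈ HexFrame.U ℰ W := by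
        have := F.conj_U_mem L (n := d⁻¹) (inv_mem (F.setting.C_le_normalizer_P hd)) (by
          rw [show π ⟨d⁻¹, _⟩ = (π ⟨d, hdH⟩)⁻¹ from F.pi_inv hdH, hdm]
          exact inv_mem m.2) hu
        simpa using this
      calc d * c * d⁻¹ * u = d * (c * (d⁻¹ * u * d)) * d⁻¹ := by group
        _ = d * ((d⁻¹ * u * d) * c) * d⁻¹ := by rw [hcu _ hu']
        _ = u * (d * c * d⁻¹) := by group
    · rw [map_mul, map_mul, map_inv, hax, hmσ]
      rfl
  haveI : IsSimpleGroup ↥(alternatingGroup (Fin 6)) := alternatingGroup.isSimpleGroup (by simp)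
  rcases IsSimpleGroup.eq_bot_or_eq_top_of_normal _ hnormal with e | e
  · have h1 : f ⟨π ⟨c, hc.1⟩, hM⟩ = 1 := by
      have hm : f ⟨π ⟨c, hc.1⟩, hM⟩ ∈ K.map f := ⟨_, ⟨c, hc, rfl, hcU⟩, rfl⟩
      have h2 : (⟨_, hle hm⟩ : ↥(alternatingGroup (Fin 6))) ∈
          (⊥ : Subgroup ↥(alternatingGroup (Fin 6))) := e ▸ Subgroup.mem_subgroupOf.2 hm
      exact congrArg Subtype.val (Subgroup.mem_bot.1 h2)
    have h2 : (⟨π ⟨c, hc.1⟩, hM⟩ : ↥M) ∈ B.subgroupOf M := hker ▸ h1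
    exact Subgroup.mem_subgroupOf.1 h2
  · exfalso
    -- then every `P`-invariant subgroup of `U` containing `z` is invariant under `R`
    have hinv : ∀ r ∈ R, ∀ S : Subgroup G, Between ℰ P W z S → ∀ u ∈ S, r * u * r⁻¹ ∈ S := by
      intro r hr S hS u hu
      have hrM0 := L.hex.R_M0 hr
      obtain ⟨⟨hrH, hrM⟩, hrP⟩ := mem_preC.1 hrM0
      have hfr : f ⟨π ⟨r, hrH⟩, hrM.1⟩ ∈ K.map f := by
        have hA : f ⟨π ⟨r, hrH⟩, hrM.1⟩ ∈ alternatingGroup (Fin 6) := himg ▸ ⟨_, hrM.2, rfl⟩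
        exact Subgroup.mem_subgroupOf.1 (show (⟨_, hA⟩ : ↥(alternatingGroup (Fin 6))) ∈
          (K.map f).subgroupOf (alternatingGroup (Fin 6)) from e ▸ Subgroup.mem_top _)
      obtain ⟨a, ⟨c, hc, hca, hcu⟩, hfa⟩ := hfr
      have hb : a⁻¹ * ⟨π ⟨r, hrH⟩, hrM.1⟩ ∈ B.subgroupOf M := hker ▸ by
        rw [MonoidHom.mem_ker, map_mul, map_inv, hfa, inv_mul_cancel]
      obtain ⟨w, hwH, hw, hwb⟩ := L.lift _ (Subgroup.mem_subgroupOf.1 hb)
      have hwC : w ∈ 𝒞 := preC_le (L.W_le hw)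
      set d := (c * w)⁻¹ * r with hd
      have hdC : d ∈ 𝒞 := mul_mem (inv_mem (mul_mem hc hwC)) ⟨hrH, hrP⟩
      have hd1 : π ⟨d, hdC.1⟩ = 1 := by
        rw [show π ⟨d, hdC.1⟩ = (π ⟨c * w, mul_mem hc.1 hwH⟩)⁻¹ * π ⟨r, hrH⟩ from
          (F.pi_mul (inv_mem (mul_mem hc.1 hwH)) hrH).trans (by rw [F.pi_inv (mul_mem hc.1 hwH)]),
          F.pi_mul hc.1 hwH, hwb, hca, Subgroup.coe_mul, Subgroup.coe_inv, mul_inv_cancel_left,
          inv_mul_cancel]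
      have hdS : d * u * d⁻¹ ∈ S := by
        have hle : Subgroup.zpowers z ⊔ P ≤ Subgroup.normalizer (S : Set G) :=
          sup_le (Subgroup.zpowers_le.2 (Subgroup.le_normalizer hS.z_mem))
            fun p hp => Subgroup.mem_normalizer_fintype fun x hx => hS.inv p hp x hx
        exact (Subgroup.mem_normalizer_iff.1
          (hle (F.mem_zP_of_pi (F.setting.C_le_normalizer_P hdC) hd1)) u).1 hu
      have hU := hS.le_U hdS
      rw [show r * u * r⁻¹ = c * (w * (d * u * d⁻¹) * w⁻¹) * c⁻¹ by rw [hd]; group,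
        HexFrame.U_comm hU hw, mul_inv_cancel_right, hcu _ hU, mul_inv_cancel_right]
      exact hdS
    obtain ⟨u, hu, huz⟩ : ∃ u ∈ HexFrame.U ℰ W, u ∉ Subgroup.zpowers z := by
      refine SetLike.not_le_iff_exists.1 fun hle => ?_
      have := Subgroup.card_le_of_le hle
      rw [L.hex.card_U, Nat.card_zpowers, F.setting.orderZ] at this
      omega
    obtain ⟨S, hS, hS8, -⟩ := L.hex.exists_pt hu huz
    rcases L.hex.irreducible (hS.le_U.trans HexFrame.U_le) hS.z_mem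
        (fun r hr x hx => hinv r hr S hS x hx) with k | k | k <;> omega

/-- The conjugate of `U` over a disjoint hexad is another subgroup. -/
theorem opp_ne {g : MulAut ↥Spor.M22} (hBg : B ⊓ M.map (MulAut.conj g).toMonoidHom = ⊥) {n : G}
    (hn : n ∈ 𝒩) (hng : π ⟨n, hn.1⟩ = g) :
    (HexFrame.U ℰ W).map (MulAut.conj n).toMonoidHom ≠ HexFrame.U ℰ W := by
  classical
  haveI : Finite (MulAut ↥Spor.M22) :=
    Nat.finite_of_card_ne_zero (by rw [card_mulAut_mTwentyTwo]; norm_num)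
  intro hU
  obtain ⟨hBc, hB2⟩ := F.hexad.B_elem
  have hBsq : ∀ b ∈ B, b * b = 1 := fun b hb => by rw [← pow_two]; exact hB2 b hb
  let K : Subgroup (MulAut ↥Spor.M22) :=
    { carrier := {a | ∃ c, ∃ hc : c ∈ 𝒞, π ⟨c, hc.1⟩ = a ∧ ∀ u ∈ HexFrame.U ℰ W, c * u = u * c}
      one_mem' := ⟨1, one_mem _, map_one π, fun u _ => by simp⟩
      mul_mem' := by
        rintro a b ⟨c, hc, rfl, hcu⟩ ⟨d, hd, rfl, hdu⟩
        exact ⟨c * d, mul_mem hc hd, F.pi_mul hc.1 hd.1, fun u hu => by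
          rw [mul_assoc, hdu u hu, ← mul_assoc, hcu u hu, mul_assoc]⟩
      inv_mem' := by
        rintro a ⟨c, hc, rfl, hcu⟩
        refine ⟨c⁻¹, inv_mem hc, F.pi_inv hc.1, fun u hu => ?_⟩
        rw [inv_mul_eq_iff_eq_mul, ← mul_assoc, hcu u hu, mul_inv_cancel_right] }
  have hKM : ∀ a ∈ K, a ∈ M → a ∈ B := by
    rintro a ⟨c, hc, rfl, hcu⟩ haM
    exact F.mem_B_of_centralizes_U L hc haM hcu
  have hBK : ∀ b ∈ B, b ∈ K := fun b hb => by
    obtain ⟨w, hwH, hw, rfl⟩ := L.lift b hb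
    exact ⟨w, preC_le (L.W_le hw), rfl, fun u hu => HexFrame.U_comm hu hw⟩
  obtain ⟨b0, hb0, hb01⟩ : ∃ b ∈ B, b ≠ 1 := by
    by_contra hcon
    push Not at hcon
    have : B = ⊥ := eq_bot_iff.2 fun b hb => Subgroup.mem_bot.2 (hcon b hb)
    have h16 := F.hexad.B_card
    rw [this, Subgroup.card_bot] at h16
    omega
  set b' := g * b0 * g⁻¹ with hb'
  have hb'K : b' ∈ K := by
    obtain ⟨w, hwH, hw, hwb⟩ := L.lift b0 hb0
    refine ⟨n * w * n⁻¹, F.conj_mem_C hn (preC_le (L.W_le hw)), ?_, fun u hu => ?_⟩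
    · rw [hb', ← hng, ← hwb]
      exact F.pi_conj hn.1 hwH
    · rw [← hU] at hu
      obtain ⟨v, hv, rfl⟩ := hu
      show n * w * n⁻¹ * (n * v * n⁻¹) = n * v * n⁻¹ * (n * w * n⁻¹)
      calc n * w * n⁻¹ * (n * v * n⁻¹) = n * (w * v) * n⁻¹ := by group
        _ = n * (v * w) * n⁻¹ := by rw [HexFrame.U_comm hv hw]
        _ = _ := by group
  have hb'B : b' ∉ B := fun h => hb01 (by
    have h1 : b' = 1 := Subgroup.mem_bot.1 (hBg ▸ ⟨h, ⟨b0, F.B_le_M hb0, rfl⟩⟩)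
    exact conj_eq_one_iff.1 h1)
  have hb'2 : b' * b' = 1 := by
    rw [hb', show g * b0 * g⁻¹ * (g * b0 * g⁻¹) = g * (b0 * b0) * g⁻¹ by group, hBsq b0 hb0]; group
  -- every involution of the hexad group is conjugate to `b'` in `K`
  have hall : ∀ b ∈ B, b ≠ 1 → ∃ c ∈ K, c * b' * c⁻¹ = b := by
    intro b hb hb1
    set w := b * b' with hw
    have hwK : w ∈ K := mul_mem (hBK b hb) hb'K
    rcases Nat.even_or_odd (orderOf w) with ⟨j, hj⟩ | ⟨j, hj⟩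
    · exfalso
      have hpos : 0 < j := by have := orderOf_pos w; omega
      set u := w ^ j with hu
      have hu1 : u ≠ 1 := pow_ne_one_of_lt_orderOf (by omega) (by omega)
      have huu : u * u = 1 := by rw [hu, ← pow_add, ← hj, pow_orderOf_eq_one]
      have hbw : b * w = b' := by rw [hw, ← mul_assoc, hBsq b hb, one_mul]
      have hconj : b * w * b⁻¹ = w⁻¹ := by
        rw [hbw, inv_eq_of_mul_eq_one_right (hBsq b hb), hw, mul_inv_rev,
          inv_eq_of_mul_eq_one_right hb'2, inv_eq_of_mul_eq_one_right (hBsq b hb)]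
      have hbu : b * u = u * b := by
        refine mul_inv_eq_iff_eq_mul.1 ?_
        rw [hu, ← conj_pow, hconj, inv_pow, ← hu, inv_eq_of_mul_eq_one_right huu]
      have huB : u ∈ B := hKM u (pow_mem hwK j)
        (F.hexad.cen_inv b hb hb1 (Subgroup.mem_centralizer_singleton_iff.2 hbu.symm))
      have hb'u : b' * u = u * b' := by
        rw [← hbw, mul_assoc, show w * u = u * w from (Commute.self_pow w j).eq, ← mul_assoc, hbu,
          mul_assoc]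
      exact hb'B (hKM b' hb'K (F.hexad.cen_inv u huB hu1 (Subgroup.mem_centralizer_singleton_iff.2 hb'u)))
    · refine ⟨(w ^ j)⁻¹, inv_mem (pow_mem hwK j), ?_⟩
      rw [inv_inv]
      exact dihedral_odd (hBsq b hb) hb'2 (hj ▸ pow_orderOf_eq_one w)
  -- hence two different ones are conjugate by an element normalising the hexad group
  obtain ⟨b1, hb1, b2, hb2, h12, h10, h20⟩ : ∃ b1 ∈ B, ∃ b2 ∈ B, b1 ≠ b2 ∧ b1 ≠ 1 ∧ b2 ≠ 1 := by
    by_contra hcon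
    push Not at hcon
    have hsub : (B : Set (MulAut ↥Spor.M22)) ⊆ {1, b0} := by
      intro b hb
      by_cases hb1 : b = 1
      · exact Or.inl hb1
      · exact Or.inr (by_contra fun hne => hb01 (hcon b hb b0 hb0 hne hb1))
    have := Set.ncard_le_ncard hsub (Set.toFinite _)
    rw [← Nat.card_coe_set_eq, SetLike.coe_sort_coe, F.hexad.B_card, Set.ncard_pair (Ne.symm hb01)] at this
    omega
  obtain ⟨c1, hc1, e1⟩ := hall b1 hb1 h10
  obtain ⟨c2, hc2, e2⟩ := hall b2 hb2 h20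
  set c := c2 * c1⁻¹ with hc
  have hcK : c ∈ K := mul_mem hc2 (inv_mem hc1)
  have ec : c * b1 * c⁻¹ = b2 := by rw [hc, ← e1, ← e2]; group
  have hcM : c ∈ M := by
    rw [F.hexad.M_eq]
    refine Subgroup.mem_normalizer_fintype fun b hb => ?_
    refine hKM _ (mul_mem (mul_mem hcK (hBK b hb)) (inv_mem hcK))
      (F.hexad.cen_inv b2 hb2 h20 (Subgroup.mem_centralizer_singleton_iff.2 ?_))
    rw [← ec]
    calc c * b * c⁻¹ * (c * b1 * c⁻¹) = c * (b * b1) * c⁻¹ := by group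
      _ = c * (b1 * b) * c⁻¹ := by
        rw [show b * b1 = b1 * b from congrArg Subtype.val (hBc.is_comm.comm ⟨b, hb⟩ ⟨b1, hb1⟩)]
      _ = _ := by group
  have hcB : c ∈ B := hKM c hcK hcM
  apply h12
  rw [← ec, show c * b1 = b1 * c from congrArg Subtype.val (hBc.is_comm.comm ⟨c, hcB⟩ ⟨b1, hb1⟩),
    mul_inv_cancel_right]

/-- Elements over the common stabiliser of the two hexads normalize both conjugates of `U`. -/
theorem conj_opp_mem {g : MulAut ↥Spor.M22} {n x : G} (hn : n ∈ 𝒩) (hng : π ⟨n, hn.1⟩ = g)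
    (hx : x ∈ 𝒩) (hxg : π ⟨x, hx.1⟩ ∈ M.map (MulAut.conj g).toMonoidHom) {u : G}
    (hu : u ∈ (HexFrame.U ℰ W).map (MulAut.conj n).toMonoidHom) :
    x * u * x⁻¹ ∈ (HexFrame.U ℰ W).map (MulAut.conj n).toMonoidHom := by
  obtain ⟨v, hv, rfl⟩ := hu
  have hx' : n⁻¹ * x * n ∈ 𝒩 := mul_mem (mul_mem (inv_mem hn) hx) hn
  have hM : π ⟨n⁻¹ * x * n, hx'.1⟩ ∈ M := by
    obtain ⟨m, hm, hmx⟩ := hxg
    have e : π ⟨n⁻¹ * x * n, hx'.1⟩ = m := by
      rw [show π ⟨n⁻¹ * x * n, hx'.1⟩ = π (⟨n, hn.1⟩⁻¹ * ⟨x, hx.1⟩ * ⟨n, hn.1⟩) from rfl, map_mul,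
        map_mul, map_inv, hng, ← hmx]
      show g⁻¹ * (g * m * g⁻¹) * g = m
      group
    rwa [e]
  refine ⟨_, F.conj_U_mem L hx' hM hv, ?_⟩
  show n * (n⁻¹ * x * n * v * (n⁻¹ * x * n)⁻¹) * n⁻¹ = x * (n * v * n⁻¹) * x⁻¹
  group

/-- `U` meets its conjugate over the disjoint hexad in `⟨z⟩`. -/
theorem opp_inf {g : MulAut ↥Spor.M22} (hBg : B ⊓ M.map (MulAut.conj g).toMonoidHom = ⊥)
    (hL : Nat.card ↥(M ⊓ M.map (MulAut.conj g).toMonoidHom) = 720) {n : G}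
    (hn : n ∈ 𝒩) (hng : π ⟨n, hn.1⟩ = g) :
    HexFrame.U ℰ W ⊓ (HexFrame.U ℰ W).map (MulAut.conj n).toMonoidHom = Subgroup.zpowers z := by
  set U' := (HexFrame.U ℰ W).map (MulAut.conj n).toMonoidHom with hU'
  set D := HexFrame.U ℰ W ⊓ U' with hD
  obtain ⟨-, -, -, -, -, hmul⟩ := F.exists_mul_B hBg hL
  have hnz : n * z = z * n := F.setting.comm_z hn.1
  have hzD : z ∈ D := ⟨L.hex.z_U, z, L.hex.z_U, mul_inv_eq_iff_eq_mul.2 hnz⟩
  -- elements over the common stabiliser preserve `D`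
  have hX : ∀ x (hx : x ∈ 𝒩), π ⟨x, hx.1⟩ ∈ M ⊓ M.map (MulAut.conj g).toMonoidHom →
      ∀ u ∈ D, x * u * x⁻¹ ∈ D := fun x hx hxL u hu =>
    ⟨F.conj_U_mem L hx hxL.1 hu.1, F.conj_opp_mem L hn hng hx hxL.2 hu.2⟩
  have hinv : ∀ r ∈ R, ∀ u ∈ D, r * u * r⁻¹ ∈ D := by
    intro r hr u hu
    obtain ⟨⟨hrH, hrM⟩, hrP⟩ := mem_preC.1 (L.hex.R_M0 hr)
    have hrN : r ∈ 𝒩 := F.setting.C_le_normalizer_P ⟨hrH, hrP⟩
    obtain ⟨l, hl, b, hb, hlb⟩ := hmul _ hrM.1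
    obtain ⟨x, hx, hxl⟩ := F.exists_lift_N l
    obtain ⟨w, hwH, hw, hwb⟩ := L.lift b hb
    have hwN : w ∈ 𝒩 := F.setting.C_le_normalizer_P (preC_le (L.W_le hw))
    set d := (x * w)⁻¹ * r with hd
    have hdN : d ∈ 𝒩 := mul_mem (inv_mem (mul_mem hx hwN)) hrN
    have hd1 : π ⟨d, hdN.1⟩ = 1 := by
      rw [show π ⟨d, hdN.1⟩ = (π ⟨x * w, mul_mem hx.1 hwH⟩)⁻¹ * π ⟨r, hrH⟩ from
        (F.pi_mul (inv_mem (mul_mem hx.1 hwH)) hrH).trans (by rw [F.pi_inv (mul_mem hx.1 hwH)]),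
        F.pi_mul hx.1 hwH, hwb, hxl, ← hlb, inv_mul_cancel]
    have hdD := hX d hdN (by rw [hd1]; exact one_mem _) u hu
    have hxD := hX x hx (by rw [hxl]; exact hl) _ hdD
    have hwd : w * (d * u * d⁻¹) * w⁻¹ = d * u * d⁻¹ := by
      rw [HexFrame.U_comm hdD.1 hw, mul_inv_cancel_right]
    rwa [show x * (d * u * d⁻¹) * x⁻¹ = r * u * r⁻¹ by
      conv_lhs => rw [← hwd, hd]
      group] at hxD
  rcases L.hex.irreducible (inf_le_left.trans HexFrame.U_le) hzD hinv with k | k | k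
  · exact (Subgroup.eq_of_le_of_card_ge (Subgroup.zpowers_le.2 hzD)
      (by rw [k, Nat.card_zpowers, F.setting.orderZ])).symm
  · exfalso
    refine F.opp_ne L hBg hn hng ?_
    have h1 : D = HexFrame.U ℰ W := Subgroup.eq_of_le_of_card_ge inf_le_left (by rw [k, L.hex.card_U])
    have h2 : D = U' := Subgroup.eq_of_le_of_card_ge inf_le_right (by
      rw [k, hU', Subgroup.card_map_of_injective (MulAut.conj n).injective, L.hex.card_U])
    exact h2.symm.trans h1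
  · exfalso
    have := Subgroup.card_le_of_le (inf_le_left : D ≤ HexFrame.U ℰ W)
    rw [k, L.hex.card_U] at this
    omega

/-- An elementary abelian subgroup of order 64 of `E` meeting `V` trivially and normalized over the
common stabiliser of two disjoint hexads. -/
theorem exists_opp {g : MulAut ↥Spor.M22} (hBg : B ⊓ M.map (MulAut.conj g).toMonoidHom = ⊥)
    (hL : Nat.card ↥(M ⊓ M.map (MulAut.conj g).toMonoidHom) = 720) :
    ∃ O : Subgroup G, O ≤ ℰ ∧ Nat.card ↥O = 64 ∧ (∀ a ∈ O, a * a = 1) ∧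
      O ⊓ (HexFrame.U ℰ W ⊔ W) = ⊥ ∧
      ∀ x (hx : x ∈ 𝒩), π ⟨x, hx.1⟩ ∈ M ⊓ M.map (MulAut.conj g).toMonoidHom →
        x ∈ Subgroup.normalizer (O : Set G) := by
  classical
  obtain ⟨n, hn, hng⟩ := F.exists_lift_N g
  obtain ⟨p, hp, hp1, hp3, hP⟩ := F.setting.exists_generator
  have hinf := F.opp_inf L hBg hL hn hng
  set U' := (HexFrame.U ℰ W).map (MulAut.conj n).toMonoidHom with hU'
  have hU'E : U' ≤ ℰ := by
    rintro _ ⟨u, hu, rfl⟩
    exact F.setting.conj_mem_E hn.1 (HexFrame.U_le hu)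
  have hU'sq : ∀ a ∈ U', a * a = 1 := by
    rintro _ ⟨u, hu, rfl⟩
    rw [← map_mul, L.hex.U_sq hu, map_one]
  have hU'c : ∀ a ∈ U', ∀ b ∈ U', a * b = b * a := by
    rintro _ ⟨u, hu, rfl⟩ _ ⟨v, hv, rfl⟩
    rw [← map_mul, ← map_mul, L.hex.U_comm_U hu hv]
  have hpU : ∀ q ∈ P, ∀ a ∈ U', q * a * q⁻¹ ∈ U' := fun q hq a ha =>
    F.conj_opp_mem L hn hng (F.P_le_N hq) (by rw [F.pi_P hq]; exact one_mem _) ha
  -- the map `a ↦ [p, a]` on the conjugate of `U`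
  let φ : ↥U' →* ↥U' :=
    { toFun := fun a => ⟨p * a * p⁻¹ * a, mul_mem (hpU p hp a a.2) a.2⟩
      map_one' := Subtype.ext (by simp)
      map_mul' := fun a b => Subtype.ext (by
        show p * ((a : G) * b) * p⁻¹ * (a * b) = p * a * p⁻¹ * a * (p * b * p⁻¹ * b)
        rw [mul_assoc (p * a * p⁻¹) (a : G), ← mul_assoc (a : G) (p * b * p⁻¹),
          hU'c a a.2 _ (hpU p hp b b.2)]
        group) }
  have hz' : z ∈ U' := (hinf.symm ▸ Subgroup.mem_zpowers z : z ∈ HexFrame.U ℰ W ⊓ U').2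
  have hker : φ.ker = (Subgroup.zpowers z).subgroupOf U' := by
    ext a
    rw [MonoidHom.mem_ker, Subgroup.mem_subgroupOf, ← Subtype.coe_inj]
    show p * (a : G) * p⁻¹ * a = 1 ↔ _
    constructor
    · intro h
      refine F.setting.mem_zpowers_of_comm hp hp1 (hU'E a.2) ?_
      rw [inv_eq_of_mul_eq_one_right (hU'sq a a.2), h]
      exact one_mem _
    · intro h
      have hzp : p * (a : G) * p⁻¹ = a := by
        rcases F.setting.mem_zpowers_iff.1 h with e | e <;> rw [e]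
        · simp
        · exact mul_inv_eq_iff_eq_mul.2 (F.setting.comm_z (F.setting.P_le_H hp))
      rw [hzp, hU'sq a a.2]
  have hU'card : Nat.card ↥U' = 2 ^ 7 :=
    (Subgroup.card_map_of_injective (MulAut.conj n).injective).trans L.hex.card_U
  set O : Subgroup G := φ.range.map U'.subtype with hO
  have hOU : O ≤ U' := Subgroup.map_subtype_le _
  have hOmem : ∀ y, y ∈ O ↔ ∃ a ∈ U', y = p * a * p⁻¹ * a := by
    intro y
    constructor
    · rintro ⟨_, ⟨a, rfl⟩, rfl⟩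
      exact ⟨a, a.2, rfl⟩
    · rintro ⟨a, ha, rfl⟩
      exact ⟨_, ⟨⟨a, ha⟩, rfl⟩, rfl⟩
  have hcard : Nat.card ↥O = 64 := by
    rw [hO, Subgroup.card_map_of_injective U'.subtype_injective]
    have h := Subgroup.card_eq_card_quotient_mul_card_subgroup φ.ker
    rw [Nat.card_congr (QuotientGroup.quotientKerEquivRange φ).toEquiv, hker,
      Nat.card_congr (Subgroup.subgroupOfEquivOfLe (Subgroup.zpowers_le.2 hz')).toEquiv,
      Nat.card_zpowers, F.setting.orderZ, hU'card] at h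
    omega
  refine ⟨O, hOU.trans hU'E, hcard, fun a ha => hU'sq a (hOU ha), ?_, fun x hx hxL => ?_⟩
  · rw [eq_bot_iff]
    rintro y ⟨hyO, hyV⟩
    have hyE := hU'E (hOU hyO)
    have hyU : y ∈ HexFrame.U ℰ W := by
      refine F.mem_U_of_pi L hyV (F.setting.E_le hyE) ?_
      exact (F.setting.pi_eq_one_iff F.ker_eq _).2 (F.setting.E_le_N hyE)
    obtain ⟨a, ha, rfl⟩ := (hOmem y).1 hyO
    have hmem : p * a * p⁻¹ * a ∈ Subgroup.zpowers z := hinf ▸ ⟨hyU, hOU hyO⟩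
    have haz : a ∈ Subgroup.zpowers z := F.setting.mem_zpowers_of_comm hp hp1 (hU'E ha)
      (by rwa [inv_eq_of_mul_eq_one_right (hU'sq a ha)])
    rw [Subgroup.mem_bot]
    have h1 : (⟨a, ha⟩ : ↥U') ∈ φ.ker := hker ▸ Subgroup.mem_subgroupOf.2 haz
    exact congrArg Subtype.val h1
  · refine Subgroup.mem_normalizer_fintype fun y hy => ?_
    obtain ⟨a, ha, rfl⟩ := (hOmem y).1 hy
    rw [SetLike.mem_coe, hOmem]
    have hxa := F.conj_opp_mem L hn hng hx hxL.2 ha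
    have hq : x * p * x⁻¹ ∈ P := (Subgroup.mem_normalizer_iff.1 hx.2 p).1 hp
    have hq1 : x * p * x⁻¹ ≠ 1 := fun e => hp1 (conj_eq_one_iff.1 e)
    have hq' : x * p * x⁻¹ = p ∨ x * p * x⁻¹ = p⁻¹ := by
      rw [hP] at hq
      obtain ⟨k, hk⟩ := hq
      simp only at hk
      rw [← zpow_mod_orderOf, hp3] at hk
      have h1 := Int.emod_nonneg k (show ((3 : ℕ) : ℤ) ≠ 0 by norm_num)
      have h2 := Int.emod_lt_of_pos k (show (0 : ℤ) < ((3 : ℕ) : ℤ) by norm_num)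
      rcases (show k % ((3 : ℕ) : ℤ) = 0 ∨ k % ((3 : ℕ) : ℤ) = 1 ∨ k % ((3 : ℕ) : ℤ) = 2 by omega)
        with e | e | e <;> rw [e] at hk
      · exact absurd (hk.symm.trans (zpow_zero p)) hq1
      · exact Or.inl (by rw [← hk, zpow_one])
      · refine Or.inr (hk.symm.trans (eq_inv_of_mul_eq_one_left ?_))
        rw [← zpow_add_one, show (2 : ℤ) + 1 = ((3 : ℕ) : ℤ) by norm_num, zpow_natCast, ← hp3,
          pow_orderOf_eq_one]
    rcases hq' with e | e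
    · exact ⟨_, hxa, by
        rw [show x * (p * a * p⁻¹ * a) * x⁻¹ = (x * p * x⁻¹) * (x * a * x⁻¹) * (x * p * x⁻¹)⁻¹ *
          (x * a * x⁻¹) by group, e]⟩
    · refine ⟨p⁻¹ * (x * a * x⁻¹) * p, by simpa using hpU p⁻¹ (inv_mem hp) _ hxa, ?_⟩
      rw [show x * (p * a * p⁻¹ * a) * x⁻¹ = (x * p * x⁻¹) * (x * a * x⁻¹) * (x * p * x⁻¹)⁻¹ *
          (x * a * x⁻¹) by group, e, inv_inv]
      have hb : p⁻¹ * (x * a * x⁻¹) * p ∈ U' := by simpa using hpU p⁻¹ (inv_mem hp) _ hxa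
      calc p⁻¹ * (x * a * x⁻¹) * p * (x * a * x⁻¹)
          = (x * a * x⁻¹) * (p⁻¹ * (x * a * x⁻¹) * p) := hU'c _ hb _ hxa
        _ = p * (p⁻¹ * (x * a * x⁻¹) * p) * p⁻¹ * (p⁻¹ * (x * a * x⁻¹) * p) := by group

end Frame

end CfsgLib.JFour
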