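import Cfsg.Agent.Lib.JFour.HexInst
import Cfsg.Agent.Lib.JFour.Isolated
import Cfsg.Agent.Lib.JFour.ElemBound

/-!
In a group of Janko-four type the centralizer of `z` has, up to conjugation, just one elementary
abelian subgroup of order `2 ^ 11`; every Sylow 2-subgroup of `G` contains exactly one.
-/

set_option autoImplicit false
set_option linter.unusedSectionVars false
set_option linter.style.haveILetI false

open Cfsg

namespace CfsgLib.JFour

variable {G : Type*} [Group G] {z : G} {P N : Subgroup G}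

namespace Frame

variable {π : ↥(Subgroup.centralizer ({z} : Set G)) →* MulAut ↥Spor.M22}
  {M B : Subgroup (MulAut ↥Spor.M22)} [Finite G] (F : Frame (P := P) (N := N) π M B)
include F

/-- An elementary subgroup of order `2 ^ 11` over the hexad normalizer is `U W`. -/
theorem eq_sup_of_le_preimage {R W : Subgroup G}
    (hT : HexTransitive (twoCoreOfCentralizer z) R P W (preC P π (M ⊓ Inn ↥Spor.M22)) z)
    (hWX : W ≤ preC P π B) (hsplit : ∀ g ∈ preC P π B, ∃ w ∈ W, ∃ p ∈ P, g = w * p)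
    (hlift : ∀ b ∈ B, ∃ w, ∃ hw : w ∈ Subgroup.centralizer ({z} : Set G), w ∈ W ∧ π ⟨w, hw⟩ = b)
    {A : Subgroup G} (hA : A ≤ Subgroup.centralizer ({z} : Set G))
    (hAM : ∀ a (ha : a ∈ A), π ⟨a, hA ha⟩ ∈ M)
    (hel : Cfsg.IsElementaryAbelian 2 A) (hcard : Nat.card ↥A = 2 ^ 11) :
    A = HexFrame.U (twoCoreOfCentralizer z) W ⊔ W := by
  classical
  haveI : Finite (MulAut ↥Spor.M22) :=
    Nat.finite_of_card_ne_zero (by rw [card_mulAut_mTwentyTwo]; norm_num)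
  have S := F.setting
  have hH := F.hexad
  set I : Subgroup (MulAut ↥Spor.M22) := Inn ↥Spor.M22 with hI
  set E : Subgroup G := twoCoreOfCentralizer z with hE
  set U : Subgroup G := HexFrame.U E W with hU
  set M0 : Subgroup G := preC P π (M ⊓ I) with hM0def
  obtain ⟨hcomm, hexp⟩ := hel
  have hAc : ∀ a ∈ A, ∀ b ∈ A, a * b = b * a := fun a ha b hb =>
    congrArg Subtype.val (hcomm.is_comm.comm ⟨a, ha⟩ ⟨b, hb⟩)
  have hA2 : ∀ a ∈ A, a * a = 1 := fun a ha => by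
    rw [← pow_two]; exact hexp a ha
  have hgz : ∀ g ∈ Subgroup.centralizer ({z} : Set G), g * z = z * g := fun g hg =>
    (Subgroup.mem_centralizer_iff.1 hg z rfl).symm
  have hp3 : ∀ p ∈ P, p ^ 3 = 1 := fun p hp => by
    have : (⟨p, hp⟩ : ↥P) ^ Nat.card ↥P = 1 := pow_card_eq_one'
    rw [S.cardP] at this
    simpa using congrArg Subtype.val this
  let f : ↥A →* MulAut ↥Spor.M22 := π.comp (Subgroup.inclusion hA)
  set AE : Subgroup G := A ⊓ E with hAE
  have hfker : f.ker = AE.subgroupOf A := by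
    ext a
    rw [MonoidHom.mem_ker, Subgroup.mem_subgroupOf, Subgroup.mem_inf]
    show π ⟨(a : G), hA a.2⟩ = 1 ↔ _
    rw [S.pi_eq_one_iff F.ker_eq]
    refine ⟨fun h => ⟨a.2, S.mem_E_of_pow h (k := 1) ?_⟩, fun h => S.E_le_N h.2⟩
    rw [pow_one, pow_two]; exact hA2 _ a.2
  have hnm : Nat.card ↥f.range * Nat.card ↥AE = 2 ^ 11 := by
    rw [← hcard, Subgroup.card_eq_card_quotient_mul_card_subgroup f.ker,
      Nat.card_congr (QuotientGroup.quotientKerEquivRange f).toEquiv, hfker,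
      Nat.card_congr (Subgroup.subgroupOfEquivOfLe (inf_le_left : AE ≤ A)).toEquiv]
  have hn7 : Nat.card ↥AE ≤ 2 ^ 7 := by
    rw [← Nat.card_congr (Subgroup.subgroupOfEquivOfLe (inf_le_right : AE ≤ E)).toEquiv]
    refine card_elem_extraspecial S.extra S.cardE _ fun a ha b hb => Subtype.ext ?_
    exact hAc _ (Subgroup.mem_subgroupOf.1 ha).1 _ (Subgroup.mem_subgroupOf.1 hb).1
  have hrange : ∀ x ∈ f.range, ∃ a, ∃ ha : a ∈ A, π ⟨a, hA ha⟩ = x := by
    rintro _ ⟨a, rfl⟩; exact ⟨a, a.2, rfl⟩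
  have hf2 : ∀ x ∈ f.range, x * x = 1 := by
    rintro _ ⟨a, rfl⟩
    rw [← map_mul, show a * a = 1 from Subtype.ext (hA2 _ a.2), map_one]
  have hfc : ∀ x ∈ f.range, ∀ y ∈ f.range, x * y = y * x := by
    rintro _ ⟨a, rfl⟩ _ ⟨b, rfl⟩
    rw [← map_mul, ← map_mul, show a * b = b * a from Subtype.ext (hAc _ a.2 _ b.2)]
  have hfM : f.range ≤ M := by
    rintro _ ⟨a, rfl⟩; exact hAM _ a.2
  -- elements of `A` over nontrivial elements of `B` act on `E` as elements of `W`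
  have hoverB : ∀ a (ha : a ∈ A), π ⟨a, hA ha⟩ ∈ B →
      ∃ e ∈ E, ∃ w ∈ W, ∃ hw : w ∈ Subgroup.centralizer ({z} : Set G),
        a = e * w ∧ π ⟨w, hw⟩ = π ⟨a, hA ha⟩ := by
    intro a ha hb
    obtain ⟨w, hwH, hwW, hwb⟩ := hlift _ hb
    have hN : a * w⁻¹ ∈ N := (S.pi_eq_one_iff F.ker_eq ⟨_, mul_mem (hA ha) (inv_mem hwH)⟩).1 (by
      rw [show (⟨a * w⁻¹, mul_mem (hA ha) (inv_mem hwH)⟩ : ↥(Subgroup.centralizer ({z} : Set G))) =
        ⟨a, hA ha⟩ * ⟨w, hwH⟩⁻¹ from rfl, map_mul, map_inv, hwb, mul_inv_cancel])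
    obtain ⟨e, he, p, hp, hep⟩ := S.mem_N_iff.1 hN
    have ha' : a = e * (p * w) := by rw [← mul_assoc, ← hep, inv_mul_cancel_right]
    have hpw : p * w = w * p := (hT.W_P w hwW p hp).symm
    have hsq : (p * w) * (p * w) = p * p := by
      calc (p * w) * (p * w) = p * (w * p) * w := by group
        _ = (p * p) * (w * w) := by rw [← hpw]; group
        _ = p * p := by rw [hT.W_sq w hwW, mul_one]
    have hp2 : p * p ∈ E := by
      have h1 := hA2 a ha
      rw [ha', show e * (p * w) * (e * (p * w)) =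
        e * ((p * w) * e * (p * w)⁻¹) * ((p * w) * (p * w)) by group, hsq] at h1
      rw [eq_inv_of_mul_eq_one_right h1]
      exact inv_mem (mul_mem he (S.conj_mem_E (mul_mem (S.P_le_H hp) hwH) he))
    have hp21 : p * p = 1 :=
      Subgroup.mem_bot.1 (S.E_inf_P ▸ Subgroup.mem_inf.2 ⟨hp2, mul_mem hp hp⟩)
    have hp1 : p = 1 := by
      have h3 := hp3 p hp
      rwa [pow_succ, pow_two, hp21, one_mul] at h3
    exact ⟨e, he, w, hwW, hwH, by rw [ha', hp1, one_mul], hwb⟩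
  -- fixed points in `E` of such elements
  have hfixW : ∀ e ∈ E, ∀ w ∈ W, ∀ x ∈ E, (e * w) * x = x * (e * w) → w * x = x * w := by
    intro e he w hw x hx hc
    refine hT.comm_of_mod (fun p hp => hT.W_P w hw p hp) (hT.W_z w hw) hx ?_
    have h1 : w * x * w⁻¹ = e⁻¹ * x * (e⁻¹)⁻¹ := by
      calc w * x * w⁻¹ = e⁻¹ * ((e * w) * x) * w⁻¹ := by group
        _ = e⁻¹ * (x * (e * w)) * w⁻¹ := by rw [hc]
        _ = e⁻¹ * x * (e⁻¹)⁻¹ := by group
    rw [h1]
    exact S.conj_eq (inv_mem he) hx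
  -- images
  set A0 : Subgroup (MulAut ↥Spor.M22) := f.range ⊓ I with hA0
  set AB : Subgroup (MulAut ↥Spor.M22) := f.range ⊓ B with hAB
  have hABle : AB ≤ A0 := inf_le_inf le_rfl hH.B_le
  have hA0_2 : Nat.card ↥f.range ≤ 2 * Nat.card ↥A0 := by
    have h := (I.subgroupOf f.range).card_mul_index
    haveI : I.Normal := Subgroup.normal_of_index_eq_two hH.I_index
    have h2 : (I.subgroupOf f.range).index ∣ 2 :=
      hH.I_index ▸ Subgroup.relIndex_dvd_index_of_normal I f.range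
    have h3 : Nat.card ↥(I.subgroupOf f.range) = Nat.card ↥A0 := by
      rw [hA0, inf_comm, ← Subgroup.subgroupOf_map_subtype,
        Subgroup.card_map_of_injective f.range.subtype_injective]
    rw [← h, h3, mul_comm]
    exact Nat.mul_le_mul_right _ (Nat.le_of_dvd two_pos h2)
  obtain ⟨q, hqs, hqker, hqalt⟩ := hH.hexad
  have hA0_4 : Nat.card ↥A0 ≤ 4 * Nat.card ↥AB := by
    let r : ↥A0 →* ↥(alternatingGroup (Fin 6)) :=
      (q.comp (Subgroup.inclusion (inf_le_left.trans hfM : A0 ≤ M))).codRestrict _ fun x => by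
        rw [← hqalt]
        exact ⟨⟨(x : MulAut ↥Spor.M22), hfM x.2.1⟩, x.2.2, rfl⟩
    have hk : Nat.card ↥r.ker ≤ Nat.card ↥AB := by
      refine Nat.card_le_card_of_injective (fun x =>
        (⟨((x : ↥A0) : MulAut ↥Spor.M22), (x : ↥A0).2.1, ?_⟩ : ↥AB))
        fun x y h => Subtype.ext (Subtype.ext (congrArg (fun t : ↥AB => (t : MulAut ↥Spor.M22)) h))
      have h1 : (⟨((x : ↥A0) : MulAut ↥Spor.M22), hfM (x : ↥A0).2.1⟩ : ↥M) ∈ q.ker :=
        congrArg Subtype.val x.2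
      rw [hqker] at h1
      exact h1
    have hr : Nat.card ↥r.range ≤ 4 := by
      refine card_elem_alt_six _ ?_ ?_
      · rintro _ ⟨a, rfl⟩ _ ⟨b, rfl⟩
        rw [← map_mul, ← map_mul, show a * b = b * a from Subtype.ext (hfc _ a.2.1 _ b.2.1)]
      · rintro _ ⟨a, rfl⟩
        rw [← map_mul, show a * a = 1 from Subtype.ext (hf2 _ a.2.1), map_one]
    rw [Subgroup.card_eq_card_quotient_mul_card_subgroup r.ker,
      Nat.card_congr (QuotientGroup.quotientKerEquivRange r).toEquiv]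
    exact Nat.mul_le_mul hr hk
  have hA0B : ∀ a ∈ A0, a ∉ B → Nat.card ↥AB ≤ 4 := by
    intro a ha haB
    rw [← hH.fix_two a ⟨hfM ha.1, ha.2⟩ haB (by rw [hf2 a ha.1]; exact one_mem B)]
    exact Subgroup.card_le_of_le fun b hb =>
      ⟨hb.2, Subgroup.mem_centralizer_singleton_iff.2 (hfc b hb.1 a ha.1)⟩
  -- no outer elements
  have hinner : f.range ≤ I := by
    by_contra hcon
    obtain ⟨t, ht, htI⟩ := SetLike.not_le_iff_exists.1 hcon
    obtain ⟨a, ha, hat⟩ := hrange t ht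
    have hAB2 : 2 ≤ Nat.card ↥AB := by
      by_contra h
      have := Nat.card_pos (α := ↥AB)
      nlinarith
    haveI : Nontrivial ↥AB := Finite.one_lt_card_iff_nontrivial.1 hAB2
    obtain ⟨⟨b, hb⟩, hb1'⟩ := exists_ne (1 : ↥AB)
    obtain ⟨c, hc, hcb⟩ := hrange b hb.1
    obtain ⟨e, he, w, hw, hwH, hcew, hwb⟩ := hoverB c hc (hcb.symm ▸ hb.2)
    have hwz : w ∉ Subgroup.zpowers z := fun h => hb1' (Subtype.ext (show b = 1 from by
      rw [← hcb, ← hwb]
      exact (S.pi_eq_one_iff F.ker_eq _).2 (S.E_le_N (Subgroup.zpowers_le.2 S.z_mem_E h))))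
    -- `S' = (A ∩ E) Z`
    set Sz : Subgroup G := AE ⊔ Subgroup.zpowers z with hSz
    have hSzE : Sz ≤ E := sup_le inf_le_right (Subgroup.zpowers_le.2 S.z_mem_E)
    have hSzfix : ∀ g ∈ Subgroup.centralizer ({z} : Set G), (∀ x ∈ AE, g * x = x * g) →
        ∀ x ∈ Sz, g * x = x * g := by
      intro g hg hgA x hx
      have hle : Sz ≤ Subgroup.centralizer ({g} : Set G) := sup_le
        (fun y hy => Subgroup.mem_centralizer_singleton_iff.2 (hgA y hy).symm)
        (Subgroup.zpowers_le.2 (Subgroup.mem_centralizer_singleton_iff.2 (hgz g hg).symm))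
      exact (Subgroup.mem_centralizer_singleton_iff.1 (hle hx)).symm
    obtain ⟨p, hp, hp1, hpord, -⟩ := S.exists_generator
    obtain ⟨e', he', n, hn, haen⟩ := S.exists_mul_normalizer (hA ha)
    have hnC : n ∉ Subgroup.centralizer ({z} : Set G) ⊓ Subgroup.centralizer (P : Set G) := by
      intro hnC
      apply htI
      rw [← hat, show (⟨a, hA ha⟩ : ↥(Subgroup.centralizer ({z} : Set G))) =
        ⟨e', S.E_le he'⟩ * ⟨n, hnC.1⟩ from Subtype.ext haen, map_mul,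
        (S.pi_eq_one_iff F.ker_eq _).2 (S.E_le_N he' : ((⟨e', S.E_le he'⟩ :
          ↥(Subgroup.centralizer ({z} : Set G))) : G) ∈ N), one_mul]
      exact S.pi_mem_inn_of_mem_C F.surj F.ker_eq (h := ⟨n, hnC.1⟩) hnC.2
    have hnp : n * p * n⁻¹ = p⁻¹ := by
      have hmem : n * p * n⁻¹ ∈ P := (Subgroup.mem_normalizer_iff.1 hn.2 p).1 hp
      have hP := S.eq_zpowers_of_mem_P hp hp1
      rw [hP] at hmem
      obtain ⟨k, hk⟩ := Subgroup.mem_zpowers_iff.1 hmem
      have hp3' : p ^ (3 : ℤ) = 1 := by rw [zpow_ofNat]; exact hp3 p hp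
      rw [← zpow_mod_orderOf, hpord] at hk
      have h1 := Int.emod_nonneg k (show ((3 : ℕ) : ℤ) ≠ 0 by norm_num)
      have h2 := Int.emod_lt_of_pos k (show (0 : ℤ) < ((3 : ℕ) : ℤ) by norm_num)
      rcases (show k % ((3 : ℕ) : ℤ) = 0 ∨ k % ((3 : ℕ) : ℤ) = 1 ∨ k % ((3 : ℕ) : ℤ) = 2 by omega)
        with c0 | c1 | c2
      · rw [c0, zpow_zero] at hk
        exact absurd (conj_eq_one_iff.1 hk.symm) hp1
      · exfalso
        rw [c1, zpow_one] at hk
        refine hnC ⟨hn.1, Subgroup.mem_centralizer_iff.2 fun y hy => ?_⟩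
        rw [SetLike.mem_coe, hP] at hy
        obtain ⟨j, rfl⟩ := Subgroup.mem_zpowers_iff.1 hy
        exact ((show Commute n p from mul_inv_eq_iff_eq_mul.1 hk.symm).symm.zpow_left j)
      · rw [c2] at hk
        rw [← hk, zpow_two]
        exact (inv_eq_of_mul_eq_one_right (by
          rw [← mul_assoc, ← pow_two, ← pow_succ]; exact hp3 p hp)).symm
    set Sp : Subgroup G := Sz.map (MulAut.conj p).toMonoidHom with hSp
    have hpE : ∀ x ∈ E, p * x * p⁻¹ ∈ E := fun x hx => S.conj_mem_E (S.P_le_H hp) hx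
    have hinf : Sz ⊓ Sp ≤ Subgroup.zpowers z := by
      rintro x ⟨hxS, hxp⟩
      obtain ⟨s, hs, hsx'⟩ := Subgroup.mem_map.1 hxp
      have hsx : p * s * p⁻¹ = x := hsx'
      have hfixs : ∀ y ∈ Sz, a * y = y * a :=
        hSzfix a (hA ha) fun y hy => hAc a ha y hy.1
      have hsE := hSzE hs
      -- `a` moves `p s p⁻¹` to `p⁻¹ s p` modulo `⟨z⟩`
      have h1 : a * x * a⁻¹ = (e' * p⁻¹ * e'⁻¹) * s * (e' * p⁻¹ * e'⁻¹)⁻¹ := by
        have hap : a * p * a⁻¹ = e' * p⁻¹ * e'⁻¹ := by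
          rw [haen, ← hnp]; group
        calc a * x * a⁻¹ = (a * p * a⁻¹) * (a * s * a⁻¹) * (a * p * a⁻¹)⁻¹ := by rw [← hsx]; group
          _ = _ := by rw [mul_inv_eq_iff_eq_mul.2 (hfixs s hs), hap]
      have h2 : e'⁻¹ * s * e' = s ∨ e'⁻¹ * s * e' = z * s := by
        simpa using S.conj_eq (inv_mem he') hsE
      have hpz : p⁻¹ * z * p = z := by
        rw [mul_assoc, ← hgz p (S.P_le_H hp), inv_mul_cancel_left]
      have hpsE : p⁻¹ * s * p ∈ E := S.conj_mem_E' (S.P_le_H hp) hsE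
      have h3 : ∀ y, y ∈ E → e' * y * e'⁻¹ * y⁻¹ ∈ Subgroup.zpowers z := fun y hy =>
        S.commutator_mem he' hy
      have h4 : x * (p⁻¹ * s * p)⁻¹ ∈ Subgroup.zpowers z := by
        have hax : a * x * a⁻¹ = x := mul_inv_eq_iff_eq_mul.2 (hfixs x hxS)
        rw [hax] at h1
        have h5 : x = e' * (p⁻¹ * (e'⁻¹ * s * e') * p) * e'⁻¹ := by rw [h1]; group
        rcases h2 with c | c <;> rw [c] at h5
        · rw [h5]; exact h3 _ hpsE
        · have h6 : p⁻¹ * (z * s) * p = z * (p⁻¹ * s * p) := by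
            calc p⁻¹ * (z * s) * p = (p⁻¹ * z * p) * (p⁻¹ * s * p) := by group
              _ = _ := by rw [hpz]
          rw [h6] at h5
          have h7 := h3 _ hpsE
          have h8 : x * (p⁻¹ * s * p)⁻¹ =
              (e' * z * e'⁻¹) * (e' * (p⁻¹ * s * p) * e'⁻¹ * (p⁻¹ * s * p)⁻¹) := by rw [h5]; group
          rw [h8, mul_inv_eq_iff_eq_mul.2 (hgz e' (S.E_le he'))]
          exact mul_mem (Subgroup.mem_zpowers z) h7
      have hsZ : s ∈ Subgroup.zpowers z := by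
        refine S.mem_zpowers_of_comm (inv_mem hp) (inv_ne_one.2 hp1) hsE ?_
        have hp2 : p * p = p⁻¹ := by
          refine (inv_eq_of_mul_eq_one_right ?_).symm
          rw [← mul_assoc, ← pow_two, ← pow_succ]; exact hp3 p hp
        have h9 : p * (x * (p⁻¹ * s * p)⁻¹) * p⁻¹ = p⁻¹ * s * p⁻¹⁻¹ * s⁻¹ := by
          calc p * (x * (p⁻¹ * s * p)⁻¹) * p⁻¹ = (p * p) * s * (p * p)⁻¹ * s⁻¹ := by rw [← hsx]; group
            _ = _ := by rw [hp2]
        rw [← h9]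
        rcases S.mem_zpowers_iff.1 h4 with c | c <;> rw [c]
        · simp
        · rw [mul_inv_eq_iff_eq_mul.2 (hgz p (S.P_le_H hp))]
          exact Subgroup.mem_zpowers z
      rw [← hsx]
      rcases S.mem_zpowers_iff.1 hsZ with c | c <;> rw [c]
      · simp
      · rw [mul_inv_eq_iff_eq_mul.2 (hgz p (S.P_le_H hp))]
        exact Subgroup.mem_zpowers z
    have hSpE : Sp ≤ E := by
      rintro _ ⟨y, hy, rfl⟩; exact hpE y (hSzE hy)
    have hwfix : ∀ x ∈ Sz, w * x = x * w := hSzfix w hwH fun x hx =>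
      hfixW e he w hw x hx.2 (by rw [← hcew]; exact hAc c hc x hx.1)
    have hle : Sz ⊔ Sp ≤ E ⊓ Subgroup.centralizer ({w} : Set G) := by
      refine sup_le (fun x hx => ⟨hSzE hx, Subgroup.mem_centralizer_singleton_iff.2 (hwfix x hx).symm⟩)
        (fun x hx => ⟨hSpE hx, ?_⟩)
      obtain ⟨y, hy, hyx⟩ := Subgroup.mem_map.1 hx
      rw [← hyx]; refine Subgroup.mem_centralizer_singleton_iff.2 ?_
      show (p * y * p⁻¹) * w = w * (p * y * p⁻¹)
      have hwp := hT.W_P w hw p hp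
      have hwp' : p⁻¹ * w = w * p⁻¹ := (show Commute p⁻¹ w from (Commute.inv_left hwp.symm)).eq
      calc (p * y * p⁻¹) * w = p * (y * (p⁻¹ * w)) := by group
        _ = p * (y * w) * p⁻¹ := by rw [hwp']; group
        _ = p * (w * y) * p⁻¹ := by rw [hwfix y hy]
        _ = (p * w) * y * p⁻¹ := by group
        _ = w * (p * y * p⁻¹) := by rw [← hwp]; group
    have hnorm : Sz ≤ Subgroup.normalizer (Sp : Set G) := by
      have hconj : ∀ x ∈ E, ∀ y ∈ Sp, x * y * x⁻¹ ∈ Sp := fun x hx y hy => by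
        rcases S.conj_eq hx (hSpE hy) with c | c <;> rw [c]
        · exact hy
        · refine mul_mem ?_ hy
          refine Subgroup.mem_map.2 ⟨z, Subgroup.mem_sup_right (Subgroup.mem_zpowers z), ?_⟩
          exact mul_inv_eq_iff_eq_mul.2 (hgz p (S.P_le_H hp))
      intro x hx
      rw [Subgroup.mem_normalizer_iff]
      refine fun y => ⟨hconj x (hSzE hx) y, fun hy => ?_⟩
      have := hconj x⁻¹ (inv_mem (hSzE hx)) _ hy
      simpa [mul_assoc] using this
    have h1 := CfsgLib.ThompsonJ.card_sup_mul_card_inf Sz Sp hnorm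
    have h2 := (Subgroup.card_le_of_le hle).trans (le_of_eq (hT.main.1 w hw hwz))
    have h3 : Nat.card ↥(Sz ⊓ Sp) ≤ 2 :=
      (Subgroup.card_le_of_le hinf).trans (le_of_eq (by rw [Nat.card_zpowers, S.orderZ]))
    have h4 : Nat.card ↥Sp = Nat.card ↥Sz :=
      Subgroup.card_map_of_injective (MulAut.conj p).injective
    rw [h4] at h1
    have h5 : Nat.card ↥AE ≤ Nat.card ↥Sz := Subgroup.card_le_of_le le_sup_left
    have h6 : Nat.card ↥Sz * Nat.card ↥Sz ≤ 2 ^ 9 * 2 := by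
      rw [← h1]; exact Nat.mul_le_mul h2 h3
    have h7 : Nat.card ↥AE ≤ 32 := by norm_num at h6; nlinarith
    have h8 : 64 ≤ Nat.card ↥f.range := by
      by_contra h
      have := Nat.mul_le_mul (show Nat.card ↥f.range ≤ 63 by omega) h7
      rw [hnm] at this
      norm_num at this
    have h9 : 8 ≤ Nat.card ↥AB := by nlinarith
    have h10 : A0 ≤ AB := fun x hx => ⟨hx.1, by
      by_contra hxB
      have := hA0B x hx hxB
      omega⟩
    have h11 : Nat.card ↥A0 ≤ 16 :=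
      (Subgroup.card_le_of_le (h10.trans inf_le_right)).trans (le_of_eq hH.B_card)
    omega
  have hA0eq : A0 = f.range := inf_eq_left.2 hinner
  have h16 : 16 ≤ Nat.card ↥f.range := by
    by_contra h
    have := Nat.mul_le_mul (show Nat.card ↥f.range ≤ 15 by omega) hn7
    rw [hnm] at this
    norm_num at this
  have hAB4 : 4 ≤ Nat.card ↥AB := by rw [← hA0eq] at h16; omega
  -- `A ∩ E ≤ U`
  have hAEU : AE ≤ U := by
    haveI : Nontrivial ↥AB := Finite.one_lt_card_iff_nontrivial.1 (by omega)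
    obtain ⟨⟨b₁, hb₁⟩, hb₁1⟩ := exists_ne (1 : ↥AB)
    obtain ⟨⟨b₂, hb₂⟩, hb₂'⟩ : ∃ x : ↥AB, x ∉ ({1, ⟨b₁, hb₁⟩} : Finset ↥AB) := by
      by_contra hcon
      push Not at hcon
      haveI := Fintype.ofFinite ↥AB
      have h := Finset.card_le_card (s := (Finset.univ : Finset ↥AB)) (fun x _ => hcon x)
      rw [Finset.card_univ, ← Nat.card_eq_fintype_card] at h
      have := Finset.card_le_two (a := (1 : ↥AB)) (b := ⟨b₁, hb₁⟩)
      omega
    simp only [Finset.mem_insert, Finset.mem_singleton, not_or] at hb₂'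
    obtain ⟨c₁, hc₁, hcb₁⟩ := hrange b₁ hb₁.1
    obtain ⟨c₂, hc₂, hcb₂⟩ := hrange b₂ hb₂.1
    obtain ⟨e₁, he₁, w₁, hw₁, hw₁H, hce₁, hwb₁⟩ := hoverB c₁ hc₁ (hcb₁.symm ▸ hb₁.2)
    obtain ⟨e₂, he₂, w₂, hw₂, hw₂H, hce₂, hwb₂⟩ := hoverB c₂ hc₂ (hcb₂.symm ▸ hb₂.2)
    have hZ : ∀ g (hg : g ∈ Subgroup.centralizer ({z} : Set G)),
        g ∈ Subgroup.zpowers z → π ⟨g, hg⟩ = 1 := fun g hg h =>
      (S.pi_eq_one_iff F.ker_eq _).2 (S.E_le_N (Subgroup.zpowers_le.2 S.z_mem_E h))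
    have hz1 : w₁ ∉ Subgroup.zpowers z := fun h => hb₁1 (Subtype.ext (show b₁ = 1 by
      rw [← hcb₁, ← hwb₁]; exact hZ _ _ h))
    have hz2 : w₂ ∉ Subgroup.zpowers z := fun h => hb₂'.1 (Subtype.ext (show b₂ = 1 by
      rw [← hcb₂, ← hwb₂]; exact hZ _ _ h))
    have hz12 : w₁ * w₂ ∉ Subgroup.zpowers z := fun h => hb₂'.2 (Subtype.ext (show b₂ = b₁ by
      have h1 : π ⟨w₁ * w₂, mul_mem hw₁H hw₂H⟩ = 1 := hZ _ _ h
      rw [show (⟨w₁ * w₂, mul_mem hw₁H hw₂H⟩ : ↥(Subgroup.centralizer ({z} : Set G))) =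
        ⟨w₁, hw₁H⟩ * ⟨w₂, hw₂H⟩ from rfl, map_mul, hwb₁, hwb₂, hcb₁, hcb₂] at h1
      exact (eq_inv_of_mul_eq_one_right h1).trans (inv_eq_of_mul_eq_one_right (hf2 b₁ hb₁.1))))
    intro x hx
    exact hT.main.2 w₁ hw₁ w₂ hw₂ hz1 hz2 hz12 x hx.2
      (hfixW e₁ he₁ w₁ hw₁ x hx.2 (by rw [← hce₁]; exact hAc c₁ hc₁ x hx.1))
      (hfixW e₂ he₂ w₂ hw₂ x hx.2 (by rw [← hce₂]; exact hAc c₂ hc₂ x hx.1))
  -- `f.range ≤ B`
  have hB : f.range ≤ B := by
    by_contra hcon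
    obtain ⟨t, ht, htB⟩ := SetLike.not_le_iff_exists.1 hcon
    have h4 := hA0B t (hA0eq.symm ▸ ht) htB
    have h16' : Nat.card ↥f.range ≤ 16 := by rw [← hA0eq]; omega
    have hn : 2 ^ 7 ≤ Nat.card ↥AE := by
      by_contra h
      have := Nat.mul_le_mul h16' (show Nat.card ↥AE ≤ 2 ^ 7 - 1 by omega)
      rw [hnm] at this
      norm_num at this
    have hAEeq : AE = U := Subgroup.eq_of_le_of_card_ge hAEU (by rw [hU, hT.card_U]; exact hn)
    obtain ⟨a, ha, hat⟩ := hrange t ht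
    obtain ⟨e, he, c, hc, haec⟩ :=
      S.exists_mul_C F.surj F.ker_eq (h := ⟨a, hA ha⟩) (hat.symm ▸ hinner ht)
    have hπc : π ⟨c, hc.1⟩ = t := by
      rw [← hat, show (⟨a, hA ha⟩ : ↥(Subgroup.centralizer ({z} : Set G))) =
        ⟨e, S.E_le he⟩ * ⟨c, hc.1⟩ from Subtype.ext haec, map_mul,
        (S.pi_eq_one_iff F.ker_eq _).2 (S.E_le_N he : ((⟨e, S.E_le he⟩ :
          ↥(Subgroup.centralizer ({z} : Set G))) : G) ∈ N), one_mul]
    have hcM0 : c ∈ M0 := mem_preC.2 ⟨⟨hc.1, hπc.symm ▸ ⟨hfM ht, hinner ht⟩⟩, hc.2⟩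
    set K : Subgroup G := M0 ⊓ Subgroup.centralizer (U : Set G) with hK
    have hcK : c ∈ K := by
      refine ⟨hcM0, Subgroup.mem_centralizer_iff.2 fun u hu => Eq.symm ?_⟩
      have huAE : u ∈ AE := hAEeq.symm ▸ hu
      refine hT.comm_of_mod (fun p hp => hT.M0_P c hcM0 p hp) (hT.M0_z c hcM0) huAE.2 ?_
      have h1 : c * u * c⁻¹ = e⁻¹ * u * (e⁻¹)⁻¹ := by
        have hau : a * u * a⁻¹ = u := mul_inv_eq_iff_eq_mul.2 (hAc a ha u huAE.1)
        rw [show a = e * c from haec] at hau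
        calc c * u * c⁻¹ = e⁻¹ * ((e * c) * u * (e * c)⁻¹) * (e⁻¹)⁻¹ := by group
          _ = _ := by rw [hau]
      rw [h1]
      exact S.conj_eq (inv_mem he) huAE.2
    have hUnorm : ∀ m ∈ M0, ∀ u ∈ U, m * u * m⁻¹ ∈ U := by
      intro m hm u hu
      refine HexFrame.mem_U (hT.M0_E m hm u hu.1) fun w hw => ?_
      have hw' : m⁻¹ * w * m ∈ W := by simpa using hT.M0_W m⁻¹ (inv_mem hm) w hw
      calc w * (m * u * m⁻¹) = m * ((m⁻¹ * w * m) * u) * m⁻¹ := by group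
        _ = m * (u * (m⁻¹ * w * m)) * m⁻¹ := by rw [HexFrame.U_comm hu hw']
        _ = m * u * m⁻¹ * w := by group
    have hKconj : ∀ m ∈ M0, ∀ k ∈ K, m * k * m⁻¹ ∈ K := by
      intro m hm k hk
      refine ⟨M0.mul_mem (M0.mul_mem hm hk.1) (M0.inv_mem hm), Subgroup.mem_centralizer_iff.2 fun u hu => ?_⟩
      have hu' : m⁻¹ * u * m ∈ U := by simpa using hUnorm m⁻¹ (inv_mem hm) u hu
      calc u * (m * k * m⁻¹) = m * ((m⁻¹ * u * m) * k) * m⁻¹ := by group
        _ = m * (k * (m⁻¹ * u * m)) * m⁻¹ := by rw [Subgroup.mem_centralizer_iff.1 hk.2 _ hu']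
        _ = m * k * m⁻¹ * u := by group
    have hmI : ∀ m : ↥M0, π ⟨(m : G), (preC_le m.2).1⟩ ∈ M ⊓ I := fun m => by
      obtain ⟨⟨_, h2⟩, -⟩ := mem_preC.1 m.2
      exact h2
    let g : ↥M0 →* ↥(alternatingGroup (Fin 6)) :=
      { toFun := fun m => ⟨q ⟨π ⟨(m : G), (preC_le m.2).1⟩, (hmI m).1⟩, by
          rw [← hqalt]
          exact ⟨_, (hmI m).2, rfl⟩⟩
        map_one' := Subtype.ext (by
          show q ⟨π ⟨(1 : G), _⟩, _⟩ = 1
          rw [← map_one q]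
          congr 1
          exact Subtype.ext (map_one π))
        map_mul' := fun x y => Subtype.ext (by
          show q ⟨π ⟨((x * y : ↥M0) : G), _⟩, _⟩ = q _ * q _
          rw [← map_mul]
          congr 1
          exact Subtype.ext (map_mul π ⟨(x : G), (preC_le x.2).1⟩ ⟨(y : G), (preC_le y.2).1⟩)) }
    have hgs : Function.Surjective g := by
      rintro ⟨x, hx⟩
      rw [← hqalt] at hx
      obtain ⟨⟨y, hyM⟩, hyI, rfl⟩ := hx
      obtain ⟨m, hmH, hmM, hmy⟩ := F.exists_preC_lift (X := M ⊓ I) inf_le_right ⟨hyM, hyI⟩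
      exact ⟨⟨m, hmM⟩, Subtype.ext (congrArg q (Subtype.ext hmy))⟩
    haveI hKn : (K.subgroupOf M0).Normal := ⟨fun k hk m => hKconj _ m.2 _ hk⟩
    have htop : (K.subgroupOf M0).map g = ⊤ := by
      haveI : IsSimpleGroup ↥(alternatingGroup (Fin 6)) := alternatingGroup.isSimpleGroup (by simp)
      rcases IsSimpleGroup.eq_bot_or_eq_top_of_normal _ (hKn.map g hgs) with h | h
      · exfalso
        apply htB
        have h1 : g ⟨c, hcM0⟩ = 1 := Subgroup.mem_bot.1 (h ▸ Subgroup.mem_map_of_mem g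
          (Subgroup.mem_subgroupOf.2 hcK : (⟨c, hcM0⟩ : ↥M0) ∈ K.subgroupOf M0))
        have h2 : (⟨π ⟨c, hc.1⟩, (hmI ⟨c, hcM0⟩).1⟩ : ↥M) ∈ q.ker := congrArg Subtype.val h1
        rw [hqker, Subgroup.mem_subgroupOf] at h2
        rw [← hπc]; exact h2
      · exact h
    have hWK : W ≤ K := fun w hw => ⟨hT.W_M0 hw, Subgroup.mem_centralizer_iff.2 fun u hu =>
      (HexFrame.U_comm hu hw).symm⟩
    have hM0KP : M0 ≤ K ⊔ P := by
      intro m hm
      obtain ⟨k, hk, hkm⟩ := Subgroup.mem_map.1 (htop ▸ Subgroup.mem_top (g ⟨m, hm⟩))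
      have h1 : g (k⁻¹ * ⟨m, hm⟩) = 1 := by rw [map_mul, map_inv, hkm, inv_mul_cancel]
      have h2 : (⟨π ⟨((k⁻¹ * ⟨m, hm⟩ : ↥M0) : G), (preC_le (k⁻¹ * ⟨m, hm⟩ : ↥M0).2).1⟩,
          (hmI _).1⟩ : ↥M) ∈ q.ker := congrArg Subtype.val h1
      rw [hqker, Subgroup.mem_subgroupOf] at h2
      obtain ⟨w, hw, p, hp, hwp⟩ := hsplit _ (mem_preC.2
        ⟨⟨_, h2⟩, (preC_le (k⁻¹ * ⟨m, hm⟩ : ↥M0).2).2⟩)
      have hwp' : (k : G)⁻¹ * m = w * p := hwp
      rw [show m = ((k : G) * w) * p by rw [mul_assoc, ← hwp', mul_inv_cancel_left]]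
      exact Subgroup.mul_mem_sup (mul_mem (Subgroup.mem_subgroupOf.1 hk) (hWK hw)) hp
    have hPK : ∀ p ∈ P, p ∈ K → p = 1 := by
      intro p hp hpK
      by_contra hp1
      have hUz : U ≤ Subgroup.zpowers z := fun u hu => by
        refine S.mem_zpowers_of_comm hp hp1 hu.1 ?_
        rw [← Subgroup.mem_centralizer_iff.1 hpK.2 u hu, mul_inv_cancel_right, mul_inv_cancel]
        exact one_mem _
      have h' := Subgroup.card_le_of_le hUz
      rw [hU, hT.card_U, Nat.card_zpowers, S.orderZ] at h'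
      norm_num at h'
    have hRK : R ≤ Subgroup.normalizer (K : Set G) := by
      intro r hr
      rw [Subgroup.mem_normalizer_iff]
      refine fun k => ⟨hKconj r (hT.R_M0 hr) k, fun hk => ?_⟩
      have := hKconj r⁻¹ (inv_mem (hT.R_M0 hr)) _ hk
      simpa [mul_assoc] using this
    have hPKn : P ≤ Subgroup.normalizer (K : Set G) := hT.P_le.trans hRK
    have e1 := CfsgLib.ThompsonJ.card_sup_mul_card_inf R K hRK
    have e2 := CfsgLib.ThompsonJ.card_sup_mul_card_inf P K hPKn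
    have e3 : Nat.card ↥(P ⊓ K) = 1 :=
      Subgroup.card_eq_one.2 ((Subgroup.eq_bot_iff_forall _).2 fun p hp => hPK p hp.1 hp.2)
    have e4 : Nat.card ↥(R ⊔ K) ≤ Nat.card ↥(P ⊔ K) := Subgroup.card_le_of_le
      (sup_le (hT.R_M0.trans (hM0KP.trans (sup_comm K P).le)) le_sup_right)
    have e5 : Nat.card ↥(R ⊓ K) ≤ 3 := Nat.le_of_dvd (by norm_num)
      (hT.card_le_three inf_le_left fun p hp hpR => hPK p hp hpR.2)
    rw [e3, mul_one, S.cardP] at e2
    rw [hT.card_R] at e1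
    have := Nat.mul_le_mul e4 e5
    rw [e1, e2] at this
    have hKpos := Nat.card_pos (α := ↥K)
    nlinarith
  have hm16 : Nat.card ↥f.range ≤ 16 := (Subgroup.card_le_of_le hB).trans (le_of_eq hH.B_card)
  have hn : 2 ^ 7 ≤ Nat.card ↥AE := by
    by_contra h
    have := Nat.mul_le_mul hm16 (show Nat.card ↥AE ≤ 2 ^ 7 - 1 by omega)
    rw [hnm] at this
    norm_num at this
  have hAEeq : AE = U := Subgroup.eq_of_le_of_card_ge hAEU (by rw [hU, hT.card_U]; exact hn)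
  have hAUW : A ≤ U ⊔ W := by
    intro a ha
    obtain ⟨e, he, w, hw, hwH, hew, -⟩ := hoverB a ha (hB ⟨⟨a, ha⟩, rfl⟩)
    rw [hew]
    refine Subgroup.mul_mem_sup (hT.cent_U he fun u hu => ?_) hw
    have h1 : (e * w) * u = u * (e * w) := by
      rw [← hew]; exact hAc a ha u (hAEeq.symm ▸ hu : u ∈ AE).1
    have hwu : w * u = u * w := HexFrame.U_comm hu hw
    calc e * u = (e * (u * w)) * w⁻¹ := by group
      _ = ((e * w) * u) * w⁻¹ := by rw [← hwu]; group
      _ = u * e := by rw [h1]; group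
  exact Subgroup.eq_of_le_of_card_ge hAUW (by rw [hU, hT.card_V, hcard])

end Frame

end CfsgLib.JFour
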